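import Mathlib

set_option autoImplicit false
universe u v

namespace Groth.Agent.H87.HenselLocLim

open Polynomial

section
variable {ι : Type v} [Preorder ι] [Nonempty ι] [IsDirected ι (· ≤ ·)]
  (G : ι → Type u) [∀ i, CommRing (G i)]
  (f : ∀ i j, i ≤ j → G i →+* G j) [DirectedSystem G (fun i j h => f i j h)]

local notation "L" => Ring.DirectLimit G (fun i j h => f i j h)
local notation "ofL" => Ring.DirectLimit.of G (fun i j h => f i j h)

theorem exists_stage_fin {ι' : Type*} [Finite ι'] (c : ι' → L) :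
    ∃ (a : ι) (c' : ι' → G a), ∀ k, ofL a (c' k) = c k := by
  choose a₀ x hx using fun k => Ring.DirectLimit.exists_of (c k)
  obtain ⟨M, hM⟩ := Finite.exists_le a₀
  exact ⟨M, fun k => f (a₀ k) M (hM k) (x k), fun k => by rw [Ring.DirectLimit.of_f, hx]⟩

theorem isUnit_of_isUnit_of (hf : ∀ i j (h : i ≤ j), IsLocalHom (f i j h)) {i : ι} {x : G i}
    (hx : IsUnit (ofL i x)) : IsUnit x := by
  obtain ⟨y, hy⟩ := isUnit_iff_exists_inv.mp hx
  obtain ⟨j, y', rfl⟩ := Ring.DirectLimit.exists_of y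
  obtain ⟨k, hik, hjk⟩ := exists_ge_ge i j
  have h0 : ofL k (f i k hik x * f j k hjk y' - 1) = 0 := by
    rw [map_sub, map_mul, map_one, Ring.DirectLimit.of_f, Ring.DirectLimit.of_f, hy, sub_self]
  obtain ⟨l, hkl, hl⟩ := Ring.DirectLimit.of.zero_exact h0
  rw [map_sub, map_mul, map_one, sub_eq_zero] at hl
  have h1 : IsUnit (f k l hkl (f i k hik x)) := isUnit_iff_exists_inv.mpr ⟨_, hl⟩
  have h2 : IsUnit (f i k hik x) := (hf k l hkl).map_nonunit _ h1
  exact (hf i k hik).map_nonunit _ h2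

theorem nontrivial_L [∀ i, Nontrivial (G i)] : Nontrivial L := by
  refine ⟨⟨0, 1, fun h => ?_⟩⟩
  obtain ⟨i⟩ := ‹Nonempty ι›
  have h0 : ofL i 1 = 0 := by rw [map_one]; exact h.symm
  obtain ⟨l, hil, hl⟩ := Ring.DirectLimit.of.zero_exact h0
  rw [map_one] at hl
  exact one_ne_zero hl

theorem isLocalRing_L [∀ i, IsLocalRing (G i)] (hf : ∀ i j (h : i ≤ j), IsLocalHom (f i j h)) :
    IsLocalRing L := by
  have : Nontrivial L := nontrivial_L G f
  refine IsLocalRing.of_nonunits_add ?_
  intro a b ha hb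
  rw [mem_nonunits_iff] at ha hb ⊢
  intro hab
  obtain ⟨i, a', rfl⟩ := Ring.DirectLimit.exists_of a
  obtain ⟨j, b', rfl⟩ := Ring.DirectLimit.exists_of b
  obtain ⟨k, hik, hjk⟩ := exists_ge_ge i j
  have e : ofL i a' + ofL j b' = ofL k (f i k hik a' + f j k hjk b') := by
    rw [map_add, Ring.DirectLimit.of_f, Ring.DirectLimit.of_f]
  rw [e] at hab
  rcases IsLocalRing.isUnit_or_isUnit_of_isUnit_add (isUnit_of_isUnit_of G f hf hab) with h | h
  · apply ha
    rw [← Ring.DirectLimit.of_f hik a']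
    exact h.map _
  · apply hb
    rw [← Ring.DirectLimit.of_f hjk b']
    exact h.map _

theorem exists_monic_lift [∀ i, Nontrivial (G i)] {R : Type*} [CommRing R] (π : L →+* R)
    (q : R[X]) (hq : q.Monic) (hπ : Function.Surjective π) {ι' : Type*} [Finite ι'] (d : ι' → L) :
    ∃ (s : ι) (p : (G s)[X]) (d' : ι' → G s), p.Monic ∧
      p.map (π.comp (ofL s)) = q ∧ ∀ k, ofL s (d' k) = d k := by
  classical
  choose cL hcL using fun k : Fin q.natDegree => hπ (q.coeff k)
  obtain ⟨s, c', hc'⟩ := exists_stage_fin G f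
    (fun o : Option ι' ⊕ Fin q.natDegree => Sum.elim (fun o' => o'.elim 0 d) cL o)
  have ecoef : ∀ k : Fin q.natDegree, ofL s (c' (Sum.inr k)) = cL k := fun k => hc' (Sum.inr k)
  have ed : ∀ k : ι', ofL s (c' (Sum.inl (some k))) = d k := fun k => hc' (Sum.inl (some k))
  refine ⟨s, X ^ q.natDegree + ∑ k : Fin q.natDegree, C (c' (Sum.inr k)) * X ^ (k : ℕ),
    fun k => c' (Sum.inl (some k)), ?_, ?_, ed⟩
  · apply Polynomial.monic_X_pow_add
    refine lt_of_le_of_lt (Polynomial.degree_sum_le _ _) ?_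
    refine (Finset.sup_lt_iff (WithBot.bot_lt_coe q.natDegree)).mpr ?_
    intro k _
    exact lt_of_le_of_lt (Polynomial.degree_C_mul_X_pow_le _ _) (by
      have hk : (k : ℕ) < q.natDegree := k.2
      simpa [Nat.cast_withBot] using hk)
  · conv_rhs => rw [hq.as_sum]
    simp only [Polynomial.map_add, Polynomial.map_pow, Polynomial.map_X,
      Polynomial.map_sum, Polynomial.map_mul, Polynomial.map_C]
    congr 1
    rw [Finset.sum_range]
    refine Finset.sum_congr rfl (fun k _ => ?_)
    rw [RingHom.comp_apply, ecoef k, hcL k]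

theorem henselian_L [∀ i, HenselianLocalRing (G i)]
    (hf : ∀ i j (h : i ≤ j), IsLocalHom (f i j h)) : HenselianLocalRing L := by
  have hloc : IsLocalRing L := isLocalRing_L G f hf
  refine { toIsLocalRing := hloc, is_henselian := ?_ }
  intro F hF a₀ h₁ h₂
  obtain ⟨s, p, d', hp, hpmap, hd'⟩ := exists_monic_lift G f (RingHom.id L) F hF
    (fun x => ⟨x, rfl⟩) (fun _ : Unit => a₀)
  have hpmap' : p.map (ofL s) = F := by
    rw [← hpmap]; rfl
  have ex₀ : ofL s (d' ()) = a₀ := hd' ()
  have hev : ∀ (q : (G s)[X]) (y : G s), ofL s (q.eval y) = (q.map (ofL s)).eval (ofL s y) := by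
    intro q y
    rw [Polynomial.eval_map, Polynomial.eval₂_at_apply]
  have h₁' : p.eval (d' ()) ∈ IsLocalRing.maximalIdeal (G s) := by
    rw [IsLocalRing.mem_maximalIdeal, mem_nonunits_iff]
    intro hu
    have h3 : IsUnit (ofL s (p.eval (d' ()))) := hu.map _
    rw [hev, hpmap', ex₀] at h3
    exact ((IsLocalRing.mem_maximalIdeal _).mp h₁) h3
  have h₂' : IsUnit (p.derivative.eval (d' ())) := by
    apply isUnit_of_isUnit_of G f hf
    rw [hev, ← Polynomial.derivative_map, hpmap', ex₀]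
    exact h₂
  obtain ⟨r, hr, hr'⟩ := HenselianLocalRing.is_henselian p hp (d' ()) h₁' h₂'
  have hr0 : p.eval r = 0 := hr
  refine ⟨ofL s r, ?_, ?_⟩
  · rw [← hpmap', Polynomial.IsRoot.def, Polynomial.eval_map, Polynomial.eval₂_at_apply, hr0,
      map_zero]
  · have e : ofL s r - a₀ = ofL s (r - d' ()) := by rw [map_sub, ex₀]
    rw [e, IsLocalRing.mem_maximalIdeal, mem_nonunits_iff]
    intro hu
    exact ((IsLocalRing.mem_maximalIdeal _).mp hr') (isUnit_of_isUnit_of G f hf hu)

theorem main [∀ i, HenselianLocalRing (G i)]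
    [∀ i, IsSepClosed (IsLocalRing.ResidueField (G i))]
    (hf : ∀ i j (h : i ≤ j), IsLocalHom (f i j h)) :
    ∃ _ : HenselianLocalRing L, IsSepClosed (IsLocalRing.ResidueField L) := by
  refine ⟨henselian_L G f hf, ?_⟩
  let hH : HenselianLocalRing L := henselian_L G f hf
  have hlocof : ∀ s, IsLocalHom (ofL s) := fun s =>
    ⟨fun x hx => isUnit_of_isUnit_of G f hf hx⟩
  apply IsSepClosed.of_exists_root
  intro q hq hirr hsep
  obtain ⟨s, p, -, hp, hpmap, -⟩ := exists_monic_lift G f (IsLocalRing.residue L) q hq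
    IsLocalRing.residue_surjective (fun e : Empty => e.elim)
  let φ : IsLocalRing.ResidueField (G s) →+* IsLocalRing.ResidueField L :=
    IsLocalRing.ResidueField.map (ofL s)
  have hφ : φ.comp (IsLocalRing.residue (G s)) = (IsLocalRing.residue L).comp (ofL s) := by
    ext x
    simp [φ]
  have hqmap : (p.map (IsLocalRing.residue (G s))).map φ = q := by
    rw [Polynomial.map_map, hφ, hpmap]
  have hsep' : (p.map (IsLocalRing.residue (G s))).Separable := by
    rw [← Polynomial.separable_map φ, hqmap]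
    exact hsep
  have hdeg : (p.map (IsLocalRing.residue (G s))).degree ≠ 0 := by
    have h1 : q.natDegree = (p.map (IsLocalRing.residue (G s))).natDegree := by
      rw [← hqmap]
      exact Polynomial.natDegree_map φ
    have h2 : 0 < q.natDegree := Polynomial.natDegree_pos_iff_degree_pos.mpr
      (Polynomial.degree_pos_of_irreducible hirr)
    intro h0
    have h3 : 0 < (p.map (IsLocalRing.residue (G s))).degree := by
      rw [← Polynomial.natDegree_pos_iff_degree_pos]
      omega
    rw [h0] at h3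
    exact lt_irrefl _ h3
  obtain ⟨x, hx⟩ := IsSepClosed.exists_root _ hdeg hsep'
  have hx0 : (p.map (IsLocalRing.residue (G s))).eval x = 0 := hx
  refine ⟨φ x, ?_⟩
  rw [← hqmap, Polynomial.eval_map, Polynomial.eval₂_at_apply, hx0, map_zero]

end

end Groth.Agent.H87.HenselLocLim
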