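import Groth.Agent.H87.TopNak
import Mathlib.RingTheory.AdicCompletion.Completeness
import Mathlib.RingTheory.Finiteness.Ideal

set_option autoImplicit false
universe u v w

namespace Groth.Agent.H87.LimSystem

section general

theorem map_mem_smul_top {A : Type u} [CommRing A] {M : Type v} {N : Type w}
    [AddCommGroup M] [Module A M] [AddCommGroup N] [Module A N]
    (J : Ideal A) (g : M →ₗ[A] N) {e : M} (h : e ∈ J • (⊤ : Submodule A M)) :
    g e ∈ J • (⊤ : Submodule A N) := by
  have h1 : (J • (⊤ : Submodule A M)).map g ≤ J • ⊤ := by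
    rw [Submodule.map_smul'']
    exact Submodule.smul_mono le_rfl le_top
  exact h1 (Submodule.mem_map_of_mem h)

theorem exists_sum_of_mem_span_smul {A : Type u} [CommRing A] {N : Type v} [AddCommGroup N]
    [Module A N] {ι : Type w} [Fintype ι] (g : ι → A) (P : Submodule A N) {x : N}
    (hx : x ∈ Ideal.span (Set.range g) • P) :
    ∃ v : ι → N, (∀ j, v j ∈ P) ∧ x = ∑ j, g j • v j := by
  refine Submodule.smul_induction_on hx ?_ ?_
  · intro r hr n hn
    obtain ⟨c, rfl⟩ := (Ideal.mem_span_range_iff_exists_fun).1 hr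
    refine ⟨fun j => c j • n, fun j => P.smul_mem _ hn, ?_⟩
    rw [Finset.sum_smul]
    refine Finset.sum_congr rfl (fun j _ => ?_)
    rw [smul_smul, mul_comm]
  · rintro x y ⟨v, hv, rfl⟩ ⟨w, hw, rfl⟩
    refine ⟨v + w, fun j => P.add_mem (hv j) (hw j), ?_⟩
    simp [smul_add, Finset.sum_add_distrib]

theorem exists_family {M : ℕ → Type w} (P : ∀ m, M m → Prop) (R : ∀ m, M m → M (m + 1) → Prop)
    (h0 : ∃ v, P 0 v) (hstep : ∀ m v, P m v → ∃ v', P (m + 1) v' ∧ R m v v') :
    ∃ fam : ∀ m, M m, (∀ m, P m (fam m)) ∧ ∀ m, R m (fam m) (fam (m + 1)) := by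
  obtain ⟨v0, hv0⟩ := h0
  let F : ∀ m, {v : M m // P m v} := fun m =>
    Nat.rec (motive := fun m => {v : M m // P m v}) ⟨v0, hv0⟩
      (fun m p => ⟨Classical.choose (hstep m p.1 p.2),
        (Classical.choose_spec (hstep m p.1 p.2)).1⟩) m
  refine ⟨fun m => (F m).1, fun m => (F m).2, fun m => ?_⟩
  exact (Classical.choose_spec (hstep m (F m).1 (F m).2)).2

theorem span_eq_top_of_hausdorff {R : Type u} [CommRing R] (J : Ideal R) [IsPrecomplete J R]
    {N : Type v} [AddCommGroup N] [Module R N] [IsHausdorff J N] {Z : Type w} [Fintype Z]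
    (m : Z → N) (hspan : Submodule.span R (Set.range m) ⊔ J • ⊤ = ⊤) :
    Submodule.span R (Set.range m) = ⊤ := by
  classical
  rw [eq_top_iff]
  intro x _
  obtain ⟨g, -, hg⟩ := Groth.Agent.H87.exists_decaying_sum J m hspan x
  have h0 : x - ∑ z, g z • m z = 0 := by
    apply IsHausdorff.haus' (I := J)
    intro n
    obtain ⟨S', h1, h2⟩ := hg n
    rw [SModEq.zero]
    have e : x - ∑ z, g z • m z = (x - ∑ z ∈ S', g z • m z) - ∑ z ∈ S'ᶜ, g z • m z := by
      rw [← Finset.sum_add_sum_compl S' (fun z => g z • m z)]; abel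
    rw [e]
    exact Submodule.sub_mem _ h2 (Submodule.sum_mem _ fun z hz => h1 z (Finset.mem_compl.1 hz))
  rw [sub_eq_zero] at h0
  rw [h0]
  exact Submodule.sum_mem _ fun z _ => Submodule.smul_mem _ _ (Submodule.subset_span ⟨z, rfl⟩)

end general

section system

variable {A : Type u} [CommRing A] {I : Ideal A}
  {M : ℕ → Type v} [∀ n, AddCommGroup (M n)] [∀ n, Module A (M n)]
  (f : ∀ n, M (n + 1) →ₗ[A] M n)

noncomputable def T (a : ℕ) : ∀ {b : ℕ}, a ≤ b → (M b →ₗ[A] M a) :=
  Nat.leRec (motive := fun b _ => M b →ₗ[A] M a) LinearMap.id (@fun k _ g => g ∘ₗ f k)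

theorem T_self (a : ℕ) (h : a ≤ a) : T f a h = LinearMap.id := by
  unfold T
  exact Nat.leRec_self _ _

theorem T_succ {a b : ℕ} (h : a ≤ b) (h' : a ≤ b + 1) : T f a h' = T f a h ∘ₗ f b := by
  unfold T
  rw [Nat.leRec_succ _ _ h]

theorem f_comp_T {a b : ℕ} (h : a + 1 ≤ b) :
    f a ∘ₗ T f (a + 1) h = T f a (Nat.le_of_succ_le h) := by
  induction b, h using Nat.le_induction with
  | base =>
    rw [T_self, T_succ f (le_refl a), T_self, LinearMap.id_comp, LinearMap.comp_id]
  | succ b h ih =>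
    rw [T_succ f h, ← LinearMap.comp_assoc, ih, ← T_succ f (Nat.le_of_succ_le h)]

variable {L : Type w} [AddCommGroup L] [Module A L] (π : ∀ n, L →ₗ[A] M n)

theorem T_comp_π (hπ : ∀ n, f n ∘ₗ π (n + 1) = π n) {a b : ℕ} (h : a ≤ b) :
    T f a h ∘ₗ π b = π a := by
  induction b, h using Nat.le_induction with
  | base => rw [T_self, LinearMap.id_comp]
  | succ b h ih => rw [T_succ f h, LinearMap.comp_assoc, hπ, ih]

theorem T_π_apply (hπ : ∀ n, f n ∘ₗ π (n + 1) = π n) {a b : ℕ} (h : a ≤ b) (x : L) :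
    T f a h (π b x) = π a x := by
  rw [← LinearMap.comp_apply, T_comp_π f π hπ h]

theorem kill (hf : ∀ n, Function.Surjective (f n))
    (hker : ∀ n, LinearMap.ker (f n) = I ^ (n + 1) • (⊤ : Submodule A (M (n + 1)))) (n : ℕ) :
    I ^ (n + 1) • (⊤ : Submodule A (M n)) = ⊥ := by
  have h1 : (I ^ (n + 1) • (⊤ : Submodule A (M (n + 1)))).map (f n) = I ^ (n + 1) • ⊤ := by
    rw [Submodule.map_smul'', Submodule.map_top, LinearMap.range_eq_top.2 (hf n)]
  rw [← h1, ← hker n, eq_bot_iff]
  rintro _ ⟨z, hz, rfl⟩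
  exact (Submodule.mem_bot A).2 (LinearMap.mem_ker.1 hz)

theorem π_surjective (hf : ∀ n, Function.Surjective (f n))
    (hlift : ∀ y : (∀ n, M n), (∀ n, f n (y (n + 1)) = y n) → ∃ x : L, ∀ n, π n x = y n)
    (n : ℕ) : Function.Surjective (π n) := by
  intro y
  obtain ⟨fam, hP, hR⟩ := exists_family (M := M)
    (P := fun m v => ∀ h : m ≤ n, v = T f m h y)
    (R := fun m v v' => f m v' = v)
    ⟨T f 0 (Nat.zero_le n) y, fun _ => rfl⟩
    (fun m v hv => by
      by_cases hmn : m + 1 ≤ n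
      · refine ⟨T f (m + 1) hmn y, fun _ => rfl, ?_⟩
        rw [hv (Nat.le_of_succ_le hmn), ← LinearMap.comp_apply, f_comp_T]
      · obtain ⟨v', hv'⟩ := hf m v
        exact ⟨v', fun h => absurd h hmn, hv'⟩)
  obtain ⟨x, hx⟩ := hlift fam hR
  refine ⟨x, ?_⟩
  rw [hx n, hP n (le_refl n), T_self]
  rfl

theorem smul_top_le_ker (hf : ∀ n, Function.Surjective (f n))
    (hker : ∀ n, LinearMap.ker (f n) = I ^ (n + 1) • (⊤ : Submodule A (M (n + 1)))) (n : ℕ) :
    I ^ (n + 1) • (⊤ : Submodule A L) ≤ LinearMap.ker (π n) := by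
  intro x hx
  rw [LinearMap.mem_ker]
  have h1 := map_mem_smul_top (I ^ (n + 1)) (π n) hx
  rw [kill f hf hker n] at h1
  exact (Submodule.mem_bot A).1 h1

theorem ker_le_smul_top (hI : I.FG) (hf : ∀ n, Function.Surjective (f n))
    (hker : ∀ n, LinearMap.ker (f n) = I ^ (n + 1) • (⊤ : Submodule A (M (n + 1))))
    (hπ : ∀ n, f n ∘ₗ π (n + 1) = π n)
    (hinj : ∀ x : L, (∀ n, π n x = 0) → x = 0)
    (hlift : ∀ y : (∀ n, M n), (∀ n, f n (y (n + 1)) = y n) → ∃ x : L, ∀ n, π n x = y n)
    (n : ℕ) : LinearMap.ker (π n) ≤ I ^ (n + 1) • (⊤ : Submodule A L) := by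
  classical
  intro x hx
  rw [LinearMap.mem_ker] at hx
  obtain ⟨s, hs⟩ := Ideal.FG.pow (n := n + 1) hI
  have hg : Ideal.span (Set.range (Subtype.val : s → A)) = I ^ (n + 1) := by
    rw [← hs]; congr 1; ext a; simp
  have hgmem : ∀ j : s, (j : A) ∈ I ^ (n + 1) := fun j => by
    rw [← hs]; exact Submodule.subset_span (Finset.mem_coe.2 j.2)
  have hxle : ∀ a, a ≤ n → π a x = 0 := fun a ha => by
    rw [← T_π_apply f π hπ ha x, hx, map_zero]
  obtain ⟨u, hP, hR⟩ := exists_family (M := fun m => s → M m)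
    (P := fun m (u : s → M m) => π m x = ∑ j : s, (j : A) • u j)
    (R := fun m (u : s → M m) (u' : s → M (m + 1)) =>
      ∀ j, f m (u' j) - u j ∈ I ^ (m - n) • (⊤ : Submodule A (M m)))
    ⟨0, by simp [hxle 0 (Nat.zero_le n)]⟩
    (fun m u hu => by
      by_cases hmn : m + 1 ≤ n
      · refine ⟨0, by simp [hxle (m + 1) hmn], fun j => ?_⟩
        have h0 : m - n = 0 := by omega
        rw [h0, pow_zero, Ideal.one_eq_top, Submodule.top_smul]
        exact Submodule.mem_top
      · have hnm : n ≤ m := by omega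
        choose u' hu' using fun j => hf m (u j)
        have hd : π (m + 1) x - ∑ j : s, (j : A) • u' j ∈ LinearMap.ker (f m) := by
          rw [LinearMap.mem_ker, map_sub, ← LinearMap.comp_apply, hπ, hu, map_sum, sub_eq_zero]
          refine Finset.sum_congr rfl (fun j _ => ?_)
          rw [map_smul, hu']
        rw [hker m] at hd
        have hpow : I ^ (m + 1) =
            Ideal.span (Set.range (Subtype.val : s → A)) * I ^ (m - n) := by
          rw [hg, ← pow_add]; congr 1; omega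
        rw [hpow, Submodule.mul_smul] at hd
        obtain ⟨v, hv, hdv⟩ := exists_sum_of_mem_span_smul (Subtype.val : s → A) _ hd
        refine ⟨fun j => u' j + v j, ?_, fun j => ?_⟩
        · show π (m + 1) x = ∑ j : s, (j : A) • (u' j + v j)
          simp only [smul_add, Finset.sum_add_distrib, ← hdv]
          abel
        · show f m (u' j + v j) - u j ∈ _
          have e : f m (u' j + v j) - u j = f m (v j) := by rw [map_add, hu']; abel
          rw [e]
          exact map_mem_smul_top _ (f m) (hv j))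
  have key : ∀ (k b : ℕ) (h : k ≤ b) (h1 : k + 1 ≤ b + 1) (j : s),
      f b (u (b + 1) j) - u b j ∈ I ^ (k + 1) • (⊤ : Submodule A (M b)) →
      f k (T f (k + 1) h1 (u (b + 1) j)) = T f k h (u b j) := by
    intro k b h h1 j he
    rw [← LinearMap.comp_apply, f_comp_T f h1, T_succ f h, LinearMap.comp_apply]
    have h0 := map_mem_smul_top _ (T f k h) he
    rw [kill f hf hker k] at h0
    have h0' := (Submodule.mem_bot A).1 h0
    rwa [map_sub, sub_eq_zero] at h0'
  have hcompat : ∀ (j : s) (k : ℕ),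
      f k (T f (k + 1) (Nat.le_add_left (k + 1) (n + 1)) (u (n + 1 + (k + 1)) j)) =
        T f k (Nat.le_add_left k (n + 1)) (u (n + 1 + k) j) := by
    intro j k
    have he : f (n + 1 + k) (u (n + 1 + k + 1) j) - u (n + 1 + k) j ∈
        I ^ (n + 1 + k - n) • (⊤ : Submodule A (M (n + 1 + k))) := hR (n + 1 + k) j
    have hexp : n + 1 + k - n = k + 1 := by omega
    rw [hexp] at he
    exact key k (n + 1 + k) _ _ j he
  choose X hX using fun j : s =>
    hlift (fun k => T f k (Nat.le_add_left k (n + 1)) (u (n + 1 + k) j)) (hcompat j)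
  have hx_eq : x = ∑ j : s, (j : A) • X j := by
    rw [← sub_eq_zero]
    apply hinj
    intro k
    rw [map_sub, map_sum, sub_eq_zero, ← T_π_apply f π hπ (Nat.le_add_left k (n + 1)) x,
      hP (n + 1 + k), map_sum]
    refine Finset.sum_congr rfl (fun j _ => ?_)
    rw [map_smul, map_smul, hX j k]
  rw [hx_eq]
  exact Submodule.sum_mem _ fun j _ => Submodule.smul_mem_smul (hgmem j) Submodule.mem_top

theorem isAdicComplete (hI : I.FG) (hf : ∀ n, Function.Surjective (f n))
    (hker : ∀ n, LinearMap.ker (f n) = I ^ (n + 1) • (⊤ : Submodule A (M (n + 1))))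
    (hπ : ∀ n, f n ∘ₗ π (n + 1) = π n)
    (hinj : ∀ x : L, (∀ n, π n x = 0) → x = 0)
    (hlift : ∀ y : (∀ n, M n), (∀ n, f n (y (n + 1)) = y n) → ∃ x : L, ∀ n, π n x = y n) :
    IsAdicComplete I L := by
  have hkerπ : ∀ n, LinearMap.ker (π n) = I ^ (n + 1) • (⊤ : Submodule A L) := fun n =>
    le_antisymm (ker_le_smul_top f π hI hf hker hπ hinj hlift n) (smul_top_le_ker f π hf hker n)
  have hH : IsHausdorff I L := ⟨fun x hx => hinj x (fun n => by
    have h1 := hx (n + 1)
    rw [SModEq.zero] at h1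
    exact LinearMap.mem_ker.1 (smul_top_le_ker f π hf hker n h1))⟩
  have hP : IsPrecomplete I L := ⟨fun s hs => by
    obtain ⟨x, hx⟩ := hlift (fun n => π n (s (n + 1))) (fun n => by
      show f n (π (n + 1) (s (n + 1 + 1))) = π n (s (n + 1))
      rw [← LinearMap.comp_apply, hπ, ← sub_eq_zero, ← map_sub, ← LinearMap.mem_ker]
      apply smul_top_le_ker f π hf hker n
      have h1 := hs (Nat.le_add_right (n + 1) 1)
      rw [SModEq.sub_mem] at h1
      have h2 := Submodule.neg_mem _ h1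
      rwa [neg_sub] at h2)
    refine ⟨x, fun k => ?_⟩
    cases k with
    | zero =>
      rw [pow_zero, Ideal.one_eq_top, Submodule.top_smul]
      exact SModEq.top
    | succ n =>
      rw [SModEq.sub_mem, ← hkerπ n, LinearMap.mem_ker, map_sub, sub_eq_zero]
      exact (hx n).symm⟩
  exact { toIsHausdorff := hH, toIsPrecomplete := hP }

theorem span_sup_eq_top (hI : I.FG) (hf : ∀ n, Function.Surjective (f n))
    (hker : ∀ n, LinearMap.ker (f n) = I ^ (n + 1) • (⊤ : Submodule A (M (n + 1))))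
    (hπ : ∀ n, f n ∘ₗ π (n + 1) = π n)
    (hinj : ∀ x : L, (∀ n, π n x = 0) → x = 0)
    (hlift : ∀ y : (∀ n, M n), (∀ n, f n (y (n + 1)) = y n) → ∃ x : L, ∀ n, π n x = y n)
    {Z : Type*} (m : Z → L)
    (hm : Submodule.span A (Set.range (fun z => π 0 (m z))) = ⊤) :
    Submodule.span A (Set.range m) ⊔ I • ⊤ = ⊤ := by
  rw [eq_top_iff]
  intro x _
  have h1 : π 0 x ∈ (Submodule.span A (Set.range m)).map (π 0) := by
    rw [Submodule.map_span, ← Set.range_comp]
    have e : (⇑(π 0) ∘ m) = fun z => π 0 (m z) := rfl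
    rw [e, hm]; exact Submodule.mem_top
  obtain ⟨y, hy, hyx⟩ := h1
  have h2 : x - y ∈ I • (⊤ : Submodule A L) := by
    have h3 : x - y ∈ LinearMap.ker (π 0) := by rw [LinearMap.mem_ker, map_sub, hyx, sub_self]
    have h4 := ker_le_smul_top f π hI hf hker hπ hinj hlift 0 h3
    rwa [zero_add, pow_one] at h4
  have e : x = y + (x - y) := by abel
  rw [e]
  exact Submodule.add_mem_sup hy h2

theorem exists_gens (hf : ∀ n, Function.Surjective (f n))
    (hlift : ∀ y : (∀ n, M n), (∀ n, f n (y (n + 1)) = y n) → ∃ x : L, ∀ n, π n x = y n)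
    [Module.Finite A (M 0)] :
    ∃ (Z : Type v) (_ : Fintype Z) (m : Z → L),
      Submodule.span A (Set.range (fun z => π 0 (m z))) = ⊤ := by
  obtain ⟨⟨S, hS⟩⟩ := ‹Module.Finite A (M 0)›
  choose m hm using fun z : S => π_surjective f π hf hlift 0 z.1
  refine ⟨S, inferInstance, m, ?_⟩
  have e : (fun z => π 0 (m z)) = (Subtype.val : S → M 0) := funext hm
  rw [e, ← hS]; congr 1; ext a; simp

theorem finite_of_complete (hI : I.FG) (hf : ∀ n, Function.Surjective (f n))
    (hker : ∀ n, LinearMap.ker (f n) = I ^ (n + 1) • (⊤ : Submodule A (M (n + 1))))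
    (hπ : ∀ n, f n ∘ₗ π (n + 1) = π n)
    (hinj : ∀ x : L, (∀ n, π n x = 0) → x = 0)
    (hlift : ∀ y : (∀ n, M n), (∀ n, f n (y (n + 1)) = y n) → ∃ x : L, ∀ n, π n x = y n)
    [IsAdicComplete I A] [Module.Finite A (M 0)] : Module.Finite A L := by
  classical
  obtain ⟨Z, _, m, hm⟩ := exists_gens f π hf hlift
  have hsp := span_sup_eq_top f π hI hf hker hπ hinj hlift m hm
  have hH : IsHausdorff I L := (isAdicComplete f π hI hf hker hπ hinj hlift).toIsHausdorff
  have htop := span_eq_top_of_hausdorff I m hsp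
  exact ⟨⟨Finset.univ.image m, by
    rw [Finset.coe_image, Finset.coe_univ, Set.image_univ]; exact htop⟩⟩

theorem finite_adicCompletion (hI : I.FG) (hf : ∀ n, Function.Surjective (f n))
    (hker : ∀ n, LinearMap.ker (f n) = I ^ (n + 1) • (⊤ : Submodule A (M (n + 1))))
    (hπ : ∀ n, f n ∘ₗ π (n + 1) = π n)
    (hinj : ∀ x : L, (∀ n, π n x = 0) → x = 0)
    (hlift : ∀ y : (∀ n, M n), (∀ n, f n (y (n + 1)) = y n) → ∃ x : L, ∀ n, π n x = y n)
    [Module.Finite A (M 0)]
    [Module (AdicCompletion I A) L] [IsScalarTower A (AdicCompletion I A) L] :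
    Module.Finite (AdicCompletion I A) L := by
  classical
  obtain ⟨Z, _, m, hm⟩ := exists_gens f π hf hlift
  have hsp := span_sup_eq_top f π hI hf hker hπ hinj hlift m hm
  have hH : IsHausdorff I L := (isAdicComplete f π hI hf hker hπ hinj hlift).toIsHausdorff
  have hHJ : IsHausdorff (I.map (algebraMap A (AdicCompletion I A))) L :=
    IsHausdorff.map_algebraMap_iff.2 hH
  have hC : IsAdicComplete I (AdicCompletion I A) := AdicCompletion.isAdicComplete hI
  have hPJ : IsPrecomplete (I.map (algebraMap A (AdicCompletion I A))) (AdicCompletion I A) :=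
    IsPrecomplete.map_algebraMap_iff.2 hC.toIsPrecomplete
  have hspJ : Submodule.span (AdicCompletion I A) (Set.range m) ⊔
      (I.map (algebraMap A (AdicCompletion I A))) • ⊤ = ⊤ := by
    rw [eq_top_iff]
    intro x _
    have hx : x ∈ Submodule.span A (Set.range m) ⊔ I • ⊤ := by rw [hsp]; exact Submodule.mem_top
    obtain ⟨y, hy, z, hz, rfl⟩ := Submodule.mem_sup.1 hx
    refine Submodule.add_mem_sup
      (Submodule.span_le_restrictScalars A (AdicCompletion I A) _ hy) ?_
    have hz' : z ∈ ((I.map (algebraMap A (AdicCompletion I A))) •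
        (⊤ : Submodule (AdicCompletion I A) L)).restrictScalars A := by
      rw [Submodule.restrictScalars_map_smul_eq, Submodule.restrictScalars_top]
      exact hz
    exact hz'
  have htop := span_eq_top_of_hausdorff (I.map (algebraMap A (AdicCompletion I A))) m hspJ
  exact ⟨⟨Finset.univ.image m, by
    rw [Finset.coe_image, Finset.coe_univ, Set.image_univ]; exact htop⟩⟩

end system

end Groth.Agent.H87.LimSystem
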