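import Mathlib.RingTheory.MvPowerSeries.Evaluation
import Mathlib.RingTheory.PowerSeries.Basic
import Mathlib.RingTheory.AdicCompletion.Topology
import Mathlib.Topology.Algebra.Nonarchimedean.AdicTopology

set_option autoImplicit false

namespace Groth.Agent.H87.PowEval

variable {R A : Type*} [CommRing R] [CommRing A]

theorem exists_mvEval (J : Ideal A) [hJ : IsAdicComplete J A] (φ : R →+* A) {σ : Type*} [Finite σ]
    (a : σ → A) (ha : ∀ s, a s ∈ J) :
    ∃ e : MvPowerSeries σ R →+* A,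
      (∀ r, e (MvPowerSeries.C r) = φ r) ∧ ∀ s, e (MvPowerSeries.X s) = a s := by
  let _ : WithIdeal A := ⟨J⟩
  let _ : WithIdeal R := ⟨⊥⟩
  have hAd : IsAdic (WithIdeal.i : Ideal A) := rfl
  obtain ⟨hc, ht2⟩ := (IsAdic.isAdicComplete_iff hAd).1 hJ
  have hφ : Continuous φ :=
    (WithIdeal.uniformContinuous_of_map_le (f := φ) (by
      show (⊥ : Ideal R).map φ ≤ J
      rw [Ideal.map_bot]; exact bot_le)).continuous
  have hev : MvPowerSeries.HasEval a :=
    ⟨fun s => WithIdeal.isTopologicallyNilpotent_of_mem (ha s), by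
      rw [Filter.cofinite_eq_bot]; exact Filter.tendsto_bot⟩
  refine ⟨MvPowerSeries.eval₂Hom hφ hev, fun r => ?_, fun s => ?_⟩
  · rw [MvPowerSeries.coe_eval₂Hom]; exact MvPowerSeries.eval₂_C φ a r
  · rw [MvPowerSeries.coe_eval₂Hom]; exact MvPowerSeries.eval₂_X φ a s

theorem exists_eval (J : Ideal A) [IsAdicComplete J A] (φ : R →+* A) (a : A) (ha : a ∈ J) :
    ∃ e : PowerSeries R →+* A, (∀ r, e (PowerSeries.C r) = φ r) ∧ e PowerSeries.X = a := by
  obtain ⟨e, h1, h2⟩ := exists_mvEval J φ (fun _ : Unit => a) (fun _ => ha)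
  exact ⟨e, h1, h2 ()⟩

theorem exists_mvEvalₐ {k : Type*} [CommRing k] [Algebra k R] [Algebra k A] (J : Ideal A)
    [IsAdicComplete J A] (φ : R →ₐ[k] A) {σ : Type*} [Finite σ] (a : σ → A) (ha : ∀ s, a s ∈ J) :
    ∃ e : MvPowerSeries σ R →ₐ[k] A,
      (∀ r, e (MvPowerSeries.C r) = φ r) ∧ ∀ s, e (MvPowerSeries.X s) = a s := by
  obtain ⟨e, h1, h2⟩ := exists_mvEval J φ.toRingHom a ha
  refine ⟨{ e with commutes' := fun c => ?_ }, h1, h2⟩
  show e (algebraMap k (MvPowerSeries σ R) c) = _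
  rw [MvPowerSeries.algebraMap_apply, h1]
  exact φ.commutes c

theorem exists_evalₐ {k : Type*} [CommRing k] [Algebra k R] [Algebra k A] (J : Ideal A)
    [IsAdicComplete J A] (φ : R →ₐ[k] A) (a : A) (ha : a ∈ J) :
    ∃ e : PowerSeries R →ₐ[k] A, (∀ r, e (PowerSeries.C r) = φ r) ∧ e PowerSeries.X = a := by
  obtain ⟨e, h1, h2⟩ := exists_mvEvalₐ J φ (fun _ : Unit => a) (fun _ => ha)
  exact ⟨e, h1, h2 ()⟩

end Groth.Agent.H87.PowEval
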