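import Groth.Prelude.Def_FSch3
import Groth.Agent.H57.LocalCrit
import Groth.Agent.Lead.CompleteNoetherian
import Mathlib.RingTheory.AdicCompletion.AsTensorProduct
import Mathlib.RingTheory.AdicCompletion.Completeness
import Mathlib.RingTheory.Flat.Stability
import Mathlib.RingTheory.Flat.Localization
import Mathlib.RingTheory.RingHom.Flat
import Mathlib.LinearAlgebra.TensorProduct.Quotient
import Mathlib.RingTheory.Localization.LocalizationLocalization

set_option autoImplicit false
universe u

open TensorProduct

namespace Groth.Agent.H87.ComplFlat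

theorem rTensor_injective_of_mapOfCompatibleSMul_injective
    {A₀ R : Type*} [CommRing A₀] [CommRing R] [Algebra A₀ R]
    {T : Type*} [AddCommGroup T] [Module R T] [Module A₀ T] [IsScalarTower A₀ R T]
    [Module.Flat A₀ T]
    {N : Type*} [AddCommGroup N] [Module R N] [Module A₀ N] [IsScalarTower A₀ R N]
    (P : Submodule R N)
    (hN : Function.Injective (TensorProduct.mapOfCompatibleSMul R A₀ A₀ N T)) :
    Function.Injective (LinearMap.rTensor T P.subtype) := by
  have htop : Function.Injective (LinearMap.rTensor T (P.subtype.restrictScalars A₀)) :=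
    Module.Flat.rTensor_preserves_injective_linearMap _ (Submodule.injective_subtype P)
  have hcomm : ∀ x : P ⊗[A₀] T,
      LinearMap.rTensor T P.subtype (TensorProduct.mapOfCompatibleSMul R A₀ A₀ P T x) =
        TensorProduct.mapOfCompatibleSMul R A₀ A₀ N T
          (LinearMap.rTensor T (P.subtype.restrictScalars A₀) x) := by
    intro x
    induction x with
    | zero => simp
    | add x y hx hy => simp only [map_add, hx, hy]
    | tmul p t => simp
  rw [injective_iff_map_eq_zero]
  intro x hx
  obtain ⟨y, rfl⟩ := TensorProduct.mapOfCompatibleSMul_surjective R A₀ A₀ P T x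
  rw [hcomm] at hx
  have h1 := hN (hx.trans (map_zero _).symm)
  have h2 := htop (h1.trans (map_zero _).symm)
  rw [h2, map_zero]

theorem mapOfCompatibleSMul_quotient_injective
    {A₀ R : Type*} [CommRing A₀] [CommRing R] [Algebra A₀ R]
    {T : Type*} [AddCommGroup T] [Module R T] [Module A₀ T] [IsScalarTower A₀ R T]
    (𝔞 : Ideal R) (𝔞₀ : Ideal A₀) (h𝔞 : 𝔞 = 𝔞₀.map (algebraMap A₀ R))
    (hsurj : ∀ r : R, ∃ a : A₀, r - algebraMap A₀ R a ∈ 𝔞₀.map (algebraMap A₀ R)) :
    Function.Injective (TensorProduct.mapOfCompatibleSMul R A₀ A₀ (R ⧸ 𝔞) T) := by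
  subst h𝔞
  have hone : ∀ a : A₀, Ideal.Quotient.mk (𝔞₀.map (algebraMap A₀ R)) (algebraMap A₀ R a) =
      a • (1 : R ⧸ 𝔞₀.map (algebraMap A₀ R)) := by
    intro a
    rw [Algebra.algebraMap_eq_smul_one]; rfl
  have hform : ∀ x : (R ⧸ 𝔞₀.map (algebraMap A₀ R)) ⊗[A₀] T,
      ∃ t : T, x = (1 : R ⧸ 𝔞₀.map (algebraMap A₀ R)) ⊗ₜ[A₀] t := by
    intro x
    induction x with
    | zero => exact ⟨0, (tmul_zero _ _).symm⟩
    | add x y hx hy =>
      obtain ⟨t₁, rfl⟩ := hx
      obtain ⟨t₂, rfl⟩ := hy
      exact ⟨t₁ + t₂, (tmul_add _ _ _).symm⟩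
    | tmul n t =>
      obtain ⟨r, rfl⟩ := Ideal.Quotient.mk_surjective n
      obtain ⟨a, ha⟩ := hsurj r
      refine ⟨a • t, ?_⟩
      rw [Ideal.Quotient.eq.2 ha, hone a, TensorProduct.smul_tmul]
  rw [injective_iff_map_eq_zero]
  intro x hx
  obtain ⟨t, rfl⟩ := hform x
  rw [TensorProduct.mapOfCompatibleSMul_tmul] at hx
  have h1 : (Submodule.Quotient.mk t :
      T ⧸ ((𝔞₀.map (algebraMap A₀ R)) • ⊤ : Submodule R T)) = 0 := by
    rw [← TensorProduct.quotTensorEquivQuotSMul_mk_one_tmul, hx, map_zero]
  rw [Submodule.Quotient.mk_eq_zero] at h1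
  have h2 : t ∈ (𝔞₀ • (⊤ : Submodule A₀ T)) := by
    have e := Submodule.restrictScalars_map_smul_eq 𝔞₀ (⊤ : Submodule R T)
    rw [Submodule.restrictScalars_top] at e
    rw [← e]
    exact h1
  refine Submodule.smul_induction_on h2 ?_ ?_
  · intro i hi t' _
    rw [← TensorProduct.smul_tmul, ← hone i,
      Ideal.Quotient.eq_zero_iff_mem.2 (Ideal.mem_map_of_mem _ hi), zero_tmul]
  · intro a b ha hb
    rw [tmul_add, ha, hb, add_zero]

theorem exists_sub_mem_map_pow {B' : Type u} [CommRing B'] (I' : Ideal B') (hfg : I'.FG) (k : ℕ)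
    (r : AdicCompletion I' B') :
    ∃ a : B', r - algebraMap B' (AdicCompletion I' B') a ∈
      (I' ^ k).map (algebraMap B' (AdicCompletion I' B')) := by
  obtain ⟨a, ha⟩ := Submodule.mkQ_surjective _ (AdicCompletion.eval I' B' k r)
  refine ⟨a, ?_⟩
  have h1 : r - algebraMap B' (AdicCompletion I' B') a ∈
      LinearMap.ker (AdicCompletion.eval I' B' k) := by
    rw [LinearMap.mem_ker, map_sub, AdicCompletion.algebraMap_apply, Algebra.algebraMap_self,
      RingHom.id_apply, AdicCompletion.eval_of, ha, sub_self]
  rw [← AdicCompletion.pow_smul_top_eq_ker_eval hfg] at h1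
  have e := Submodule.restrictScalars_map_smul_eq (I' ^ k)
    (⊤ : Submodule (AdicCompletion I' B') (AdicCompletion I' B'))
  rw [Submodule.restrictScalars_top] at e
  rw [← e] at h1
  have h2 : r - algebraMap B' (AdicCompletion I' B') a ∈
      ((I' ^ k).map (algebraMap B' (AdicCompletion I' B')) •
        (⊤ : Submodule (AdicCompletion I' B') (AdicCompletion I' B'))) := h1
  simpa using h2

theorem evalₐ_complMap {S T : Type u} [CommRing S] [CommRing T] (I : Ideal S) (K : Ideal T)
    (g : S →+* T) (h : I.map g ≤ K) (n : ℕ) (x : AdicCompletion I S) :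
    AdicCompletion.evalₐ K n (FSch.complMap I K g h x) =
      Ideal.quotientMap (K ^ n) g (FSch.pow_le_comap_pow_of_map_le I K g h n)
        (AdicCompletion.evalₐ I n x) := by
  unfold FSch.complMap
  generalize_proofs
  rw [AdicCompletion.evalₐ_liftRingHom]
  · rfl
  · assumption

theorem complMap_algebraMap {S T : Type u} [CommRing S] [CommRing T] (I : Ideal S) (K : Ideal T)
    (g : S →+* T) (h : I.map g ≤ K) (s : S) :
    FSch.complMap I K g h (algebraMap S (AdicCompletion I S) s) =
      algebraMap T (AdicCompletion K T) (g s) := by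
  apply AdicCompletion.ext_evalₐ
  intro n
  rw [evalₐ_complMap, AlgHom.commutes, AlgHom.commutes, Ideal.Quotient.algebraMap_eq,
    Ideal.Quotient.algebraMap_eq, Ideal.quotientMap_mk]

theorem complMap_flat {B' B : Type u} [CommRing B'] [CommRing B] [IsNoetherianRing B']
    [IsNoetherianRing B] (I' : Ideal B') (I : Ideal B) (g : B' →+* B) (hgf : g.Flat)
    (h : I'.map g ≤ I) : (FSch.complMap I' I g h).Flat := by
  have hI'fg : I'.FG := IsNoetherian.noetherian I'
  have hIfg : I.FG := IsNoetherian.noetherian I
  have hNR : IsNoetherianRing (AdicCompletion I' B') :=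
    Groth.Agent.Lead.isNoetherianRing_adicCompletion I' hI'fg
  have hNT : IsNoetherianRing (AdicCompletion I B) :=
    Groth.Agent.Lead.isNoetherianRing_adicCompletion I hIfg
  let algRT : Algebra (AdicCompletion I' B') (AdicCompletion I B) :=
    (FSch.complMap I' I g h).toAlgebra
  let algB'B : Algebra B' B := g.toAlgebra
  let algB'T : Algebra B' (AdicCompletion I B) :=
    ((algebraMap (AdicCompletion I' B') (AdicCompletion I B)).comp
      (algebraMap B' (AdicCompletion I' B'))).toAlgebra
  have tower1 : IsScalarTower B' (AdicCompletion I' B') (AdicCompletion I B) :=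
    IsScalarTower.of_algebraMap_eq (fun _ => rfl)
  have hcomm : ∀ b' : B', FSch.complMap I' I g h (algebraMap B' (AdicCompletion I' B') b') =
      algebraMap B (AdicCompletion I B) (g b') := complMap_algebraMap I' I g h
  have tower2 : IsScalarTower B' B (AdicCompletion I B) :=
    IsScalarTower.of_algebraMap_eq (fun b' => hcomm b')
  have hflatB'B : Module.Flat B' B := hgf
  have hflatB'T : Module.Flat B' (AdicCompletion I B) :=
    Module.Flat.trans B' B (AdicCompletion I B)
  show Module.Flat (AdicCompletion I' B') (AdicCompletion I B)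
  refine Groth.Agent.H57.flat_of_forall_rTensor_injective (R := AdicCompletion I' B')
    (S := AdicCompletion I B) (M := AdicCompletion I B)
    (I'.map (algebraMap B' (AdicCompletion I' B'))) ?_ ?_
  · have hc : IsAdicComplete (I.map (algebraMap B (AdicCompletion I B))) (AdicCompletion I B) :=
      (IsAdicComplete.map_algebraMap_iff (I := I) (S := AdicCompletion I B)
        (M := AdicCompletion I B)).2 (AdicCompletion.isAdicComplete hIfg)
    have hle : (I'.map (algebraMap B' (AdicCompletion I' B'))).map
        (algebraMap (AdicCompletion I' B') (AdicCompletion I B)) ≤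
          I.map (algebraMap B (AdicCompletion I B)) := by
      rw [Ideal.map_map]
      have e : (algebraMap (AdicCompletion I' B') (AdicCompletion I B)).comp
          (algebraMap B' (AdicCompletion I' B')) = (algebraMap B (AdicCompletion I B)).comp g :=
        RingHom.ext hcomm
      rw [e, ← Ideal.map_map]
      exact Ideal.map_mono h
    exact hle.trans (IsAdicComplete.le_jacobson_bot _)
  · intro k P
    apply rTensor_injective_of_mapOfCompatibleSMul_injective (A₀ := B') P
    apply mapOfCompatibleSMul_quotient_injective _ (I' ^ k) (Ideal.map_pow _ _ _).symm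
    exact exists_sub_mem_map_pow I' hI'fg k

theorem flat_of_localizations (A : Type u) [CommRing A] (S' S : Submonoid A) (hS : S' ≤ S)
    (g : Localization S' →+* Localization S)
    (hg : g.comp (algebraMap A (Localization S')) = algebraMap A (Localization S)) : g.Flat := by
  let : Algebra (Localization S') (Localization S) := g.toAlgebra
  have : IsScalarTower A (Localization S') (Localization S) :=
    IsScalarTower.of_algebraMap_eq (fun a => (RingHom.congr_fun hg a).symm)
  have hloc : IsLocalization (S.map (algebraMap A (Localization S'))) (Localization S) :=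
    IsLocalization.isLocalization_of_submonoid_le (Localization S') (Localization S) S' S hS
  show Module.Flat (Localization S') (Localization S)
  exact IsLocalization.flat (Localization S) (S.map (algebraMap A (Localization S')))

end Groth.Agent.H87.ComplFlat
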