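import Mathlib.RingTheory.AdicCompletion.Algebra
import Mathlib.RingTheory.AdicCompletion.RingHom

set_option autoImplicit false

namespace Groth.Agent.H87.ComplIso

variable {R P S : Type*} [CommRing R] [CommRing P] [CommRing S] [Algebra R P] [Algebra R S]
variable (𝔵 : Ideal P) (I : Ideal S) (φ : P →ₐ[R] S)

theorem pow_le_comap (hφ : 𝔵 ≤ I.comap φ) (n : ℕ) : 𝔵 ^ n ≤ (I ^ n).comap φ :=
  (Ideal.pow_right_mono hφ n).trans (Ideal.le_comap_pow (f := φ) n)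

noncomputable def lvl (hφ : 𝔵 ≤ I.comap φ) (n : ℕ) : P ⧸ 𝔵 ^ n →ₐ[R] S ⧸ I ^ n :=
  Ideal.quotientMapₐ (I ^ n) φ (pow_le_comap 𝔵 I φ hφ n)

theorem lvl_mk (hφ : 𝔵 ≤ I.comap φ) (n : ℕ) (p : P) :
    lvl 𝔵 I φ hφ n (Ideal.Quotient.mk (𝔵 ^ n) p) = Ideal.Quotient.mk (I ^ n) (φ p) := rfl

theorem lvl_compat (hφ : 𝔵 ≤ I.comap φ) {m n : ℕ} (hle : m ≤ n) :
    (Ideal.Quotient.factorₐ R (Ideal.pow_le_pow_right hle)).comp
      ((lvl 𝔵 I φ hφ n).comp ((AdicCompletion.evalₐ 𝔵 n).restrictScalars R)) =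
    (lvl 𝔵 I φ hφ m).comp ((AdicCompletion.evalₐ 𝔵 m).restrictScalars R) := by
  refine AlgHom.ext fun x => ?_
  obtain ⟨c, rfl⟩ := AdicCompletion.mk_surjective 𝔵 P x
  simp only [AlgHom.comp_apply, AlgHom.restrictScalars_apply, AdicCompletion.evalₐ_mk, lvl_mk]
  show Ideal.Quotient.mk (I ^ m) (φ (c.val n)) = Ideal.Quotient.mk (I ^ m) (φ (c.val m))
  rw [Ideal.Quotient.eq, ← map_sub]
  have h := AdicCompletion.Ideal.mk_eq_mk 𝔵 hle c
  rw [Ideal.Quotient.eq] at h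
  exact pow_le_comap 𝔵 I φ hφ m h

noncomputable def hatMap (hφ : 𝔵 ≤ I.comap φ) : AdicCompletion 𝔵 P →ₐ[R] AdicCompletion I S :=
  AdicCompletion.liftAlgHom I
    (fun n => (lvl 𝔵 I φ hφ n).comp ((AdicCompletion.evalₐ 𝔵 n).restrictScalars R))
    (fun hle => lvl_compat 𝔵 I φ hφ hle)

theorem evalₐ_hatMap_mk (hφ : 𝔵 ≤ I.comap φ) (n : ℕ) (c : AdicCompletion.AdicCauchySequence 𝔵 P) :
    AdicCompletion.evalₐ I n (hatMap 𝔵 I φ hφ (AdicCompletion.mk 𝔵 P c)) =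
      Ideal.Quotient.mk (I ^ n) (φ (c.val n)) := by
  unfold hatMap
  rw [AdicCompletion.evalₐ_liftAlgHom]
  simp only [AlgHom.comp_apply, AlgHom.restrictScalars_apply, AdicCompletion.evalₐ_mk, lvl_mk]

theorem hatMap_bijective (hφ : 𝔵 ≤ I.comap φ)
    (hsurj : ∀ (n : ℕ) (s : S), ∃ p : P, s - φ p ∈ I ^ n)
    (hinj : ∀ (n : ℕ) (p : P), φ p ∈ I ^ n → p ∈ 𝔵 ^ n) :
    Function.Bijective (hatMap 𝔵 I φ hφ) := by
  constructor
  · rw [injective_iff_map_eq_zero]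
    intro x hx
    obtain ⟨c, rfl⟩ := AdicCompletion.mk_surjective 𝔵 P x
    refine AdicCompletion.ext_evalₐ fun n => ?_
    have h := evalₐ_hatMap_mk 𝔵 I φ hφ n c
    rw [hx, map_zero] at h
    rw [AdicCompletion.evalₐ_mk, map_zero, Ideal.Quotient.eq_zero_iff_mem]
    exact hinj n _ (Ideal.Quotient.eq_zero_iff_mem.1 h.symm)
  · intro y
    obtain ⟨b, rfl⟩ := AdicCompletion.mk_surjective I S y
    choose p hp using fun n => hsurj n (b.val n)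
    have hb : ∀ n, b.val n - b.val (n + 1) ∈ I ^ n := fun n => by
      have h := AdicCompletion.Ideal.mk_eq_mk I (Nat.le_succ n) b
      rw [Ideal.Quotient.eq] at h
      have := neg_mem h
      rwa [neg_sub] at this
    have hc : ∀ n, p n ≡ p (n + 1) [SMOD (𝔵 ^ n • ⊤ : Submodule P P)] := fun n => by
      rw [SModEq.sub_mem, smul_eq_mul, Ideal.mul_top]
      apply hinj
      have e : φ (p n - p (n + 1)) = -(b.val n - φ (p n)) + (b.val n - b.val (n + 1)) +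
          (b.val (n + 1) - φ (p (n + 1))) := by rw [map_sub]; ring
      rw [e]
      exact add_mem (add_mem (neg_mem (hp n)) (hb n))
        (Ideal.pow_le_pow_right (Nat.le_succ n) (hp (n + 1)))
    refine ⟨AdicCompletion.mk 𝔵 P (AdicCompletion.AdicCauchySequence.mk 𝔵 P p hc), ?_⟩
    refine AdicCompletion.ext_evalₐ fun n => ?_
    rw [evalₐ_hatMap_mk, AdicCompletion.evalₐ_mk, Ideal.Quotient.eq]
    have := neg_mem (hp n)
    rwa [neg_sub] at this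

theorem nonempty_algEquiv (hφ : 𝔵 ≤ I.comap φ)
    (hsurj : ∀ (n : ℕ) (s : S), ∃ p : P, s - φ p ∈ I ^ n)
    (hinj : ∀ (n : ℕ) (p : P), φ p ∈ I ^ n → p ∈ 𝔵 ^ n) :
    Nonempty (AdicCompletion 𝔵 P ≃ₐ[R] AdicCompletion I S) :=
  ⟨AlgEquiv.ofBijective _ (hatMap_bijective 𝔵 I φ hφ hsurj hinj)⟩

end Groth.Agent.H87.ComplIso
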