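import Groth.Agent.H87.AdicPi
import Mathlib

/-!
# Completion of exact sequences with finite completed middle term (helper87)

* `isAdicComplete_of_finite`: a finite module over a Noetherian `I`-adically complete ring is `I`-adically
  complete.
* `range_map_eq_ker`: if `M₁ → M₂ → M₃ → 0` is exact, `I` is finitely generated and contained in the
  Jacobson radical of the Noetherian ring `R`, and the completion of `M₂` is a finite `R`-module, then the
  completed sequence is exact in the middle.
-/

set_option autoImplicit false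

universe u v

namespace Groth.Agent.H87.ComplExact

variable {R : Type u} [CommRing R] (I : Ideal R)

theorem isAdicComplete_of_finite [IsNoetherianRing R] [IsAdicComplete I R]
    (M : Type v) [AddCommGroup M] [Module R M] [Module.Finite R M] : IsAdicComplete I M := by
  classical
  obtain ⟨n, π, hπ⟩ := Module.Finite.exists_fin' R M
  haveI : IsAdicComplete I (Fin n → R) := Groth.Agent.H87.isAdicComplete_pi I (Fin n)
  haveI hH : IsHausdorff I M := by
    refine ⟨fun x hx => ?_⟩
    have h1 : x ∈ (⨅ i : ℕ, I ^ i • ⊤ : Submodule R M) := by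
      rw [Submodule.mem_iInf]
      intro i
      have := hx i
      rwa [SModEq.zero] at this
    rw [Ideal.iInf_pow_smul_eq_bot_of_le_jacobson I (IsAdicComplete.le_jacobson_bot I)] at h1
    exact (Submodule.mem_bot R).mp h1
  haveI hP : IsPrecomplete I M := by
    rw [← AdicCompletion.of_surjective_iff]
    intro y
    obtain ⟨z, rfl⟩ := AdicCompletion.map_surjective I hπ y
    obtain ⟨w, rfl⟩ := AdicCompletion.of_surjective I (Fin n → R) z
    exact ⟨π w, (AdicCompletion.map_of I π w).symm⟩
  exact {}

variable {M₁ M₂ M₃ : Type v} [AddCommGroup M₁] [Module R M₁] [AddCommGroup M₂] [Module R M₂]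
  [AddCommGroup M₃] [Module R M₃]

theorem exists_of_sub_mem (hfg : I.FG) (n : ℕ) (x : AdicCompletion I M₂) :
    ∃ y : M₂, x - AdicCompletion.of I M₂ y ∈ (I ^ n • ⊤ : Submodule R (AdicCompletion I M₂)) := by
  obtain ⟨y, hy⟩ := Submodule.mkQ_surjective _ (AdicCompletion.eval I M₂ n x)
  refine ⟨y, ?_⟩
  rw [AdicCompletion.pow_smul_top_eq_ker_eval hfg, LinearMap.mem_ker, map_sub,
    AdicCompletion.eval_of, hy, sub_self]

theorem range_map_eq_ker [IsNoetherianRing R] (hI : I ≤ Ideal.jacobson ⊥)
    [Module.Finite R (AdicCompletion I M₂)]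
    (f : M₁ →ₗ[R] M₂) (g : M₂ →ₗ[R] M₃) (hex : Function.Exact f g) (hg : Function.Surjective g) :
    LinearMap.range (AdicCompletion.map I f) = LinearMap.ker (AdicCompletion.map I g) := by
  have hfg : I.FG := I.fg_of_isNoetherianRing
  apply le_antisymm
  · rintro _ ⟨y, rfl⟩
    rw [LinearMap.mem_ker, AdicCompletion.map_comp_apply]
    have : g ∘ₗ f = 0 := by
      ext a
      exact hex.apply_apply_eq_zero a
    rw [this, AdicCompletion.map_zero, LinearMap.zero_apply]
  · intro x hx
    rw [LinearMap.mem_ker] at hx
    set Nf : Submodule R (AdicCompletion I M₂) :=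
      (LinearMap.range (AdicCompletion.map I f)).restrictScalars R with hNf
    have hNfmem : ∀ a, AdicCompletion.map I f a ∈ Nf := fun a => LinearMap.mem_range_self _ a
    suffices hx' : x ∈ Nf from hx'
    have key : ∀ n : ℕ, x ∈ Nf ⊔ (I ^ n • ⊤ : Submodule R (AdicCompletion I M₂)) := by
      intro n
      obtain ⟨y, hy⟩ := exists_of_sub_mem I hfg n x
      have h1 : AdicCompletion.of I M₃ (g y) ∈
          (I ^ n • ⊤ : Submodule R (AdicCompletion I M₃)) := by
        have h2 : AdicCompletion.of I M₃ (g y) =
            AdicCompletion.map I g (-(x - AdicCompletion.of I M₂ y)) := by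
          rw [map_neg, map_sub, hx, zero_sub, neg_neg, AdicCompletion.map_of]
        rw [h2]
        have hy' : -(x - AdicCompletion.of I M₂ y) ∈
            (I ^ n • ⊤ : Submodule R (AdicCompletion I M₂)) := Submodule.neg_mem _ hy
        have h3 := Submodule.mem_map_of_mem
          (f := (AdicCompletion.map I g).restrictScalars R) hy'
        rw [Submodule.map_smul''] at h3
        exact Submodule.smul_mono le_rfl le_top h3
      have h4 : g y ∈ (I ^ n • ⊤ : Submodule R M₃) := by
        have h5 := AdicCompletion.pow_smul_top_le_ker_eval (I := I) (M := M₃) n h1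
        rw [LinearMap.mem_ker, AdicCompletion.eval_of, Submodule.mkQ_apply,
          Submodule.Quotient.mk_eq_zero] at h5
        exact h5
      have h6 : (I ^ n • ⊤ : Submodule R M₃) = (I ^ n • ⊤ : Submodule R M₂).map g := by
        rw [Submodule.map_smul'', Submodule.map_top, LinearMap.range_eq_top.mpr hg]
      rw [h6] at h4
      obtain ⟨y', hy', hgy'⟩ := h4
      have h7 : y - y' ∈ LinearMap.ker g := by
        rw [LinearMap.mem_ker, map_sub, hgy', sub_self]
      obtain ⟨w, hw⟩ := (hex (y - y')).mp h7
      have h8 : x = AdicCompletion.map I f (AdicCompletion.of I M₁ w) +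
          ((x - AdicCompletion.of I M₂ y) + AdicCompletion.of I M₂ y') := by
        rw [AdicCompletion.map_of, hw, map_sub]
        abel
      rw [h8]
      refine Submodule.add_mem_sup (hNfmem _) (Submodule.add_mem _ hy ?_)
      have h9 := Submodule.mem_map_of_mem (f := AdicCompletion.of I M₂) hy'
      rw [Submodule.map_smul''] at h9
      exact Submodule.smul_mono le_rfl le_top h9
    have hK : (⨅ i : ℕ, I ^ i • ⊤ : Submodule R (AdicCompletion I M₂ ⧸ Nf)) = ⊥ :=
      Ideal.iInf_pow_smul_eq_bot_of_le_jacobson I hI
    have hmem : Nf.mkQ x ∈ (⨅ i : ℕ, I ^ i • ⊤ : Submodule R (AdicCompletion I M₂ ⧸ Nf)) := by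
      rw [Submodule.mem_iInf]
      intro n
      obtain ⟨a, ha, b, hb, hab⟩ := Submodule.mem_sup.mp (key n)
      rw [← hab, map_add, Submodule.mkQ_apply, Submodule.mkQ_apply,
        (Submodule.Quotient.mk_eq_zero Nf).mpr ha, zero_add, ← Submodule.mkQ_apply]
      have h9 := Submodule.mem_map_of_mem (f := Nf.mkQ) hb
      rw [Submodule.map_smul''] at h9
      exact Submodule.smul_mono le_rfl le_top h9
    rw [hK, Submodule.mem_bot, Submodule.mkQ_apply] at hmem
    exact (Submodule.Quotient.mk_eq_zero Nf).mp hmem

end Groth.Agent.H87.ComplExact
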