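import Mathlib
import Groth.Agent.H87.PowEval
import Groth.Agent.H87.LimSystem
import Groth.Agent.H61.PowerSeriesComplete
import Groth.Agent.H61.ObsDimMain
import Groth.Agent.H44.CoeffField
import Groth.Agent.S2451
import Groth.Agent.S2452

set_option autoImplicit false
set_option maxHeartbeats 400000

universe u

open IsLocalRing MvPowerSeries

namespace Groth.Agent.H87.EqCohen

theorem field_isPrecomplete (K : Type*) [Field K] : IsPrecomplete (maximalIdeal K) K := by
  rw [IsLocalRing.maximalIdeal_eq_bot]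
  infer_instance

theorem ps_maximalIdeal_eq {K : Type*} [Field K] (n : ℕ) :
    maximalIdeal (MvPowerSeries (Fin n) K) =
      Ideal.span (Set.range (X : Fin n → MvPowerSeries (Fin n) K)) := by
  apply le_antisymm
  · intro f hf
    rw [Groth.Agent.H61.PS.mem_maximalIdeal_iff, IsLocalRing.maximalIdeal_eq_bot, Ideal.mem_bot] at hf
    have h1 := Groth.Agent.H61.PS.mem_span_X_pow_of_coeff_eq_zero 1 f (fun x hx => by
      have hx0 : x = 0 := (Finsupp.degree_eq_zero_iff x).1 (by omega)
      rw [hx0, coeff_zero_eq_constantCoeff_apply]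
      exact hf)
    rwa [pow_one] at h1
  · exact Groth.Agent.H61.PS.span_X_le

theorem surjective_of_section {K A : Type*} [Field K] [CommRing A] [IsLocalRing A]
    [IsHausdorff (maximalIdeal A) A] {n : ℕ} (t : Fin n → A)
    (ht : Ideal.span (Set.range t) = maximalIdeal A)
    (e : MvPowerSeries (Fin n) K →+* A) (heX : ∀ i, e (X i) = t i)
    (hres : ∀ a : A, ∃ c : K, a - e (C c) ∈ maximalIdeal A) : Function.Surjective e := by
  classical
  let _ : Algebra (MvPowerSeries (Fin n) K) A := e.toAlgebra
  have hsm : ∀ (p : MvPowerSeries (Fin n) K) (a : A), p • a = e p * a := fun p a => rfl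
  have _ : IsPrecomplete (maximalIdeal K) K := field_isPrecomplete K
  have hpre : IsPrecomplete (maximalIdeal (MvPowerSeries (Fin n) K)) (MvPowerSeries (Fin n) K) :=
    Groth.Agent.H61.PS.isPrecomplete
  have hmap : Ideal.map e (maximalIdeal (MvPowerSeries (Fin n) K)) ≤ maximalIdeal A := by
    rw [ps_maximalIdeal_eq, Ideal.map_span, Ideal.span_le]
    rintro _ ⟨_, ⟨i, rfl⟩, rfl⟩
    rw [heX, ← ht]
    exact Ideal.subset_span ⟨i, rfl⟩
  have hpow : ∀ (j : ℕ) (x : A),
      x ∈ (maximalIdeal (MvPowerSeries (Fin n) K) ^ j • (⊤ : Submodule (MvPowerSeries (Fin n) K) A)) →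
      x ∈ maximalIdeal A ^ j := by
    intro j x hx
    refine Submodule.smul_induction_on hx ?_ ?_
    · intro p hp a _
      rw [hsm]
      refine Ideal.mul_mem_right _ _ ?_
      have h1 : e p ∈ Ideal.map e (maximalIdeal (MvPowerSeries (Fin n) K) ^ j) :=
        Ideal.mem_map_of_mem _ hp
      rw [Ideal.map_pow] at h1
      exact Ideal.pow_right_mono hmap j h1
    · intro a b ha hb
      exact Ideal.add_mem _ ha hb
  have hH : IsHausdorff (maximalIdeal (MvPowerSeries (Fin n) K)) A := by
    refine ⟨fun x hx => ?_⟩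
    apply IsHausdorff.haus' (I := maximalIdeal A)
    intro j
    have h1 := hx j
    rw [SModEq.zero] at h1 ⊢
    have h2 := hpow j x h1
    rw [smul_eq_mul, Ideal.mul_top]
    exact h2
  have hspan : Submodule.span (MvPowerSeries (Fin n) K) (Set.range (fun _ : Unit => (1 : A))) ⊔
      maximalIdeal (MvPowerSeries (Fin n) K) • ⊤ = ⊤ := by
    rw [eq_top_iff]
    intro a _
    obtain ⟨c, hc⟩ := hres a
    have h1 : a = (C c : MvPowerSeries (Fin n) K) • (1 : A) + (a - e (C c)) := by
      rw [hsm, mul_one]; ring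
    rw [h1]
    refine Submodule.add_mem _ (Submodule.mem_sup_left
      (Submodule.smul_mem _ _ (Submodule.subset_span ⟨(), rfl⟩))) (Submodule.mem_sup_right ?_)
    rw [← ht] at hc
    obtain ⟨b, hb⟩ := (Ideal.mem_span_range_iff_exists_fun).1 hc
    rw [← hb]
    refine Submodule.sum_mem _ fun i _ => ?_
    have h2 : b i * t i = (X i : MvPowerSeries (Fin n) K) • b i := by
      rw [hsm, heX, mul_comm]
    rw [h2]
    exact Submodule.smul_mem_smul (Groth.Agent.H61.PS.X_mem_maximalIdeal i) Submodule.mem_top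
  have htop := Groth.Agent.H87.LimSystem.span_eq_top_of_hausdorff
    (maximalIdeal (MvPowerSeries (Fin n) K)) (fun _ : Unit => (1 : A)) hspan
  intro a
  have ha : a ∈ Submodule.span (MvPowerSeries (Fin n) K) (Set.range (fun _ : Unit => (1 : A))) := by
    rw [htop]; exact Submodule.mem_top
  have hr : Set.range (fun _ : Unit => (1 : A)) = {1} := by
    ext x; simp [eq_comm]
  rw [hr, Submodule.mem_span_singleton] at ha
  obtain ⟨p, hp⟩ := ha
  exact ⟨p, by rw [← hp, hsm, mul_one]⟩

theorem exists_gens {A : Type*} [CommRing A] [IsLocalRing A] (hfg : (maximalIdeal A).FG) :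
    ∃ t : Fin (maximalIdeal A).spanFinrank → A, Ideal.span (Set.range t) = maximalIdeal A := by
  classical
  obtain ⟨s, hs, hsp⟩ := Submodule.FG.exists_span_finset_card_eq_spanFinrank hfg
  refine ⟨fun i => ((s.equivFin.symm (Fin.cast hs.symm i) : s) : A), ?_⟩
  have hr : Set.range (fun i : Fin (maximalIdeal A).spanFinrank =>
      ((s.equivFin.symm (Fin.cast hs.symm i) : s) : A)) = (s : Set A) := by
    ext x
    constructor
    · rintro ⟨i, rfl⟩
      exact (s.equivFin.symm (Fin.cast hs.symm i)).2
    · intro hx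
      refine ⟨Fin.cast hs (s.equivFin ⟨x, hx⟩), ?_⟩
      simp
  rw [hr]
  exact hsp

end Groth.Agent.H87.EqCohen
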