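import Mathlib
import Groth.Prelude.Def_CAlgX

set_option autoImplicit false
set_option maxHeartbeats 400000

universe u

open TensorProduct KaehlerDifferential

namespace Groth.Agent.H87.AdicJac

theorem exists_tensor_lift {B : Type*} [CommRing B] {S X N : Type*} [CommRing S] [Algebra B S]
    [AddCommGroup X] [Module B X] [AddCommGroup N] [Module B N]
    (hS : Function.Surjective (algebraMap B S))
    (hN : ∀ b : B, algebraMap B S b = 0 → ∀ n : N, b • n = 0) (f : X →ₗ[B] N) :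
    ∃ F : S ⊗[B] X →ₗ[B] N, ∀ (b : B) (x : X), F (algebraMap B S b ⊗ₜ x) = b • f x := by
  classical
  let K : Submodule B B := LinearMap.ker (Algebra.linearMap B S)
  let t : B →ₗ[B] (X →ₗ[B] N) := LinearMap.toSpanSingleton B _ f
  have ht : K ≤ LinearMap.ker t := by
    intro b hb
    have hb' : algebraMap B S b = 0 := hb
    rw [LinearMap.mem_ker]
    ext x
    simp only [t, LinearMap.toSpanSingleton_apply, LinearMap.smul_apply, LinearMap.zero_apply]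
    exact hN b hb' (f x)
  let e : (B ⧸ K) ≃ₗ[B] S := LinearMap.quotKerEquivOfSurjective (Algebra.linearMap B S) hS
  let G : S →ₗ[B] (X →ₗ[B] N) := (K.liftQ t ht) ∘ₗ e.symm.toLinearMap
  refine ⟨TensorProduct.lift G, fun b x => ?_⟩
  have h1 : e.symm (algebraMap B S b) = Submodule.Quotient.mk b := by
    rw [LinearEquiv.symm_apply_eq]; rfl
  simp only [TensorProduct.lift.tmul, G, LinearMap.coe_comp, LinearEquiv.coe_coe,
    Function.comp_apply, h1, Submodule.liftQ_apply, t, LinearMap.toSpanSingleton_apply,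
    LinearMap.smul_apply]

theorem smooth_lift {A B : Type u} [CommRing A] [CommRing B] [Algebra A B] {I : Ideal B}
    (hB : CAlgX.IsAdicFormallySmooth A B I)
    {E' E'' : Type u} [CommRing E'] [CommRing E''] [Algebra A E'] [Algebra A E'']
    (π : E' →ₐ[A] E'') (hπ : Function.Surjective π) (hK : RingHom.ker π ^ 2 = ⊥)
    (φ : B →ₐ[A] E'') (hφ : ∃ k : ℕ, ∀ x ∈ I ^ k, φ x = 0) :
    ∃ χ : B →ₐ[A] E', π.comp χ = φ := by
  let ε : (E' ⧸ RingHom.ker π) ≃ₐ[A] E'' := Ideal.quotientKerAlgEquivOfSurjective hπ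
  have hε : ∀ y : E', ε (Ideal.Quotient.mk _ y) = π y := fun y => rfl
  obtain ⟨k, hk⟩ := hφ
  obtain ⟨χ, hχ⟩ := hB E' (RingHom.ker π) hK ((ε.symm : E'' →ₐ[A] _).comp φ)
    ⟨k, fun x hx => by simp [hk x hx]⟩
  refine ⟨χ, ?_⟩
  ext b
  have h1 : Ideal.Quotient.mk (RingHom.ker π) (χ b) = ε.symm (φ b) := by
    have := congrArg (fun f => f b) hχ
    simpa using this
  have h2 := congrArg ε h1
  rw [hε, AlgEquiv.apply_symm_apply] at h2
  simpa using h2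

section

variable {A B : Type u} [CommRing A] [CommRing B] [Algebra A B] (I J : Ideal B) (Q : Ideal (B ⧸ J))

theorem algebraMap_CQ_surjective : Function.Surjective (algebraMap B ((B ⧸ J) ⧸ Q)) := by
  intro y
  obtain ⟨c, rfl⟩ := Ideal.Quotient.mk_surjective y
  obtain ⟨b, rfl⟩ := Ideal.Quotient.mk_surjective c
  exact ⟨b, rfl⟩

theorem algebraMap_CQ_eq_zero (b : B) :
    algebraMap B ((B ⧸ J) ⧸ Q) b = 0 ↔ Ideal.Quotient.mk J b ∈ Q := by
  show Ideal.Quotient.mk Q (Ideal.Quotient.mk J b) = 0 ↔ _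
  exact Ideal.Quotient.eq_zero_iff_mem

theorem mem_kerAlg_iff (x : B) : x ∈ RingHom.ker (algebraMap B (B ⧸ J)) ↔ x ∈ J := by
  rw [RingHom.mem_ker]
  exact Ideal.Quotient.eq_zero_iff_mem

variable {J Q} in
theorem exists_D0
    (g : ((B ⧸ J) ⧸ Q) ⊗[B] ((B ⧸ J) ⊗[B] Ω[B⁄A]) →ₗ[(B ⧸ J) ⧸ Q]
          ((B ⧸ J) ⧸ Q) ⊗[B] (RingHom.ker (algebraMap B (B ⧸ J))).Cotangent)
    (hg : g ∘ₗ LinearMap.baseChange ((B ⧸ J) ⧸ Q)
        (KaehlerDifferential.kerCotangentToTensor A B (B ⧸ J)) = LinearMap.id) :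
    ∃ D₀ : Ω[B⁄A] →ₗ[B] ((B ⧸ J) ⧸ Q) ⊗[B] (RingHom.ker (algebraMap B (B ⧸ J))).Cotangent,
      ∀ x : RingHom.ker (algebraMap B (B ⧸ J)),
        D₀ (KaehlerDifferential.D A B x.1) = 1 ⊗ₜ Ideal.toCotangent _ x := by
  refine ⟨(g.restrictScalars B) ∘ₗ (TensorProduct.mk B ((B ⧸ J) ⧸ Q) _ 1) ∘ₗ
    (TensorProduct.mk B (B ⧸ J) Ω[B⁄A] 1), fun x => ?_⟩
  have h1 := congrArg (fun F => F (1 ⊗ₜ Ideal.toCotangent _ x)) hg
  simp only [LinearMap.coe_comp, Function.comp_apply, LinearMap.baseChange_tmul,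
    KaehlerDifferential.kerCotangentToTensor_toCotangent, LinearMap.id_coe, id_eq] at h1
  simpa using h1

variable {I J Q} in
theorem step (hB : CAlgX.IsAdicFormallySmooth A B I)
    (D₀ : Ω[B⁄A] →ₗ[B] ((B ⧸ J) ⧸ Q) ⊗[B] (RingHom.ker (algebraMap B (B ⧸ J))).Cotangent)
    (hD₀ : ∀ x : RingHom.ker (algebraMap B (B ⧸ J)),
        D₀ (KaehlerDifferential.D A B x.1) = 1 ⊗ₜ Ideal.toCotangent _ x)
    {E' E'' : Type u} [CommRing E'] [CommRing E''] [Algebra A E'] [Algebra A E'']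
    (π : E' →ₐ[A] E'') (hπ : Function.Surjective π) (hK : RingHom.ker π ^ 2 = ⊥)
    (ψ : (B ⧸ J) →ₐ[A] E'') (hψ : ∃ k : ℕ, ∀ x ∈ (I.map (Ideal.Quotient.mk J)) ^ k, ψ x = 0)
    (hQ1 : ∀ q ∈ Q, ∀ e : E', π e = ψ q → ∀ n ∈ RingHom.ker π, e * n = 0) :
    ∃ χ : (B ⧸ J) →ₐ[A] E', π.comp χ = ψ := by
  classical
  obtain ⟨k, hk⟩ := hψ
  let φ : B →ₐ[A] E'' := ψ.comp (Ideal.Quotient.mkₐ A J)
  have hφ : ∃ k : ℕ, ∀ x ∈ I ^ k, φ x = 0 := ⟨k, fun x hx => hk _ (by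
    rw [← Ideal.map_pow]; exact Ideal.mem_map_of_mem _ hx)⟩
  obtain ⟨χ₀, hχ₀⟩ := smooth_lift hB π hπ hK φ hφ
  have hχ₀' : ∀ b, π (χ₀ b) = ψ (Ideal.Quotient.mk J b) := fun b => by
    have := congrArg (fun f => f b) hχ₀
    simpa [φ] using this
  let _ : Algebra B E' := χ₀.toRingHom.toAlgebra
  have hsm : ∀ (b : B) (e : E'), b • e = χ₀ b * e := fun b e => rfl
  have _ : IsScalarTower A B E' := IsScalarTower.of_algebraMap_eq (fun a => (χ₀.commutes a).symm)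
  have hmemK : ∀ x : RingHom.ker (algebraMap B (B ⧸ J)), χ₀ x.1 ∈ RingHom.ker π := fun x => by
    rw [RingHom.mem_ker, hχ₀']
    have : Ideal.Quotient.mk J x.1 = 0 := x.2
    rw [this, map_zero]
  let θ₀ : RingHom.ker (algebraMap B (B ⧸ J)) →ₗ[B] (RingHom.ker π : Ideal E') :=
    LinearMap.codRestrict ((RingHom.ker π : Ideal E').restrictScalars B)
      ((Algebra.linearMap B E').comp (Submodule.subtype _)) (fun x => hmemK x)
  have hθ₀ : ∀ x, (θ₀ x : E') = χ₀ x.1 := fun x => rfl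
  have hker : (RingHom.ker (algebraMap B (B ⧸ J))) •
      (⊤ : Submodule B (RingHom.ker (algebraMap B (B ⧸ J)))) ≤ LinearMap.ker θ₀ := by
    rw [Submodule.smul_le]
    intro r hr n _
    rw [LinearMap.mem_ker]
    apply Subtype.ext
    rw [hθ₀]
    have h1 : ((r • n : RingHom.ker (algebraMap B (B ⧸ J))) : B) = r * n.1 := rfl
    rw [h1, map_mul]
    have h2 : χ₀ r * χ₀ n.1 ∈ (RingHom.ker π) ^ 2 := by
      rw [sq]; exact Ideal.mul_mem_mul (hmemK ⟨r, hr⟩) (hmemK n)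
    rw [hK] at h2
    exact h2
  let θ : (RingHom.ker (algebraMap B (B ⧸ J))).Cotangent →ₗ[B] (RingHom.ker π : Ideal E') :=
    Submodule.liftQ _ θ₀ hker
  have hθ : ∀ x, θ (Ideal.toCotangent _ x) = θ₀ x := fun x => rfl
  have hkill : ∀ b : B, algebraMap B ((B ⧸ J) ⧸ Q) b = 0 →
      ∀ n : (RingHom.ker π : Ideal E'), b • n = 0 := by
    intro b hb n
    have hbQ : Ideal.Quotient.mk J b ∈ Q := (algebraMap_CQ_eq_zero J Q b).1 hb
    apply Subtype.ext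
    show b • (n : E') = 0
    rw [hsm]
    exact hQ1 _ hbQ (χ₀ b) (hχ₀' b) n.1 n.2
  obtain ⟨θ', hθ'⟩ := exists_tensor_lift (algebraMap_CQ_surjective J Q) hkill θ
  let h : Ω[B⁄A] →ₗ[B] (RingHom.ker π : Ideal E') := θ' ∘ₗ D₀
  let Dd : Derivation A B (RingHom.ker π : Ideal E') := h.compDer (KaehlerDifferential.D A B)
  have hDd : ∀ b, Dd b = h (KaehlerDifferential.D A B b) := fun b => rfl
  have hDdJ : ∀ x : RingHom.ker (algebraMap B (B ⧸ J)), (Dd x.1 : E') = χ₀ x.1 := by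
    intro x
    rw [hDd]
    show ((θ' (D₀ (KaehlerDifferential.D A B x.1)) : _) : E') = _
    rw [hD₀ x]
    have h1 : (1 : (B ⧸ J) ⧸ Q) = algebraMap B _ 1 := (map_one _).symm
    rw [h1, hθ', one_smul, hθ, hθ₀]
  let χ : B →ₐ[A] E' := liftOfDerivationToSquareZero (RingHom.ker π) hK (-Dd)
  have hχ : ∀ b, χ b = -(Dd b : E') + χ₀ b := fun b => rfl
  have hχJ : ∀ x ∈ J, χ x = 0 := by
    intro x hx
    have hx' : x ∈ RingHom.ker (algebraMap B (B ⧸ J)) := (mem_kerAlg_iff J x).2 hx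
    rw [hχ, hDdJ ⟨x, hx'⟩]
    simp
  refine ⟨Ideal.Quotient.liftₐ J χ hχJ, ?_⟩
  apply Ideal.Quotient.algHom_ext
  ext b
  show π (χ b) = ψ (Ideal.Quotient.mk J b)
  rw [hχ, map_add, map_neg, hχ₀']
  have h1 : π (Dd b : E') = 0 := (Dd b).2
  rw [h1]
  simp

variable {I J Q} in
theorem claim (hB : CAlgX.IsAdicFormallySmooth A B I)
    (D₀ : Ω[B⁄A] →ₗ[B] ((B ⧸ J) ⧸ Q) ⊗[B] (RingHom.ker (algebraMap B (B ⧸ J))).Cotangent)
    (hD₀ : ∀ x : RingHom.ker (algebraMap B (B ⧸ J)),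
        D₀ (KaehlerDifferential.D A B x.1) = 1 ⊗ₜ Ideal.toCotangent _ x) (M : ℕ) :
    ∀ (E' E'' : Type u) [CommRing E'] [CommRing E''] [Algebra A E'] [Algebra A E'']
    (π : E' →ₐ[A] E'') (_ : Function.Surjective π) (_ : RingHom.ker π ^ 2 = ⊥)
    (ψ : (B ⧸ J) →ₐ[A] E'') (_ : ∃ k : ℕ, ∀ x ∈ (I.map (Ideal.Quotient.mk J)) ^ k, ψ x = 0)
    (_ : ∀ q ∈ Q ^ M, ∀ e : E', π e = ψ q → ∀ n ∈ RingHom.ker π, e * n = 0),
    ∃ χ : (B ⧸ J) →ₐ[A] E', π.comp χ = ψ := by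
  induction M with
  | zero =>
    intro E' E'' _ _ _ _ π hπ _ ψ _ hQM
    have hinj : Function.Injective π := by
      rw [injective_iff_map_eq_zero]
      intro n hn
      have := hQM 1 (by simp) 1 (by simp) n hn
      simpa using this
    let ε : E' ≃ₐ[A] E'' := AlgEquiv.ofBijective π ⟨hinj, hπ⟩
    refine ⟨(ε.symm : E'' →ₐ[A] E').comp ψ, ?_⟩
    ext x
    show π (ε.symm (ψ x)) = ψ x
    exact ε.apply_symm_apply (ψ x)
  | succ M ih =>
    intro E' E'' _ _ _ _ π hπ hK ψ hψ hQM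
    obtain ⟨k, hk⟩ := hψ
    let K' : Ideal E' := Ideal.span {z | ∃ q ∈ Q ^ M, ∃ e n : E', π e = ψ q ∧ n ∈ RingHom.ker π ∧
      z = e * n}
    have hK'le : K' ≤ RingHom.ker π := by
      apply Ideal.span_le.2
      rintro z ⟨q, _, e, n, _, hn, rfl⟩
      exact Ideal.mul_mem_left _ _ hn
    let π₁ : (E' ⧸ K') →ₐ[A] E'' := Ideal.Quotient.liftₐ K' π (fun z hz => hK'le hz)
    have hπ₁ : ∀ e, π₁ (Ideal.Quotient.mk K' e) = π e := fun e => rfl
    have hπ₁s : Function.Surjective π₁ := fun y => by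
      obtain ⟨e, rfl⟩ := hπ y
      exact ⟨Ideal.Quotient.mk K' e, rfl⟩
    have hK₁ : RingHom.ker π₁ ^ 2 = ⊥ := by
      rw [eq_bot_iff, sq, Ideal.mul_le]
      intro a ha b hb
      obtain ⟨a', rfl⟩ := Ideal.Quotient.mk_surjective a
      obtain ⟨b', rfl⟩ := Ideal.Quotient.mk_surjective b
      rw [RingHom.mem_ker, hπ₁] at ha hb
      have h2 : a' * b' ∈ (RingHom.ker π) ^ 2 := by
        rw [sq]; exact Ideal.mul_mem_mul ha hb
      rw [hK] at h2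
      have h3 : a' * b' = 0 := h2
      rw [Ideal.mem_bot, ← map_mul, h3, map_zero]
    obtain ⟨χ₁, hχ₁⟩ := ih (E' ⧸ K') E'' π₁ hπ₁s hK₁ ψ ⟨k, hk⟩ (by
      intro q hq e₁ he₁ n₁ hn₁
      obtain ⟨e, rfl⟩ := Ideal.Quotient.mk_surjective e₁
      obtain ⟨n, rfl⟩ := Ideal.Quotient.mk_surjective n₁
      rw [RingHom.mem_ker, hπ₁] at hn₁
      rw [hπ₁] at he₁
      rw [← map_mul]
      exact Ideal.Quotient.eq_zero_iff_mem.2
        (Ideal.subset_span ⟨q, hq, e, n, he₁, hn₁, rfl⟩))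
    have hχ₁' : ∀ x, π₁ (χ₁ x) = ψ x := fun x => by
      have := congrArg (fun f => f x) hχ₁
      simpa using this
    have hkerK' : RingHom.ker (Ideal.Quotient.mkₐ A K') = K' := Ideal.Quotient.mkₐ_ker A K'
    obtain ⟨χ, hχ⟩ := step hB D₀ hD₀ (Ideal.Quotient.mkₐ A K')
      (Ideal.Quotient.mkₐ_surjective A K')
      (by
        rw [hkerK', eq_bot_iff, ← hK]
        exact Ideal.pow_right_mono hK'le 2)
      χ₁
      ⟨k + k, by
        intro x hx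
        rw [pow_add] at hx
        have hle : (I.map (Ideal.Quotient.mk J)) ^ k * (I.map (Ideal.Quotient.mk J)) ^ k ≤
            RingHom.ker χ₁ := by
          rw [Ideal.mul_le]
          intro a ha b hb
          rw [RingHom.mem_ker, map_mul]
          have h1 : χ₁ a ∈ RingHom.ker π₁ := by rw [RingHom.mem_ker, hχ₁', hk a ha]
          have h2 : χ₁ b ∈ RingHom.ker π₁ := by rw [RingHom.mem_ker, hχ₁', hk b hb]
          have h3 : χ₁ a * χ₁ b ∈ (RingHom.ker π₁) ^ 2 := by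
            rw [sq]; exact Ideal.mul_mem_mul h1 h2
          rw [hK₁] at h3
          exact h3
        exact hle hx⟩
      (by
        intro q hq e he n hn
        rw [hkerK'] at hn
        have key : ∀ n ∈ K', e * n = 0 := by
          intro n hn
          refine Submodule.span_induction (p := fun n _ => e * n = 0) ?_ ?_ ?_ ?_ hn
          · rintro z ⟨q₀, hq₀, e₀, n₀, he₀, hn₀, rfl⟩
            rw [← mul_assoc]
            refine hQM (q * q₀) ?_ (e * e₀) ?_ n₀ hn₀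
            · rw [pow_succ, mul_comm q q₀]
              exact Ideal.mul_mem_mul hq₀ hq
            · have he' : π e = ψ q := by
                have := congrArg π₁ he
                rw [hχ₁'] at this
                exact this
              rw [map_mul, map_mul, he', he₀]
          · exact mul_zero e
          · intro x y _ _ hx hy
            rw [mul_add, hx, hy, add_zero]
          · intro a x _ hx
            rw [smul_eq_mul, mul_left_comm, hx, mul_zero]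
        exact key n hn)
    refine ⟨χ, ?_⟩
    ext x
    have h1 : Ideal.Quotient.mk K' (χ x) = χ₁ x := by
      have := congrArg (fun f => f x) hχ
      simpa using this
    show π (χ x) = ψ x
    rw [← hπ₁, h1, hχ₁']

variable {I J Q} in
theorem smooth_of_retraction (hB : CAlgX.IsAdicFormallySmooth A B I)
    (hQ' : ∃ m : ℕ, Q ^ m ≤ I.map (Ideal.Quotient.mk J))
    (g : ((B ⧸ J) ⧸ Q) ⊗[B] ((B ⧸ J) ⊗[B] Ω[B⁄A]) →ₗ[(B ⧸ J) ⧸ Q]
          ((B ⧸ J) ⧸ Q) ⊗[B] (RingHom.ker (algebraMap B (B ⧸ J))).Cotangent)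
    (hg : g ∘ₗ LinearMap.baseChange ((B ⧸ J) ⧸ Q)
        (KaehlerDifferential.kerCotangentToTensor A B (B ⧸ J)) = LinearMap.id) :
    CAlgX.IsAdicFormallySmooth A (B ⧸ J) (I.map (Ideal.Quotient.mk J)) := by
  obtain ⟨D₀, hD₀⟩ := exists_D0 g hg
  obtain ⟨m, hm⟩ := hQ'
  intro E _ _ N hN ψ hψ
  obtain ⟨k, hk⟩ := hψ
  have hker : RingHom.ker (Ideal.Quotient.mkₐ A N) = N := Ideal.Quotient.mkₐ_ker A N
  refine claim hB D₀ hD₀ (m * k) E (E ⧸ N) (Ideal.Quotient.mkₐ A N)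
    (Ideal.Quotient.mkₐ_surjective A N) (by rw [hker, hN]) ψ ⟨k, hk⟩ ?_
  intro q hq e he n hn
  rw [hker] at hn
  have hq' : q ∈ (I.map (Ideal.Quotient.mk J)) ^ k := by
    rw [pow_mul] at hq
    exact Ideal.pow_right_mono hm k hq
  have he0 : e ∈ N := by
    rw [hk q hq'] at he
    exact Ideal.Quotient.eq_zero_iff_mem.1 he
  have h2 : e * n ∈ N ^ 2 := by
    rw [sq]; exact Ideal.mul_mem_mul he0 hn
  rw [hN] at h2
  exact h2

theorem exists_level [IsNoetherianRing B] (I J QB : Ideal B) (r : ℕ) (hIr : I ^ r ≤ QB) :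
    ∃ (n : ℕ) (𝔞 𝔟 : Ideal B), J ^ 2 ≤ 𝔞 ∧ I ^ n ≤ 𝔞 ∧ J ≤ 𝔟 ∧ 𝔟 * 𝔟 ≤ 𝔞 ∧
      (∀ b ∈ QB, ∀ y ∈ 𝔟, b * y ∈ 𝔞) ∧
      (∀ y ∈ 𝔟, ∃ x ∈ J, ∃ z ∈ 𝔞, x + z = y) ∧ (∀ x ∈ J, x ∈ 𝔞 → x ∈ J ^ 2 ⊔ QB * J) := by
  obtain ⟨c, hc⟩ := Ideal.exists_pow_inf_eq_pow_smul I (J : Submodule B B)
  have hAR : I ^ (r + c) ⊓ J ≤ QB * J := by
    have h1 := hc (r + c) (Nat.le_add_left c r)
    intro x hx
    have hx' : x ∈ I ^ (r + c) • (⊤ : Submodule B B) ⊓ (J : Submodule B B) := by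
      refine ⟨?_, hx.2⟩
      have h2 : I ^ (r + c) • (⊤ : Submodule B B) = I ^ (r + c) := by simp
      rw [h2]; exact hx.1
    rw [h1] at hx'
    have hnc : r + c - c = r := by omega
    rw [hnc] at hx'
    exact (Submodule.smul_mono hIr inf_le_right) hx'
  refine ⟨r + c, J ^ 2 ⊔ QB * J ⊔ I ^ (r + c), J ⊔ I ^ (r + c), ?_, ?_, ?_, ?_, ?_, ?_, ?_⟩
  · exact le_sup_of_le_left le_sup_left
  · exact le_sup_right
  · exact le_sup_left
  · rw [Ideal.mul_le]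
    intro a ha b hb
    obtain ⟨x, hx, z, hz, rfl⟩ := Submodule.mem_sup.1 ha
    obtain ⟨x', hx', z', hz', rfl⟩ := Submodule.mem_sup.1 hb
    have h1 : x * x' ∈ J ^ 2 := by rw [sq]; exact Ideal.mul_mem_mul hx hx'
    have h2 : x * z' + z * x' + z * z' ∈ I ^ (r + c) :=
      (I ^ (r + c)).add_mem ((I ^ (r + c)).add_mem (Ideal.mul_mem_left _ _ hz')
        (Ideal.mul_mem_right _ _ hz)) (Ideal.mul_mem_right _ _ hz)
    have h3 : (x + z) * (x' + z') = x * x' + (x * z' + z * x' + z * z') := by ring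
    rw [h3]
    exact Ideal.add_mem _ (Submodule.mem_sup_left (Submodule.mem_sup_left h1))
      (Submodule.mem_sup_right h2)
  · intro b hb y hy
    obtain ⟨x, hx, z, hz, rfl⟩ := Submodule.mem_sup.1 hy
    rw [mul_add]
    exact Ideal.add_mem _
      (Submodule.mem_sup_left (Submodule.mem_sup_right (Ideal.mul_mem_mul hb hx)))
      (Submodule.mem_sup_right (Ideal.mul_mem_left _ _ hz))
  · intro y hy
    obtain ⟨x, hx, z, hz, rfl⟩ := Submodule.mem_sup.1 hy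
    exact ⟨x, hx, z, Submodule.mem_sup_right hz, rfl⟩
  · intro x hxJ hx
    obtain ⟨y, hy, z, hz, rfl⟩ := Submodule.mem_sup.1 hx
    have hyJ : y ∈ J := by
      obtain ⟨a, ha, b, hb, rfl⟩ := Submodule.mem_sup.1 hy
      have haJ : a ∈ J := Ideal.pow_le_self two_ne_zero ha
      have hbJ : b ∈ J := Ideal.mul_le_right hb
      exact J.add_mem haJ hbJ
    have hzJ : z ∈ J := by
      have h1 := J.sub_mem hxJ hyJ
      rwa [add_sub_cancel_left] at h1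
    have hz' : z ∈ QB * J := hAR ⟨hz, hzJ⟩
    exact Submodule.add_mem _ hy (Submodule.mem_sup_right hz')

variable {I J Q} in
theorem retraction_of_smooth [IsNoetherianRing B]
    (hQ : ∃ n : ℕ, (I.map (Ideal.Quotient.mk J)) ^ n ≤ Q)
    (hC : CAlgX.IsAdicFormallySmooth A (B ⧸ J) (I.map (Ideal.Quotient.mk J))) :
    ∃ g : ((B ⧸ J) ⧸ Q) ⊗[B] ((B ⧸ J) ⊗[B] Ω[B⁄A]) →ₗ[(B ⧸ J) ⧸ Q]
          ((B ⧸ J) ⧸ Q) ⊗[B] (RingHom.ker (algebraMap B (B ⧸ J))).Cotangent,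
      g ∘ₗ LinearMap.baseChange ((B ⧸ J) ⧸ Q)
        (KaehlerDifferential.kerCotangentToTensor A B (B ⧸ J)) = LinearMap.id := by
  classical
  obtain ⟨r, hr⟩ := hQ
  obtain ⟨QB, hQBdef⟩ : ∃ QB : Ideal B, QB = Q.comap (Ideal.Quotient.mk J) := ⟨_, rfl⟩
  have hQBmem : ∀ b, b ∈ QB ↔ Ideal.Quotient.mk J b ∈ Q := fun b => by rw [hQBdef]; rfl
  have hJ' : RingHom.ker (algebraMap B (B ⧸ J)) = J := Ideal.mk_ker
  have hIr : I ^ r ≤ QB := by
    intro x hx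
    rw [hQBmem]
    apply hr
    rw [← Ideal.map_pow]
    exact Ideal.mem_map_of_mem _ hx
  obtain ⟨n, 𝔞, 𝔟, hJ2𝔞, hIn𝔞, hJ𝔟, h𝔟sq, hQ𝔟, h𝔟dec, h𝔞J⟩ := exists_level I J QB r hIr
  obtain ⟨N, hNdef⟩ : ∃ N : Ideal (B ⧸ 𝔞), N = 𝔟.map (Ideal.Quotient.mk 𝔞) := ⟨_, rfl⟩
  have hmemN : ∀ e : B ⧸ 𝔞, e ∈ N ↔ ∃ y ∈ 𝔟, Ideal.Quotient.mk 𝔞 y = e :=
    fun e => by rw [hNdef]; exact Ideal.mem_map_iff_of_surjective _ Ideal.Quotient.mk_surjective
  have hN : N ^ 2 = ⊥ := by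
    rw [eq_bot_iff, sq, Ideal.mul_le]
    intro a ha b hb
    obtain ⟨a', ha', rfl⟩ := (hmemN a).1 ha
    obtain ⟨b', hb', rfl⟩ := (hmemN b).1 hb
    rw [Ideal.mem_bot, ← map_mul]
    exact Ideal.Quotient.eq_zero_iff_mem.2 (h𝔟sq (Ideal.mul_mem_mul ha' hb'))
  let ψ : (B ⧸ J) →ₐ[A] (B ⧸ 𝔞) ⧸ N :=
    Ideal.Quotient.liftₐ J ((Ideal.Quotient.mkₐ A N).comp (Ideal.Quotient.mkₐ A 𝔞))
      (fun x hx => by
        show Ideal.Quotient.mk N (Ideal.Quotient.mk 𝔞 x) = 0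
        exact Ideal.Quotient.eq_zero_iff_mem.2 ((hmemN _).2 ⟨x, hJ𝔟 hx, rfl⟩))
  have hψ : ∀ b, ψ (Ideal.Quotient.mk J b) = Ideal.Quotient.mk N (Ideal.Quotient.mk 𝔞 b) :=
    fun b => rfl
  have hψkill : ∃ k : ℕ, ∀ x ∈ (I.map (Ideal.Quotient.mk J)) ^ k, ψ x = 0 := ⟨n, by
    intro x hx
    rw [← Ideal.map_pow] at hx
    obtain ⟨b, hb, rfl⟩ := (Ideal.mem_map_iff_of_surjective _ Ideal.Quotient.mk_surjective).1 hx
    rw [hψ]
    have h0 : Ideal.Quotient.mk 𝔞 b = 0 :=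
      Ideal.Quotient.eq_zero_iff_mem.2 (hIn𝔞 hb)
    rw [h0, map_zero]⟩
  obtain ⟨χ, hχ⟩ := hC (B ⧸ 𝔞) N hN ψ hψkill
  have hχ' : ∀ c, Ideal.Quotient.mk N (χ c) = ψ c := fun c => by
    have := congrArg (fun f => f c) hχ
    simpa using this
  let f : B →ₐ[A] (B ⧸ 𝔞) := χ.comp (Ideal.Quotient.mkₐ A J)
  have hfe : (Ideal.Quotient.mkₐ A N).comp f = IsScalarTower.toAlgHom A B ((B ⧸ 𝔞) ⧸ N) := by
    ext b
    show Ideal.Quotient.mk N (χ (Ideal.Quotient.mk J b)) = _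
    rw [hχ', hψ]
    rfl
  let δ : Derivation A B N := derivationToSquareZeroOfLift N hN f hfe
  have hδ : ∀ b, (δ b : B ⧸ 𝔞) = χ (Ideal.Quotient.mk J b) - Ideal.Quotient.mk 𝔞 b := fun b => rfl
  let h : Ω[B⁄A] →ₗ[B] N := (-δ).liftKaehlerDifferential
  have hh : ∀ b, h (KaehlerDifferential.D A B b) = -δ b := fun b => by
    simp [h]
  have hhJ : ∀ x ∈ J, (h (KaehlerDifferential.D A B x) : B ⧸ 𝔞) = Ideal.Quotient.mk 𝔞 x := by
    intro x hx
    rw [hh]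
    show -(δ x : B ⧸ 𝔞) = _
    rw [hδ, Ideal.Quotient.eq_zero_iff_mem.2 hx, map_zero]
    simp
  have hNkill : ∀ b : B, algebraMap B ((B ⧸ J) ⧸ Q) b = 0 → ∀ nn : N, b • nn = 0 := by
    intro b hb nn
    have hbQ : b ∈ QB := (hQBmem b).2 ((algebraMap_CQ_eq_zero J Q b).1 hb)
    obtain ⟨y, hy, hyn⟩ := (hmemN nn.1).1 nn.2
    apply Subtype.ext
    show b • (nn : B ⧸ 𝔞) = 0
    rw [← hyn, Algebra.smul_def]
    show Ideal.Quotient.mk 𝔞 b * Ideal.Quotient.mk 𝔞 y = 0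
    rw [← map_mul]
    exact Ideal.Quotient.eq_zero_iff_mem.2 (hQ𝔟 b hbQ y hy)
  have hNkillJ : ∀ b : B, algebraMap B (B ⧸ J) b = 0 → ∀ nn : N, b • nn = 0 := by
    intro b hb nn
    apply hNkill b
    show Ideal.Quotient.mk Q (algebraMap B (B ⧸ J) b) = 0
    rw [hb, map_zero]
  obtain ⟨h₁, hh₁⟩ := exists_tensor_lift (S := B ⧸ J) Ideal.Quotient.mk_surjective hNkillJ h
  obtain ⟨h₂, hh₂⟩ := exists_tensor_lift (algebraMap_CQ_surjective J Q) hNkill h₁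
  have hmemN' : ∀ x : RingHom.ker (algebraMap B (B ⧸ J)), Ideal.Quotient.mk 𝔞 x.1 ∈ N := fun x =>
    (hmemN _).2 ⟨x.1, hJ𝔟 ((mem_kerAlg_iff J x.1).1 x.2), rfl⟩
  let θ₀ : RingHom.ker (algebraMap B (B ⧸ J)) →ₗ[B] N :=
    LinearMap.codRestrict (N.restrictScalars B)
      ((Algebra.linearMap B (B ⧸ 𝔞)).comp (Submodule.subtype _)) (fun x => hmemN' x)
  have hθ₀ : ∀ x, (θ₀ x : B ⧸ 𝔞) = Ideal.Quotient.mk 𝔞 x.1 := fun x => rfl
  have hker : (RingHom.ker (algebraMap B (B ⧸ J))) •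
      (⊤ : Submodule B (RingHom.ker (algebraMap B (B ⧸ J)))) ≤ LinearMap.ker θ₀ := by
    rw [Submodule.smul_le]
    intro r hr m _
    rw [LinearMap.mem_ker]
    apply Subtype.ext
    rw [hθ₀]
    have h1 : ((r • m : RingHom.ker (algebraMap B (B ⧸ J))) : B) = r * m.1 := rfl
    rw [h1]
    refine Ideal.Quotient.eq_zero_iff_mem.2 (hJ2𝔞 ?_)
    rw [sq]
    exact Ideal.mul_mem_mul ((mem_kerAlg_iff J r).1 hr) ((mem_kerAlg_iff J m.1).1 m.2)
  let θ : (RingHom.ker (algebraMap B (B ⧸ J))).Cotangent →ₗ[B] N := Submodule.liftQ _ θ₀ hker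
  have hθ : ∀ x, θ (Ideal.toCotangent _ x) = θ₀ x := fun x => rfl
  obtain ⟨eB, heB⟩ := exists_tensor_lift (algebraMap_CQ_surjective J Q) hNkill θ
  let ν : RingHom.ker (algebraMap B (B ⧸ J)) →ₗ[B]
      ((B ⧸ J) ⧸ Q) ⊗[B] (RingHom.ker (algebraMap B (B ⧸ J))).Cotangent :=
    (TensorProduct.mk B ((B ⧸ J) ⧸ Q) _ 1) ∘ₗ (Ideal.toCotangent _)
  have hν : ∀ x, ν x = 1 ⊗ₜ Ideal.toCotangent _ x := fun x => rfl
  have hrep : ∀ t : ((B ⧸ J) ⧸ Q) ⊗[B] (RingHom.ker (algebraMap B (B ⧸ J))).Cotangent,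
      ∃ x, ν x = t := by
    intro t
    induction t using TensorProduct.induction_on with
    | zero => exact ⟨0, map_zero _⟩
    | tmul c m =>
      obtain ⟨b, rfl⟩ := algebraMap_CQ_surjective J Q c
      obtain ⟨x, rfl⟩ := Ideal.toCotangent_surjective _ m
      refine ⟨b • x, ?_⟩
      rw [map_smul, hν, TensorProduct.smul_tmul']
      exact congrArg (fun c => c ⊗ₜ[B] _) (Algebra.algebraMap_eq_smul_one b).symm
    | add t₁ t₂ h₁ h₂ =>
      obtain ⟨x₁, rfl⟩ := h₁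
      obtain ⟨x₂, rfl⟩ := h₂
      exact ⟨x₁ + x₂, map_add _ _ _⟩
  have heν : ∀ x, eB (ν x) = θ₀ x := fun x => by
    have h1 : (1 : (B ⧸ J) ⧸ Q) = algebraMap B _ 1 := (map_one _).symm
    rw [hν, h1, heB, one_smul, hθ]
  have hνker : ∀ x : RingHom.ker (algebraMap B (B ⧸ J)), x.1 ∈ J ^ 2 ⊔ QB * J → ν x = 0 := by
    intro x hx
    obtain ⟨a, ha, b, hb, hab⟩ := Submodule.mem_sup.1 hx
    have haJ : a ∈ RingHom.ker (algebraMap B (B ⧸ J)) :=
      (mem_kerAlg_iff J a).2 (Ideal.pow_le_self two_ne_zero ha)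
    have hbJ : b ∈ RingHom.ker (algebraMap B (B ⧸ J)) :=
      (mem_kerAlg_iff J b).2 (Ideal.mul_le_right hb)
    have hx' : x = ⟨a, haJ⟩ + ⟨b, hbJ⟩ := Subtype.ext hab.symm
    rw [hx', map_add]
    have h1 : ν ⟨a, haJ⟩ = 0 := by
      rw [hν]
      have h0 : Ideal.toCotangent _ (⟨a, haJ⟩ : RingHom.ker (algebraMap B (B ⧸ J))) = 0 := by
        rw [Ideal.toCotangent_eq_zero]
        show a ∈ RingHom.ker (algebraMap B (B ⧸ J)) ^ 2
        have h3 : RingHom.ker (algebraMap B (B ⧸ J)) ^ 2 = J ^ 2 := by rw [hJ']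
        rw [h3]
        exact ha
      rw [h0, TensorProduct.tmul_zero]
    have h2 : ν ⟨b, hbJ⟩ = 0 := by
      have hb' : (⟨b, hbJ⟩ : RingHom.ker (algebraMap B (B ⧸ J))) ∈
          QB • (⊤ : Submodule B (RingHom.ker (algebraMap B (B ⧸ J)))) := by
        rw [Submodule.mem_smul_top_iff]
        show b ∈ QB • (RingHom.ker (algebraMap B (B ⧸ J)))
        rw [hJ']
        exact hb
      have hle : QB • (⊤ : Submodule B (RingHom.ker (algebraMap B (B ⧸ J)))) ≤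
          LinearMap.ker ν := by
        rw [Submodule.smul_le]
        intro q hq y _
        rw [LinearMap.mem_ker, map_smul, hν, TensorProduct.smul_tmul']
        have h0 : q • (1 : (B ⧸ J) ⧸ Q) = 0 :=
          (Algebra.algebraMap_eq_smul_one q).symm.trans
            ((algebraMap_CQ_eq_zero J Q q).2 ((hQBmem q).1 hq))
        exact (congrArg (fun c => c ⊗ₜ[B] _) h0).trans (TensorProduct.zero_tmul _ _)
      exact hle hb'
    rw [h1, h2, add_zero]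
  have hinj : Function.Injective eB := by
    rw [injective_iff_map_eq_zero]
    intro t ht
    obtain ⟨x, rfl⟩ := hrep t
    rw [heν] at ht
    have h0 : Ideal.Quotient.mk 𝔞 x.1 = 0 := by
      have := congrArg Subtype.val ht
      rw [hθ₀] at this
      exact this
    have hx𝔞 : x.1 ∈ 𝔞 := Ideal.Quotient.eq_zero_iff_mem.1 h0
    exact hνker x (h𝔞J x.1 ((mem_kerAlg_iff J x.1).1 x.2) hx𝔞)
  have hsurj : Function.Surjective eB := by
    intro nn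
    obtain ⟨y, hy, hyn⟩ := (hmemN nn.1).1 nn.2
    obtain ⟨x, hx, z, hz, rfl⟩ := h𝔟dec y hy
    have hxJ : x ∈ RingHom.ker (algebraMap B (B ⧸ J)) := (mem_kerAlg_iff J x).2 hx
    refine ⟨ν ⟨x, hxJ⟩, ?_⟩
    rw [heν]
    apply Subtype.ext
    rw [hθ₀, ← hyn, map_add]
    have h0 : Ideal.Quotient.mk 𝔞 z = 0 := Ideal.Quotient.eq_zero_iff_mem.2 hz
    rw [h0, add_zero]
  let eq : (((B ⧸ J) ⧸ Q) ⊗[B] (RingHom.ker (algebraMap B (B ⧸ J))).Cotangent) ≃ₗ[B] N :=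
    LinearEquiv.ofBijective eB ⟨hinj, hsurj⟩
  let gB : ((B ⧸ J) ⧸ Q) ⊗[B] ((B ⧸ J) ⊗[B] Ω[B⁄A]) →ₗ[B]
      ((B ⧸ J) ⧸ Q) ⊗[B] (RingHom.ker (algebraMap B (B ⧸ J))).Cotangent :=
    eq.symm.toLinearMap ∘ₗ h₂
  refine ⟨gB.extendScalarsOfSurjective (algebraMap_CQ_surjective J Q), ?_⟩
  apply LinearMap.ext
  intro t
  obtain ⟨x, rfl⟩ := hrep t
  simp only [LinearMap.comp_apply, LinearMap.id_apply, LinearMap.extendScalarsOfSurjective_apply]
  rw [hν, LinearMap.baseChange_tmul, KaehlerDifferential.kerCotangentToTensor_toCotangent]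
  show eq.symm (h₂ (1 ⊗ₜ (1 ⊗ₜ KaehlerDifferential.D A B x.1))) = _
  rw [LinearEquiv.symm_apply_eq]
  show _ = eB (1 ⊗ₜ _)
  rw [← hν, heν]
  have h1 : (1 : (B ⧸ J) ⧸ Q) = algebraMap B _ 1 := (map_one _).symm
  have h1' : (1 : B ⧸ J) = algebraMap B _ 1 := (map_one _).symm
  rw [h1, hh₂, one_smul, h1', hh₁, one_smul]
  apply Subtype.ext
  rw [hhJ x.1 ((mem_kerAlg_iff J x.1).1 x.2), hθ₀]

end

end Groth.Agent.H87.AdicJac
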