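import Groth.Agent.H87.PowEval
import Groth.Agent.H61.PowerSeriesComplete
import Mathlib.RingTheory.Noetherian.Nilpotent

set_option autoImplicit false
set_option maxHeartbeats 400000

namespace Groth.Agent.H87.NilEval

open MvPowerSeries

theorem isAdicComplete_of_pow_eq_bot {E : Type*} [CommRing E] (N : Ideal E) (M : ℕ)
    (hN : N ^ M = ⊥) : IsAdicComplete N E := by
  have hz : (N ^ M • ⊤ : Submodule E E) = ⊥ := by
    rw [smul_eq_mul, Ideal.mul_top, hN]
  refine { toIsHausdorff := ⟨fun x hx => ?_⟩, toIsPrecomplete := ⟨fun f hf => ⟨f M, fun k => ?_⟩⟩ }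
  · have := hx M
    rw [hz, SModEq.bot] at this
    exact this
  · rcases le_total k M with h | h
    · exact hf h
    · have := hf h
      rw [hz, SModEq.bot] at this
      rw [this]

variable {A E : Type*} [CommRing A] [CommRing E] [Algebra A E] {n : ℕ}

theorem ker_constantCoeff_eq :
    RingHom.ker (constantCoeff : MvPowerSeries (Fin n) A →+* A) =
      Ideal.span (Set.range (X : Fin n → MvPowerSeries (Fin n) A)) := by
  refine le_antisymm (fun f hf => ?_) (Ideal.span_le.2 ?_)
  · rw [RingHom.mem_ker] at hf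
    have := Groth.Agent.H61.PS.mem_span_X_pow_of_coeff_eq_zero 1 f (fun x hx => by
      have hx0 : x = 0 := (Finsupp.degree_eq_zero_iff x).1 (Nat.lt_one_iff.1 hx)
      rw [hx0]; exact hf)
    rwa [pow_one] at this
  · rintro _ ⟨i, rfl⟩
    exact RingHom.mem_ker.2 (constantCoeff_X i)

theorem exists_evalNil (z : Fin n → E) (hz : ∀ i, IsNilpotent (z i)) :
    ∃ (g : MvPowerSeries (Fin n) A →ₐ[A] E) (M : ℕ), (∀ i, g (X i) = z i) ∧
      ∀ f ∈ (Ideal.span (Set.range (X : Fin n → MvPowerSeries (Fin n) A))) ^ M, g f = 0 := by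
  classical
  have hfg : (Ideal.span (Set.range z)).FG := Submodule.fg_span (Set.finite_range z)
  have hNnil : IsNilpotent (Ideal.span (Set.range z)) :=
    hfg.isNilpotent_iff_le_nilradical.2 (Ideal.span_le.2 (by
      rintro _ ⟨i, rfl⟩
      exact (mem_nilradical).2 (hz i)))
  obtain ⟨M, hM⟩ := hNnil
  rw [Ideal.zero_eq_bot] at hM
  have hc : IsAdicComplete (Ideal.span (Set.range z)) E := isAdicComplete_of_pow_eq_bot _ M hM
  obtain ⟨g, -, hg⟩ := Groth.Agent.H87.PowEval.exists_mvEvalₐ (Ideal.span (Set.range z))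
    (Algebra.ofId A E) z (fun i => Ideal.subset_span ⟨i, rfl⟩)
  refine ⟨g, M, hg, fun f hf => ?_⟩
  have h1 : g f ∈ ((Ideal.span (Set.range (X : Fin n → MvPowerSeries (Fin n) A))) ^ M).map g :=
    Ideal.mem_map_of_mem g hf
  rw [Ideal.map_pow, Ideal.map_span, ← Set.range_comp] at h1
  have h2 : (g ∘ (X : Fin n → MvPowerSeries (Fin n) A)) = z := funext hg
  rw [h2, hM] at h1
  exact h1

theorem algHom_ext_of_kills (g g' : MvPowerSeries (Fin n) A →ₐ[A] E) (M : ℕ)
    (hg : ∀ f ∈ (Ideal.span (Set.range (X : Fin n → MvPowerSeries (Fin n) A))) ^ M, g f = 0)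
    (hg' : ∀ f ∈ (Ideal.span (Set.range (X : Fin n → MvPowerSeries (Fin n) A))) ^ M, g' f = 0)
    (h : ∀ i, g (X i) = g' (X i)) : g = g' := by
  have hp : ∀ p : MvPolynomial (Fin n) A,
      g (p : MvPowerSeries (Fin n) A) = g' (p : MvPowerSeries (Fin n) A) := by
    intro p
    induction p using MvPolynomial.induction_on with
    | C a =>
      have e1 : ((MvPolynomial.C a : MvPolynomial (Fin n) A) : MvPowerSeries (Fin n) A) =
          algebraMap A (MvPowerSeries (Fin n) A) a := by
        rw [MvPolynomial.coe_C, MvPowerSeries.algebraMap_apply]; rfl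
      rw [e1, g.commutes, g'.commutes]
    | add p q hp hq => rw [MvPolynomial.coe_add, map_add, map_add, hp, hq]
    | mul_X p i hp => rw [MvPolynomial.coe_mul, MvPolynomial.coe_X, map_mul, map_mul, hp, h i]
  refine AlgHom.ext fun f => ?_
  have hd := Groth.Agent.H61.PS.sub_truncTotal_mem M f
  have e1 : g f = g ((truncTotal M f : MvPolynomial (Fin n) A) : MvPowerSeries (Fin n) A) := by
    have := hg _ hd
    rw [map_sub, sub_eq_zero] at this
    exact this
  have e2 : g' f = g' ((truncTotal M f : MvPolynomial (Fin n) A) : MvPowerSeries (Fin n) A) := by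
    have := hg' _ hd
    rw [map_sub, sub_eq_zero] at this
    exact this
  rw [e1, e2, hp]

end Groth.Agent.H87.NilEval
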