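import Mathlib
import Groth.Agent.H87.PowEval
import Groth.Agent.H87.EqCohen
import Groth.Agent.H61.ObsDimMain
import Groth.Agent.S2452
import Groth.Agent.S2462

set_option autoImplicit false
set_option maxHeartbeats 400000
universe u
open IsLocalRing MvPowerSeries

namespace Groth.Agent.H87.FSField

theorem injective_of_sub_mem_sq {P : Type*} [CommRing P] (𝔫 : Ideal P) [IsHausdorff 𝔫 P]
    (w : P →+* P) (hw : ∀ x, w x - x ∈ 𝔫 ^ 2) : Function.Injective w := by
  have hw1 : ∀ a ∈ 𝔫, w a ∈ 𝔫 := fun a ha => by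
    have h1 : w a = (w a - a) + a := by ring
    rw [h1]
    exact 𝔫.add_mem (Ideal.pow_le_self (by norm_num) (hw a)) ha
  have key : ∀ d : ℕ, ∀ x ∈ 𝔫 ^ d, w x - x ∈ 𝔫 ^ (d + 1) := by
    intro d
    induction d with
    | zero => intro x _; exact Ideal.pow_le_pow_right (by norm_num) (hw x)
    | succ d ih =>
      intro x hx
      rw [pow_succ'] at hx
      refine Submodule.mul_induction_on hx (fun a ha y hy => ?_) (fun x y hx hy => ?_)
      · have h1 : w (a * y) - a * y = w a * (w y - y) + (w a - a) * y := by rw [map_mul]; ring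
        rw [h1]
        refine Ideal.add_mem _ ?_ ?_
        · rw [pow_succ' 𝔫 (d + 1)]
          exact Ideal.mul_mem_mul (hw1 a ha) (ih y hy)
        · have h2 : 𝔫 ^ (d + 1 + 1) = 𝔫 ^ 2 * 𝔫 ^ d := by rw [← pow_add]; congr 1; omega
          rw [h2]
          exact Ideal.mul_mem_mul (hw a) hy
      · have h1 : w (x + y) - (x + y) = (w x - x) + (w y - y) := by rw [map_add]; ring
        rw [h1]; exact Ideal.add_mem _ hx hy
  rw [injective_iff_map_eq_zero]
  intro x hx
  have h2 : ∀ d : ℕ, x ∈ 𝔫 ^ d := by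
    intro d
    induction d with
    | zero => simp
    | succ d ih =>
      have h3 := key d x ih
      rw [hx, zero_sub] at h3
      exact (Ideal.neg_mem_iff _).1 h3
  exact IsHausdorff.haus' (I := 𝔫) x (fun n => by
    rw [SModEq.zero, smul_eq_mul, Ideal.mul_top]; exact h2 n)

theorem smooth_of_equiv {k B B' : Type u} [CommRing k] [CommRing B] [CommRing B'] [Algebra k B]
    [Algebra k B'] (e : B ≃ₐ[k] B') (𝔞 : Ideal k) (𝔟 : Ideal B) (𝔟' : Ideal B')
    (hb : ∀ x ∈ 𝔟, e x ∈ 𝔟') (h : EGA41.IsFormallySmoothAdic k 𝔞 B 𝔟) :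
    EGA41.IsFormallySmoothAdic k 𝔞 B' 𝔟' := by
  intro C _ _ J hJ ha u hu
  obtain ⟨j, hj⟩ := hu
  have hb' : 𝔟.map (e : B →+* B') ≤ 𝔟' := by
    rw [Ideal.map_le_iff_le_comap]; intro x hx; exact hb x hx
  obtain ⟨v, hv⟩ := h C J hJ ha (u.comp e.toAlgHom) ⟨j, fun x hx => by
    show u (e x) = 0
    apply hj
    refine Ideal.pow_right_mono hb' j ?_
    rw [← Ideal.map_pow]
    exact Ideal.mem_map_of_mem _ hx⟩
  refine ⟨v.comp e.symm.toAlgHom, ?_⟩
  ext x
  have := AlgHom.congr_fun hv (e.symm x)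
  simpa using this

theorem ps_equiv_of_smooth {k R : Type u} [Field k] [CommRing R] [IsLocalRing R]
    [IsNoetherianRing R] [Algebra k R] [IsAdicComplete (maximalIdeal R) R]
    [Algebra.IsGeometricallyReduced k (ResidueField R)]
    (h : EGA41.IsFormallySmoothAdic k ⊥ R (maximalIdeal R)) :
    ∃ (n : ℕ) (σ : ResidueField R →ₐ[k] R) (e : MvPowerSeries (Fin n) (ResidueField R) ≃ₐ[k] R),
      (∀ x, residue R (σ x) = x) ∧ ∀ c, e (C c) = σ c := by
  classical
  obtain ⟨σ, hσ⟩ := Groth.Agent.S2452.result (k := k) (A := R)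
  obtain ⟨n, hn⟩ : ∃ n, n = Module.finrank (ResidueField R) (CotangentSpace R) := ⟨_, rfl⟩
  let b : Module.Basis (Fin n) (ResidueField R) (CotangentSpace R) :=
    (Module.finBasis (ResidueField R) (CotangentSpace R)).reindex (finCongr hn.symm)
  have hτ : ∀ i, ∃ τ : maximalIdeal R, (maximalIdeal R).toCotangent τ = b i :=
    fun i => Ideal.toCotangent_surjective _ _
  choose τ hτ using hτ
  have hspan : Ideal.span (Set.range fun i => (τ i : R)) = maximalIdeal R := by
    have h1 : Submodule.span (ResidueField R) ((maximalIdeal R).toCotangent '' Set.range τ) = ⊤ := by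
      rw [← Set.range_comp]
      have h0 : ((maximalIdeal R).toCotangent ∘ τ) = b := funext hτ
      rw [h0]; exact b.span_eq
    rw [CotangentSpace.span_image_eq_top_iff] at h1
    have h2 := congrArg (Submodule.map (maximalIdeal R).subtype) h1
    rw [Submodule.map_span, Submodule.map_top, Submodule.range_subtype, ← Set.range_comp] at h2
    exact h2
  have _ : IsAdicComplete (maximalIdeal (ResidueField R)) (ResidueField R) :=
    Groth.Agent.H61.Obs.field_isAdicComplete _
  obtain ⟨ψ, hψC, hψX⟩ := Groth.Agent.H87.PowEval.exists_mvEvalₐ (maximalIdeal R) σ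
    (fun i => (τ i : R)) (fun i => (τ i).2)
  have hsurj : Function.Surjective ψ :=
    Groth.Agent.H87.EqCohen.surjective_of_section (fun i => (τ i : R)) hspan ψ.toRingHom hψX
      (fun a => ⟨residue R a, by
        show a - ψ (C (residue R a)) ∈ _
        rw [hψC, ← residue_eq_zero_iff, map_sub, hσ, sub_self]⟩)
  have hmap : ∀ f ∈ maximalIdeal (MvPowerSeries (Fin n) (ResidueField R)),
      ψ f ∈ maximalIdeal R := by
    have h1 : (maximalIdeal (MvPowerSeries (Fin n) (ResidueField R))).map ψ.toRingHom ≤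
        maximalIdeal R := by
      rw [Groth.Agent.H87.EqCohen.ps_maximalIdeal_eq, Ideal.map_span, Ideal.span_le]
      rintro _ ⟨_, ⟨i, rfl⟩, rfl⟩
      show ψ (X i) ∈ _
      rw [hψX]; exact (τ i).2
    exact fun f hf => h1 (Ideal.mem_map_of_mem _ hf)
  have hres : ∀ f : MvPowerSeries (Fin n) (ResidueField R),
      residue R (ψ f) = constantCoeff f := by
    intro f
    have h1 : f - C (constantCoeff f) ∈ maximalIdeal (MvPowerSeries (Fin n) (ResidueField R)) := by
      rw [Groth.Agent.H61.PS.mem_maximalIdeal_iff, map_sub, constantCoeff_C, sub_self]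
      exact Ideal.zero_mem _
    have h2 := hmap _ h1
    rw [map_sub, hψC, ← residue_eq_zero_iff, map_sub, hσ, sub_eq_zero] at h2
    exact h2
  have hmem : ∀ f : MvPowerSeries (Fin n) (ResidueField R),
      f ∈ maximalIdeal (MvPowerSeries (Fin n) (ResidueField R)) ↔ residue R (ψ f) = 0 := by
    intro f
    rw [Groth.Agent.H61.PS.mem_maximalIdeal_iff, hres, IsLocalRing.maximalIdeal_eq_bot,
      Ideal.mem_bot]
  have hker : RingHom.ker ψ ≤ maximalIdeal (MvPowerSeries (Fin n) (ResidueField R)) ^ 2 := by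
    intro f hf
    rw [RingHom.mem_ker] at hf
    have hf0 : f ∈ maximalIdeal (MvPowerSeries (Fin n) (ResidueField R)) := by
      rw [hmem, hf, map_zero]
    rw [Groth.Agent.H87.EqCohen.ps_maximalIdeal_eq, Ideal.mem_span_range_iff_exists_fun] at hf0
    obtain ⟨g, hg⟩ := hf0
    have h1 : ∑ i, ψ (g i) • τ i = 0 := by
      apply Subtype.ext
      rw [Submodule.coe_sum, Submodule.coe_zero, ← hf, ← hg, map_sum]
      refine Finset.sum_congr rfl fun i _ => ?_
      rw [Submodule.coe_smul, smul_eq_mul, map_mul, hψX]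
    have h2 : ∑ i, residue R (ψ (g i)) • b i = 0 := by
      have h3 := congrArg (maximalIdeal R).toCotangent h1
      rw [map_sum, map_zero] at h3
      rw [← h3]
      refine Finset.sum_congr rfl fun i _ => ?_
      rw [map_smul, hτ]
      exact algebraMap_smul (ResidueField R) (ψ (g i)) (b i)
    have h3 := Fintype.linearIndependent_iff.1 b.linearIndependent _ h2
    rw [← hg, pow_two]
    refine Ideal.sum_mem _ fun i _ => Ideal.mul_mem_mul ?_ (Groth.Agent.H61.PS.X_mem_maximalIdeal i)
    rw [hmem, h3 i]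
  let u : R →ₐ[k] MvPowerSeries (Fin n) (ResidueField R) ⧸
      maximalIdeal (MvPowerSeries (Fin n) (ResidueField R)) ^ 2 :=
    (Ideal.Quotient.factorₐ k hker).comp
      (Ideal.quotientKerAlgEquivOfSurjective hsurj).symm.toAlgHom
  have hu : ∀ f, u (ψ f) = Ideal.Quotient.mk _ f := by
    intro f
    have h1 : (Ideal.quotientKerAlgEquivOfSurjective hsurj).symm (ψ f) =
        Ideal.Quotient.mk _ f := by
      rw [AlgEquiv.symm_apply_eq]; rfl
    show Ideal.Quotient.factorₐ k hker
      ((Ideal.quotientKerAlgEquivOfSurjective hsurj).symm (ψ f)) = _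
    rw [h1]; rfl
  have hne : maximalIdeal (MvPowerSeries (Fin n) (ResidueField R)) ^ 2 ≠ ⊤ := fun h0 =>
    (maximalIdeal.isMaximal _).ne_top
      (top_le_iff.1 (h0 ▸ Ideal.pow_le_self (by norm_num)))
  obtain ⟨v, -, hv2⟩ := Groth.Agent.S2462.result (A := k) (⊥ : Ideal k) (maximalIdeal R) h
    (C := MvPowerSeries (Fin n) (ResidueField R)) (by rw [Ideal.map_bot]; exact bot_le)
    (maximalIdeal (MvPowerSeries (Fin n) (ResidueField R)) ^ 2) hne u (by
      rw [Ideal.map_le_iff_le_comap]; intro x hx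
      obtain ⟨f, rfl⟩ := hsurj x
      rw [Ideal.mem_comap]
      show u (ψ f) ∈ _
      rw [hu]
      apply Ideal.mem_map_of_mem
      rw [hmem, residue_eq_zero_iff]; exact hx)
  have hw : ∀ f, (v.comp ψ).toRingHom f - f ∈
      maximalIdeal (MvPowerSeries (Fin n) (ResidueField R)) ^ 2 := by
    intro f
    have h1 : Ideal.Quotient.mk _ (v (ψ f)) = u (ψ f) := by rw [← hv2]; rfl
    rw [hu] at h1
    rw [← Ideal.Quotient.eq]; exact h1
  have hinj : Function.Injective ψ := by
    have h1 := injective_of_sub_mem_sq _ (v.comp ψ).toRingHom hw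
    exact Function.Injective.of_comp (f := v) h1
  refine ⟨n, σ, AlgEquiv.ofBijective ψ ⟨hinj, hsurj⟩, hσ, fun c => ?_⟩
  show ψ (C c) = σ c
  exact hψC c

end Groth.Agent.H87.FSField
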