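import Mathlib
import Groth.Agent.S4529
import Groth.Prelude.Def_CAlgX
import Groth.Agent.H44.MacLaneAll
import Groth.Agent.H44.CoeffField
import Groth.Agent.H87.AdicJac

set_option autoImplicit false
set_option maxHeartbeats 400000
universe u
open IsLocalRing TensorProduct
open scoped KaehlerDifferential

namespace Groth.Agent.H87.FSTower

theorem exists_extension_of_injective_lTensor {A : Type u} [CommRing A] [IsLocalRing A]
    {M N Q : Type*} [AddCommGroup M] [Module A M] [AddCommGroup N] [Module A N]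
    [AddCommGroup Q] [Module A Q] (f : M →ₗ[A] N)
    (hf : Function.Injective (f.lTensor (ResidueField A)))
    (hQ : ∀ a ∈ maximalIdeal A, ∀ x : Q, a • x = 0) (q : M →ₗ[A] Q) :
    ∃ q' : N →ₗ[A] Q, q' ∘ₗ f = q := by
  have hQ' : Module.IsTorsionBySet A Q (maximalIdeal A : Set A) := fun x a => hQ a.1 a.2 x
  let _ : Module (ResidueField A) Q := hQ'.module
  have _ : IsScalarTower A (ResidueField A) Q := hQ'.isScalarTower
  have hinj : Function.Injective (f.baseChange (ResidueField A)) := by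
    intro x y hxy
    apply hf
    have := LinearMap.baseChange_eq_ltensor (A := ResidueField A) f
    exact (congrFun this x).symm.trans (hxy.trans (congrFun this y))
  obtain ⟨ρ, hρ⟩ := LinearMap.exists_leftInverse_of_injective (f.baseChange (ResidueField A))
    (LinearMap.ker_eq_bot.2 hinj)
  refine ⟨((LinearMap.liftBaseChange (ResidueField A) q ∘ₗ ρ).restrictScalars A) ∘ₗ
    (TensorProduct.mk A (ResidueField A) N 1), ?_⟩
  ext x
  have h1 : ρ ((1 : ResidueField A) ⊗ₜ[A] f x) = (1 : ResidueField A) ⊗ₜ[A] x := by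
    have := LinearMap.congr_fun hρ ((1 : ResidueField A) ⊗ₜ[A] x)
    simpa using this
  simp [h1]

theorem exists_extension_of_projective {A : Type u} [CommRing A] [IsLocalRing A]
    {M N : Type u} {E : Type*} [AddCommGroup M] [Module A M] [AddCommGroup N] [Module A N]
    [AddCommGroup E] [Module A E] (f : M →ₗ[A] N)
    (hf : Function.Injective (f.lTensor (ResidueField A))) (j : ℕ)
    (hN : Module.Projective (A ⧸ maximalIdeal A ^ j) ((A ⧸ maximalIdeal A ^ j) ⊗[A] N))
    (hE : ∀ a ∈ maximalIdeal A ^ j, ∀ x : E, a • x = 0) (g : M →ₗ[A] E) :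
    ∃ g' : N →ₗ[A] E, g' ∘ₗ f = g := by
  have hE' : Module.IsTorsionBySet A E ((maximalIdeal A ^ j : Ideal A) : Set A) :=
    fun x a => hE a.1 a.2 x
  let _ : Module (A ⧸ maximalIdeal A ^ j) E := hE'.module
  have _ : IsScalarTower A (A ⧸ maximalIdeal A ^ j) E := hE'.isScalarTower
  obtain ⟨𝔯, h𝔯d⟩ : ∃ 𝔯 : Ideal (A ⧸ maximalIdeal A ^ j),
      𝔯 = (maximalIdeal A).map (Ideal.Quotient.mk (maximalIdeal A ^ j)) := ⟨_, rfl⟩
  have h𝔯 : IsNilpotent 𝔯 := ⟨j, by
    rw [h𝔯d, ← Ideal.map_pow, Ideal.zero_eq_bot, Ideal.map_quotient_self]⟩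
  have hv : ∃ v : ((A ⧸ maximalIdeal A ^ j) ⊗[A] N) →ₗ[A ⧸ maximalIdeal A ^ j]
      ((A ⧸ maximalIdeal A ^ j) ⊗[A] M) ⧸
        (𝔯 • ⊤ : Submodule (A ⧸ maximalIdeal A ^ j) ((A ⧸ maximalIdeal A ^ j) ⊗[A] M)),
      v ∘ₗ f.baseChange (A ⧸ maximalIdeal A ^ j) =
        (𝔯 • ⊤ : Submodule (A ⧸ maximalIdeal A ^ j) ((A ⧸ maximalIdeal A ^ j) ⊗[A] M)).mkQ := by
    obtain ⟨q', hq'⟩ := exists_extension_of_injective_lTensor f hf
      (Q := ((A ⧸ maximalIdeal A ^ j) ⊗[A] M) ⧸
        (𝔯 • ⊤ : Submodule (A ⧸ maximalIdeal A ^ j) ((A ⧸ maximalIdeal A ^ j) ⊗[A] M)))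
      (fun a ha x => by
        obtain ⟨y, rfl⟩ := Submodule.Quotient.mk_surjective _ x
        rw [← Submodule.Quotient.mk_smul, Submodule.Quotient.mk_eq_zero,
          ← algebraMap_smul (A ⧸ maximalIdeal A ^ j) a y]
        refine Submodule.smul_mem_smul ?_ Submodule.mem_top
        rw [h𝔯d]
        exact Ideal.mem_map_of_mem _ ha)
      (((𝔯 • ⊤ : Submodule (A ⧸ maximalIdeal A ^ j)
          ((A ⧸ maximalIdeal A ^ j) ⊗[A] M)).mkQ.restrictScalars A) ∘ₗ
        (TensorProduct.mk A (A ⧸ maximalIdeal A ^ j) M 1))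
    refine ⟨LinearMap.liftBaseChange (A ⧸ maximalIdeal A ^ j) q', ?_⟩
    apply TensorProduct.AlgebraTensorModule.ext
    intro r x
    have h1 : q' (f x) = Submodule.Quotient.mk ((1 : A ⧸ maximalIdeal A ^ j) ⊗ₜ[A] x) :=
      LinearMap.congr_fun hq' x
    have h2 : r ⊗ₜ[A] x = r • ((1 : A ⧸ maximalIdeal A ^ j) ⊗ₜ[A] x) := by
      rw [TensorProduct.smul_tmul', smul_eq_mul, mul_one]
    rw [LinearMap.comp_apply, LinearMap.baseChange_tmul, LinearMap.liftBaseChange_tmul, h1,
      Submodule.mkQ_apply, h2, Submodule.Quotient.mk_smul]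
  obtain ⟨w, hw⟩ := (Groth.Agent.S4529.result (f.baseChange (A ⧸ maximalIdeal A ^ j)) 𝔯
    (Or.inl h𝔯)).2 hv
  refine ⟨((LinearMap.liftBaseChange (A ⧸ maximalIdeal A ^ j) g ∘ₗ w).restrictScalars A) ∘ₗ
    (TensorProduct.mk A (A ⧸ maximalIdeal A ^ j) N 1), ?_⟩
  ext x
  have h1 : w ((1 : A ⧸ maximalIdeal A ^ j) ⊗ₜ[A] f x) =
      (1 : A ⧸ maximalIdeal A ^ j) ⊗ₜ[A] x := by
    have := LinearMap.congr_fun hw ((1 : A ⧸ maximalIdeal A ^ j) ⊗ₜ[A] x)
    simpa using this
  simp [h1]

theorem D_algebraMap_bot_eq_zero {k A : Type*} [Field k] [CommRing A] [Algebra k A]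
    (c : (⊥ : Subfield k)) :
    KaehlerDifferential.D ℤ A (algebraMap (⊥ : Subfield k) A c) = 0 :=
  Groth.Agent.H44.CoeffField.derivation_bot_eq_zero
    ((KaehlerDifferential.D ℤ A).compAlgebraMap k) c.2

noncomputable def kaehlerEquivBot (k A : Type u) [Field k] [CommRing A] [Algebra k A] :
    Ω[A⁄ℤ] ≃ₗ[A] Ω[A⁄(⊥ : Subfield k)] :=
  LinearEquiv.ofLinearMap (KaehlerDifferential.map ℤ (⊥ : Subfield k) A A)
    ((Groth.Agent.H44.MacLane.derivationOfKills (R := (⊥ : Subfield k))
      (KaehlerDifferential.D ℤ A) D_algebraMap_bot_eq_zero).liftKaehlerDifferential)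
    (by apply Derivation.liftKaehlerDifferential_unique; ext a; simp)
    (by apply Derivation.liftKaehlerDifferential_unique; ext a; simp)

theorem projective_kaehler_int {k A : Type u} [Field k] [CommRing A] [Algebra k A]
    (I : Ideal A)
    (h : Module.Projective (A ⧸ I) ((A ⧸ I) ⊗[A] Ω[A⁄(⊥ : Subfield k)])) :
    Module.Projective (A ⧸ I) ((A ⧸ I) ⊗[A] Ω[A⁄ℤ]) :=
  Module.Projective.of_equiv ((kaehlerEquivBot k A).symm.baseChange (A := A ⧸ I))

theorem exists_derivation_extension {k A : Type u} [Field k] [CommRing A] [IsLocalRing A]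
    [Algebra k A]
    (hinj : Function.Injective
      ((KaehlerDifferential.mapBaseChange ℤ k A).lTensor (ResidueField A)))
    (j : ℕ)
    (hproj : Module.Projective (A ⧸ maximalIdeal A ^ j)
      ((A ⧸ maximalIdeal A ^ j) ⊗[A] Ω[A⁄ℤ]))
    {E : Type*} [AddCommGroup E] [Module A E] [Module k E] [IsScalarTower k A E]
    (hE : ∀ a ∈ maximalIdeal A ^ j, ∀ x : E, a • x = 0) (d : Derivation ℤ k E) :
    ∃ D : Derivation ℤ A E, ∀ x : k, D (algebraMap k A x) = d x := by
  obtain ⟨g', hg'⟩ := exists_extension_of_projective (KaehlerDifferential.mapBaseChange ℤ k A)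
    hinj j hproj hE (LinearMap.liftBaseChange A d.liftKaehlerDifferential)
  refine ⟨g'.compDer (KaehlerDifferential.D ℤ A), fun x => ?_⟩
  have h1 := LinearMap.congr_fun hg' ((1 : A) ⊗ₜ[k] KaehlerDifferential.D ℤ k x)
  rw [LinearMap.comp_apply, KaehlerDifferential.mapBaseChange_tmul, one_smul,
    KaehlerDifferential.map_D, LinearMap.liftBaseChange_tmul, one_smul,
    Derivation.liftKaehlerDifferential_comp_D] at h1
  exact h1

theorem smooth_of_smooth_bot_of_injective {k A : Type u} [Field k] [CommRing A] [IsLocalRing A]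
    [Algebra k A]
    (h₀ : CAlgX.IsAdicFormallySmooth (⊥ : Subfield k) A (maximalIdeal A))
    (hproj : ∀ j : ℕ, Module.Projective (A ⧸ maximalIdeal A ^ j)
      ((A ⧸ maximalIdeal A ^ j) ⊗[A] Ω[A⁄ℤ]))
    (hinj : Function.Injective
      ((KaehlerDifferential.mapBaseChange ℤ k A).lTensor (ResidueField A))) :
    CAlgX.IsAdicFormallySmooth k A (maximalIdeal A) := by
  intro C _ _ J hJ ψ hψ
  obtain ⟨j, hj⟩ := hψ
  obtain ⟨χ₀, hχ₀⟩ := h₀ C J hJ (ψ.restrictScalars (⊥ : Subfield k)) ⟨j, hj⟩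
  have hχ₀' : ∀ a : A, Ideal.Quotient.mk J (χ₀ a) = ψ a := fun a => AlgHom.congr_fun hχ₀ a
  let _ : Algebra A C := χ₀.toRingHom.toAlgebra
  have halg : ∀ a : A, algebraMap A C a = χ₀ a := fun a => rfl
  have hJJ : ∀ x ∈ J, ∀ y ∈ J, x * y = 0 := fun x hx y hy => by
    have h1 := Ideal.mul_mem_mul hx hy
    rw [← pow_two, hJ] at h1
    exact h1
  have hdiff : ∀ x : k, χ₀ (algebraMap k A x) - algebraMap k C x ∈ J := by
    intro x
    rw [← Ideal.Quotient.eq, hχ₀', AlgHom.commutes]
    rfl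
  have _ : IsScalarTower k A J := ⟨fun x a y => by
    apply Subtype.ext
    rw [Submodule.coe_smul_of_tower, Submodule.coe_smul_of_tower, Submodule.coe_smul_of_tower,
      Algebra.smul_def, Algebra.smul_def (R := k) (A := C), Algebra.smul_def (R := A) (A := C)]
    rw [halg, halg, Algebra.smul_def, map_mul]
    have h1 := hJJ _ (hdiff x) _ (J.mul_mem_left (χ₀ a) y.2)
    rw [sub_mul, sub_eq_zero] at h1
    rw [mul_assoc, h1]⟩
  let f : k →ₐ[ℤ] C := ((χ₀ : A →+* C).comp (algebraMap k A)).toIntAlgHom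
  have hf : ∀ x, f x = χ₀ (algebraMap k A x) := fun x => rfl
  let d : Derivation ℤ k J := derivationToSquareZeroOfLift J hJ f (by
    ext x
    show Ideal.Quotient.mk J (f x) = algebraMap k (C ⧸ J) x
    rw [hf, hχ₀', AlgHom.commutes])
  have hd : ∀ x, ((d x : J) : C) = χ₀ (algebraMap k A x) - algebraMap k C x := fun x => rfl
  obtain ⟨D, hD⟩ := exists_derivation_extension hinj j (hproj j) (E := J)
    (fun a ha y => by
      apply Subtype.ext
      rw [Submodule.coe_smul_of_tower, Algebra.smul_def, Submodule.coe_zero, halg]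
      refine hJJ _ ?_ _ y.2
      rw [← Ideal.Quotient.eq_zero_iff_mem, hχ₀']
      exact hj a ha) d
  let χ : A →ₐ[ℤ] C := liftOfDerivationToSquareZero J hJ (-D)
  have hχ : ∀ a, χ a = -(D a : C) + χ₀ a := fun a => rfl
  refine ⟨{ χ.toRingHom with
    commutes' := fun x => by
      show χ (algebraMap k A x) = algebraMap k C x
      rw [hχ, hD, hd]; ring }, ?_⟩
  ext a
  show Ideal.Quotient.mk J (χ a) = ψ a
  rw [hχ, map_add, map_neg, Ideal.Quotient.eq_zero_iff_mem.2 (D a).2, neg_zero, zero_add, hχ₀']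

noncomputable def mkHom {k K : Type u} [CommRing k] [CommRing K] [Algebra k K]
    (d : Derivation ℤ k K) : k →+* TrivSqZeroExt K K where
  toFun x := TrivSqZeroExt.inl (algebraMap k K x) + TrivSqZeroExt.inr (d x)
  map_one' := by
    apply TrivSqZeroExt.ext
    · simp only [TrivSqZeroExt.fst_add, TrivSqZeroExt.fst_inl, TrivSqZeroExt.fst_inr, map_one,
        add_zero, TrivSqZeroExt.fst_one]
    · simp only [TrivSqZeroExt.snd_add, TrivSqZeroExt.snd_inl, TrivSqZeroExt.snd_inr,
        Derivation.map_one_eq_zero, add_zero, TrivSqZeroExt.snd_one]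
  map_mul' x y := by
    apply TrivSqZeroExt.ext
    · simp only [TrivSqZeroExt.fst_add, TrivSqZeroExt.fst_inl, TrivSqZeroExt.fst_inr, map_mul,
        add_zero, TrivSqZeroExt.fst_mul]
    · simp only [TrivSqZeroExt.snd_add, TrivSqZeroExt.snd_inl, TrivSqZeroExt.snd_inr,
        TrivSqZeroExt.fst_add, TrivSqZeroExt.fst_inl, TrivSqZeroExt.fst_inr,
        Derivation.leibniz, zero_add, add_zero, TrivSqZeroExt.snd_mul, Algebra.smul_def,
        MulOpposite.smul_eq_mul_unop, MulOpposite.unop_op, Algebra.algebraMap_self, RingHom.id_apply]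
      ring
  map_zero' := by
    apply TrivSqZeroExt.ext
    · simp only [TrivSqZeroExt.fst_add, TrivSqZeroExt.fst_inl, TrivSqZeroExt.fst_inr, map_zero,
        add_zero, TrivSqZeroExt.fst_zero]
    · simp only [TrivSqZeroExt.snd_add, TrivSqZeroExt.snd_inl, TrivSqZeroExt.snd_inr,
        map_zero, add_zero, TrivSqZeroExt.snd_zero]
  map_add' x y := by
    apply TrivSqZeroExt.ext
    · simp only [TrivSqZeroExt.fst_add, TrivSqZeroExt.fst_inl, TrivSqZeroExt.fst_inr, map_add,
        add_zero]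
    · simp only [TrivSqZeroExt.snd_add, TrivSqZeroExt.snd_inl, TrivSqZeroExt.snd_inr,
        map_add, zero_add]

theorem exists_derivation_of_smooth {k A : Type u} [Field k] [CommRing A] [IsLocalRing A]
    [Algebra k A] (h : CAlgX.IsAdicFormallySmooth k A (maximalIdeal A))
    (d : Derivation ℤ k (ResidueField A)) :
    ∃ D' : Derivation ℤ A (ResidueField A), ∀ x, D' (algebraMap k A x) = d x := by
  letI : Algebra k (TrivSqZeroExt (ResidueField A) (ResidueField A)) := (mkHom d).toAlgebra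
  have halg : ∀ x : k, algebraMap k (TrivSqZeroExt (ResidueField A) (ResidueField A)) x =
      TrivSqZeroExt.inl (algebraMap k (ResidueField A) x) + TrivSqZeroExt.inr (d x) := fun x => rfl
  let π : TrivSqZeroExt (ResidueField A) (ResidueField A) →ₐ[k] ResidueField A :=
    { toRingHom :=
        (TrivSqZeroExt.fstHom (ResidueField A) (ResidueField A) (ResidueField A)).toRingHom
      commutes' := fun x => by
        show TrivSqZeroExt.fst
          (algebraMap k (TrivSqZeroExt (ResidueField A) (ResidueField A)) x) = _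
        rw [halg]
        simp only [TrivSqZeroExt.fst_add, TrivSqZeroExt.fst_inl, TrivSqZeroExt.fst_inr,
          add_zero] }
  have hπ : ∀ z, π z = TrivSqZeroExt.fst z := fun z => rfl
  have hsurj : Function.Surjective π :=
    fun c => ⟨TrivSqZeroExt.inl c, by rw [hπ, TrivSqZeroExt.fst_inl]⟩
  have hker : RingHom.ker π ^ 2 = ⊥ := by
    rw [pow_two, eq_bot_iff, Ideal.mul_le]
    intro a ha b hb
    rw [RingHom.mem_ker, hπ] at ha hb
    rw [Ideal.mem_bot]
    apply TrivSqZeroExt.ext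
    · rw [TrivSqZeroExt.fst_mul, ha, zero_mul, TrivSqZeroExt.fst_zero]
    · rw [TrivSqZeroExt.snd_mul, ha, hb, zero_smul, MulOpposite.op_zero, zero_smul, add_zero,
        TrivSqZeroExt.snd_zero]
  obtain ⟨χ, hχ⟩ := Groth.Agent.H87.AdicJac.smooth_lift h π hsurj hker
    (IsScalarTower.toAlgHom k A (ResidueField A)) ⟨1, fun a ha => by
      rw [pow_one] at ha
      show algebraMap A (ResidueField A) a = 0
      rw [ResidueField.algebraMap_eq, residue_eq_zero_iff]; exact ha⟩
  have hfst : ∀ a, TrivSqZeroExt.fst (χ a) = residue A a := fun a => AlgHom.congr_fun hχ a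
  let D₀ : A →+ ResidueField A :=
    { toFun := fun a => TrivSqZeroExt.snd (χ a)
      map_zero' := by rw [map_zero, TrivSqZeroExt.snd_zero]
      map_add' := fun a b => by rw [map_add, TrivSqZeroExt.snd_add] }
  refine ⟨Derivation.mk' D₀.toIntLinearMap (fun a b => ?_), fun x => ?_⟩
  · show TrivSqZeroExt.snd (χ (a * b)) =
      a • TrivSqZeroExt.snd (χ b) + b • TrivSqZeroExt.snd (χ a)
    rw [map_mul, TrivSqZeroExt.snd_mul, hfst, hfst, MulOpposite.smul_eq_mul_unop,
      MulOpposite.unop_op, smul_eq_mul, Algebra.smul_def a, Algebra.smul_def b,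
      ResidueField.algebraMap_eq]
    ring
  · show TrivSqZeroExt.snd (χ (algebraMap k A x)) = d x
    rw [χ.commutes, halg]
    simp only [TrivSqZeroExt.snd_add, TrivSqZeroExt.snd_inl, TrivSqZeroExt.snd_inr, zero_add]

theorem injective_of_forall_exists_derivation {k A : Type u} [Field k] [CommRing A]
    [IsLocalRing A] [Algebra k A]
    (hext : ∀ d : Derivation ℤ k (ResidueField A),
      ∃ D' : Derivation ℤ A (ResidueField A), ∀ x, D' (algebraMap k A x) = d x) :
    Function.Injective ((KaehlerDifferential.mapBaseChange ℤ k A).lTensor (ResidueField A)) := by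
  have hcoe : ⇑((KaehlerDifferential.mapBaseChange ℤ k A).lTensor (ResidueField A)) =
      ⇑((KaehlerDifferential.mapBaseChange ℤ k A).baseChange (ResidueField A)) :=
    (LinearMap.baseChange_eq_ltensor (A := ResidueField A) _).symm
  rw [hcoe, ← LinearMap.dualMap_surjective_iff]
  intro φ
  let cb := TensorProduct.AlgebraTensorModule.cancelBaseChange k A (ResidueField A)
    (ResidueField A) (Ω[k⁄ℤ])
  let φ₁ : Ω[k⁄ℤ] →ₗ[k] ResidueField A :=
    ((φ ∘ₗ cb.symm.toLinearMap).restrictScalars k) ∘ₗ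
      (TensorProduct.mk k (ResidueField A) (Ω[k⁄ℤ]) 1)
  obtain ⟨D', hD'⟩ := hext (φ₁.compDer (KaehlerDifferential.D ℤ k))
  refine ⟨LinearMap.liftBaseChange (ResidueField A) D'.liftKaehlerDifferential, ?_⟩
  have hcomp : ∀ g₁ g₂ : ResidueField A ⊗[k] Ω[k⁄ℤ] →ₗ[ResidueField A] ResidueField A,
      (∀ x : k, g₁ (1 ⊗ₜ KaehlerDifferential.D ℤ k x) = g₂ (1 ⊗ₜ KaehlerDifferential.D ℤ k x)) →
      g₁ = g₂ := by
    intro g₁ g₂ hg
    apply TensorProduct.AlgebraTensorModule.ext
    intro c ω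
    have h1 : c ⊗ₜ[k] ω = c • ((1 : ResidueField A) ⊗ₜ[k] ω) := by
      rw [TensorProduct.smul_tmul', smul_eq_mul, mul_one]
    rw [h1, map_smul, map_smul]
    congr 1
    have key : (g₁.restrictScalars k) ∘ₗ (TensorProduct.mk k (ResidueField A) (Ω[k⁄ℤ]) 1) =
        (g₂.restrictScalars k) ∘ₗ (TensorProduct.mk k (ResidueField A) (Ω[k⁄ℤ]) 1) := by
      apply Derivation.liftKaehlerDifferential_unique
      ext x
      exact hg x
    exact LinearMap.congr_fun key ω
  have h2 := hcomp
    (((KaehlerDifferential.mapBaseChange ℤ k A).baseChange (ResidueField A)).dualMap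
      (LinearMap.liftBaseChange (ResidueField A) D'.liftKaehlerDifferential) ∘ₗ
        cb.symm.toLinearMap) (φ ∘ₗ cb.symm.toLinearMap) (fun x => by
      rw [LinearMap.comp_apply, LinearMap.comp_apply, LinearEquiv.coe_coe,
        TensorProduct.AlgebraTensorModule.cancelBaseChange_symm_tmul, LinearMap.dualMap_apply,
        LinearMap.baseChange_tmul, KaehlerDifferential.mapBaseChange_tmul, one_smul,
        KaehlerDifferential.map_D, LinearMap.liftBaseChange_tmul, one_smul,
        Derivation.liftKaehlerDifferential_comp_D, hD']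
      rfl)
  apply LinearMap.ext
  intro ξ
  have h3 := LinearMap.congr_fun h2 (cb ξ)
  rw [LinearMap.comp_apply, LinearMap.comp_apply, LinearEquiv.coe_coe,
    LinearEquiv.symm_apply_apply] at h3
  exact h3

theorem injective_of_smooth {k A : Type u} [Field k] [CommRing A] [IsLocalRing A] [Algebra k A]
    (h : CAlgX.IsAdicFormallySmooth k A (maximalIdeal A)) :
    Function.Injective ((KaehlerDifferential.mapBaseChange ℤ k A).lTensor (ResidueField A)) :=
  injective_of_forall_exists_derivation (exists_derivation_of_smooth h)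

end Groth.Agent.H87.FSTower
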