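import Mathlib
import Groth.Prelude.Def_CAlgX

set_option autoImplicit false
set_option maxHeartbeats 400000

namespace Groth.Agent.H87.FSDense

universe u

theorem fs_of_dense {R F G : Type u} [CommRing R] [CommRing F] [CommRing G] [Algebra R F]
    [Algebra R G] (j : F →ₐ[R] G) (𝔫F : Ideal F) (𝔫G : Ideal G)
    (h1 : 𝔫F.map j.toRingHom ≤ 𝔫G)
    (h2 : ∀ (n : ℕ) (g : G), ∃ f : F, g - j f ∈ 𝔫G ^ n)
    (h3 : ∀ (n : ℕ) (f : F), j f ∈ 𝔫G ^ n → f ∈ 𝔫F ^ n)
    (hF : CAlgX.IsAdicFormallySmooth R F 𝔫F) : CAlgX.IsAdicFormallySmooth R G 𝔫G := by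
  intro E _ _ J hJ ψ hψ
  obtain ⟨k, hk⟩ := hψ
  have hjpow : ∀ (n : ℕ) (x : F), x ∈ 𝔫F ^ n → j x ∈ 𝔫G ^ n := by
    intro n x hx
    have := Ideal.mem_map_of_mem j.toRingHom hx
    rw [Ideal.map_pow] at this
    exact Ideal.pow_right_mono h1 n this
  obtain ⟨χF, hχF⟩ := hF E J hJ (ψ.comp j) ⟨k, fun x hx => hk _ (hjpow k x hx)⟩
  have hχF' : ∀ f, Ideal.Quotient.mk J (χF f) = ψ (j f) := fun f => AlgHom.congr_fun hχF f
  have hvJ : (𝔫F ^ k).map χF.toRingHom ≤ J := by
    rw [Ideal.map_le_iff_le_comap]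
    intro b hb
    rw [Ideal.mem_comap]
    have h3' : Ideal.Quotient.mk J (χF b) = ψ (j b) := hχF' b
    rw [hk _ (hjpow k b hb)] at h3'
    exact Ideal.Quotient.eq_zero_iff_mem.1 h3'
  have hkill : ∀ f ∈ 𝔫F ^ (k * 2), χF f = 0 := by
    intro f hf
    have h4 : χF.toRingHom f ∈ (𝔫F ^ (k * 2)).map χF.toRingHom := Ideal.mem_map_of_mem _ hf
    rw [pow_mul, Ideal.map_pow] at h4
    have h5 := Ideal.pow_right_mono hvJ 2 h4
    rw [hJ] at h5
    exact h5
  choose s hs using h2 (k * 2)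
  have hwd : ∀ (g : G) (f : F), g - j f ∈ 𝔫G ^ (k * 2) → χF (s g) = χF f := by
    intro g f hf
    have h6 : j (s g - f) ∈ 𝔫G ^ (k * 2) := by
      have := Ideal.sub_mem _ hf (hs g)
      have h7 : g - j f - (g - j (s g)) = j (s g - f) := by rw [map_sub]; ring
      rwa [h7] at this
    have := hkill _ (h3 _ _ h6)
    rwa [map_sub, sub_eq_zero] at this
  let χ : G →ₐ[R] E :=
    { toFun := fun g => χF (s g)
      map_one' := by
        rw [hwd 1 1 (by rw [map_one, sub_self]; exact Ideal.zero_mem _), map_one]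
      map_mul' := fun a b => by
        rw [← map_mul]
        apply hwd
        have : a * b - j (s a * s b) = a * (b - j (s b)) + (a - j (s a)) * j (s b) := by
          rw [map_mul]; ring
        rw [this]
        exact Ideal.add_mem _ (Ideal.mul_mem_left _ _ (hs b)) (Ideal.mul_mem_right _ _ (hs a))
      map_zero' := by
        rw [hwd 0 0 (by rw [map_zero, sub_self]; exact Ideal.zero_mem _), map_zero]
      map_add' := fun a b => by
        rw [← map_add]
        apply hwd
        have : a + b - j (s a + s b) = (a - j (s a)) + (b - j (s b)) := by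
          rw [map_add]; ring
        rw [this]
        exact Ideal.add_mem _ (hs a) (hs b)
      commutes' := fun r => by
        rw [hwd (algebraMap R G r) (algebraMap R F r)
          (by rw [j.commutes, sub_self]; exact Ideal.zero_mem _), χF.commutes] }
  have hχ : ∀ g, χ g = χF (s g) := fun g => rfl
  refine ⟨χ, AlgHom.ext fun g => ?_⟩
  show Ideal.Quotient.mk J (χ g) = ψ g
  rw [hχ, hχF']
  have h8 : ψ (g - j (s g)) = 0 :=
    hk _ (Ideal.pow_le_pow_right (Nat.le_mul_of_pos_right k (by norm_num)) (hs g))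
  rw [map_sub, sub_eq_zero] at h8
  exact h8.symm

end Groth.Agent.H87.FSDense
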