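import Groth.Agent.S2462
import Mathlib

set_option autoImplicit false
set_option maxHeartbeats 400000

namespace Groth.Agent.H87.IsoFlat

open IsLocalRing

universe u

variable {A X Y B₀ : Type u} [CommRing A] [IsLocalRing A]
  [CommRing X] [IsLocalRing X] [IsNoetherianRing X] [Algebra A X] [IsLocalHom (algebraMap A X)]
  [CommRing Y] [IsLocalRing Y] [IsNoetherianRing Y] [Algebra A Y]
  [CommRing B₀] [Algebra A B₀]

theorem exists_rep (x : X) (hx : x ∈ (maximalIdeal A).map (algebraMap A X)) :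
    ∃ (ι : Type) (_ : Fintype ι) (j : ι → A) (c : ι → X),
      (∀ i, j i ∈ maximalIdeal A) ∧ x = ∑ i, j i • c i := by
  classical
  refine Submodule.span_induction (p := fun x _ => ∃ (ι : Type) (_ : Fintype ι) (j : ι → A)
    (c : ι → X), (∀ i, j i ∈ maximalIdeal A) ∧ x = ∑ i, j i • c i) ?_ ?_ ?_ ?_ hx
  · rintro _ ⟨a, ha, rfl⟩
    refine ⟨PUnit, inferInstance, fun _ => a, fun _ => 1, fun _ => ha, ?_⟩
    simp [Algebra.algebraMap_eq_smul_one]
  · exact ⟨PEmpty, inferInstance, PEmpty.elim, PEmpty.elim, fun i => i.elim, by simp⟩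
  · rintro x y _ _ ⟨ι₁, _, j₁, c₁, h₁, rfl⟩ ⟨ι₂, _, j₂, c₂, h₂, rfl⟩
    refine ⟨ι₁ ⊕ ι₂, inferInstance, Sum.elim j₁ j₂, Sum.elim c₁ c₂, ?_, ?_⟩
    · rintro (i | i)
      · exact h₁ i
      · exact h₂ i
    · simp [Fintype.sum_sum_type]
  · rintro b x _ ⟨ι, _, j, c, h, rfl⟩
    refine ⟨ι, inferInstance, j, fun i => b * c i, h, ?_⟩
    rw [smul_eq_mul, Finset.mul_sum]
    exact Finset.sum_congr rfl (fun i _ => (mul_smul_comm _ _ _))

/-- A surjection onto a flat algebra which is injective modulo `𝔪_A` is injective. -/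
theorem injective_of_flat [Module.Flat A Y] (v : X →ₐ[A] Y) (hsurj : Function.Surjective v)
    (hmod : ∀ x, v x = 0 → x ∈ (maximalIdeal A).map (algebraMap A X)) :
    Function.Injective v := by
  classical
  have hK : RingHom.ker v.toRingHom ≤
      ((maximalIdeal A).map (algebraMap A X)) • RingHom.ker v.toRingHom := by
    intro x hx
    have hx0 : v x = 0 := hx
    obtain ⟨ι, _, j, c, hj, rfl⟩ := exists_rep x (hmod x hx0)
    have hrel : ∑ i, j i • v (c i) = 0 := by
      rw [← hx0, map_sum]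
      exact Finset.sum_congr rfl (fun i _ => (map_smul v _ _).symm)
    obtain ⟨k, a, y, hy1, hy2⟩ :=
      Module.Flat.isTrivialRelation_of_sum_smul_eq_zero (R := A) (M := Y) hrel
    choose d hd using fun t => hsurj (y t)
    have hκ : ∀ i, c i - ∑ t, a i t • d t ∈ RingHom.ker v.toRingHom := by
      intro i
      rw [RingHom.mem_ker]
      change v (c i - ∑ t, a i t • d t) = 0
      have hy1i : v (c i) = ∑ t, a i t • y t := hy1 i
      rw [map_sub, map_sum, hy1i, sub_eq_zero]
      exact Finset.sum_congr rfl (fun t _ => by rw [map_smul, hd t])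
    have hsum : ∑ i, j i • c i = ∑ i, j i • (c i - ∑ t, a i t • d t) := by
      have h4 : ∑ i, j i • ∑ t, a i t • d t = 0 := by
        simp_rw [Finset.smul_sum, smul_smul]
        rw [Finset.sum_comm]
        refine Finset.sum_eq_zero (fun t _ => ?_)
        rw [← Finset.sum_smul, hy2 t, zero_smul]
      simp_rw [smul_sub]
      rw [Finset.sum_sub_distrib, h4, sub_zero]
    rw [hsum]
    refine Submodule.sum_mem _ (fun i _ => ?_)
    have h5 : j i • (c i - ∑ t, a i t • d t) =
        algebraMap A X (j i) • (c i - ∑ t, a i t • d t) := by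
      rw [Algebra.smul_def, smul_eq_mul]
    rw [h5]
    exact Submodule.smul_mem_smul (Ideal.mem_map_of_mem _ (hj i)) (hκ i)
  have hle : (maximalIdeal A).map (algebraMap A X) ≤ maximalIdeal X := by
    rw [Ideal.map_le_iff_le_comap]
    intro a ha
    rw [Ideal.mem_comap]
    exact fun hu => ha (isUnit_of_map_unit (algebraMap A X) a hu)
  have hker : RingHom.ker v.toRingHom = ⊥ := by
    have hfg : (RingHom.ker v.toRingHom).FG := IsNoetherian.noetherian _
    refine Submodule.eq_bot_of_le_smul_of_le_jacobson_bot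
      ((maximalIdeal A).map (algebraMap A X)) _ hfg hK ?_
    rw [IsLocalRing.jacobson_eq_maximalIdeal ⊥ bot_ne_top]
    exact hle
  exact (RingHom.injective_iff_ker_eq_bot v.toRingHom).2 hker

variable [IsAdicComplete (maximalIdeal X) X] [IsAdicComplete (maximalIdeal Y) Y]
  [IsLocalHom (algebraMap A Y)]

theorem iso_of_fs_flat [Module.Flat A Y]
    (hfs : EGA41.IsFormallySmoothAdic A ⊥ X (maximalIdeal X))
    (ψX : X →ₐ[A] B₀) (hψX : Function.Surjective ψX)
    (hkX : RingHom.ker ψX.toRingHom = (maximalIdeal A).map (algebraMap A X))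
    (ψY : Y →ₐ[A] B₀) (hψY : Function.Surjective ψY)
    (hkY : RingHom.ker ψY.toRingHom = (maximalIdeal A).map (algebraMap A Y)) :
    Nonempty (X ≃ₐ[A] Y) := by
  classical
  have hleX : (maximalIdeal A).map (algebraMap A X) ≤ maximalIdeal X := by
    rw [Ideal.map_le_iff_le_comap]
    intro a ha
    rw [Ideal.mem_comap]
    exact fun hu => ha (isUnit_of_map_unit (algebraMap A X) a hu)
  have hleY : (maximalIdeal A).map (algebraMap A Y) ≤ maximalIdeal Y := by
    rw [Ideal.map_le_iff_le_comap]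
    intro a ha
    rw [Ideal.mem_comap]
    exact fun hu => ha (isUnit_of_map_unit (algebraMap A Y) a hu)
  have hJne : RingHom.ker ψY.toRingHom ≠ ⊤ := by
    rw [hkY]
    exact fun h => (maximalIdeal.isMaximal Y).ne_top (top_le_iff.1 (h ▸ hleY))
  -- units and `ψ`
  have hunitX : ∀ x : X, IsUnit (ψX x) → IsUnit x := by
    intro x hu
    by_contra hx
    obtain ⟨b, hb⟩ := hu.exists_right_inv
    obtain ⟨x', rfl⟩ := hψX b
    have h1 : x * x' - 1 ∈ RingHom.ker ψX.toRingHom := by
      rw [RingHom.mem_ker]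
      show ψX (x * x' - 1) = 0
      rw [map_sub, map_mul, hb, map_one, sub_self]
    rw [hkX] at h1
    have h2 : x * x' ∈ maximalIdeal X := Ideal.mul_mem_right _ _ hx
    have h3 : (1 : X) ∈ maximalIdeal X := by
      have := Ideal.sub_mem _ h2 (hleX h1)
      rwa [sub_sub_cancel] at this
    exact (maximalIdeal.isMaximal X).ne_top ((Ideal.eq_top_iff_one _).2 h3)
  let eY : (Y ⧸ RingHom.ker ψY.toRingHom) ≃ₐ[A] B₀ := Ideal.quotientKerAlgEquivOfSurjective hψY
  have heY : ∀ y : Y, eY (Ideal.Quotient.mk _ y) = ψY y := fun y => rfl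
  let u : X →ₐ[A] Y ⧸ RingHom.ker ψY.toRingHom := (eY.symm : B₀ →ₐ[A] _).comp ψX
  have hu : ∀ x, u x = eY.symm (ψX x) := fun x => rfl
  have hu_mem : (maximalIdeal X).map u.toRingHom ≤
      (maximalIdeal Y).map (Ideal.Quotient.mk (RingHom.ker ψY.toRingHom)) := by
    rw [Ideal.map_le_iff_le_comap]
    intro x hx
    rw [Ideal.mem_comap]
    obtain ⟨y, hy⟩ := hψY (ψX x)
    have hym : y ∈ maximalIdeal Y := by
      intro hyu
      have h1 : IsUnit (ψX x) := by rw [← hy]; exact hyu.map ψY
      exact hx (hunitX x h1)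
    have h2 : u.toRingHom x = Ideal.Quotient.mk _ y := by
      show u x = _
      rw [hu, ← hy, ← heY, eY.symm_apply_apply]
    rw [h2]
    exact Ideal.mem_map_of_mem _ hym
  obtain ⟨v, -, hv⟩ := Groth.Agent.S2462.result (A := A) (⊥ : Ideal A) (maximalIdeal X) hfs
    (C := Y) (by rw [Ideal.map_bot]; exact bot_le) (RingHom.ker ψY.toRingHom) hJne u hu_mem
  have hvψ : ∀ x, ψY (v x) = ψX x := by
    intro x
    have h1 : Ideal.Quotient.mk _ (v x) = u x := AlgHom.congr_fun hv x
    rw [← heY, h1, hu, eY.apply_symm_apply]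
  have hvloc : (maximalIdeal X).map v.toRingHom ≤ maximalIdeal Y := by
    rw [Ideal.map_le_iff_le_comap]
    intro x hx
    rw [Ideal.mem_comap]
    intro hvu
    have h1 : IsUnit (ψX x) := by rw [← hvψ]; exact hvu.map ψY
    exact hx (hunitX x h1)
  have hsurj : Function.Surjective v := by
    haveI : IsHausdorff ((maximalIdeal X).map v.toRingHom) Y :=
      IsHausdorff.of_isLocalRing _ Y (fun h =>
        (maximalIdeal.isMaximal Y).ne_top (top_le_iff.1 (h ▸ hvloc)))
    apply surjective_of_mk_map_comp_surjective (I := maximalIdeal X) v.toRingHom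
    intro y
    obtain ⟨y', rfl⟩ := Ideal.Quotient.mk_surjective y
    obtain ⟨x, hx⟩ := hψX (ψY y')
    refine ⟨x, ?_⟩
    rw [RingHom.comp_apply, Ideal.Quotient.eq]
    have h1 : v x - y' ∈ RingHom.ker ψY.toRingHom := by
      rw [RingHom.mem_ker]
      show ψY (v x - y') = 0
      rw [map_sub, hvψ, hx, sub_self]
    rw [hkY] at h1
    have hle2 : (maximalIdeal A).map (algebraMap A Y) ≤ (maximalIdeal X).map v.toRingHom := by
      rw [Ideal.map_le_iff_le_comap]
      intro a ha
      rw [Ideal.mem_comap]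
      have : algebraMap A Y a = v.toRingHom (algebraMap A X a) := (v.commutes a).symm
      rw [this]
      exact Ideal.mem_map_of_mem _ (hleX (Ideal.mem_map_of_mem _ ha))
    exact hle2 h1
  have hinj : Function.Injective v := by
    apply injective_of_flat v hsurj
    intro x hx
    have h1 : x ∈ RingHom.ker ψX.toRingHom := by
      rw [RingHom.mem_ker]
      show ψX x = 0
      rw [← hvψ, hx, map_zero]
    rwa [hkX] at h1
  exact ⟨AlgEquiv.ofBijective v ⟨hinj, hsurj⟩⟩

end Groth.Agent.H87.IsoFlat
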