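import Groth.Agent.H87.LiftNC
import Groth.Agent.H87.IsoFlat
import Groth.Agent.H87.FSDense
import Groth.Agent.H87.FSField
import Groth.Agent.H61.CRingLib
import Groth.Agent.H3.FlatDescent
import Groth.Agent.Lead.GeomReg

set_option autoImplicit false
set_option maxHeartbeats 400000

namespace Groth.Agent.H87.LocalFS

open IsLocalRing TensorProduct

universe u

section Core

variable {A : Type u} [CommRing A] [IsLocalRing A] [IsNoetherianRing A]
  {κ : Type u} [Field κ] [Algebra A κ]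
  {R : Type u} [CommRing R] [IsLocalRing R] [IsNoetherianRing R]
  [IsAdicComplete (maximalIdeal R) R] [Algebra A R] [IsLocalHom (algebraMap A R)]
  {B₀ : Type u} [CommRing B₀] [IsLocalRing B₀] [IsNoetherianRing B₀]
  [IsAdicComplete (maximalIdeal B₀) B₀] [Algebra κ B₀] [Algebra A B₀] [IsScalarTower A κ B₀]

theorem equiv_mem_maximalIdeal {X Y : Type*} [CommRing X] [CommRing Y] [IsLocalRing X]
    [IsLocalRing Y] (e : X ≃+* Y) {x : X} (hx : x ∈ maximalIdeal X) : e x ∈ maximalIdeal Y := by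
  intro hu
  apply hx
  have := hu.map e.symm
  rwa [e.symm_apply_apply] at this

theorem core (hκ : Function.Surjective (algebraMap A κ)) (φ : R →ₐ[A] B₀)
    (hφ : Function.Surjective φ)
    (hkφ : RingHom.ker φ.toRingHom = (maximalIdeal A).map (algebraMap A R))
    (hP0 : CAlgX.IsAdicFormallySmooth κ B₀ (maximalIdeal B₀)) :
    (EGA41.IsFormallySmoothAdic A ⊥ R (maximalIdeal R) → Module.Flat A R) ∧
    (Module.Flat A R → EGA41.IsFormallySmoothAdic A ⊥ R (maximalIdeal R)) := by
  haveI : IsRegularLocalRing B₀ := Groth.Agent.Lead.GeomReg.regular_of_fs hP0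
  obtain ⟨T, _, _, _, hN, hC, hL, hF, ⟨ψ, hψ, hkψ⟩, hfs⟩ :=
    Groth.Agent.H87.LiftNC.exists_lift' (A := A) (κ := κ) B₀ hκ
  haveI := hN
  haveI := hC
  haveI := hL
  haveI := hF
  constructor
  · intro hR
    obtain ⟨e⟩ := Groth.Agent.H87.IsoFlat.iso_of_fs_flat (X := R) (Y := T) hR φ hφ hkφ ψ hψ hkψ
    exact Module.Flat.of_linearEquiv e.toLinearEquiv
  · intro hRflat
    haveI := hRflat
    obtain ⟨e⟩ := Groth.Agent.H87.IsoFlat.iso_of_fs_flat (X := T) (Y := R) (hfs hP0) ψ hψ hkψ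
      φ hφ hkφ
    exact Groth.Agent.H87.FSField.smooth_of_equiv e ⊥ (maximalIdeal T) (maximalIdeal R)
      (fun x hx => equiv_mem_maximalIdeal e.toRingEquiv hx) (hfs hP0)

end Core

section Setup

variable {A B : Type u} [CommRing A] [CommRing B] [IsLocalRing A] [IsLocalRing B]
  [IsNoetherianRing A] [IsNoetherianRing B] [Algebra A B] [IsLocalHom (algebraMap A B)]
  {κ : Type u} [Field κ] [Algebra A κ]

instance : IsNoetherianRing (AdicCompletion (maximalIdeal B) B) :=
  Groth.Agent.Lead.isNoetherianRing_adicCompletion (maximalIdeal B) (IsNoetherian.noetherian _)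

instance : IsScalarTower A B (AdicCompletion (maximalIdeal B) B) :=
  IsScalarTower.of_algebraMap_eq (fun _ => rfl)

instance : IsLocalHom (algebraMap A (AdicCompletion (maximalIdeal B) B)) := by
  rw [IsScalarTower.algebraMap_eq A B (AdicCompletion (maximalIdeal B) B)]
  exact RingHom.isLocalHom_comp _ _

theorem fs_iff_completion :
    CAlgX.IsAdicFormallySmooth A B (maximalIdeal B) ↔
      EGA41.IsFormallySmoothAdic A ⊥ (AdicCompletion (maximalIdeal B) B)
        (maximalIdeal (AdicCompletion (maximalIdeal B) B)) := by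
  rw [AdicCompletion.maximalIdeal_eq_map, ← Groth.Agent.S2461.result, Groth.Agent.S4537.result]

theorem map_le_maximalIdeal {X : Type*} [CommRing X] [IsLocalRing X] [Algebra A X]
    [IsLocalHom (algebraMap A X)] :
    (maximalIdeal A).map (algebraMap A X) ≤ maximalIdeal X := by
  rw [Ideal.map_le_iff_le_comap]
  intro a ha
  rw [Ideal.mem_comap]
  exact fun hu => ha (isUnit_of_map_unit (algebraMap A X) a hu)

theorem exists_B₀ (hκ : Function.Surjective (algebraMap A κ)) :
    ∃ (B₀ : Type u) (_ : CommRing B₀) (_ : IsLocalRing B₀) (_ : Algebra κ B₀) (_ : Algebra A B₀),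
      IsNoetherianRing B₀ ∧ IsAdicComplete (maximalIdeal B₀) B₀ ∧ IsScalarTower A κ B₀ ∧
      ∃ φ : AdicCompletion (maximalIdeal B) B →ₐ[A] B₀, Function.Surjective φ ∧
        RingHom.ker φ.toRingHom =
          (maximalIdeal A).map (algebraMap A (AdicCompletion (maximalIdeal B) B)) := by
  obtain ⟨I, hI⟩ : ∃ I : Ideal (AdicCompletion (maximalIdeal B) B),
      I = (maximalIdeal A).map (algebraMap A (AdicCompletion (maximalIdeal B) B)) := ⟨_, rfl⟩
  have hIle : I ≤ maximalIdeal (AdicCompletion (maximalIdeal B) B) := by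
    rw [hI]; exact map_le_maximalIdeal
  haveI : Nontrivial (AdicCompletion (maximalIdeal B) B ⧸ I) :=
    Ideal.Quotient.nontrivial_iff.2 (fun h =>
      (maximalIdeal.isMaximal _).ne_top (top_le_iff.1 (h ▸ hIle)))
  haveI : IsLocalRing (AdicCompletion (maximalIdeal B) B ⧸ I) :=
    IsLocalRing.of_surjective' (Ideal.Quotient.mk I) Ideal.Quotient.mk_surjective
  have hκ0 : ∀ a ∈ maximalIdeal A, algebraMap A κ a = 0 := fun a ha =>
    Groth.Agent.H87.LiftMain.algebraMap_eq_zero_of_mem hκ ha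
  have hle : RingHom.ker (algebraMap A κ) ≤
      RingHom.ker (algebraMap A (AdicCompletion (maximalIdeal B) B ⧸ I)) := by
    intro a ha
    rw [RingHom.mem_ker] at ha ⊢
    have ham : a ∈ maximalIdeal A := by
      intro hu
      have := hu.map (algebraMap A κ)
      rw [ha] at this
      exact not_isUnit_zero this
    show Ideal.Quotient.mk I (algebraMap A (AdicCompletion (maximalIdeal B) B) a) = 0
    rw [Ideal.Quotient.eq_zero_iff_mem, hI]
    exact Ideal.mem_map_of_mem _ ham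
  let g : κ →+* (AdicCompletion (maximalIdeal B) B ⧸ I) :=
    RingHom.liftOfSurjective (algebraMap A κ) hκ
      ⟨algebraMap A (AdicCompletion (maximalIdeal B) B ⧸ I), hle⟩
  have hg : ∀ a, g (algebraMap A κ a) =
      algebraMap A (AdicCompletion (maximalIdeal B) B ⧸ I) a := fun a =>
    RingHom.liftOfSurjective_comp_apply (algebraMap A κ) hκ
      ⟨algebraMap A (AdicCompletion (maximalIdeal B) B ⧸ I), hle⟩ a
  letI : Algebra κ (AdicCompletion (maximalIdeal B) B ⧸ I) := g.toAlgebra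
  refine ⟨AdicCompletion (maximalIdeal B) B ⧸ I, inferInstance, inferInstance, inferInstance,
    inferInstance, inferInstance, Groth.Agent.H61.isAdicComplete_quotient I,
    IsScalarTower.of_algebraMap_eq (fun a => (hg a).symm), Ideal.Quotient.mkₐ A I,
    Ideal.Quotient.mkₐ_surjective A I, ?_⟩
  rw [← hI]
  exact Ideal.mk_ker

theorem exists_sub_mem_pow {B : Type*} [CommRing B] [IsNoetherianRing B] (𝔟 : Ideal B) (n : ℕ)
    (x : AdicCompletion 𝔟 B) :
    ∃ b : B, x - algebraMap B (AdicCompletion 𝔟 B) b ∈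
      (𝔟.map (algebraMap B (AdicCompletion 𝔟 B))) ^ n := by
  have hfg : 𝔟.FG := IsNoetherian.noetherian 𝔟
  have hιof : ∀ b : B, algebraMap B (AdicCompletion 𝔟 B) b = AdicCompletion.of 𝔟 B b := fun b => rfl
  have hb : ∀ (n : ℕ) (x : AdicCompletion 𝔟 B),
      AdicCompletion.evalₐ 𝔟 n x = 0 → x ∈ (𝔟.map (algebraMap B (AdicCompletion 𝔟 B))) ^ n := by
    intro n x hx
    have h1 : AdicCompletion.eval 𝔟 B n x = 0 := by
      have hle' : 𝔟 ^ n ≤ (𝔟 ^ n • ⊤ : Ideal B) := by simp
      rw [← AdicCompletion.factor_evalₐ_eq_eval 𝔟 x hle', hx, map_zero]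
    have h2 : x ∈ (𝔟 ^ n • ⊤ : Submodule B (AdicCompletion 𝔟 B)) := by
      rw [AdicCompletion.pow_smul_top_eq_ker_eval hfg]; exact h1
    rw [← Ideal.map_pow]
    refine Submodule.smul_induction_on h2 ?_ ?_
    · intro r hr y _
      rw [Algebra.smul_def]
      exact Ideal.mul_mem_right _ _ (Ideal.mem_map_of_mem _ hr)
    · intro y z hy hz
      exact Ideal.add_mem _ hy hz
  obtain ⟨b, hbx⟩ := Ideal.Quotient.mk_surjective (AdicCompletion.evalₐ 𝔟 n x)
  refine ⟨b, hb n _ ?_⟩
  rw [map_sub, hιof, AdicCompletion.evalₐ_of, hbx, sub_self]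

section Transfer

variable {B₀ : Type u} [CommRing B₀] [IsLocalRing B₀] [Algebra κ B₀] [Algebra A B₀]
  [IsScalarTower A κ B₀]

theorem fs_B₀_of_fs (hκ : Function.Surjective (algebraMap A κ))
    (φ : AdicCompletion (maximalIdeal B) B →ₐ[A] B₀) (hφ : Function.Surjective φ)
    (hkφ : RingHom.ker φ.toRingHom =
      (maximalIdeal A).map (algebraMap A (AdicCompletion (maximalIdeal B) B)))
    (h : EGA41.IsFormallySmoothAdic A ⊥ (AdicCompletion (maximalIdeal B) B)
      (maximalIdeal (AdicCompletion (maximalIdeal B) B))) :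
    CAlgX.IsAdicFormallySmooth κ B₀ (maximalIdeal B₀) := by
  have hκ0 : ∀ a ∈ maximalIdeal A, algebraMap A κ a = 0 := fun a ha =>
    Groth.Agent.H87.LiftMain.algebraMap_eq_zero_of_mem hκ ha
  haveI : IsLocalRing (κ ⊗[A] AdicCompletion (maximalIdeal B) B) :=
    Groth.Agent.H87.LiftNC.isLocalRing_tensor' hκ
  have h1 := Groth.Agent.H87.FlatLift.smooth_tensor (P := A) (A := κ)
    (Q := AdicCompletion (maximalIdeal B) B) hκ ((Groth.Agent.S4537.result _).2 h)
  obtain ⟨e, -⟩ := Groth.Agent.H87.LiftNC.exists_tensor_equiv hκ hκ0 φ hφ hkφ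
  rw [Groth.Agent.S4537.result] at h1 ⊢
  exact Groth.Agent.H87.FSField.smooth_of_equiv e ⊥ _ _
    (fun x hx => equiv_mem_maximalIdeal e.toRingEquiv hx) h1

theorem fs_B₀_of_fibre (hκ : Function.Surjective (algebraMap A κ))
    (φ : AdicCompletion (maximalIdeal B) B →ₐ[A] B₀) (hφ : Function.Surjective φ)
    (hkφ : RingHom.ker φ.toRingHom =
      (maximalIdeal A).map (algebraMap A (AdicCompletion (maximalIdeal B) B)))
    [IsLocalRing (κ ⊗[A] B)]
    (hF : CAlgX.IsAdicFormallySmooth κ (κ ⊗[A] B) (maximalIdeal (κ ⊗[A] B))) :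
    CAlgX.IsAdicFormallySmooth κ B₀ (maximalIdeal B₀) := by
  classical
  have hκ0 : ∀ a ∈ maximalIdeal A, algebraMap A κ a = 0 := fun a ha =>
    Groth.Agent.H87.LiftMain.algebraMap_eq_zero_of_mem hκ ha
  let φc : B →ₐ[A] B₀ := φ.comp (IsScalarTower.toAlgHom A B (AdicCompletion (maximalIdeal B) B))
  have hφc : ∀ b, φc b = φ (algebraMap B (AdicCompletion (maximalIdeal B) B) b) := fun b => rfl
  let j : κ ⊗[A] B →ₐ[κ] B₀ :=
    Algebra.TensorProduct.lift (Algebra.ofId κ B₀) φc (fun _ _ => Commute.all _ _)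
  have hj : ∀ b : B, j ((1 : κ) ⊗ₜ[A] b) = φ (algebraMap B (AdicCompletion (maximalIdeal B) B) b) := by
    intro b
    rw [Algebra.TensorProduct.lift_tmul, map_one, one_mul, hφc]
  have hF1 : (maximalIdeal B).map
      (Algebra.TensorProduct.includeRight : B →ₐ[A] κ ⊗[A] B).toRingHom =
      maximalIdeal (κ ⊗[A] B) :=
    Groth.Agent.H87.FlatLift.map_maximalIdeal_includeRight (P := A) (A := κ) (Q := B) hκ
  have hF2 : (maximalIdeal (AdicCompletion (maximalIdeal B) B)).map φ.toRingHom =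
      maximalIdeal B₀ := IsLocalRing.map_maximalIdeal_of_surjective φ.toRingHom hφ
  have hφpow : ∀ (n : ℕ) (y : AdicCompletion (maximalIdeal B) B),
      y ∈ maximalIdeal (AdicCompletion (maximalIdeal B) B) ^ n → φ y ∈ maximalIdeal B₀ ^ n := by
    intro n y hy
    rw [← hF2, ← Ideal.map_pow]
    exact Ideal.mem_map_of_mem φ.toRingHom hy
  have hinc : ∀ t : κ ⊗[A] B, ∃ b : B, (1 : κ) ⊗ₜ[A] b = t := fun t =>
    Algebra.TensorProduct.includeRight_surjective (T := B) hκ t
  refine Groth.Agent.H87.FSDense.fs_of_dense j (maximalIdeal (κ ⊗[A] B)) (maximalIdeal B₀)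
    ?_ ?_ ?_ hF
  · rw [← hF1, Ideal.map_map, Ideal.map_le_iff_le_comap]
    intro b hb
    rw [Ideal.mem_comap]
    show j ((1 : κ) ⊗ₜ[A] b) ∈ _
    rw [hj]
    have h1 := hφpow 1 (algebraMap B (AdicCompletion (maximalIdeal B) B) b) (by
      rw [pow_one, AdicCompletion.maximalIdeal_eq_map]
      exact Ideal.mem_map_of_mem _ hb)
    rwa [pow_one] at h1
  · intro n g
    obtain ⟨x, rfl⟩ := hφ g
    obtain ⟨b, hb⟩ := exists_sub_mem_pow (maximalIdeal B) n x
    rw [← AdicCompletion.maximalIdeal_eq_map] at hb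
    refine ⟨(1 : κ) ⊗ₜ[A] b, ?_⟩
    rw [hj, ← map_sub]
    exact hφpow n _ hb
  · intro n f hf
    obtain ⟨b, rfl⟩ := hinc f
    rw [hj, ← hF2, ← Ideal.map_pow] at hf
    obtain ⟨y, hy, hyb⟩ := (Ideal.mem_map_iff_of_surjective φ.toRingHom hφ).1 hf
    have h1 : algebraMap B (AdicCompletion (maximalIdeal B) B) b - y ∈ RingHom.ker φ.toRingHom := by
      rw [RingHom.mem_ker, map_sub, hyb]
      exact sub_self _
    rw [hkφ] at h1
    have h2 : algebraMap B (AdicCompletion (maximalIdeal B) B) b ∈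
        ((maximalIdeal B ^ n) ⊔ (maximalIdeal A).map (algebraMap A B)).map
          (algebraMap B (AdicCompletion (maximalIdeal B) B)) := by
      rw [Ideal.map_sup, Ideal.map_pow, ← AdicCompletion.maximalIdeal_eq_map, Ideal.map_map,
        ← IsScalarTower.algebraMap_eq]
      have := Submodule.add_mem_sup hy h1
      rwa [add_sub_cancel] at this
    haveI : Module.FaithfullyFlat B (AdicCompletion (maximalIdeal B) B) :=
      Module.FaithfullyFlat.of_flat_of_isLocalHom
    have h3 : b ∈ (maximalIdeal B ^ n) ⊔ (maximalIdeal A).map (algebraMap A B) := by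
      rw [← Ideal.comap_map_eq_self_of_faithfullyFlat (B := AdicCompletion (maximalIdeal B) B)
        ((maximalIdeal B ^ n) ⊔ (maximalIdeal A).map (algebraMap A B))]
      exact h2
    obtain ⟨b₁, hb₁, b₂, hb₂, rfl⟩ := Submodule.mem_sup.1 h3
    rw [TensorProduct.tmul_add, Groth.Agent.H87.LiftNC.tmul_eq_zero_of_mem hκ0 hb₂, add_zero,
      ← hF1, ← Ideal.map_pow]
    exact Ideal.mem_map_of_mem _ hb₁

end Transfer

theorem flat_of_fs (hκ : Function.Surjective (algebraMap A κ))
    (h : CAlgX.IsAdicFormallySmooth A B (maximalIdeal B)) : Module.Flat A B := by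
  obtain ⟨B₀, _, _, _, _, hN, hC, hT, φ, hφ, hkφ⟩ := exists_B₀ (A := A) (B := B) hκ
  haveI := hN
  haveI := hC
  haveI := hT
  have hR := fs_iff_completion.1 h
  have hP0 := fs_B₀_of_fs hκ φ hφ hkφ hR
  haveI : Module.Flat A (AdicCompletion (maximalIdeal B) B) := (core hκ φ hφ hkφ hP0).1 hR
  haveI : Module.FaithfullyFlat B (AdicCompletion (maximalIdeal B) B) :=
    Module.FaithfullyFlat.of_flat_of_isLocalHom
  exact Groth.Agent.H3.flat_of_flat_of_faithfullyFlat A B (AdicCompletion (maximalIdeal B) B)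

theorem fs_of_flat_of_fs_fibre (hκ : Function.Surjective (algebraMap A κ)) [Module.Flat A B]
    [IsLocalRing (κ ⊗[A] B)]
    (hF : CAlgX.IsAdicFormallySmooth κ (κ ⊗[A] B) (maximalIdeal (κ ⊗[A] B))) :
    CAlgX.IsAdicFormallySmooth A B (maximalIdeal B) := by
  obtain ⟨B₀, _, _, _, _, hN, hC, hT, φ, hφ, hkφ⟩ := exists_B₀ (A := A) (B := B) hκ
  haveI := hN
  haveI := hC
  haveI := hT
  have hP0 := fs_B₀_of_fibre hκ φ hφ hkφ hF
  have hflat : Module.Flat A (AdicCompletion (maximalIdeal B) B) :=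
    Module.Flat.trans A B (AdicCompletion (maximalIdeal B) B)
  exact fs_iff_completion.2 ((core hκ φ hφ hkφ hP0).2 hflat)

end Setup

end Groth.Agent.H87.LocalFS
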