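import Groth.Agent.H87.CIAscent
import Groth.Agent.H15.FibreSk
import Groth.Agent.Lead.GeomRegBC
import Groth.Agent.H34.FibLoc

/-!
# Complete intersection fibres and regular homomorphisms (helper87)

* `fs_of_flat_of_fs_quot`: flat local homomorphism whose closed fibre (given by any presentation)
  is adically formally smooth over the residue field is adically formally smooth.
* `fs_quotient`: adic formal smoothness passes to `A/I → B/IB`.
* `fs_loc`: for a regular homomorphism `B → C` the local homomorphisms `B_p → C_r` are adically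
  formally smooth.
* `isCI_fibLoc`: ascent of the complete intersection property for the fibre local rings.
-/

set_option autoImplicit false
set_option linter.style.haveILetI false
set_option maxHeartbeats 400000

namespace Groth.Agent.H87.CIFibres

open IsLocalRing TensorProduct

universe u

theorem fs_of_flat_of_fs_quot {A B κ F : Type u} [CommRing A] [CommRing B] [IsLocalRing A]
    [IsLocalRing B] [IsNoetherianRing A] [IsNoetherianRing B] [Algebra A B]
    [IsLocalHom (algebraMap A B)] [Module.Flat A B] [Field κ] [Algebra A κ] [CommRing F]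
    [IsLocalRing F] [Algebra κ F] [Algebra A F] [IsScalarTower A κ F]
    (hκ : Function.Surjective (algebraMap A κ)) (ψ : B →ₐ[A] F) (hψ : Function.Surjective ψ)
    (hker : RingHom.ker ψ.toRingHom = (maximalIdeal A).map (algebraMap A B))
    (hF : CAlgX.IsAdicFormallySmooth κ F (maximalIdeal F)) :
    CAlgX.IsAdicFormallySmooth A B (maximalIdeal B) := by
  have hκ0 : ∀ a ∈ maximalIdeal A, algebraMap A κ a = 0 := fun a ha =>
    Groth.Agent.H87.LiftMain.algebraMap_eq_zero_of_mem hκ ha
  haveI : IsLocalRing (κ ⊗[A] B) := Groth.Agent.H87.LiftNC.isLocalRing_tensor' hκ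
  obtain ⟨e, -⟩ := Groth.Agent.H87.LiftNC.exists_tensor_equiv hκ hκ0 ψ hψ hker
  refine Groth.Agent.H87.LocalFS.fs_of_flat_of_fs_fibre hκ ?_
  rw [Groth.Agent.S4537.result] at hF ⊢
  exact Groth.Agent.H87.FSField.smooth_of_equiv e.symm ⊥ _ _
    (fun x hx => Groth.Agent.H87.LocalFS.equiv_mem_maximalIdeal e.symm.toRingEquiv hx) hF

theorem fs_quotient {A B : Type u} [CommRing A] [CommRing B] [Algebra A B] (I : Ideal A)
    (𝔫 : Ideal B) (h : CAlgX.IsAdicFormallySmooth A B 𝔫) :
    CAlgX.IsAdicFormallySmooth (A ⧸ I) (B ⧸ I.map (algebraMap A B))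
      (𝔫.map (Ideal.Quotient.mk (I.map (algebraMap A B)))) := by
  intro C _ _ J hJ ψ hψ
  obtain ⟨k, hk⟩ := hψ
  letI : Algebra A C := ((algebraMap (A ⧸ I) C).comp (Ideal.Quotient.mk I)).toAlgebra
  haveI : IsScalarTower A (A ⧸ I) C := IsScalarTower.of_algebraMap_eq (fun _ => rfl)
  let ψ0 : B →ₐ[A] C ⧸ J :=
    (ψ.restrictScalars A).comp (Ideal.Quotient.mkₐ A (I.map (algebraMap A B)))
  obtain ⟨χ, hχ⟩ := h C J hJ ψ0 ⟨k, fun x hx => by
    show ψ (Ideal.Quotient.mk _ x) = 0
    apply hk
    rw [← Ideal.map_pow]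
    exact Ideal.mem_map_of_mem _ hx⟩
  have hkill : ∀ x ∈ I.map (algebraMap A B), χ.toRingHom x = 0 := by
    have hle : I.map (algebraMap A B) ≤ RingHom.ker χ.toRingHom := by
      rw [Ideal.map_le_iff_le_comap]
      intro a ha
      rw [Ideal.mem_comap, RingHom.mem_ker]
      show χ (algebraMap A B a) = 0
      rw [χ.commutes]
      show algebraMap (A ⧸ I) C (Ideal.Quotient.mk I a) = 0
      rw [Ideal.Quotient.eq_zero_iff_mem.2 ha, map_zero]
    exact fun x hx => hle hx
  refine ⟨{ Ideal.Quotient.lift _ χ.toRingHom hkill with commutes' := ?_ }, ?_⟩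
  · intro x
    obtain ⟨a, rfl⟩ := Ideal.Quotient.mk_surjective x
    show Ideal.Quotient.lift _ χ.toRingHom hkill
      (algebraMap (A ⧸ I) (B ⧸ I.map (algebraMap A B)) (Ideal.Quotient.mk I a)) = _
    rw [Ideal.Quotient.algebraMap_quotient_map_quotient, Ideal.Quotient.lift_mk]
    show χ (algebraMap A B a) = _
    rw [χ.commutes]
    rfl
  · apply AlgHom.ext
    intro y
    obtain ⟨b, rfl⟩ := Ideal.Quotient.mk_surjective y
    exact congr($hχ b)

section Loc

variable {B C : Type u} [CommRing B] [CommRing C] [IsNoetherianRing B] [IsNoetherianRing C]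
  [Algebra B C] [Module.Flat B C]

theorem fs_loc (hBC : CAlg.IsRegularHom B C) (p : Ideal B) [p.IsPrime] (Q' : Ideal (p.Fiber C))
    [Q'.IsPrime]
    [Algebra (Localization.AtPrime p) (Localization.AtPrime
      (Q'.comap (Algebra.TensorProduct.includeRight : C →ₐ[B] p.Fiber C)))]
    [Localization.AtPrime.IsLiesOverAlgebra p
      (Q'.comap (Algebra.TensorProduct.includeRight : C →ₐ[B] p.Fiber C))] :
    CAlgX.IsAdicFormallySmooth (Localization.AtPrime p)
      (Localization.AtPrime (Q'.comap (Algebra.TensorProduct.includeRight : C →ₐ[B] p.Fiber C)))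
      (maximalIdeal (Localization.AtPrime
        (Q'.comap (Algebra.TensorProduct.includeRight : C →ₐ[B] p.Fiber C)))) := by
  haveI hN : IsNoetherianRing (p.Fiber C) := (hBC.2 p).1
  have hF : CAlgX.IsAdicFormallySmooth p.ResidueField (Localization.AtPrime Q')
      (maximalIdeal (Localization.AtPrime Q')) :=
    Groth.Agent.Lead.GeomRegBC.locFS_of_geomRegular (hBC.2 p).2 Q'
  have hκ : Function.Surjective (algebraMap (Localization.AtPrime p) p.ResidueField) :=
    IsLocalRing.residue_surjective
  haveI hloc : IsLocalHom (algebraMap (Localization.AtPrime p) (Localization.AtPrime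
      (Q'.comap (Algebra.TensorProduct.includeRight : C →ₐ[B] p.Fiber C)))) := by
    rw [Localization.AtPrime.IsLiesOverAlgebra.algebraMap_eq]
    exact Localization.isLocalHom_localRingHom _ _ _ _
  let e := Ideal.Fiber.localizationAlgEquivQuotient p Q'
  let ψ : Localization.AtPrime
      (Q'.comap (Algebra.TensorProduct.includeRight : C →ₐ[B] p.Fiber C)) →ₐ[Localization.AtPrime p]
      Localization.AtPrime Q' :=
    e.symm.toAlgHom.comp (Ideal.Quotient.mkₐ (Localization.AtPrime p) _)
  have hψ : Function.Surjective ψ := e.symm.surjective.comp Ideal.Quotient.mk_surjective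
  have hker : RingHom.ker ψ.toRingHom = (maximalIdeal (Localization.AtPrime p)).map
      (algebraMap (Localization.AtPrime p) (Localization.AtPrime
        (Q'.comap (Algebra.TensorProduct.includeRight : C →ₐ[B] p.Fiber C)))) := by
    rw [← Localization.AtPrime.map_eq_maximalIdeal, Ideal.map_map,
      ← IsScalarTower.algebraMap_eq B (Localization.AtPrime p)]
    ext x
    rw [RingHom.mem_ker]
    show e.symm (Ideal.Quotient.mk _ x) = 0 ↔ _
    rw [EmbeddingLike.map_eq_zero_iff, Ideal.Quotient.eq_zero_iff_mem]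
  exact fs_of_flat_of_fs_quot hκ ψ hψ hker hF

end Loc

section FibLoc

attribute [local instance] Groth.Agent.H15.FlatLoc.isLocalRing_fibLocRing

variable (A : Type u) {B C : Type u} [CommRing A] [CommRing B] [CommRing C] [IsNoetherianRing B]
  [IsNoetherianRing C] [Algebra A B] [Algebra B C] [Algebra A C] [IsScalarTower A B C]
  [Module.Flat B C]

theorem isCI_fibLoc (hBC : CAlg.IsRegularHom B C) (p : Ideal B) [p.IsPrime]
    (Q' : Ideal (p.Fiber C)) [Q'.IsPrime]
    (h : Pi1.IsCompleteIntersection (EGA4.FibLocRing A B p)) :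
    Pi1.IsCompleteIntersection (EGA4.FibLocRing A C
      (Q'.comap (Algebra.TensorProduct.includeRight : C →ₐ[B] p.Fiber C))) := by
  letI alg := Localization.AtPrime.algebraOfLiesOver p
    (Q'.comap (Algebra.TensorProduct.includeRight : C →ₐ[B] p.Fiber C))
  haveI hloc : IsLocalHom (algebraMap (Localization.AtPrime p) (Localization.AtPrime
      (Q'.comap (Algebra.TensorProduct.includeRight : C →ₐ[B] p.Fiber C)))) :=
    Localization.isLocalHom_localRingHom _ _ _ _
  have hfs := fs_loc hBC p Q'
  obtain ⟨I, hI⟩ : ∃ I : Ideal (Localization.AtPrime p),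
      I = (p.comap (algebraMap A B)).map (algebraMap A (Localization.AtPrime p)) := ⟨_, rfl⟩
  have hIle : I ≤ maximalIdeal (Localization.AtPrime p) := by
    rw [hI]
    exact Groth.Agent.H15.FlatLoc.map_le_maximalIdeal A B p
  have hover : (Q'.comap (Algebra.TensorProduct.includeRight : C →ₐ[B] p.Fiber C)).comap
      (algebraMap B C) = p := (Ideal.LiesOver.over (p := p)
        (P := Q'.comap (Algebra.TensorProduct.includeRight : C →ₐ[B] p.Fiber C))).symm
  have hcomap : p.comap (algebraMap A B) =
      (Q'.comap (Algebra.TensorProduct.includeRight : C →ₐ[B] p.Fiber C)).comap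
        (algebraMap A C) := by
    rw [IsScalarTower.algebraMap_eq A B C, ← Ideal.comap_comap, hover]
  have hJ : I.map (algebraMap (Localization.AtPrime p) (Localization.AtPrime
      (Q'.comap (Algebra.TensorProduct.includeRight : C →ₐ[B] p.Fiber C)))) =
      ((Q'.comap (Algebra.TensorProduct.includeRight : C →ₐ[B] p.Fiber C)).comap
        (algebraMap A C)).map (algebraMap A (Localization.AtPrime
          (Q'.comap (Algebra.TensorProduct.includeRight : C →ₐ[B] p.Fiber C)))) := by
    rw [hI, Ideal.map_map, ← IsScalarTower.algebraMap_eq A (Localization.AtPrime p), hcomap]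
  have hIMle : I.map (algebraMap (Localization.AtPrime p) (Localization.AtPrime
      (Q'.comap (Algebra.TensorProduct.includeRight : C →ₐ[B] p.Fiber C)))) ≤
      maximalIdeal (Localization.AtPrime
        (Q'.comap (Algebra.TensorProduct.includeRight : C →ₐ[B] p.Fiber C))) :=
    (Ideal.map_mono hIle).trans Groth.Agent.H87.LiftJ.map_le_max
  haveI : Nontrivial (Localization.AtPrime p ⧸ I) :=
    Ideal.Quotient.nontrivial_iff.2 (fun h =>
      (maximalIdeal.isMaximal _).ne_top (top_le_iff.1 (h ▸ hIle)))
  haveI : IsLocalRing (Localization.AtPrime p ⧸ I) :=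
    IsLocalRing.of_surjective' (Ideal.Quotient.mk I) Ideal.Quotient.mk_surjective
  haveI : Nontrivial (Localization.AtPrime
      (Q'.comap (Algebra.TensorProduct.includeRight : C →ₐ[B] p.Fiber C)) ⧸
      I.map (algebraMap (Localization.AtPrime p) (Localization.AtPrime
        (Q'.comap (Algebra.TensorProduct.includeRight : C →ₐ[B] p.Fiber C))))) :=
    Ideal.Quotient.nontrivial_iff.2 (fun h =>
      (maximalIdeal.isMaximal _).ne_top (top_le_iff.1 (h ▸ hIMle)))
  haveI : IsLocalRing (Localization.AtPrime
      (Q'.comap (Algebra.TensorProduct.includeRight : C →ₐ[B] p.Fiber C)) ⧸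
      I.map (algebraMap (Localization.AtPrime p) (Localization.AtPrime
        (Q'.comap (Algebra.TensorProduct.includeRight : C →ₐ[B] p.Fiber C))))) :=
    IsLocalRing.of_surjective' (Ideal.Quotient.mk _) Ideal.Quotient.mk_surjective
  have hfsq := fs_quotient I _ hfs
  rw [IsLocalRing.map_maximalIdeal_of_surjective _ Ideal.Quotient.mk_surjective] at hfsq
  haveI : IsLocalHom (algebraMap (Localization.AtPrime p ⧸ I) (Localization.AtPrime
      (Q'.comap (Algebra.TensorProduct.includeRight : C →ₐ[B] p.Fiber C)) ⧸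
      I.map (algebraMap (Localization.AtPrime p) (Localization.AtPrime
        (Q'.comap (Algebra.TensorProduct.includeRight : C →ₐ[B] p.Fiber C)))))) := by
    apply ((IsLocalRing.local_hom_TFAE _).out 0 2).mpr
    rw [← IsLocalRing.map_maximalIdeal_of_surjective (Ideal.Quotient.mk I)
      Ideal.Quotient.mk_surjective, Ideal.map_map, Ideal.map_le_iff_le_comap]
    intro x hx
    rw [Ideal.mem_comap, RingHom.comp_apply, Ideal.Quotient.algebraMap_quotient_map_quotient,
      ← IsLocalRing.map_maximalIdeal_of_surjective (Ideal.Quotient.mk _)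
        Ideal.Quotient.mk_surjective]
    exact Ideal.mem_map_of_mem _ (Groth.Agent.H87.LiftJ.map_le_max (Ideal.mem_map_of_mem _ hx))
  have h' : Pi1.IsCompleteIntersection (Localization.AtPrime p ⧸ I) := by
    subst hI
    exact h
  have h3 := Groth.Agent.H87.CIAscent.isCI_of_fs hfsq h'
  exact Groth.Agent.H79.CIOpen.isCI_of_ringEquiv (Ideal.quotEquivOfEq hJ) h3

end FibLoc

end Groth.Agent.H87.CIFibres
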