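import Groth.Agent.S4535
import Groth.Agent.S4537
import Mathlib

set_option autoImplicit false

namespace Groth.Agent.H87.FlatLift

open IsLocalRing TensorProduct

universe u

theorem isAdicComplete_of_surjective {Q C : Type*} [CommRing Q] [IsLocalRing Q]
    [IsNoetherianRing Q] [IsAdicComplete (maximalIdeal Q) Q] [CommRing C] [IsLocalRing C]
    [Algebra Q C] (h : Function.Surjective (algebraMap Q C)) :
    IsAdicComplete (maximalIdeal C) C := by
  have h1 : (maximalIdeal Q).map (algebraMap Q C) = maximalIdeal C :=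
    IsLocalRing.map_maximalIdeal_of_surjective _ h
  rw [← h1, IsAdicComplete.map_algebraMap_iff]
  have hs : Function.Surjective (Algebra.linearMap Q C) := h
  haveI : Module.Finite Q C := Module.Finite.of_surjective (Algebra.linearMap Q C) hs
  haveI : IsPrecomplete (maximalIdeal Q) C := by
    rw [← AdicCompletion.of_surjective_iff]
    intro y
    obtain ⟨x, hx⟩ := AdicCompletion.map_surjective (maximalIdeal Q)
      (f := Algebra.linearMap Q C) hs y
    obtain ⟨r, hr⟩ := AdicCompletion.of_surjective (maximalIdeal Q) Q x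
    refine ⟨Algebra.linearMap Q C r, ?_⟩
    rw [← AdicCompletion.map_of, hr, hx]
  exact {}

section Generic

variable {P A Q : Type u} [CommRing P] [CommRing A] [CommRing Q] [Algebra P A] [Algebra P Q]
  [IsLocalRing P] [IsLocalRing A] [IsLocalRing Q] [IsLocalHom (algebraMap P Q)]

theorem nontrivial_tensor [Module.Flat P Q] : Nontrivial (A ⊗[P] Q) := by
  haveI := Module.FaithfullyFlat.of_flat_of_isLocalHom (A := P) (B := Q)
  infer_instance

variable (hPA : Function.Surjective (algebraMap P A))

include hPA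

theorem includeRight_surjective :
    Function.Surjective (Algebra.TensorProduct.includeRight : Q →ₐ[P] A ⊗[P] Q) :=
  Algebra.TensorProduct.includeRight_surjective (T := Q) hPA

theorem isLocalRing_tensor [Module.Flat P Q] : IsLocalRing (A ⊗[P] Q) := by
  haveI : Nontrivial (A ⊗[P] Q) := nontrivial_tensor
  exact IsLocalRing.of_surjective'
    (Algebra.TensorProduct.includeRight : Q →ₐ[P] A ⊗[P] Q).toRingHom
    (includeRight_surjective hPA)

theorem isNoetherianRing_tensor [IsNoetherianRing Q] : IsNoetherianRing (A ⊗[P] Q) :=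
  isNoetherianRing_of_surjective Q (A ⊗[P] Q)
    (Algebra.TensorProduct.includeRight : Q →ₐ[P] A ⊗[P] Q).toRingHom
    (includeRight_surjective hPA)

theorem map_maximalIdeal_includeRight [IsLocalRing (A ⊗[P] Q)] :
    (maximalIdeal Q).map (Algebra.TensorProduct.includeRight : Q →ₐ[P] A ⊗[P] Q).toRingHom =
      maximalIdeal (A ⊗[P] Q) :=
  IsLocalRing.map_maximalIdeal_of_surjective _ (includeRight_surjective hPA)

theorem isAdicComplete_tensor [IsNoetherianRing Q] [IsAdicComplete (maximalIdeal Q) Q]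
    [IsLocalRing (A ⊗[P] Q)] :
    IsAdicComplete (maximalIdeal (A ⊗[P] Q)) (A ⊗[P] Q) := by
  letI : Algebra Q (A ⊗[P] Q) := Algebra.TensorProduct.rightAlgebra
  exact isAdicComplete_of_surjective (Q := Q) (C := A ⊗[P] Q) (includeRight_surjective hPA)

theorem isLocalHom_algebraMap_PA : IsLocalHom (algebraMap P A) :=
  ⟨fun g hg => by
    by_contra hng
    have h1 : g ∈ maximalIdeal P := hng
    have h2 : algebraMap P A g ∈ maximalIdeal A := by
      rw [← IsLocalRing.map_maximalIdeal_of_surjective (algebraMap P A) hPA]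
      exact Ideal.mem_map_of_mem _ h1
    exact h2 hg⟩

theorem isLocalHom_tensor [IsLocalRing (A ⊗[P] Q)] :
    IsLocalHom (algebraMap A (A ⊗[P] Q)) :=
  ⟨fun a ha => by
    by_contra hna
    obtain ⟨g, rfl⟩ := hPA a
    have hg : g ∈ maximalIdeal P := fun hu => hna (hu.map _)
    have h1 : algebraMap P Q g ∈ maximalIdeal Q := fun hu =>
      hg (isUnit_of_map_unit (algebraMap P Q) g hu)
    have h2 : (Algebra.TensorProduct.includeRight : Q →ₐ[P] A ⊗[P] Q) (algebraMap P Q g) ∈
        maximalIdeal (A ⊗[P] Q) := by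
      rw [← map_maximalIdeal_includeRight hPA]
      exact Ideal.mem_map_of_mem _ h1
    rw [AlgHom.commutes, IsScalarTower.algebraMap_apply P A (A ⊗[P] Q)] at h2
    exact h2 ha⟩

section Aug

variable {B₀ : Type u} [CommRing B₀] [Algebra A B₀] [Algebra P B₀] [IsScalarTower P A B₀]
  (ε : Q →ₐ[P] B₀)

omit hPA in
noncomputable def aug : A ⊗[P] Q →ₐ[A] B₀ :=
  Algebra.TensorProduct.lift (Algebra.ofId A B₀) ε (fun _ _ => Commute.all _ _)

omit hPA [IsLocalRing P] [IsLocalRing A] [IsLocalRing Q] [IsLocalHom (algebraMap P Q)] in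
theorem aug_includeRight (q : Q) : aug (A := A) ε ((1 : A) ⊗ₜ[P] q) = ε q := by
  rw [aug, Algebra.TensorProduct.lift_tmul, map_one, one_mul]

omit hPA [IsLocalRing P] [IsLocalRing A] [IsLocalRing Q] [IsLocalHom (algebraMap P Q)] in
theorem aug_surjective (hε : Function.Surjective ε) :
    Function.Surjective (aug (A := A) ε) := by
  intro b
  obtain ⟨q, rfl⟩ := hε b
  exact ⟨(1 : A) ⊗ₜ[P] q, aug_includeRight (A := A) ε q⟩

theorem ker_aug (h0 : ∀ a ∈ maximalIdeal A, algebraMap A B₀ a = 0)
    (hker : RingHom.ker ε.toRingHom = (maximalIdeal P).map (algebraMap P Q)) :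
    RingHom.ker (aug (A := A) ε).toRingHom =
      (maximalIdeal A).map (algebraMap A (A ⊗[P] Q)) := by
  haveI := isLocalHom_algebraMap_PA hPA
  apply le_antisymm
  · intro x hx
    obtain ⟨q, rfl⟩ := includeRight_surjective (Q := Q) hPA x
    rw [RingHom.mem_ker] at hx
    have hq : q ∈ RingHom.ker ε.toRingHom := by
      rw [RingHom.mem_ker]
      have := aug_includeRight (A := A) ε q
      exact this.symm.trans hx
    rw [hker] at hq
    have hle : (maximalIdeal P).map (algebraMap P Q) ≤
        ((maximalIdeal A).map (algebraMap A (A ⊗[P] Q))).comap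
          (Algebra.TensorProduct.includeRight : Q →ₐ[P] A ⊗[P] Q).toRingHom := by
      rw [Ideal.map_le_iff_le_comap]
      intro g hg
      rw [Ideal.mem_comap, Ideal.mem_comap]
      show (Algebra.TensorProduct.includeRight : Q →ₐ[P] A ⊗[P] Q) (algebraMap P Q g) ∈ _
      rw [AlgHom.commutes, IsScalarTower.algebraMap_apply P A (A ⊗[P] Q)]
      apply Ideal.mem_map_of_mem
      intro hu
      exact hg (isUnit_of_map_unit (algebraMap P A) g hu)
    exact hle hq
  · rw [Ideal.map_le_iff_le_comap]
    intro a ha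
    rw [Ideal.mem_comap, RingHom.mem_ker]
    show aug (A := A) ε (algebraMap A (A ⊗[P] Q) a) = 0
    rw [AlgHom.commutes]
    exact h0 a ha

end Aug

theorem smooth_tensor [IsLocalRing (A ⊗[P] Q)]
    (h : CAlgX.IsAdicFormallySmooth P Q (maximalIdeal Q)) :
    CAlgX.IsAdicFormallySmooth A (A ⊗[P] Q) (maximalIdeal (A ⊗[P] Q)) := by
  rw [Groth.Agent.S4537.result]
  have h1 := Groth.Agent.S4535.result (A := P) (B := Q) (A' := A) ⊥ (maximalIdeal Q) ⊥
    ⟨1, by rw [pow_one, Ideal.map_bot]⟩ ((Groth.Agent.S4537.result _).1 h)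
  rw [Ideal.map_bot, bot_sup_eq, map_maximalIdeal_includeRight hPA] at h1
  exact h1

end Generic

end Groth.Agent.H87.FlatLift
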