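import Mathlib

set_option autoImplicit false

namespace Groth.Agent.H87.FibreEquiv

open IsLocalRing TensorProduct

universe u

theorem tensor_equiv {A κ T B₀ : Type u} [CommRing A] [IsLocalRing A] [Field κ] [Algebra A κ]
    [CommRing T] [Algebra A T] [CommRing B₀] [Algebra κ B₀] [Algebra A B₀] [IsScalarTower A κ B₀]
    (hκ : Function.Surjective (algebraMap A κ))
    (hκ0 : ∀ a ∈ maximalIdeal A, algebraMap A κ a = 0) (ψ : T →ₐ[A] B₀)
    (hψ : Function.Surjective ψ)
    (hker : RingHom.ker ψ.toRingHom = (maximalIdeal A).map (algebraMap A T)) :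
    Nonempty (κ ⊗[A] T ≃ₐ[κ] B₀) := by
  let Φ : κ ⊗[A] T →ₐ[κ] B₀ :=
    Algebra.TensorProduct.lift (Algebra.ofId κ B₀) ψ (fun _ _ => Commute.all _ _)
  have hΦ : ∀ t : T, Φ ((1 : κ) ⊗ₜ[A] t) = ψ t := by
    intro t
    rw [Algebra.TensorProduct.lift_tmul, map_one, one_mul]
  have hle : (maximalIdeal A).map (algebraMap A T) ≤
      RingHom.ker (Algebra.TensorProduct.includeRight : T →ₐ[A] κ ⊗[A] T).toRingHom := by
    rw [Ideal.map_le_iff_le_comap]
    intro a ha
    rw [Ideal.mem_comap, RingHom.mem_ker]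
    show (Algebra.TensorProduct.includeRight : T →ₐ[A] κ ⊗[A] T) (algebraMap A T a) = 0
    rw [AlgHom.commutes, Algebra.TensorProduct.algebraMap_apply, hκ0 a ha,
      TensorProduct.zero_tmul]
  refine ⟨AlgEquiv.ofBijective Φ ⟨?_, ?_⟩⟩
  · rw [injective_iff_map_eq_zero]
    intro z hz
    obtain ⟨t, rfl⟩ := Algebra.TensorProduct.includeRight_surjective (T := T) hκ z
    have h1 : ψ t = 0 := by
      rw [← hΦ]
      exact hz
    have h2 : t ∈ RingHom.ker ψ.toRingHom := h1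
    rw [hker] at h2
    exact hle h2
  · intro b
    obtain ⟨t, rfl⟩ := hψ b
    exact ⟨(1 : κ) ⊗ₜ[A] t, hΦ t⟩

end Groth.Agent.H87.FibreEquiv
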