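import Groth.Agent.H87.LiftMain
import Groth.Agent.H87.FibreEquiv
import Groth.Agent.S2461
import Groth.Agent.S4534
import Groth.Agent.Lead.CompleteNoetherian

set_option autoImplicit false
set_option maxHeartbeats 400000

namespace Groth.Agent.H87.LiftNC

open IsLocalRing TensorProduct

universe u

section Tensor

variable {P A Q : Type u} [CommRing P] [CommRing A] [CommRing Q] [Algebra P A] [Algebra P Q]
  [IsLocalRing P] [IsLocalRing A] [IsLocalRing Q] [IsLocalHom (algebraMap P Q)]

theorem nontrivial_tensor' (hPA : Function.Surjective (algebraMap P A)) :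
    Nontrivial (A ⊗[P] Q) := by
  have hle : RingHom.ker (algebraMap P A) ≤
      RingHom.ker ((residue Q).comp (algebraMap P Q)) := by
    intro p hp
    rw [RingHom.mem_ker] at hp ⊢
    have hpm : p ∈ maximalIdeal P := by
      intro hu
      have := hu.map (algebraMap P A)
      rw [hp] at this
      exact not_isUnit_zero this
    rw [RingHom.comp_apply, residue_eq_zero_iff]
    exact fun hu => hpm (isUnit_of_map_unit (algebraMap P Q) p hu)
  let g₁ : A →+* ResidueField Q :=
    RingHom.liftOfSurjective (algebraMap P A) hPA ⟨(residue Q).comp (algebraMap P Q), hle⟩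
  have hg₁ : ∀ p, g₁ (algebraMap P A p) = residue Q (algebraMap P Q p) := fun p =>
    RingHom.liftOfSurjective_comp_apply (algebraMap P A) hPA
      ⟨(residue Q).comp (algebraMap P Q), hle⟩ p
  letI : Algebra A (ResidueField Q) := g₁.toAlgebra
  letI : Algebra P (ResidueField Q) := ((residue Q).comp (algebraMap P Q)).toAlgebra
  haveI : IsScalarTower P A (ResidueField Q) :=
    IsScalarTower.of_algebraMap_eq (fun p => (hg₁ p).symm)
  let g : Q →ₐ[P] ResidueField Q := { residue Q with commutes' := fun _ => rfl }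
  let Φ : A ⊗[P] Q →ₐ[A] ResidueField Q :=
    Algebra.TensorProduct.lift (Algebra.ofId A (ResidueField Q)) g (fun _ _ => Commute.all _ _)
  exact Φ.toRingHom.domain_nontrivial

theorem isLocalRing_tensor' (hPA : Function.Surjective (algebraMap P A)) :
    IsLocalRing (A ⊗[P] Q) := by
  haveI : Nontrivial (A ⊗[P] Q) := nontrivial_tensor' hPA
  exact IsLocalRing.of_surjective'
    (Algebra.TensorProduct.includeRight : Q →ₐ[P] A ⊗[P] Q).toRingHom
    (Groth.Agent.H87.FlatLift.includeRight_surjective hPA)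

end Tensor

theorem tmul_eq_zero_of_mem {A κ B : Type u} [CommRing A] [IsLocalRing A] [Field κ] [Algebra A κ]
    [CommRing B] [Algebra A B] (hκ0 : ∀ a ∈ maximalIdeal A, algebraMap A κ a = 0) {b : B}
    (hb : b ∈ (maximalIdeal A).map (algebraMap A B)) : (1 : κ) ⊗ₜ[A] b = 0 := by
  have hle : (maximalIdeal A).map (algebraMap A B) ≤
      RingHom.ker (Algebra.TensorProduct.includeRight : B →ₐ[A] κ ⊗[A] B).toRingHom := by
    rw [Ideal.map_le_iff_le_comap]
    intro a ha
    rw [Ideal.mem_comap, RingHom.mem_ker]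
    show (Algebra.TensorProduct.includeRight : B →ₐ[A] κ ⊗[A] B) (algebraMap A B a) = 0
    rw [AlgHom.commutes, Algebra.TensorProduct.algebraMap_apply, hκ0 a ha,
      TensorProduct.zero_tmul]
  exact hle hb

theorem exists_tensor_equiv {A κ T B₀ : Type u} [CommRing A] [IsLocalRing A] [Field κ]
    [Algebra A κ] [CommRing T] [Algebra A T] [CommRing B₀] [Algebra κ B₀] [Algebra A B₀]
    [IsScalarTower A κ B₀] (hκ : Function.Surjective (algebraMap A κ))
    (hκ0 : ∀ a ∈ maximalIdeal A, algebraMap A κ a = 0) (ψ : T →ₐ[A] B₀)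
    (hψ : Function.Surjective ψ)
    (hker : RingHom.ker ψ.toRingHom = (maximalIdeal A).map (algebraMap A T)) :
    ∃ e : κ ⊗[A] T ≃ₐ[κ] B₀, ∀ t : T, e ((1 : κ) ⊗ₜ[A] t) = ψ t := by
  let Φ : κ ⊗[A] T →ₐ[κ] B₀ :=
    Algebra.TensorProduct.lift (Algebra.ofId κ B₀) ψ (fun _ _ => Commute.all _ _)
  have hΦ : ∀ t : T, Φ ((1 : κ) ⊗ₜ[A] t) = ψ t := by
    intro t
    rw [Algebra.TensorProduct.lift_tmul, map_one, one_mul]
  refine ⟨AlgEquiv.ofBijective Φ ⟨?_, ?_⟩, hΦ⟩
  · rw [injective_iff_map_eq_zero]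
    intro z hz
    obtain ⟨t, rfl⟩ := Algebra.TensorProduct.includeRight_surjective (T := T) hκ z
    have h1 : ψ t = 0 := by
      rw [← hΦ]
      exact hz
    have h2 : t ∈ RingHom.ker ψ.toRingHom := h1
    rw [hker] at h2
    exact tmul_eq_zero_of_mem hκ0 h2
  · intro b
    obtain ⟨t, rfl⟩ := hψ b
    exact ⟨(1 : κ) ⊗ₜ[A] t, hΦ t⟩

section NC

variable {A : Type u} [CommRing A] [IsLocalRing A] [IsNoetherianRing A]
  {κ : Type u} [Field κ] [Algebra A κ]
  (B₀ : Type u) [CommRing B₀] [IsRegularLocalRing B₀] [IsAdicComplete (maximalIdeal B₀) B₀]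
  [Algebra κ B₀] [Algebra A B₀] [IsScalarTower A κ B₀]

theorem fs_self : EGA41.IsFormallySmoothAdic A ⊥ A (maximalIdeal A) := by
  intro C _ _ J _ _ u _
  exact ⟨Algebra.ofId A C, Subsingleton.elim _ _⟩

theorem exists_lift' (hκ : Function.Surjective (algebraMap A κ)) :
    ∃ (T : Type u) (_ : CommRing T) (_ : IsLocalRing T) (_ : Algebra A T),
      IsNoetherianRing T ∧ IsAdicComplete (maximalIdeal T) T ∧ IsLocalHom (algebraMap A T) ∧
      Module.Flat A T ∧
      (∃ ψ : T →ₐ[A] B₀, Function.Surjective ψ ∧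
        RingHom.ker ψ.toRingHom = (maximalIdeal A).map (algebraMap A T)) ∧
      (CAlgX.IsAdicFormallySmooth κ B₀ (maximalIdeal B₀) →
        EGA41.IsFormallySmoothAdic A ⊥ T (maximalIdeal T)) := by
  classical
  have hκ0 : ∀ a ∈ maximalIdeal A, algebraMap A κ a = 0 := fun a ha =>
    Groth.Agent.H87.LiftMain.algebraMap_eq_zero_of_mem hκ ha
  haveI : IsNoetherianRing (AdicCompletion (maximalIdeal A) A) :=
    Groth.Agent.Lead.isNoetherianRing_adicCompletion (maximalIdeal A) (IsNoetherian.noetherian _)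
  let r₀ : (A ⧸ maximalIdeal A) →+* κ := Ideal.Quotient.lift (maximalIdeal A) (algebraMap A κ) hκ0
  have hr₀ : ∀ a, r₀ (Ideal.Quotient.mk _ a) = algebraMap A κ a := fun a => rfl
  let ev : AdicCompletion (maximalIdeal A) A →+* κ :=
    r₀.comp (AdicCompletion.evalOneₐ (maximalIdeal A)).toRingHom
  have hevA : ∀ a : A, ev (algebraMap A (AdicCompletion (maximalIdeal A) A) a) =
      algebraMap A κ a := by
    intro a
    show r₀ ((AdicCompletion.evalOneₐ (maximalIdeal A))
      (algebraMap A (AdicCompletion (maximalIdeal A) A) a)) = _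
    rw [AlgHom.commutes]
    rfl
  have hev : Function.Surjective ev := by
    intro x
    obtain ⟨a, rfl⟩ := hκ x
    exact ⟨algebraMap A _ a, hevA a⟩
  letI : Algebra (AdicCompletion (maximalIdeal A) A) κ := ev.toAlgebra
  have hκ' : Function.Surjective (algebraMap (AdicCompletion (maximalIdeal A) A) κ) := hev
  letI : Algebra (AdicCompletion (maximalIdeal A) A) B₀ :=
    ((algebraMap κ B₀).comp ev).toAlgebra
  haveI : IsScalarTower (AdicCompletion (maximalIdeal A) A) κ B₀ :=
    IsScalarTower.of_algebraMap_eq (fun _ => rfl)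
  obtain ⟨T, _, _, _, hN, hC, hL, hF, ⟨ψ, hψ, hker⟩, hfs⟩ :=
    Groth.Agent.H87.LiftMain.exists_lift (A := AdicCompletion (maximalIdeal A) A) (κ := κ) B₀ hκ'
  letI : Algebra A T :=
    ((algebraMap (AdicCompletion (maximalIdeal A) A) T).comp
      (algebraMap A (AdicCompletion (maximalIdeal A) A))).toAlgebra
  haveI : IsScalarTower A (AdicCompletion (maximalIdeal A) A) T :=
    IsScalarTower.of_algebraMap_eq (fun _ => rfl)
  haveI : IsLocalHom (algebraMap A T) := by
    have : algebraMap A T = (algebraMap (AdicCompletion (maximalIdeal A) A) T).comp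
      (algebraMap A (AdicCompletion (maximalIdeal A) A)) := rfl
    rw [this]
    exact RingHom.isLocalHom_comp _ _
  have hflat : Module.Flat A T := Module.Flat.trans A (AdicCompletion (maximalIdeal A) A) T
  let ψA : T →ₐ[A] B₀ :=
    { toRingHom := ψ.toRingHom
      commutes' := fun a => by
        show ψ (algebraMap (AdicCompletion (maximalIdeal A) A) T
          (algebraMap A (AdicCompletion (maximalIdeal A) A) a)) = _
        rw [ψ.commutes]
        show algebraMap κ B₀ (ev (algebraMap A (AdicCompletion (maximalIdeal A) A) a)) = _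
        rw [hevA, ← IsScalarTower.algebraMap_apply] }
  have hkerA : RingHom.ker ψA.toRingHom = (maximalIdeal A).map (algebraMap A T) := by
    have h1 : RingHom.ker ψA.toRingHom = RingHom.ker ψ.toRingHom := rfl
    rw [h1, hker, AdicCompletion.maximalIdeal_eq_map, Ideal.map_map]
    rfl
  refine ⟨T, inferInstance, inferInstance, inferInstance, hN, hC, inferInstance, hflat,
    ⟨ψA, hψ, hkerA⟩, fun h => ?_⟩
  have h1 : EGA41.IsFormallySmoothAdic A ⊥ (AdicCompletion (maximalIdeal A) A)
      ((maximalIdeal A).map (algebraMap A (AdicCompletion (maximalIdeal A) A))) :=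
    (Groth.Agent.S2461.result (A := A) ⊥ (B := A) (maximalIdeal A)).1 fs_self
  have h2 : EGA41.IsFormallySmoothAdic (AdicCompletion (maximalIdeal A) A) ⊥ T (maximalIdeal T) :=
    (Groth.Agent.S4537.result _).1 (hfs h)
  have h3 : EGA41.IsFormallySmoothAdic (AdicCompletion (maximalIdeal A) A)
      ((maximalIdeal A).map (algebraMap A (AdicCompletion (maximalIdeal A) A))) T
      (maximalIdeal T) := by
    intro C _ _ J hJ _ u hu
    exact h2 C J hJ ⟨1, by rw [pow_one, Ideal.map_bot]⟩ u hu
  refine Groth.Agent.S4534.result (A := A) (B := AdicCompletion (maximalIdeal A) A) (C := T) ⊥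
    ((maximalIdeal A).map (algebraMap A (AdicCompletion (maximalIdeal A) A))) (maximalIdeal T)
    ⟨1, by rw [pow_one, Ideal.map_bot]; exact bot_le⟩ ⟨1, ?_⟩ h1 h3
  rw [pow_one, ← AdicCompletion.maximalIdeal_eq_map, Ideal.map_le_iff_le_comap]
  intro x hx
  rw [Ideal.mem_comap]
  exact fun hu => hx (isUnit_of_map_unit (algebraMap (AdicCompletion (maximalIdeal A) A) T) x hu)

end NC

end Groth.Agent.H87.LiftNC
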