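import Mathlib
import Groth.Agent.Lead.CompleteNoetherian

/-!
# (X2) for S8827: the flat local algebra `A_p → (Rh)_{p'}` and `N_{p'}` as a base change of `M_p`
-/

set_option autoImplicit false
set_option linter.style.haveILetI false

universe u

open IsLocalRing TensorProduct

namespace Groth.Agent.H87.Sit_X2

/-- Fibre lemma: if `p'` is minimal over `𝔞`, the only prime of `S_{p'}` containing `𝔞 S_{p'}` is the
maximal ideal. -/
theorem eq_maximalIdeal_of_minimalPrimes {S : Type u} [CommRing S] (𝔞 p' : Ideal S) [p'.IsPrime]
    (hmin : p' ∈ 𝔞.minimalPrimes) (P : Ideal (Localization.AtPrime p')) (hP : P.IsPrime)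
    (h𝔞 : 𝔞.map (algebraMap S (Localization.AtPrime p')) ≤ P) :
    P = maximalIdeal (Localization.AtPrime p') := by
  have hP₀ : (P.comap (algebraMap S (Localization.AtPrime p'))).IsPrime := Ideal.comap_isPrime _ _
  have hle : P.comap (algebraMap S (Localization.AtPrime p')) ≤ p' := by
    intro x hx
    by_contra hxp
    have hu : IsUnit (algebraMap S (Localization.AtPrime p') x) :=
      IsLocalization.map_units (Localization.AtPrime p') (⟨x, hxp⟩ : p'.primeCompl)
    exact hP.ne_top (Ideal.eq_top_of_isUnit_mem _ hx hu)
  have h𝔞' : 𝔞 ≤ P.comap (algebraMap S (Localization.AtPrime p')) := Ideal.map_le_iff_le_comap.mp h𝔞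
  have hge : p' ≤ P.comap (algebraMap S (Localization.AtPrime p')) := hmin.2 ⟨hP₀, h𝔞'⟩ hle
  have heq : P.comap (algebraMap S (Localization.AtPrime p')) = p' := le_antisymm hle hge
  have h1 : (P.comap (algebraMap S (Localization.AtPrime p'))).map
      (algebraMap S (Localization.AtPrime p')) = P :=
    IsLocalization.map_under p'.primeCompl (Localization.AtPrime p') P
  rw [← h1, heq, Localization.AtPrime.map_eq_maximalIdeal]

/-- Abstract composition / cancellation of base changes along `A → R → S → B` and `A → Ap → B`. -/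
theorem exists_isBaseChange_of_chain
    {A R S B Ap : Type u} [CommRing A] [CommRing R] [CommRing S] [CommRing B] [CommRing Ap]
    [Algebra A R] [Algebra R S] [Algebra S B] [Algebra A B] [Algebra R B]
    [IsScalarTower R S B] [IsScalarTower A R B]
    [Algebra A Ap] [Algebra Ap B] [IsScalarTower A Ap B]
    {M Mr Mh N Mp : Type u} [AddCommGroup M] [AddCommGroup Mr] [AddCommGroup Mh] [AddCommGroup N]
    [AddCommGroup Mp]
    [Module A M] [Module A Mr] [Module R Mr] [IsScalarTower A R Mr]
    [Module R Mh] [Module S Mh] [IsScalarTower R S Mh]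
    [Module S N] [Module B N] [IsScalarTower S B N]
    [Module A Mp] [Module Ap Mp] [IsScalarTower A Ap Mp]
    [Module Ap N] [IsScalarTower Ap B N]
    (f₁ : M →ₗ[A] Mr) (h₁ : IsBaseChange R f₁)
    (f₂ : Mr →ₗ[R] Mh) (h₂ : IsBaseChange S f₂)
    (f₃ : Mh →ₗ[S] N) (h₃ : IsBaseChange B f₃)
    (f₀ : M →ₗ[A] Mp) (h₀ : IsBaseChange Ap f₀) :
    ∃ g : Mp →ₗ[Ap] N, IsBaseChange B g := by
  letI mRN : Module R N := Module.compHom N (algebraMap R B)
  letI mAN : Module A N := Module.compHom N (algebraMap A B)
  haveI tRBN : IsScalarTower R B N := IsScalarTower.of_algebraMap_smul fun _ _ => rfl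
  haveI tABN : IsScalarTower A B N := IsScalarTower.of_algebraMap_smul fun _ _ => rfl
  haveI tRSN : IsScalarTower R S N := IsScalarTower.to₁₂₄ R S B N
  haveI tARN : IsScalarTower A R N := IsScalarTower.to₁₂₄ A R B N
  haveI tAApN : IsScalarTower A Ap N := IsScalarTower.to₁₂₄ A Ap B N
  have h23 : IsBaseChange B ((f₃.restrictScalars R).comp f₂) := h₂.comp h₃
  have h123 : IsBaseChange B ((((f₃.restrictScalars R).comp f₂).restrictScalars A).comp f₁) :=
    h₁.comp h23
  refine ⟨h₀.lift ((((f₃.restrictScalars R).comp f₂).restrictScalars A).comp f₁), ?_⟩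
  apply IsBaseChange.of_comp h₀
  rw [h₀.lift_comp]
  exact h123

variable (A : Type u) [CommRing A] [IsNoetherianRing A] (I : Ideal A)

/-- The `I`-adic completion of `A_r`. -/
abbrev Rh (r : PrimeSpectrum A) : Type u :=
  AdicCompletion (I.map (algebraMap A (Localization.AtPrime r.asIdeal)))
    (Localization.AtPrime r.asIdeal)

/-- **(X2)** -/
theorem exists_algebra_isBaseChange (M : Type u) [AddCommGroup M] [Module A M] [Module.Finite A M]
    (p r : PrimeSpectrum A) (p' : PrimeSpectrum (Rh A I r))
    (hcomap : p'.asIdeal.comap (algebraMap A (Rh A I r)) = p.asIdeal)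
    (hmin : p'.asIdeal ∈ (p.asIdeal.map (algebraMap A (Rh A I r))).minimalPrimes) :
    IsNoetherianRing (Localization.AtPrime p'.asIdeal) ∧
    ∃ (_ : Algebra (Localization.AtPrime p.asIdeal) (Localization.AtPrime p'.asIdeal))
      (_ : IsLocalHom (algebraMap (Localization.AtPrime p.asIdeal)
        (Localization.AtPrime p'.asIdeal)))
      (_ : Module.Flat (Localization.AtPrime p.asIdeal) (Localization.AtPrime p'.asIdeal))
      (_ : Module (Localization.AtPrime p.asIdeal) (LocalizedModule p'.asIdeal.primeCompl
        (AdicCompletion (I.map (algebraMap A (Localization.AtPrime r.asIdeal)))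
          (LocalizedModule r.asIdeal.primeCompl M))))
      (_ : IsScalarTower (Localization.AtPrime p.asIdeal) (Localization.AtPrime p'.asIdeal)
        (LocalizedModule p'.asIdeal.primeCompl
          (AdicCompletion (I.map (algebraMap A (Localization.AtPrime r.asIdeal)))
            (LocalizedModule r.asIdeal.primeCompl M))))
      (g : LocalizedModule p.asIdeal.primeCompl M →ₗ[Localization.AtPrime p.asIdeal]
        (LocalizedModule p'.asIdeal.primeCompl
          (AdicCompletion (I.map (algebraMap A (Localization.AtPrime r.asIdeal)))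
            (LocalizedModule r.asIdeal.primeCompl M)))),
      IsBaseChange (Localization.AtPrime p'.asIdeal) g ∧
      ∀ P : Ideal (Localization.AtPrime p'.asIdeal), P.IsPrime →
        (maximalIdeal (Localization.AtPrime p.asIdeal)).map
          (algebraMap (Localization.AtPrime p.asIdeal) (Localization.AtPrime p'.asIdeal)) ≤ P →
        P = maximalIdeal (Localization.AtPrime p'.asIdeal) := by
  have hJfg : (I.map (algebraMap A (Localization.AtPrime r.asIdeal))).FG :=
    IsNoetherian.noetherian _
  haveI hS : IsNoetherianRing (Rh A I r) :=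
    Groth.Agent.Lead.isNoetherianRing_adicCompletion _ hJfg
  haveI hB : IsNoetherianRing (Localization.AtPrime p'.asIdeal) :=
    IsLocalization.isNoetherianRing p'.asIdeal.primeCompl _ hS
  letI alg : Algebra (Localization.AtPrime p.asIdeal) (Localization.AtPrime p'.asIdeal) :=
    (Localization.localRingHom p.asIdeal p'.asIdeal (algebraMap A (Rh A I r)) hcomap.symm).toAlgebra
  haveI loc : IsLocalHom (algebraMap (Localization.AtPrime p.asIdeal)
      (Localization.AtPrime p'.asIdeal)) :=
    Localization.isLocalHom_localRingHom _ _ _ _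
  have hmapeq : ∀ x : A, algebraMap (Localization.AtPrime p.asIdeal)
      (Localization.AtPrime p'.asIdeal) (algebraMap A (Localization.AtPrime p.asIdeal) x) =
      algebraMap A (Localization.AtPrime p'.asIdeal) x := by
    intro x
    rw [IsScalarTower.algebraMap_apply A (Rh A I r) (Localization.AtPrime p'.asIdeal)]
    exact Localization.localRingHom_to_map _ _ _ _ x
  haveI tw : IsScalarTower A (Localization.AtPrime p.asIdeal) (Localization.AtPrime p'.asIdeal) :=
    IsScalarTower.of_algebraMap_eq fun x => (hmapeq x).symm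
  -- flatness
  haveI flAR : Module.Flat A (Localization.AtPrime r.asIdeal) :=
    IsLocalization.flat _ r.asIdeal.primeCompl
  haveI flAS : Module.Flat A (Rh A I r) := Module.Flat.trans A (Localization.AtPrime r.asIdeal) _
  haveI flSB : Module.Flat (Rh A I r) (Localization.AtPrime p'.asIdeal) :=
    IsLocalization.flat _ p'.asIdeal.primeCompl
  haveI flAB : Module.Flat A (Localization.AtPrime p'.asIdeal) :=
    Module.Flat.trans A (Rh A I r) _
  haveI flat : Module.Flat (Localization.AtPrime p.asIdeal) (Localization.AtPrime p'.asIdeal) :=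
    (Module.flat_iff_of_isLocalization (Localization.AtPrime p.asIdeal) p.asIdeal.primeCompl
      (Localization.AtPrime p'.asIdeal)).mpr flAB
  -- module structure
  letI mod : Module (Localization.AtPrime p.asIdeal) (LocalizedModule p'.asIdeal.primeCompl
      (AdicCompletion (I.map (algebraMap A (Localization.AtPrime r.asIdeal)))
        (LocalizedModule r.asIdeal.primeCompl M))) :=
    Module.compHom _ (algebraMap (Localization.AtPrime p.asIdeal) (Localization.AtPrime p'.asIdeal))
  haveI tw2 : IsScalarTower (Localization.AtPrime p.asIdeal) (Localization.AtPrime p'.asIdeal)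
      (LocalizedModule p'.asIdeal.primeCompl
        (AdicCompletion (I.map (algebraMap A (Localization.AtPrime r.asIdeal)))
          (LocalizedModule r.asIdeal.primeCompl M))) :=
    IsScalarTower.of_algebraMap_smul fun _ _ => rfl
  -- the three base changes
  have h₁ : IsBaseChange (Localization.AtPrime r.asIdeal)
      (LocalizedModule.mkLinearMap r.asIdeal.primeCompl M) :=
    IsLocalizedModule.isBaseChange r.asIdeal.primeCompl _ _
  have h₂ : IsBaseChange (Rh A I r)
      (AdicCompletion.of (I.map (algebraMap A (Localization.AtPrime r.asIdeal)))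
        (LocalizedModule r.asIdeal.primeCompl M)) := by
    refine IsBaseChange.of_equiv (AdicCompletion.ofTensorProductEquivOfFiniteNoetherian
      (I.map (algebraMap A (Localization.AtPrime r.asIdeal)))
      (LocalizedModule r.asIdeal.primeCompl M)) (fun x => ?_)
    simp
  have h₃ : IsBaseChange (Localization.AtPrime p'.asIdeal)
      (LocalizedModule.mkLinearMap p'.asIdeal.primeCompl
        (AdicCompletion (I.map (algebraMap A (Localization.AtPrime r.asIdeal)))
          (LocalizedModule r.asIdeal.primeCompl M))) :=
    IsLocalizedModule.isBaseChange p'.asIdeal.primeCompl _ _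
  have h₀ : IsBaseChange (Localization.AtPrime p.asIdeal)
      (LocalizedModule.mkLinearMap p.asIdeal.primeCompl M) :=
    IsLocalizedModule.isBaseChange p.asIdeal.primeCompl _ _
  obtain ⟨g, hg⟩ := exists_isBaseChange_of_chain
    (LocalizedModule.mkLinearMap r.asIdeal.primeCompl M) h₁ _ h₂ _ h₃ _ h₀
  refine ⟨hB, alg, loc, flat, mod, tw2, g, hg, fun P hP hle => ?_⟩
  apply eq_maximalIdeal_of_minimalPrimes _ _ hmin P hP
  refine le_trans ?_ hle
  rw [Ideal.map_map, Ideal.map_le_iff_le_comap]
  intro a ha
  rw [Ideal.mem_comap]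
  have h1 : algebraMap A (Localization.AtPrime p.asIdeal) a ∈
      maximalIdeal (Localization.AtPrime p.asIdeal) := by
    rw [← Localization.AtPrime.map_eq_maximalIdeal]
    exact Ideal.mem_map_of_mem _ ha
  have h2 := Ideal.mem_map_of_mem (algebraMap (Localization.AtPrime p.asIdeal)
    (Localization.AtPrime p'.asIdeal)) h1
  rw [hmapeq] at h2
  rw [IsScalarTower.algebraMap_apply A (Rh A I r) (Localization.AtPrime p'.asIdeal)] at h2
  exact h2

end Groth.Agent.H87.Sit_X2
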