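import Mathlib
import Groth.Prelude.Def_DerSch2
import Groth.Agent.H8.FlatBaseChange

/-!
# (C4) for S12090: base change of a chart along a cartesian square
-/

set_option autoImplicit false
set_option linter.style.haveILetI false

universe u

open CategoryTheory CategoryTheory.Limits AlgebraicGeometry

namespace Groth.Agent.H87.RelPC

section ring

attribute [local instance] MvPolynomial.algebraMvPolynomial

/-- The square `R → R[x]`, `R → R'`, `R[x] → R'[x]`, `R' → R'[x]` is a pushout of commutative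
rings. -/
theorem isPushout_mvPolynomial {R R' : CommRingCat.{u}} (σ : Type) (ψ : R ⟶ R') :
    IsPushout (CommRingCat.ofHom (MvPolynomial.C (σ := σ) (R := R))) ψ
      (CommRingCat.ofHom (MvPolynomial.map (σ := σ) ψ.hom))
      (CommRingCat.ofHom (MvPolynomial.C (σ := σ) (R := R'))) := by
  letI : Algebra R R' := ψ.hom.toAlgebra
  exact CommRingCat.isPushout_of_isPushout R (MvPolynomial σ R) R' (MvPolynomial σ R')

end ring

/-- **(C4)** -/
theorem exists_chart_baseChange {X S X' S' : Scheme.{u}} {f : X ⟶ S} {h : S' ⟶ S} {f' : X' ⟶ S'}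
    {g : X' ⟶ X} (sq : IsPullback g f' f h) {V : S.Opens} {V' : S'.Opens} {U : X.Opens}
    (hV : IsAffineOpen V) (hV' : IsAffineOpen V') (hU : IsAffineOpen U)
    (hVV' : V' ≤ h ⁻¹ᵁ V) (hUV : U ≤ f ⁻¹ᵁ V) {n : ℕ}
    (φ : MvPolynomial (Fin n) Γ(S, V) →+* Γ(X, U)) (hφ : DerSch.IsChart f U V hUV φ) :
    ∃ (φ' : MvPolynomial (Fin n) Γ(S', V') →+* Γ(X', g ⁻¹ᵁ U ⊓ f' ⁻¹ᵁ V'))
      (gU : ((g ⁻¹ᵁ U ⊓ f' ⁻¹ᵁ V' : X'.Opens) : Scheme.{u}) ⟶ (U : Scheme.{u})),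
      DerSch.IsChart f' (g ⁻¹ᵁ U ⊓ f' ⁻¹ᵁ V') V' inf_le_right φ' ∧
      gU ≫ U.ι = (g ⁻¹ᵁ U ⊓ f' ⁻¹ᵁ V').ι ≫ g ∧
      IsPullback gU (DerSch.chartImm (g ⁻¹ᵁ U ⊓ f' ⁻¹ᵁ V') φ') (DerSch.chartImm U φ)
        (Spec.map (CommRingCat.ofHom (MvPolynomial.map (σ := Fin n) (h.appLE V V' hVV').hom))) := by
  have hU' : IsAffineOpen (g ⁻¹ᵁ U ⊓ f' ⁻¹ᵁ V') :=
    Groth.Agent.H8.isAffineOpen_prodOpen sq hV hV' hVV' hU hUV
  have hpush : IsPushout (f.appLE V U hUV) (h.appLE V V' hVV')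
      (g.appLE U (g ⁻¹ᵁ U ⊓ f' ⁻¹ᵁ V') inf_le_left)
      (f'.appLE V' (g ⁻¹ᵁ U ⊓ f' ⁻¹ᵁ V') inf_le_right) := by
    have := isIso_pushoutSection_of_isAffineOpen sq hVV' hUV rfl hV hV' hU
    exact (isIso_pushoutSection_iff sq hVV' hUV rfl).mp this
  -- the new chart
  let φ' : MvPolynomial (Fin n) Γ(S', V') →+* Γ(X', g ⁻¹ᵁ U ⊓ f' ⁻¹ᵁ V') :=
    MvPolynomial.eval₂Hom (f'.appLE V' (g ⁻¹ᵁ U ⊓ f' ⁻¹ᵁ V') inf_le_right).hom
      (fun j => (g.appLE U (g ⁻¹ᵁ U ⊓ f' ⁻¹ᵁ V') inf_le_left).hom (φ (MvPolynomial.X j)))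
  have hφ'C : φ'.comp MvPolynomial.C =
      (f'.appLE V' (g ⁻¹ᵁ U ⊓ f' ⁻¹ᵁ V') inf_le_right).hom := by
    ext r
    simp [φ']
  -- commutation of the right-hand ring square
  have hcomm : CommRingCat.ofHom φ ≫ g.appLE U (g ⁻¹ᵁ U ⊓ f' ⁻¹ᵁ V') inf_le_left =
      CommRingCat.ofHom (MvPolynomial.map (σ := Fin n) (h.appLE V V' hVV').hom) ≫
        CommRingCat.ofHom φ' := by
    ext1
    apply MvPolynomial.ringHom_ext
    · intro r
      have h1 : φ (MvPolynomial.C r) = (f.appLE V U hUV).hom r := by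
        rw [← hφ.2]; rfl
      have h2 := congrArg (fun k => k.hom r) hpush.w
      simp only [CommRingCat.hom_comp, RingHom.comp_apply] at h2
      simp [φ', h1, h2]
    · intro j
      simp [φ']
  have hs : IsPushout (CommRingCat.ofHom (MvPolynomial.C (σ := Fin n) (R := Γ(S, V))) ≫
        CommRingCat.ofHom φ) (h.appLE V V' hVV')
      (g.appLE U (g ⁻¹ᵁ U ⊓ f' ⁻¹ᵁ V') inf_le_left)
      (CommRingCat.ofHom (MvPolynomial.C (σ := Fin n) (R := Γ(S', V'))) ≫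
        CommRingCat.ofHom φ') := by
    have e1 : CommRingCat.ofHom (MvPolynomial.C (σ := Fin n) (R := Γ(S, V))) ≫
        CommRingCat.ofHom φ = f.appLE V U hUV := by
      ext1
      exact hφ.2
    have e2 : CommRingCat.ofHom (MvPolynomial.C (σ := Fin n) (R := Γ(S', V'))) ≫
        CommRingCat.ofHom φ' = f'.appLE V' (g ⁻¹ᵁ U ⊓ f' ⁻¹ᵁ V') inf_le_right := by
      ext1
      exact hφ'C
    rw [e1, e2]
    exact hpush
  have hright : IsPushout (CommRingCat.ofHom φ)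
      (CommRingCat.ofHom (MvPolynomial.map (σ := Fin n) (h.appLE V V' hVV').hom))
      (g.appLE U (g ⁻¹ᵁ U ⊓ f' ⁻¹ᵁ V') inf_le_left) (CommRingCat.ofHom φ') :=
    IsPushout.of_left hs hcomm (isPushout_mvPolynomial (Fin n) (h.appLE V V' hVV'))
  -- surjectivity of `φ'`
  have hsurj : Function.Surjective φ' := by
    have hcl := CommRingCat.closure_range_union_range_eq_top_of_isPushout hright
    have hsub : Set.range (g.appLE U (g ⁻¹ᵁ U ⊓ f' ⁻¹ᵁ V') inf_le_left) ∪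
        Set.range (CommRingCat.ofHom φ') ⊆ (φ'.range : Set _) := by
      rintro _ (⟨a, rfl⟩ | ⟨p, rfl⟩)
      · obtain ⟨p, rfl⟩ := hφ.1 a
        have := congrArg (fun k => k.hom p) hcomm
        simp only [CommRingCat.hom_comp, CommRingCat.hom_ofHom, RingHom.comp_apply] at this
        exact ⟨_, this.symm⟩
      · exact ⟨p, rfl⟩
    have htop : φ'.range = ⊤ := by
      apply top_unique
      rw [← hcl]
      exact Subring.closure_le.mpr hsub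
    exact RingHom.range_eq_top.mp htop
  refine ⟨φ', g.resLE U (g ⁻¹ᵁ U ⊓ f' ⁻¹ᵁ V') inf_le_left, ⟨hsurj, hφ'C⟩,
    Scheme.Hom.resLE_comp_ι _ _, ?_⟩
  have hbot := isPullback_SpecMap_of_isPushout _ _ _ _ hright
  have htop : IsPullback (g.resLE U (g ⁻¹ᵁ U ⊓ f' ⁻¹ᵁ V') inf_le_left)
      (g ⁻¹ᵁ U ⊓ f' ⁻¹ᵁ V').toSpecΓ U.toSpecΓ
      (Spec.map (g.appLE U (g ⁻¹ᵁ U ⊓ f' ⁻¹ᵁ V') inf_le_left)) := by
    haveI : IsIso (g ⁻¹ᵁ U ⊓ f' ⁻¹ᵁ V').toSpecΓ := by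
      rw [← IsAffineOpen.isoSpec_hom hU']; infer_instance
    haveI : IsIso U.toSpecΓ := by
      rw [← IsAffineOpen.isoSpec_hom hU]; infer_instance
    exact IsPullback.of_vert_isIso ⟨(Scheme.Opens.toSpecΓ_SpecMap_appLE g U _ inf_le_left).symm⟩
  exact htop.paste_vert hbot

end Groth.Agent.H87.RelPC
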