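import Mathlib
import Groth.Prelude.Def_DerSch2
import Groth.Agent.H8.FlatBaseChange

/-!
# (C4b) for S12090: `Spec` of `MvPolynomial.map` of a flat ring map of sections is flat
-/

set_option autoImplicit false

universe u

open CategoryTheory CategoryTheory.Limits AlgebraicGeometry

namespace Groth.Agent.H87.RelPC

section ring

attribute [local instance] MvPolynomial.algebraMvPolynomial

/-- Ring-level statement: `MvPolynomial.map φ` is flat when `φ` is flat. -/
theorem flat_mvPolynomial_map {R R' : Type u} [CommRing R] [CommRing R'] (σ : Type*)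
    (φ : R →+* R') (hφ : φ.Flat) : (MvPolynomial.map (σ := σ) φ).Flat := by
  letI : Algebra R R' := φ.toAlgebra
  haveI : Module.Flat R R' := hφ
  have hbc : IsBaseChange (MvPolynomial σ R)
      (IsScalarTower.toAlgHom R R' (MvPolynomial σ R')).toLinearMap :=
    (inferInstance : Algebra.IsPushout R (MvPolynomial σ R) R' (MvPolynomial σ R')).out
  have : Module.Flat (MvPolynomial σ R) (MvPolynomial σ R') :=
    Module.Flat.isBaseChange R (MvPolynomial σ R) R' (MvPolynomial σ R') hbc
  exact this

end ring

/-- **(C4b)** -/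
theorem flat_Spec_map_mvPolynomial_map {S S' : Scheme.{u}} (h : S' ⟶ S) [Flat h] {V : S.Opens}
    {V' : S'.Opens} (hV : IsAffineOpen V) (hV' : IsAffineOpen V') (hVV' : V' ≤ h ⁻¹ᵁ V) (n : ℕ) :
    Flat (Spec.map (CommRingCat.ofHom
      (MvPolynomial.map (σ := Fin n) (h.appLE V V' hVV').hom))) := by
  rw [AlgebraicGeometry.Flat.SpecMap_iff]
  have hfl : (h.appLE V V' hVV').hom.Flat :=
    HasRingHomProperty.appLE @Flat h inferInstance ⟨V, hV⟩ ⟨V', hV'⟩ _
  exact flat_mvPolynomial_map (Fin n) _ hfl

end Groth.Agent.H87.RelPC
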