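import Mathlib
import Groth.Agent.S6320
import Groth.Agent.H15.ComFac
import Groth.Agent.H11.LenSum

/-!
# Length of `B/(b)` over a local base as a sum over the maximal ideals of a finite extension
(provider lemmas for helper34's S1847 squad)
-/

set_option autoImplicit false
universe u
open IsLocalRing

namespace Groth.Agent.H87.LenFinsum

variable {A B : Type u} [CommRing A] [IsLocalRing A] [CommRing B] [Algebra A B]
  [Module.Finite A B]

theorem comap_eq_maximalIdeal (q : MaximalSpectrum B) :
    q.asIdeal.comap (algebraMap A B) = maximalIdeal A := by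
  haveI : Algebra.IsIntegral A B := Algebra.IsIntegral.of_finite A B
  haveI := q.isMaximal
  exact eq_maximalIdeal (Ideal.isMaximal_comap_of_isIntegral_of_isMaximal (R := A) q.asIdeal)

theorem residue_surjective (q : MaximalSpectrum B) :
    Function.Surjective ((IsLocalRing.residue (Localization.AtPrime q.asIdeal)).comp
      (algebraMap B (Localization.AtPrime q.asIdeal))) := by
  haveI := q.isMaximal
  intro w
  obtain ⟨y, rfl⟩ :=
    (IsLocalization.AtPrime.equivQuotMaximalIdeal q.asIdeal
      (Localization.AtPrime q.asIdeal)).surjective w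
  obtain ⟨x, rfl⟩ := Ideal.Quotient.mk_surjective y
  exact ⟨x, (IsLocalization.AtPrime.equivQuotMaximalIdeal_apply_mk q.asIdeal
    (Localization.AtPrime q.asIdeal) x).symm⟩

theorem finite_residueField (q : MaximalSpectrum B)
    [IsLocalHom (algebraMap A (Localization.AtPrime q.asIdeal))] :
    Module.Finite (ResidueField A) (ResidueField (Localization.AtPrime q.asIdeal)) := by
  haveI : Module.Finite A (ResidueField (Localization.AtPrime q.asIdeal)) := by
    let g : B →ₐ[A] ResidueField (Localization.AtPrime q.asIdeal) :=
      (IsScalarTower.toAlgHom A (Localization.AtPrime q.asIdeal)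
        (ResidueField (Localization.AtPrime q.asIdeal))).comp
        (IsScalarTower.toAlgHom A B (Localization.AtPrime q.asIdeal))
    exact Module.Finite.of_surjective g.toLinearMap (residue_surjective q)
  exact Module.Finite.of_restrictScalars_finite A _ _

theorem finrank_quot_eq (q : MaximalSpectrum B)
    [IsLocalHom (algebraMap A (Localization.AtPrime q.asIdeal))] :
    Module.finrank (A ⧸ q.asIdeal.comap (algebraMap A B)) (B ⧸ q.asIdeal) =
      Module.finrank (ResidueField A) (ResidueField (Localization.AtPrime q.asIdeal)) := by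
  haveI := q.isMaximal
  refine Algebra.finrank_eq_of_equiv_equiv
    (Ideal.quotEquivOfEq (comap_eq_maximalIdeal q))
    (IsLocalization.AtPrime.equivQuotMaximalIdeal q.asIdeal (Localization.AtPrime q.asIdeal)) ?_
  apply Ideal.Quotient.ringHom_ext
  ext a
  show algebraMap (ResidueField A) (ResidueField (Localization.AtPrime q.asIdeal))
      (IsLocalRing.residue A a) =
    (IsLocalization.AtPrime.equivQuotMaximalIdeal q.asIdeal (Localization.AtPrime q.asIdeal))
      (Ideal.Quotient.mk q.asIdeal (algebraMap A B a))
  rw [IsLocalization.AtPrime.equivQuotMaximalIdeal_apply_mk,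
    ← IsScalarTower.algebraMap_apply A B (Localization.AtPrime q.asIdeal)]
  rfl

theorem length_quot_eq_finsum
    [hloc : ∀ q : MaximalSpectrum B, IsLocalHom (algebraMap A (Localization.AtPrime q.asIdeal))]
    (b : B) (hfin : IsFiniteLength A (B ⧸ Ideal.span {b})) :
    Module.length A (B ⧸ Ideal.span {b}) = ∑ᶠ q : MaximalSpectrum B,
      (Module.finrank (ResidueField A) (ResidueField (Localization.AtPrime q.asIdeal)) : ℕ∞) *
        Ring.ord (Localization.AtPrime q.asIdeal)
          (algebraMap B (Localization.AtPrime q.asIdeal) b) := by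
  classical
  haveI : Finite (MaximalSpectrum B) := by
    have h1 := Groth.Agent.H15.ComFac.finite_setOf_isMaximal_of_finite A B
    haveI := h1.to_subtype
    exact Finite.of_injective (fun q : MaximalSpectrum B =>
      (⟨q.asIdeal, q.isMaximal⟩ : {I : Ideal B | I.IsMaximal}))
      (fun q q' h => MaximalSpectrum.ext (congrArg Subtype.val h))
  haveI : Fintype (MaximalSpectrum B) := Fintype.ofFinite _
  rw [finsum_eq_sum_of_fintype]
  have hB : IsFiniteLength B (B ⧸ Ideal.span {b}) := by
    rw [isFiniteLength_iff_isNoetherian_isArtinian] at hfin ⊢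
    exact ⟨isNoetherian_of_tower A hfin.1, isArtinian_of_tower A hfin.2⟩
  have haux := Groth.Agent.S6320.aux (A := A) (B := B) (fun n => comap_eq_maximalIdeal n)
    (fun n => Module.Finite.of_restrictScalars_finite A _ _) (B ⧸ Ideal.span {b}) hB
  rw [haux]
  refine Finset.sum_congr rfl fun q _ => ?_
  rw [finrank_quot_eq q]
  congr 1
  have h2 := Groth.Agent.H11.LenSum.locLen_quotient q (Ideal.span {b})
  rw [Ideal.map_span, Set.image_singleton] at h2
  exact h2

end Groth.Agent.H87.LenFinsum
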