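import Groth.Agent.H34.KeyDefs
import Groth.Agent.S1848

/-!
# Ring-level pieces (RA)–(RD2) of the key formula S1920: the tame symbol extended to fractions
-/

set_option autoImplicit false
set_option linter.style.haveILetI false

universe u v

open CategoryTheory AlgebraicGeometry TopologicalSpace Opposite

namespace Groth.Agent.H87.KeyRing

open Groth.Agent.H34.Key

section Basic

variable {R : Type u} [CommRing R] [IsNoetherianRing R] [IsLocalRing R] [IsDomain R]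

theorem krullDimLE_one (hR : ringKrullDim R = 1) : Ring.KrullDimLE 1 R :=
  Ring.krullDimLE_iff.mpr (le_of_eq hR)

theorem ts_ne (hR : ringKrullDim R = 1) {a b : R} (ha : a ≠ 0) (hb : b ≠ 0) :
    CycAlg.tameSymbol R a b ≠ 0 :=
  (Groth.Agent.S1848.result R hR).1 a b (mem_nonZeroDivisors_of_ne_zero ha)
    (mem_nonZeroDivisors_of_ne_zero hb)

theorem ts_mul_left (hR : ringKrullDim R = 1) {a a' b : R} (ha : a ≠ 0) (ha' : a' ≠ 0)
    (hb : b ≠ 0) :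
    CycAlg.tameSymbol R (a * a') b = CycAlg.tameSymbol R a b * CycAlg.tameSymbol R a' b :=
  ((Groth.Agent.S1848.result R hR).2.1 a a' b (mem_nonZeroDivisors_of_ne_zero ha)
    (mem_nonZeroDivisors_of_ne_zero ha') (mem_nonZeroDivisors_of_ne_zero hb)).1

theorem ts_mul_right (hR : ringKrullDim R = 1) {a a' b : R} (ha : a ≠ 0) (ha' : a' ≠ 0)
    (hb : b ≠ 0) :
    CycAlg.tameSymbol R b (a * a') = CycAlg.tameSymbol R b a * CycAlg.tameSymbol R b a' :=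
  ((Groth.Agent.S1848.result R hR).2.1 a a' b (mem_nonZeroDivisors_of_ne_zero ha)
    (mem_nonZeroDivisors_of_ne_zero ha') (mem_nonZeroDivisors_of_ne_zero hb)).2

theorem ts_self (hR : ringKrullDim R = 1) {b : R} (hb : b ≠ 0) :
    CycAlg.tameSymbol R b b = (-1) ^ (Ring.ord R b).toNat :=
  (Groth.Agent.S1848.result R hR).2.2.1 b (mem_nonZeroDivisors_of_ne_zero hb)

theorem ts_unit (hR : ringKrullDim R = 1) {c b : R} (hc : IsUnit c) (hb : b ≠ 0) :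
    CycAlg.tameSymbol R c b = IsLocalRing.residue R c ^ (Ring.ord R b).toNat := by
  obtain ⟨c, rfl⟩ := hc
  exact (Groth.Agent.S1848.result R hR).2.2.2.1 c b (mem_nonZeroDivisors_of_ne_zero hb)

theorem ts_one_left (hR : ringKrullDim R = 1) {b : R} (hb : b ≠ 0) :
    CycAlg.tameSymbol R 1 b = 1 := by
  have h := ts_mul_left hR (one_ne_zero (α := R)) (one_ne_zero (α := R)) hb
  rw [one_mul] at h
  have hne := ts_ne hR (one_ne_zero (α := R)) hb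
  exact (mul_right_cancel₀ hne (by rw [one_mul]; exact h)).symm

theorem ts_one_right (hR : ringKrullDim R = 1) {b : R} (hb : b ≠ 0) :
    CycAlg.tameSymbol R b 1 = 1 := by
  have h := ts_mul_right hR (one_ne_zero (α := R)) (one_ne_zero (α := R)) hb
  rw [one_mul] at h
  have hne := ts_ne hR hb (one_ne_zero (α := R))
  exact (mul_right_cancel₀ hne (by rw [one_mul]; exact h)).symm

theorem ord_toNat_mul (hR : ringKrullDim R = 1) {a b : R} (ha : a ≠ 0) (hb : b ≠ 0) :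
    (Ring.ord R (a * b)).toNat = (Ring.ord R a).toNat + (Ring.ord R b).toNat := by
  haveI := krullDimLE_one hR
  rw [Ring.ord_mul R (mem_nonZeroDivisors_of_ne_zero hb),
    ENat.toNat_add (Ring.ord_ne_top (mem_nonZeroDivisors_of_ne_zero ha))
      (Ring.ord_ne_top (mem_nonZeroDivisors_of_ne_zero hb))]

/-- invariance of `tameExt` under change of the representation of the first fraction -/
theorem tameExt_congr_left (hR : ringKrullDim R = 1) {a₁ a₂ a₁' a₂' b₁ b₂ : R} (h1 : a₁ ≠ 0)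
    (h2 : a₂ ≠ 0) (h1' : a₁' ≠ 0) (h2' : a₂' ≠ 0) (h3 : b₁ ≠ 0) (h4 : b₂ ≠ 0)
    (h : a₁ * a₂' = a₁' * a₂) : tameExt R a₁ a₂ b₁ b₂ = tameExt R a₁' a₂' b₁ b₂ := by
  have hi : CycAlg.tameSymbol R a₁ b₁ * CycAlg.tameSymbol R a₂' b₁ =
      CycAlg.tameSymbol R a₁' b₁ * CycAlg.tameSymbol R a₂ b₁ := by
    rw [← ts_mul_left hR h1 h2' h3, ← ts_mul_left hR h1' h2 h3, h]
  have hii : CycAlg.tameSymbol R a₁ b₂ * CycAlg.tameSymbol R a₂' b₂ =
      CycAlg.tameSymbol R a₁' b₂ * CycAlg.tameSymbol R a₂ b₂ := by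
    rw [← ts_mul_left hR h1 h2' h4, ← ts_mul_left hR h1' h2 h4, h]
  have n11 := ts_ne hR h1 h3
  have n12 := ts_ne hR h1 h4
  have n21 := ts_ne hR h2 h3
  have n22 := ts_ne hR h2 h4
  have m11 := ts_ne hR h1' h3
  have m12 := ts_ne hR h1' h4
  have m21 := ts_ne hR h2' h3
  have m22 := ts_ne hR h2' h4
  unfold tameExt
  rw [← div_eq_mul_inv, ← div_eq_mul_inv, div_eq_div_iff (mul_ne_zero n12 n21)
    (mul_ne_zero m12 m21)]
  linear_combination (CycAlg.tameSymbol R a₂ b₂ * CycAlg.tameSymbol R a₁' b₂) * hi -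
    (CycAlg.tameSymbol R a₁' b₁ * CycAlg.tameSymbol R a₂ b₁) * hii

/-- invariance of `tameExt` under change of the representation of the second fraction -/
theorem tameExt_congr_right (hR : ringKrullDim R = 1) {a₁ a₂ b₁ b₂ b₁' b₂' : R} (h1 : a₁ ≠ 0)
    (h2 : a₂ ≠ 0) (h3 : b₁ ≠ 0) (h4 : b₂ ≠ 0) (h3' : b₁' ≠ 0) (h4' : b₂' ≠ 0)
    (h : b₁ * b₂' = b₁' * b₂) : tameExt R a₁ a₂ b₁ b₂ = tameExt R a₁ a₂ b₁' b₂' := by
  have hi : CycAlg.tameSymbol R a₁ b₁ * CycAlg.tameSymbol R a₁ b₂' =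
      CycAlg.tameSymbol R a₁ b₁' * CycAlg.tameSymbol R a₁ b₂ := by
    rw [← ts_mul_right hR h3 h4' h1, ← ts_mul_right hR h3' h4 h1, h]
  have hii : CycAlg.tameSymbol R a₂ b₁ * CycAlg.tameSymbol R a₂ b₂' =
      CycAlg.tameSymbol R a₂ b₁' * CycAlg.tameSymbol R a₂ b₂ := by
    rw [← ts_mul_right hR h3 h4' h2, ← ts_mul_right hR h3' h4 h2, h]
  have n11 := ts_ne hR h1 h3
  have n12 := ts_ne hR h1 h4
  have n21 := ts_ne hR h2 h3
  have n22 := ts_ne hR h2 h4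
  have m11 := ts_ne hR h1 h3'
  have m12 := ts_ne hR h1 h4'
  have m21 := ts_ne hR h2 h3'
  have m22 := ts_ne hR h2 h4'
  unfold tameExt
  rw [← div_eq_mul_inv, ← div_eq_mul_inv, div_eq_div_iff (mul_ne_zero n12 n21)
    (mul_ne_zero m12 m21)]
  linear_combination (CycAlg.tameSymbol R a₂ b₂ * CycAlg.tameSymbol R a₂ b₁') * hi -
    (CycAlg.tameSymbol R a₁ b₁' * CycAlg.tameSymbol R a₁ b₂) * hii

theorem tameExt_ne_zero (hR : ringKrullDim R = 1) {a₁ a₂ b₁ b₂ : R} (h1 : a₁ ≠ 0)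
    (h2 : a₂ ≠ 0) (h3 : b₁ ≠ 0) (h4 : b₂ ≠ 0) : tameExt R a₁ a₂ b₁ b₂ ≠ 0 := by
  unfold tameExt
  exact mul_ne_zero (mul_ne_zero (ts_ne hR h1 h3) (ts_ne hR h2 h4))
    (inv_ne_zero (mul_ne_zero (ts_ne hR h1 h4) (ts_ne hR h2 h3)))

end Basic

section Ring

variable (R : Type u) [CommRing R] [IsNoetherianRing R] [IsLocalRing R] [IsDomain R]
  (hR : ringKrullDim R = 1) (K : Type v) [Field K] [Algebra R K] [IsFractionRing R K]

/-- (RA) antisymmetry of the tame symbol. -/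
theorem tame_antisymm (hR : ringKrullDim R = 1) (a b : R) (ha : a ≠ 0) (hb : b ≠ 0) :
    CycAlg.tameSymbol R a b * CycAlg.tameSymbol R b a = 1 := by
  have hab : a * b ≠ 0 := mul_ne_zero ha hb
  have h1 : CycAlg.tameSymbol R (a * b) (a * b) =
      CycAlg.tameSymbol R a a * CycAlg.tameSymbol R a b *
        (CycAlg.tameSymbol R b a * CycAlg.tameSymbol R b b) := by
    rw [ts_mul_left hR ha hb hab, ts_mul_right hR ha hb ha, ts_mul_right hR ha hb hb]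
  rw [ts_self hR hab, ts_self hR ha, ts_self hR hb, ord_toNat_mul hR ha hb, pow_add] at h1
  have hu : ((-1 : IsLocalRing.ResidueField R) ^ (Ring.ord R a).toNat *
      (-1) ^ (Ring.ord R b).toNat) ≠ 0 :=
    mul_ne_zero (pow_ne_zero _ (neg_ne_zero.mpr one_ne_zero))
      (pow_ne_zero _ (neg_ne_zero.mpr one_ne_zero))
  have h2 : ((-1 : IsLocalRing.ResidueField R) ^ (Ring.ord R a).toNat *
      (-1) ^ (Ring.ord R b).toNat) * (CycAlg.tameSymbol R a b * CycAlg.tameSymbol R b a) =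
      ((-1 : IsLocalRing.ResidueField R) ^ (Ring.ord R a).toNat *
      (-1) ^ (Ring.ord R b).toNat) * 1 := by
    rw [mul_one]
    linear_combination -h1
  exact mul_left_cancel₀ hu h2

/-- (RB) `tameFrac` is computed by any representation by nonzero numerators/denominators. -/
theorem tameFrac_eq (hR : ringKrullDim R = 1) (ψ χ : K) (a₁ a₂ b₁ b₂ : R) (h1 : a₁ ≠ 0)
    (h2 : a₂ ≠ 0) (h3 : b₁ ≠ 0) (h4 : b₂ ≠ 0)
    (hψ : ψ * algebraMap R K a₂ = algebraMap R K a₁)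
    (hχ : χ * algebraMap R K b₂ = algebraMap R K b₁) :
    tameFrac R K ψ χ = tameExt R a₁ a₂ b₁ b₂ := by
  classical
  have hex : ∃ p : R × R × R × R, p.1 ≠ 0 ∧ p.2.1 ≠ 0 ∧ p.2.2.1 ≠ 0 ∧ p.2.2.2 ≠ 0 ∧
      ψ * algebraMap R K p.2.1 = algebraMap R K p.1 ∧
      χ * algebraMap R K p.2.2.2 = algebraMap R K p.2.2.1 :=
    ⟨(a₁, a₂, b₁, b₂), h1, h2, h3, h4, hψ, hχ⟩
  unfold tameFrac
  rw [dif_pos hex]
  obtain ⟨g1, g2, g3, g4, gψ, gχ⟩ := hex.choose_spec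
  have hinj := IsFractionRing.injective R K
  have ea : hex.choose.1 * a₂ = a₁ * hex.choose.2.1 := by
    apply hinj
    rw [map_mul, map_mul, ← gψ, ← hψ]
    ring
  have eb : hex.choose.2.2.1 * b₂ = b₁ * hex.choose.2.2.2 := by
    apply hinj
    rw [map_mul, map_mul, ← gχ, ← hχ]
    ring
  rw [tameExt_congr_left hR g1 g2 h1 h2 g3 g4 ea, tameExt_congr_right hR h1 h2 g3 g4 h3 h4 eb]

variable {R K} in
/-- representation of a nonzero element of the fraction field -/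
theorem exists_rep (ψ : K) (hψ : ψ ≠ 0) :
    ∃ a₁ a₂ : R, a₁ ≠ 0 ∧ a₂ ≠ 0 ∧ ψ * algebraMap R K a₂ = algebraMap R K a₁ := by
  obtain ⟨a₁, a₂, ha₂, rfl⟩ := IsFractionRing.div_surjective (A := R) ψ
  have h2 : a₂ ≠ 0 := nonZeroDivisors.ne_zero ha₂
  have h2' : algebraMap R K a₂ ≠ 0 := by
    rw [Ne, map_eq_zero_iff _ (IsFractionRing.injective R K)]; exact h2
  refine ⟨a₁, a₂, ?_, h2, div_mul_cancel₀ _ h2'⟩
  rintro rfl
  rw [map_zero, zero_div] at hψ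
  exact hψ rfl

/-- (RC1) -/
theorem tameFrac_ne_zero (hR : ringKrullDim R = 1) (ψ χ : K) (hψ : ψ ≠ 0) (hχ : χ ≠ 0) :
    tameFrac R K ψ χ ≠ 0 := by
  obtain ⟨a₁, a₂, h1, h2, ha⟩ := exists_rep (R := R) ψ hψ
  obtain ⟨b₁, b₂, h3, h4, hb⟩ := exists_rep (R := R) χ hχ
  rw [tameFrac_eq R K hR ψ χ a₁ a₂ b₁ b₂ h1 h2 h3 h4 ha hb]
  exact tameExt_ne_zero hR h1 h2 h3 h4

/-- (RC2) -/
theorem tameFrac_mul_left (hR : ringKrullDim R = 1) (ψ ψ' χ : K) (hψ : ψ ≠ 0) (hψ' : ψ' ≠ 0)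
    (hχ : χ ≠ 0) : tameFrac R K (ψ * ψ') χ = tameFrac R K ψ χ * tameFrac R K ψ' χ := by
  obtain ⟨a₁, a₂, h1, h2, ha⟩ := exists_rep (R := R) ψ hψ
  obtain ⟨a₁', a₂', h1', h2', ha'⟩ := exists_rep (R := R) ψ' hψ'
  obtain ⟨b₁, b₂, h3, h4, hb⟩ := exists_rep (R := R) χ hχ
  have hprod : ψ * ψ' * algebraMap R K (a₂ * a₂') = algebraMap R K (a₁ * a₁') := by
    rw [map_mul, map_mul, ← ha, ← ha']; ring
  rw [tameFrac_eq R K hR ψ χ a₁ a₂ b₁ b₂ h1 h2 h3 h4 ha hb,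
    tameFrac_eq R K hR ψ' χ a₁' a₂' b₁ b₂ h1' h2' h3 h4 ha' hb,
    tameFrac_eq R K hR (ψ * ψ') χ (a₁ * a₁') (a₂ * a₂') b₁ b₂ (mul_ne_zero h1 h1')
      (mul_ne_zero h2 h2') h3 h4 hprod hb]
  unfold tameExt
  rw [ts_mul_left hR h1 h1' h3, ts_mul_left hR h2 h2' h4, ts_mul_left hR h1 h1' h4,
    ts_mul_left hR h2 h2' h3]
  simp only [mul_inv]
  ring

/-- (RC3) -/
theorem tameFrac_mul_right (hR : ringKrullDim R = 1) (ψ χ χ' : K) (hψ : ψ ≠ 0) (hχ : χ ≠ 0)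
    (hχ' : χ' ≠ 0) : tameFrac R K ψ (χ * χ') = tameFrac R K ψ χ * tameFrac R K ψ χ' := by
  obtain ⟨a₁, a₂, h1, h2, ha⟩ := exists_rep (R := R) ψ hψ
  obtain ⟨b₁, b₂, h3, h4, hb⟩ := exists_rep (R := R) χ hχ
  obtain ⟨b₁', b₂', h3', h4', hb'⟩ := exists_rep (R := R) χ' hχ'
  have hprod : χ * χ' * algebraMap R K (b₂ * b₂') = algebraMap R K (b₁ * b₁') := by
    rw [map_mul, map_mul, ← hb, ← hb']; ring
  rw [tameFrac_eq R K hR ψ χ a₁ a₂ b₁ b₂ h1 h2 h3 h4 ha hb,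
    tameFrac_eq R K hR ψ χ' a₁ a₂ b₁' b₂' h1 h2 h3' h4' ha hb',
    tameFrac_eq R K hR ψ (χ * χ') a₁ a₂ (b₁ * b₁') (b₂ * b₂') h1 h2 (mul_ne_zero h3 h3')
      (mul_ne_zero h4 h4') ha hprod]
  unfold tameExt
  rw [ts_mul_right hR h3 h3' h1, ts_mul_right hR h4 h4' h2, ts_mul_right hR h4 h4' h1,
    ts_mul_right hR h3 h3' h2]
  simp only [mul_inv]
  ring

variable {R K} in
/-- `CycAlg.ordFrac` of a fraction (any universe for `K`). -/
theorem ordFrac_of_rep (hR : ringKrullDim R = 1) (χ : K) (b₁ b₂ : R) (h3 : b₁ ≠ 0)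
    (h4 : b₂ ≠ 0) (hχ : χ * algebraMap R K b₂ = algebraMap R K b₁) :
    CycAlg.ordFrac R K χ = ((Ring.ord R b₁).toNat : ℤ) - ((Ring.ord R b₂).toNat : ℤ) := by
  haveI := krullDimLE_one hR
  have hcond : IsNoetherianRing R ∧ Ring.KrullDimLE 1 R ∧ Nontrivial R ∧ IsFractionRing R K :=
    ⟨inferInstance, inferInstance, inferInstance, inferInstance⟩
  have h4' : algebraMap R K b₂ ≠ 0 := by
    rw [Ne, map_eq_zero_iff _ (IsFractionRing.injective R K)]; exact h4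
  have hχ' : χ = algebraMap R K b₁ / algebraMap R K b₂ := by
    rw [eq_div_iff h4']; exact hχ
  unfold CycAlg.ordFrac
  rw [dif_pos hcond]
  have hnx : Ring.ord R b₁ = (((Ring.ord R b₁).toNat : ℕ) : ℕ∞) :=
    (ENat.coe_toNat (Ring.ord_ne_top (mem_nonZeroDivisors_of_ne_zero h3))).symm
  have hny : Ring.ord R b₂ = (((Ring.ord R b₂).toNat : ℕ) : ℕ∞) :=
    (ENat.coe_toNat (Ring.ord_ne_top (mem_nonZeroDivisors_of_ne_zero h4))).symm
  rw [hχ', map_div₀, Ring.ordFrac_eq_ord _ h3, Ring.ordFrac_eq_ord _ h4,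
    Ring.ordMonoidWithZeroHom_eq_coe _ (mem_nonZeroDivisors_of_ne_zero h3) hnx,
    Ring.ordMonoidWithZeroHom_eq_coe _ (mem_nonZeroDivisors_of_ne_zero h4) hny,
    ← WithZero.coe_div, WithZero.recZeroCoe_coe, toAdd_div, toAdd_ofAdd, toAdd_ofAdd]

/-- (RD1) the symbol of a unit against `χ`. -/
theorem tameFrac_unit_left (hR : ringKrullDim R = 1) (c : R) (hc : IsUnit c) (χ : K)
    (hχ : χ ≠ 0) :
    tameFrac R K (algebraMap R K c) χ = (IsLocalRing.residue R c) ^ (CycAlg.ordFrac R K χ) := by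
  obtain ⟨b₁, b₂, h3, h4, hb⟩ := exists_rep (R := R) χ hχ
  have hc0 : c ≠ 0 := hc.ne_zero
  have hres : IsLocalRing.residue R c ≠ 0 := (hc.map (IsLocalRing.residue R)).ne_zero
  rw [tameFrac_eq R K hR (algebraMap R K c) χ c 1 b₁ b₂ hc0 one_ne_zero h3 h4
    (by rw [map_one, mul_one]) hb, ordFrac_of_rep hR χ b₁ b₂ h3 h4 hb]
  unfold tameExt
  rw [ts_unit hR hc h3, ts_unit hR hc h4, ts_one_left hR h3, ts_one_left hR h4, mul_one, mul_one,
    zpow_sub₀ hres, zpow_natCast, zpow_natCast, div_eq_mul_inv]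

/-- (RD2) the symbol of `ψ` against a unit. -/
theorem tameFrac_unit_right (hR : ringKrullDim R = 1) (c : R) (hc : IsUnit c) (ψ : K)
    (hψ : ψ ≠ 0) :
    tameFrac R K ψ (algebraMap R K c) =
      ((IsLocalRing.residue R c) ^ (CycAlg.ordFrac R K ψ))⁻¹ := by
  obtain ⟨a₁, a₂, h1, h2, ha⟩ := exists_rep (R := R) ψ hψ
  have hc0 : c ≠ 0 := hc.ne_zero
  have hres : IsLocalRing.residue R c ≠ 0 := (hc.map (IsLocalRing.residue R)).ne_zero
  rw [tameFrac_eq R K hR ψ (algebraMap R K c) a₁ a₂ c 1 h1 h2 hc0 one_ne_zero ha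
    (by rw [map_one, mul_one]), ordFrac_of_rep hR ψ a₁ a₂ h1 h2 ha]
  have e1 : CycAlg.tameSymbol R a₁ c = (IsLocalRing.residue R c ^ (Ring.ord R a₁).toNat)⁻¹ := by
    have := tame_antisymm R hR a₁ c h1 hc0
    rw [ts_unit hR hc h1] at this
    exact eq_inv_of_mul_eq_one_left this
  have e2 : CycAlg.tameSymbol R a₂ c = (IsLocalRing.residue R c ^ (Ring.ord R a₂).toNat)⁻¹ := by
    have := tame_antisymm R hR a₂ c h2 hc0
    rw [ts_unit hR hc h2] at this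
    exact eq_inv_of_mul_eq_one_left this
  unfold tameExt
  rw [e1, e2, ts_one_right hR h1, ts_one_right hR h2, mul_one, one_mul,
    zpow_sub₀ hres, zpow_natCast, zpow_natCast]
  rw [inv_inv, inv_div, div_eq_mul_inv, mul_comm]

end Ring

end Groth.Agent.H87.KeyRing
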