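import Groth.Agent.H87.IsoFlat

set_option autoImplicit false
set_option maxHeartbeats 400000

namespace Groth.Agent.H87.IsoFlat2

open IsLocalRing

universe u

variable {A X Y B₀ : Type u} [CommRing A] [IsLocalRing A]
  [CommRing X] [IsLocalRing X] [IsNoetherianRing X] [Algebra A X] [IsLocalHom (algebraMap A X)]
  [CommRing Y] [IsLocalRing Y] [IsNoetherianRing Y] [Algebra A Y]
  [CommRing B₀] [Algebra A B₀]

variable [IsAdicComplete (maximalIdeal X) X] [IsAdicComplete (maximalIdeal Y) Y]
  [IsLocalHom (algebraMap A Y)]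

theorem iso_of_fs_flat' [Module.Flat A Y] (J : Ideal A) (hJ : J ≤ maximalIdeal A)
    (hfs : EGA41.IsFormallySmoothAdic A ⊥ X (maximalIdeal X))
    (ψX : X →ₐ[A] B₀) (hψX : Function.Surjective ψX)
    (hkX : RingHom.ker ψX.toRingHom = J.map (algebraMap A X))
    (ψY : Y →ₐ[A] B₀) (hψY : Function.Surjective ψY)
    (hkY : RingHom.ker ψY.toRingHom = J.map (algebraMap A Y)) :
    ∃ e : X ≃ₐ[A] Y, ∀ x, ψY (e x) = ψX x := by
  classical
  have hleX : J.map (algebraMap A X) ≤ maximalIdeal X := by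
    rw [Ideal.map_le_iff_le_comap]
    intro a ha
    rw [Ideal.mem_comap]
    exact fun hu => hJ ha (isUnit_of_map_unit (algebraMap A X) a hu)
  have hleY : J.map (algebraMap A Y) ≤ maximalIdeal Y := by
    rw [Ideal.map_le_iff_le_comap]
    intro a ha
    rw [Ideal.mem_comap]
    exact fun hu => hJ ha (isUnit_of_map_unit (algebraMap A Y) a hu)
  have hJne : RingHom.ker ψY.toRingHom ≠ ⊤ := by
    rw [hkY]
    exact fun h => (maximalIdeal.isMaximal Y).ne_top (top_le_iff.1 (h ▸ hleY))
  -- units and `ψ`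
  have hunitX : ∀ x : X, IsUnit (ψX x) → IsUnit x := by
    intro x hu
    by_contra hx
    obtain ⟨b, hb⟩ := hu.exists_right_inv
    obtain ⟨x', rfl⟩ := hψX b
    have h1 : x * x' - 1 ∈ RingHom.ker ψX.toRingHom := by
      rw [RingHom.mem_ker]
      show ψX (x * x' - 1) = 0
      rw [map_sub, map_mul, hb, map_one, sub_self]
    rw [hkX] at h1
    have h2 : x * x' ∈ maximalIdeal X := Ideal.mul_mem_right _ _ hx
    have h3 : (1 : X) ∈ maximalIdeal X := by
      have := Ideal.sub_mem _ h2 (hleX h1)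
      rwa [sub_sub_cancel] at this
    exact (maximalIdeal.isMaximal X).ne_top ((Ideal.eq_top_iff_one _).2 h3)
  let eY : (Y ⧸ RingHom.ker ψY.toRingHom) ≃ₐ[A] B₀ := Ideal.quotientKerAlgEquivOfSurjective hψY
  have heY : ∀ y : Y, eY (Ideal.Quotient.mk _ y) = ψY y := fun y => rfl
  let u : X →ₐ[A] Y ⧸ RingHom.ker ψY.toRingHom := (eY.symm : B₀ →ₐ[A] _).comp ψX
  have hu : ∀ x, u x = eY.symm (ψX x) := fun x => rfl
  have hu_mem : (maximalIdeal X).map u.toRingHom ≤
      (maximalIdeal Y).map (Ideal.Quotient.mk (RingHom.ker ψY.toRingHom)) := by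
    rw [Ideal.map_le_iff_le_comap]
    intro x hx
    rw [Ideal.mem_comap]
    obtain ⟨y, hy⟩ := hψY (ψX x)
    have hym : y ∈ maximalIdeal Y := by
      intro hyu
      have h1 : IsUnit (ψX x) := by rw [← hy]; exact hyu.map ψY
      exact hx (hunitX x h1)
    have h2 : u.toRingHom x = Ideal.Quotient.mk _ y := by
      show u x = _
      rw [hu, ← hy, ← heY, eY.symm_apply_apply]
    rw [h2]
    exact Ideal.mem_map_of_mem _ hym
  obtain ⟨v, -, hv⟩ := Groth.Agent.S2462.result (A := A) (⊥ : Ideal A) (maximalIdeal X) hfs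
    (C := Y) (by rw [Ideal.map_bot]; exact bot_le) (RingHom.ker ψY.toRingHom) hJne u hu_mem
  have hvψ : ∀ x, ψY (v x) = ψX x := by
    intro x
    have h1 : Ideal.Quotient.mk _ (v x) = u x := AlgHom.congr_fun hv x
    rw [← heY, h1, hu, eY.apply_symm_apply]
  have hvloc : (maximalIdeal X).map v.toRingHom ≤ maximalIdeal Y := by
    rw [Ideal.map_le_iff_le_comap]
    intro x hx
    rw [Ideal.mem_comap]
    intro hvu
    have h1 : IsUnit (ψX x) := by rw [← hvψ]; exact hvu.map ψY
    exact hx (hunitX x h1)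
  have hsurj : Function.Surjective v := by
    haveI : IsHausdorff ((maximalIdeal X).map v.toRingHom) Y :=
      IsHausdorff.of_isLocalRing _ Y (fun h =>
        (maximalIdeal.isMaximal Y).ne_top (top_le_iff.1 (h ▸ hvloc)))
    apply surjective_of_mk_map_comp_surjective (I := maximalIdeal X) v.toRingHom
    intro y
    obtain ⟨y', rfl⟩ := Ideal.Quotient.mk_surjective y
    obtain ⟨x, hx⟩ := hψX (ψY y')
    refine ⟨x, ?_⟩
    rw [RingHom.comp_apply, Ideal.Quotient.eq]
    have h1 : v x - y' ∈ RingHom.ker ψY.toRingHom := by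
      rw [RingHom.mem_ker]
      show ψY (v x - y') = 0
      rw [map_sub, hvψ, hx, sub_self]
    rw [hkY] at h1
    have hle2 : J.map (algebraMap A Y) ≤ (maximalIdeal X).map v.toRingHom := by
      rw [Ideal.map_le_iff_le_comap]
      intro a ha
      rw [Ideal.mem_comap]
      have : algebraMap A Y a = v.toRingHom (algebraMap A X a) := (v.commutes a).symm
      rw [this]
      exact Ideal.mem_map_of_mem _ (hleX (Ideal.mem_map_of_mem _ ha))
    exact hle2 h1
  have hinj : Function.Injective v := by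
    apply Groth.Agent.H87.IsoFlat.injective_of_flat v hsurj
    intro x hx
    have h1 : x ∈ RingHom.ker ψX.toRingHom := by
      rw [RingHom.mem_ker]
      show ψX x = 0
      rw [← hvψ, hx, map_zero]
    rw [hkX] at h1
    exact Ideal.map_mono hJ h1
  exact ⟨AlgEquiv.ofBijective v ⟨hinj, hsurj⟩, hvψ⟩

end Groth.Agent.H87.IsoFlat2
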