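import Groth.Agent.H87.LocalFS
import Groth.Agent.H87.IsoFlat2

set_option autoImplicit false
set_option maxHeartbeats 400000

namespace Groth.Agent.H87.LiftJ

open IsLocalRing TensorProduct

universe u

theorem map_le_max {A X : Type*} [CommRing A] [IsLocalRing A] [CommRing X] [IsLocalRing X]
    [Algebra A X] [IsLocalHom (algebraMap A X)] :
    (maximalIdeal A).map (algebraMap A X) ≤ maximalIdeal X := by
  rw [Ideal.map_le_iff_le_comap]
  intro a ha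
  rw [Ideal.mem_comap]
  exact fun hu => ha (isUnit_of_map_unit (algebraMap A X) a hu)

theorem fs_bot_of_fs_max {A B : Type u} [CommRing A] [IsLocalRing A] [CommRing B] [IsLocalRing B]
    [Algebra A B] [IsLocalHom (algebraMap A B)]
    (h : EGA41.IsFormallySmoothAdic A (maximalIdeal A) B (maximalIdeal B)) :
    EGA41.IsFormallySmoothAdic A ⊥ B (maximalIdeal B) := by
  intro C _ _ J hJ _ u hu
  obtain ⟨k, hk⟩ := hu
  obtain ⟨n, hn⟩ := hJ
  have hle : (maximalIdeal A ^ k).map (algebraMap A C) ≤ J := by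
    rw [Ideal.map_le_iff_le_comap]
    intro a ha
    rw [Ideal.mem_comap]
    have h1 : algebraMap A B a ∈ maximalIdeal B ^ k := by
      have h2 : (maximalIdeal A).map (algebraMap A B) ≤ maximalIdeal B :=
        map_le_max
      have h3 := Ideal.mem_map_of_mem (algebraMap A B) ha
      rw [Ideal.map_pow] at h3
      exact Ideal.pow_right_mono h2 k h3
    have h4 := hk _ h1
    rw [u.commutes] at h4
    exact Ideal.Quotient.eq_zero_iff_mem.1 h4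
  refine h C J ⟨n, hn⟩ ⟨k * n, ?_⟩ u ⟨k, hk⟩
  rw [eq_bot_iff, pow_mul, Ideal.map_pow]
  calc (Ideal.map (algebraMap A C) (maximalIdeal A ^ k)) ^ n ≤ J ^ n := Ideal.pow_right_mono hle n
    _ = ⊥ := hn

theorem one_tmul_eq_zero_iff {A T : Type u} [CommRing A] [CommRing T] [Algebra A T] (J : Ideal A)
    (t : T) : (1 : A ⧸ J) ⊗ₜ[A] t = 0 ↔ t ∈ J.map (algebraMap A T) := by
  let e := TensorProduct.quotTensorEquivQuotSMul T J
  have he : e ((1 : A ⧸ J) ⊗ₜ[A] t) = Submodule.Quotient.mk t := by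
    have : (1 : A ⧸ J) = Ideal.Quotient.mk J 1 := rfl
    rw [this, TensorProduct.quotTensorEquivQuotSMul_mk_tmul, one_smul]
  rw [← e.map_eq_zero_iff, he, Submodule.Quotient.mk_eq_zero, Ideal.smul_top_eq_map]
  rfl

theorem quot_tensor_equiv {A T B₀ : Type u} [CommRing A] [CommRing T] [Algebra A T] (J : Ideal A)
    [CommRing B₀] [Algebra (A ⧸ J) B₀] [Algebra A B₀] [IsScalarTower A (A ⧸ J) B₀]
    (ψ : T →ₐ[A] B₀) (hψ : Function.Surjective ψ)
    (hker : RingHom.ker ψ.toRingHom = J.map (algebraMap A T)) :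
    ∃ e : (A ⧸ J) ⊗[A] T ≃ₐ[A ⧸ J] B₀, ∀ t : T, e ((1 : A ⧸ J) ⊗ₜ[A] t) = ψ t := by
  let Φ : (A ⧸ J) ⊗[A] T →ₐ[A ⧸ J] B₀ :=
    Algebra.TensorProduct.lift (Algebra.ofId (A ⧸ J) B₀) ψ (fun _ _ => Commute.all _ _)
  have hΦ : ∀ t : T, Φ ((1 : A ⧸ J) ⊗ₜ[A] t) = ψ t := by
    intro t
    rw [Algebra.TensorProduct.lift_tmul, map_one, one_mul]
  refine ⟨AlgEquiv.ofBijective Φ ⟨?_, ?_⟩, hΦ⟩
  · rw [injective_iff_map_eq_zero]
    intro z hz
    obtain ⟨t, rfl⟩ := Algebra.TensorProduct.includeRight_surjective (T := T)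
      (Ideal.Quotient.mk_surjective (I := J)) z
    have h1 : ψ t = 0 := by
      rw [← hΦ]
      exact hz
    have h2 : t ∈ RingHom.ker ψ.toRingHom := h1
    rw [hker] at h2
    exact (one_tmul_eq_zero_iff J t).2 h2
  · intro b
    obtain ⟨t, rfl⟩ := hψ b
    exact ⟨(1 : A ⧸ J) ⊗ₜ[A] t, hΦ t⟩

section Fibre

variable {A₀ R κ : Type u} [CommRing A₀] [IsLocalRing A₀] [CommRing R] [IsLocalRing R]
  [IsNoetherianRing R] [IsAdicComplete (maximalIdeal R) R] [Algebra A₀ R]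
  [IsLocalHom (algebraMap A₀ R)] [Field κ] [Algebra A₀ κ]

theorem exists_fibre (hκ : Function.Surjective (algebraMap A₀ κ)) :
    ∃ (B₀ : Type u) (_ : CommRing B₀) (_ : IsLocalRing B₀) (_ : Algebra κ B₀) (_ : Algebra A₀ B₀),
      IsNoetherianRing B₀ ∧ IsAdicComplete (maximalIdeal B₀) B₀ ∧ IsScalarTower A₀ κ B₀ ∧
      ∃ φ : R →ₐ[A₀] B₀, Function.Surjective φ ∧
        RingHom.ker φ.toRingHom = (maximalIdeal A₀).map (algebraMap A₀ R) := by
  obtain ⟨I, hI⟩ : ∃ I : Ideal R, I = (maximalIdeal A₀).map (algebraMap A₀ R) := ⟨_, rfl⟩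
  have hIle : I ≤ maximalIdeal R := by
    rw [hI]; exact map_le_max
  haveI : Nontrivial (R ⧸ I) :=
    Ideal.Quotient.nontrivial_iff.2 (fun h =>
      (maximalIdeal.isMaximal _).ne_top (top_le_iff.1 (h ▸ hIle)))
  haveI : IsLocalRing (R ⧸ I) :=
    IsLocalRing.of_surjective' (Ideal.Quotient.mk I) Ideal.Quotient.mk_surjective
  have hle : RingHom.ker (algebraMap A₀ κ) ≤ RingHom.ker (algebraMap A₀ (R ⧸ I)) := by
    intro a ha
    rw [RingHom.mem_ker] at ha ⊢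
    have ham : a ∈ maximalIdeal A₀ := by
      intro hu
      have := hu.map (algebraMap A₀ κ)
      rw [ha] at this
      exact not_isUnit_zero this
    show Ideal.Quotient.mk I (algebraMap A₀ R a) = 0
    rw [Ideal.Quotient.eq_zero_iff_mem, hI]
    exact Ideal.mem_map_of_mem _ ham
  let g : κ →+* (R ⧸ I) :=
    RingHom.liftOfSurjective (algebraMap A₀ κ) hκ ⟨algebraMap A₀ (R ⧸ I), hle⟩
  have hg : ∀ a, g (algebraMap A₀ κ a) = algebraMap A₀ (R ⧸ I) a := fun a =>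
    RingHom.liftOfSurjective_comp_apply (algebraMap A₀ κ) hκ ⟨algebraMap A₀ (R ⧸ I), hle⟩ a
  letI : Algebra κ (R ⧸ I) := g.toAlgebra
  refine ⟨R ⧸ I, inferInstance, inferInstance, inferInstance,
    inferInstance, inferInstance, Groth.Agent.H61.isAdicComplete_quotient I,
    IsScalarTower.of_algebraMap_eq (fun a => (hg a).symm), Ideal.Quotient.mkₐ A₀ I,
    Ideal.Quotient.mkₐ_surjective A₀ I, ?_⟩
  rw [← hI]
  exact Ideal.mk_ker

variable {B₀ : Type u} [CommRing B₀] [IsLocalRing B₀] [Algebra κ B₀] [Algebra A₀ B₀]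
  [IsScalarTower A₀ κ B₀]

omit [IsNoetherianRing R] [IsAdicComplete (maximalIdeal R) R] in
theorem fs_fibre_of_fs (hκ : Function.Surjective (algebraMap A₀ κ))
    (φ : R →ₐ[A₀] B₀) (hφ : Function.Surjective φ)
    (hkφ : RingHom.ker φ.toRingHom = (maximalIdeal A₀).map (algebraMap A₀ R))
    (h : EGA41.IsFormallySmoothAdic A₀ ⊥ R (maximalIdeal R)) :
    CAlgX.IsAdicFormallySmooth κ B₀ (maximalIdeal B₀) := by
  have hκ0 : ∀ a ∈ maximalIdeal A₀, algebraMap A₀ κ a = 0 := fun a ha =>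
    Groth.Agent.H87.LiftMain.algebraMap_eq_zero_of_mem hκ ha
  haveI : IsLocalRing (κ ⊗[A₀] R) := Groth.Agent.H87.LiftNC.isLocalRing_tensor' hκ
  have h1 := Groth.Agent.H87.FlatLift.smooth_tensor (P := A₀) (A := κ) (Q := R) hκ
    ((Groth.Agent.S4537.result _).2 h)
  obtain ⟨e, -⟩ := Groth.Agent.H87.LiftNC.exists_tensor_equiv hκ hκ0 φ hφ hkφ
  rw [Groth.Agent.S4537.result] at h1 ⊢
  exact Groth.Agent.H87.FSField.smooth_of_equiv e ⊥ _ _
    (fun x hx => Groth.Agent.H87.LocalFS.equiv_mem_maximalIdeal e.toRingEquiv hx) h1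

end Fibre

section Main

variable {A : Type u} [CommRing A] [IsLocalRing A] [IsNoetherianRing A]
  (J : Ideal A) [IsLocalRing (A ⧸ J)]
  (B₀ : Type u) [CommRing B₀] [IsLocalRing B₀] [IsNoetherianRing B₀]
  [IsAdicComplete (maximalIdeal B₀) B₀]
  [Algebra (A ⧸ J) B₀] [IsLocalHom (algebraMap (A ⧸ J) B₀)]
  [Algebra A B₀] [IsScalarTower A (A ⧸ J) B₀]

theorem exists_liftJ
    (hfs : EGA41.IsFormallySmoothAdic (A ⧸ J) ⊥ B₀ (maximalIdeal B₀)) :
    ∃ (T : Type u) (_ : CommRing T) (_ : IsLocalRing T) (_ : Algebra A T),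
      IsNoetherianRing T ∧ IsAdicComplete (maximalIdeal T) T ∧ IsLocalHom (algebraMap A T) ∧
      Module.Flat A T ∧ EGA41.IsFormallySmoothAdic A ⊥ T (maximalIdeal T) ∧
      ∃ ψ : T →ₐ[A] B₀, Function.Surjective ψ ∧
        RingHom.ker ψ.toRingHom = J.map (algebraMap A T) := by
  classical
  have hPA : Function.Surjective (algebraMap A (A ⧸ J)) := Ideal.Quotient.mk_surjective
  -- the residue field
  have hκ₀ : Function.Surjective (algebraMap (A ⧸ J) (ResidueField (A ⧸ J))) :=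
    IsLocalRing.residue_surjective
  have hκ : Function.Surjective (algebraMap A (ResidueField (A ⧸ J))) := by
    rw [IsScalarTower.algebraMap_eq A (A ⧸ J) (ResidueField (A ⧸ J))]
    exact hκ₀.comp hPA
  obtain ⟨B₀₀, _, _, _, _, hN₀, hC₀, hT₀, φ, hφ, hkφ⟩ :=
    exists_fibre (A₀ := A ⧸ J) (R := B₀) (κ := ResidueField (A ⧸ J)) hκ₀
  haveI := hN₀
  haveI := hC₀
  haveI := hT₀
  have hP0 : CAlgX.IsAdicFormallySmooth (ResidueField (A ⧸ J)) B₀₀ (maximalIdeal B₀₀) :=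
    fs_fibre_of_fs hκ₀ φ hφ hkφ hfs
  haveI : IsRegularLocalRing B₀₀ := Groth.Agent.Lead.GeomReg.regular_of_fs hP0
  letI : Algebra A B₀₀ := ((algebraMap (A ⧸ J) B₀₀).comp (algebraMap A (A ⧸ J))).toAlgebra
  haveI : IsScalarTower A (A ⧸ J) B₀₀ := IsScalarTower.of_algebraMap_eq (fun _ => rfl)
  haveI : IsScalarTower A (ResidueField (A ⧸ J)) B₀₀ := by
    refine IsScalarTower.of_algebraMap_eq (fun a => ?_)
    rw [IsScalarTower.algebraMap_apply A (A ⧸ J) B₀₀,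
      IsScalarTower.algebraMap_apply (A ⧸ J) (ResidueField (A ⧸ J)) B₀₀,
      ← IsScalarTower.algebraMap_apply A (A ⧸ J) (ResidueField (A ⧸ J))]
  obtain ⟨T, _, _, _, hN, hC, hL, hF, ⟨ψ₀₀, hψ₀₀, hkψ₀₀⟩, hfsT⟩ :=
    Groth.Agent.H87.LiftNC.exists_lift' (A := A) (κ := ResidueField (A ⧸ J)) B₀₀ hκ
  haveI := hN
  haveI := hC
  haveI := hL
  haveI := hF
  have hfsT' := hfsT hP0
  -- the base change `T₀ = (A ⧸ J) ⊗[A] T`
  haveI : IsLocalRing ((A ⧸ J) ⊗[A] T) := Groth.Agent.H87.FlatLift.isLocalRing_tensor hPA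
  haveI : IsNoetherianRing ((A ⧸ J) ⊗[A] T) := Groth.Agent.H87.FlatLift.isNoetherianRing_tensor hPA
  haveI : IsAdicComplete (maximalIdeal ((A ⧸ J) ⊗[A] T)) ((A ⧸ J) ⊗[A] T) :=
    Groth.Agent.H87.FlatLift.isAdicComplete_tensor hPA
  haveI : IsLocalHom (algebraMap (A ⧸ J) ((A ⧸ J) ⊗[A] T)) :=
    Groth.Agent.H87.FlatLift.isLocalHom_tensor hPA
  have h0 : ∀ a ∈ maximalIdeal (A ⧸ J), algebraMap (A ⧸ J) B₀₀ a = 0 := by
    intro a ha
    rw [IsScalarTower.algebraMap_apply (A ⧸ J) (ResidueField (A ⧸ J)) B₀₀,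
      Groth.Agent.H87.LiftMain.algebraMap_eq_zero_of_mem hκ₀ ha, map_zero]
  have hkψ₀ := Groth.Agent.H87.FlatLift.ker_aug (P := A) (A := A ⧸ J) (Q := T) hPA ψ₀₀ h0 hkψ₀₀
  have hψ₀ := Groth.Agent.H87.FlatLift.aug_surjective (P := A) (A := A ⧸ J) (Q := T) ψ₀₀ hψ₀₀
  obtain ⟨e, -⟩ := Groth.Agent.H87.IsoFlat2.iso_of_fs_flat' (A := A ⧸ J) (X := B₀)
    (Y := (A ⧸ J) ⊗[A] T) (B₀ := B₀₀) (maximalIdeal (A ⧸ J)) le_rfl hfs φ hφ hkφ
    (Groth.Agent.H87.FlatLift.aug (P := A) (A := A ⧸ J) (Q := T) ψ₀₀) hψ₀ hkψ₀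
  let ψ : T →ₐ[A] B₀ := ((e.symm.restrictScalars A : (A ⧸ J) ⊗[A] T ≃ₐ[A] B₀) :
    (A ⧸ J) ⊗[A] T →ₐ[A] B₀).comp (Algebra.TensorProduct.includeRight : T →ₐ[A] (A ⧸ J) ⊗[A] T)
  have hψ : ∀ t, ψ t = e.symm ((1 : A ⧸ J) ⊗ₜ[A] t) := fun t => rfl
  refine ⟨T, inferInstance, inferInstance, inferInstance, hN, hC, hL, hF, hfsT', ψ, ?_, ?_⟩
  · intro b
    obtain ⟨t, ht⟩ := Groth.Agent.H87.FlatLift.includeRight_surjective (P := A) (A := A ⧸ J)
      (Q := T) hPA (e b)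
    refine ⟨t, ?_⟩
    rw [hψ]
    have : (1 : A ⧸ J) ⊗ₜ[A] t = e b := ht
    rw [this, e.symm_apply_apply]
  · ext t
    rw [RingHom.mem_ker, ← one_tmul_eq_zero_iff J t]
    show ψ t = 0 ↔ _
    rw [hψ]
    exact EmbeddingLike.map_eq_zero_iff

end Main

end Groth.Agent.H87.LiftJ
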