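import Mathlib
import Groth.Agent.H34.TameLoc

/-!
(P1) for helper34's S1849 squad: maximal ideals of `E` localized at `B \ q`.
-/

set_option autoImplicit false
universe u

namespace Groth.Agent.H87.TameP1

open IsLocalRing Groth.Agent.H34.TameLoc

/-- (P1) maximal ideals of E localized at B \ q = maximal ideals of E over q, with the same local
rings. -/
theorem maxSpec_localization {B E : Type u} [CommRing B] [CommRing E] [Algebra B E]
    [Algebra.IsIntegral B E] (q : MaximalSpectrum B) :
    ∃ σ : MaximalSpectrum (Localization (Algebra.algebraMapSubmonoid E q.asIdeal.primeCompl)) ≃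
        {q'' : MaximalSpectrum E // q''.asIdeal.comap (algebraMap B E) = q.asIdeal},
      ∀ 𝔫 : MaximalSpectrum (Localization (Algebra.algebraMapSubmonoid E q.asIdeal.primeCompl)),
        Nonempty (Localization.AtPrime 𝔫.asIdeal ≃ₐ[E] Localization.AtPrime (σ 𝔫).1.asIdeal) := by
  classical
  obtain ⟨S, hS⟩ : ∃ S : Submonoid E, S = Algebra.algebraMapSubmonoid E q.asIdeal.primeCompl :=
    ⟨_, rfl⟩
  rw [← hS]
  have hqmax : q.asIdeal.IsMaximal := q.isMaximal
  have hdisj_of_over : ∀ Q : Ideal E, Q.comap (algebraMap B E) = q.asIdeal →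
      Disjoint (S : Set E) (Q : Set E) := by
    intro Q hQ
    rw [Set.disjoint_left]
    intro x hx hxQ
    rw [hS] at hx
    obtain ⟨b, hb, rfl⟩ := hx
    apply hb
    rw [← hQ]
    exact hxQ
  have hfwd : ∀ 𝔫 : MaximalSpectrum (Localization S),
      (𝔫.asIdeal.comap (algebraMap E (Localization S))).IsMaximal ∧
      (𝔫.asIdeal.comap (algebraMap E (Localization S))).comap (algebraMap B E) = q.asIdeal := by
    intro 𝔫
    have h𝔫max : 𝔫.asIdeal.IsMaximal := 𝔫.isMaximal
    obtain ⟨P, hP⟩ : ∃ P : Ideal E, P = 𝔫.asIdeal.comap (algebraMap E (Localization S)) :=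
      ⟨_, rfl⟩
    rw [← hP]
    have hPprime : P.IsPrime := by rw [hP]; exact Ideal.comap_isPrime _ _
    have hPdisj : Disjoint (S : Set E) (P : Set E) := by
      rw [hP]
      exact ((IsLocalization.isPrime_iff_isPrime_disjoint S (Localization S) 𝔫.asIdeal).mp
        inferInstance).2
    have hle : P.comap (algebraMap B E) ≤ q.asIdeal := by
      intro b hb
      by_contra hbq
      refine Set.disjoint_left.mp hPdisj ?_ hb
      rw [hS]
      exact ⟨b, hbq, rfl⟩
    obtain ⟨Q, hPQ, hQprime, hQq⟩ :=
      Ideal.exists_ideal_over_prime_of_isIntegral q.asIdeal P hle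
    have hQdisj := hdisj_of_over Q hQq
    have h1 : 𝔫.asIdeal ≤ Q.map (algebraMap E (Localization S)) := by
      rw [← IsLocalization.map_under S (Localization S) 𝔫.asIdeal]
      apply Ideal.map_mono
      show 𝔫.asIdeal.comap (algebraMap E (Localization S)) ≤ Q
      rw [← hP]
      exact hPQ
    have hQmap_prime : (Q.map (algebraMap E (Localization S))).IsPrime :=
      IsLocalization.isPrime_of_isPrime_disjoint S (Localization S) Q hQprime hQdisj
    have h2 : 𝔫.asIdeal = Q.map (algebraMap E (Localization S)) :=
      h𝔫max.eq_of_le hQmap_prime.ne_top h1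
    have h3 : P = Q := by
      rw [hP, h2]
      exact IsLocalization.under_map_of_isPrime_disjoint S (Localization S) hQprime hQdisj
    rw [h3]
    refine ⟨?_, hQq⟩
    have : (Q.comap (algebraMap B E)).IsMaximal := by rw [hQq]; exact hqmax
    exact Ideal.isMaximal_of_isIntegral_of_isMaximal_comap Q this
  let f : MaximalSpectrum (Localization S) →
      {q'' : MaximalSpectrum E // q''.asIdeal.comap (algebraMap B E) = q.asIdeal} :=
    fun 𝔫 => ⟨⟨𝔫.asIdeal.comap (algebraMap E (Localization S)), (hfwd 𝔫).1⟩, (hfwd 𝔫).2⟩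
  have hf_inj : Function.Injective f := by
    intro 𝔫 𝔫' h
    have h1 : 𝔫.asIdeal.comap (algebraMap E (Localization S)) =
        𝔫'.asIdeal.comap (algebraMap E (Localization S)) := by
      have := congrArg (fun z => z.1.asIdeal) h
      exact this
    apply MaximalSpectrum.ext
    rw [← IsLocalization.map_under S (Localization S) 𝔫.asIdeal, ← IsLocalization.map_under S (Localization S) 𝔫'.asIdeal]
    show Ideal.map _ (𝔫.asIdeal.comap (algebraMap E (Localization S))) =
      Ideal.map _ (𝔫'.asIdeal.comap (algebraMap E (Localization S)))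
    rw [h1]
  have hf_surj : Function.Surjective f := by
    rintro ⟨q'', hq''⟩
    have hq''max : q''.asIdeal.IsMaximal := q''.isMaximal
    have hq''prime : q''.asIdeal.IsPrime := hq''max.isPrime
    have hdisj := hdisj_of_over q''.asIdeal hq''
    have hmap_prime : (q''.asIdeal.map (algebraMap E (Localization S))).IsPrime :=
      IsLocalization.isPrime_of_isPrime_disjoint S (Localization S) _ hq''prime hdisj
    have hcm : (q''.asIdeal.map (algebraMap E (Localization S))).comap
        (algebraMap E (Localization S)) = q''.asIdeal :=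
      IsLocalization.under_map_of_isPrime_disjoint S (Localization S) hq''prime hdisj
    obtain ⟨M, hMmax, hM⟩ := Ideal.exists_le_maximal _ hmap_prime.ne_top
    have hMprime : M.IsPrime := hMmax.isPrime
    have h1 : q''.asIdeal ≤ M.comap (algebraMap E (Localization S)) := by
      rw [← hcm]
      exact Ideal.comap_mono hM
    have h2 : q''.asIdeal = M.comap (algebraMap E (Localization S)) :=
      hq''max.eq_of_le (Ideal.comap_isPrime _ _).ne_top h1
    have h3 : M = q''.asIdeal.map (algebraMap E (Localization S)) := by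
      rw [← IsLocalization.map_under S (Localization S) M]
      show Ideal.map _ (M.comap (algebraMap E (Localization S))) = _
      rw [← h2]
    refine ⟨⟨M, hMmax⟩, ?_⟩
    apply Subtype.ext
    apply MaximalSpectrum.ext
    show M.comap (algebraMap E (Localization S)) = q''.asIdeal
    exact h2.symm
  refine ⟨Equiv.ofBijective f ⟨hf_inj, hf_surj⟩, ?_⟩
  intro 𝔫
  have h𝔫max : 𝔫.asIdeal.IsMaximal := 𝔫.isMaximal
  haveI : 𝔫.asIdeal.IsPrime := h𝔫max.isPrime
  exact ⟨(IsLocalization.localizationLocalizationAtPrimeIsoLocalization S 𝔫.asIdeal).symm⟩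

end Groth.Agent.H87.TameP1
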