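import Groth.Agent.H87.TameFlatDefs

/-!
# More definitions for S1850: the residue algebra structure on a quotient and the ideal `Jq`.
-/

set_option autoImplicit false
set_option linter.unusedSectionVars false
universe u

namespace Groth.Agent.H87.TameFlat

open IsLocalRing TensorProduct

/-- For a local ring `A'`, an `A'`-algebra `B'` and an ideal `J ⊇ 𝔪_{A'} B'`, the quotient `B' ⧸ J`
is an algebra over the residue field of `A'`. -/
noncomputable abbrev quotAlg {A' B' : Type u} [CommRing A'] [IsLocalRing A'] [CommRing B']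
    [Algebra A' B'] (J : Ideal B') (hJ : (maximalIdeal A').map (algebraMap A' B') ≤ J) :
    Algebra (ResidueField A') (B' ⧸ J) :=
  Ideal.Quotient.algebraQuotientOfLEComap (Ideal.map_le_iff_le_comap.mp hJ)

variable (A A' B : Type u) [CommRing A] [CommRing A'] [CommRing B] [Algebra A A'] [Algebra A B]
  [IsLocalRing A']

/-- The ideal of `A' ⊗[A] B` generated by `q` and `𝔪_{A'}`. -/
noncomputable def Jq (q : MaximalSpectrum B) : Ideal (A' ⊗[A] B) :=
  q.asIdeal.map (inc A A' B) ⊔ (maximalIdeal A').map (algebraMap A' (A' ⊗[A] B))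

theorem le_Jq (q : MaximalSpectrum B) :
    (maximalIdeal A').map (algebraMap A' (A' ⊗[A] B)) ≤ Jq A A' B q := le_sup_right

end Groth.Agent.H87.TameFlat
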