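import Mathlib
import Groth.Prelude.Def_Hens2

set_option autoImplicit false
universe u

namespace Groth.Agent.H87.HenselLim

open Polynomial

section
variable {A : Type u} [CommRing A] (I : Ideal A)
  {κ : Type u} [Preorder κ] [IsDirectedOrder κ] [Nonempty κ]
  (Ra : κ → Type u) [∀ a, CommRing (Ra a)] [∀ a, Algebra A (Ra a)]
  (t : ∀ a b : κ, a ≤ b → (Ra a →+* Ra b)) [DirectedSystem Ra (fun a b h => t a b h)]

theorem of_eq_of_iff {a b : κ} (x : Ra a) (y : Ra b) :
    DirectLimit.Ring.of Ra t a x = DirectLimit.Ring.of Ra t b y ↔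
      ∃ (c : κ) (hac : a ≤ c) (hbc : b ≤ c), t a c hac x = t b c hbc y := by
  constructor
  · intro h
    have h' : (⟦⟨a, x⟩⟧ : DirectLimit Ra t) = ⟦⟨b, y⟩⟧ := h
    obtain ⟨c, hac, hbc, e⟩ := Quotient.eq.mp h'
    exact ⟨c, hac, hbc, e⟩
  · rintro ⟨c, hac, hbc, e⟩
    have h' : (⟦⟨a, x⟩⟧ : DirectLimit Ra t) = ⟦⟨b, y⟩⟧ := Quotient.sound ⟨c, hac, hbc, e⟩
    exact h'

theorem exists_of (z : DirectLimit Ra t) :
    ∃ (a : κ) (x : Ra a), DirectLimit.Ring.of Ra t a x = z := by
  induction z using DirectLimit.induction with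
  | _ a x => exact ⟨a, x, rfl⟩

theorem exists_stage_fin {ι' : Type*} [Finite ι'] (c : ι' → DirectLimit Ra t) :
    ∃ (a : κ) (c' : ι' → Ra a), ∀ k, DirectLimit.Ring.of Ra t a (c' k) = c k := by
  choose a₀ x hx using fun k => exists_of Ra t (c k)
  obtain ⟨M, hM⟩ := Finite.exists_le a₀
  exact ⟨M, fun k => t (a₀ k) M (hM k) (x k), fun k => by rw [DirectLimit.Ring.of_f, hx]⟩

theorem of_mem_map [Algebra A (DirectLimit Ra t)]
    (halg : ∀ (a : κ) (x : A), algebraMap A (DirectLimit Ra t) x =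
      DirectLimit.Ring.of Ra t a (algebraMap A (Ra a) x))
    {a : κ} {y : Ra a} (hy : y ∈ I.map (algebraMap A (Ra a))) :
    DirectLimit.Ring.of Ra t a y ∈ I.map (algebraMap A (DirectLimit Ra t)) := by
  have e : (DirectLimit.Ring.of Ra t a).comp (algebraMap A (Ra a)) =
      algebraMap A (DirectLimit Ra t) := by
    ext x; exact (halg a x).symm
  rw [← e, ← Ideal.map_map]
  exact Ideal.mem_map_of_mem _ hy

theorem t_mem_map
    (ht : ∀ (a b : κ) (h : a ≤ b), (t a b h).comp (algebraMap A (Ra a)) = algebraMap A (Ra b))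
    {a b : κ} (h : a ≤ b) {y : Ra a} (hy : y ∈ I.map (algebraMap A (Ra a))) :
    t a b h y ∈ I.map (algebraMap A (Ra b)) := by
  rw [← ht a b h, ← Ideal.map_map]
  exact Ideal.mem_map_of_mem _ hy

theorem exists_of_mem_map [Algebra A (DirectLimit Ra t)]
    (ht : ∀ (a b : κ) (h : a ≤ b), (t a b h).comp (algebraMap A (Ra a)) = algebraMap A (Ra b))
    (halg : ∀ (a : κ) (x : A), algebraMap A (DirectLimit Ra t) x =
      DirectLimit.Ring.of Ra t a (algebraMap A (Ra a) x))
    {x : DirectLimit Ra t} (hx : x ∈ I.map (algebraMap A (DirectLimit Ra t))) :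
    ∃ (a : κ) (y : Ra a), y ∈ I.map (algebraMap A (Ra a)) ∧
      DirectLimit.Ring.of Ra t a y = x := by
  unfold Ideal.map at hx
  refine Submodule.span_induction (p := fun x _ => ∃ (a : κ) (y : Ra a),
    y ∈ I.map (algebraMap A (Ra a)) ∧ DirectLimit.Ring.of Ra t a y = x) ?_ ?_ ?_ ?_ hx
  · rintro _ ⟨i, hi, rfl⟩
    obtain ⟨a⟩ := ‹Nonempty κ›
    exact ⟨a, algebraMap A (Ra a) i, Ideal.mem_map_of_mem _ hi, (halg a i).symm⟩
  · obtain ⟨a⟩ := ‹Nonempty κ›
    exact ⟨a, 0, Ideal.zero_mem _, map_zero _⟩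
  · rintro _ _ _ _ ⟨a, x', hx', rfl⟩ ⟨b, y', hy', rfl⟩
    obtain ⟨c, hac, hbc⟩ := exists_ge_ge a b
    refine ⟨c, t a c hac x' + t b c hbc y',
      Ideal.add_mem _ (t_mem_map I Ra t ht hac hx') (t_mem_map I Ra t ht hbc hy'), ?_⟩
    rw [map_add, DirectLimit.Ring.of_f, DirectLimit.Ring.of_f]
  · rintro l _ _ ⟨a, x', hx', rfl⟩
    obtain ⟨b, l', rfl⟩ := exists_of Ra t l
    obtain ⟨c, hac, hbc⟩ := exists_ge_ge a b
    refine ⟨c, t b c hbc l' * t a c hac x',
      Ideal.mul_mem_left _ _ (t_mem_map I Ra t ht hac hx'), ?_⟩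
    rw [map_mul, DirectLimit.Ring.of_f, DirectLimit.Ring.of_f, smul_eq_mul]

theorem exists_stage_mem [Algebra A (DirectLimit Ra t)]
    (ht : ∀ (a b : κ) (h : a ≤ b), (t a b h).comp (algebraMap A (Ra a)) = algebraMap A (Ra b))
    (halg : ∀ (a : κ) (x : A), algebraMap A (DirectLimit Ra t) x =
      DirectLimit.Ring.of Ra t a (algebraMap A (Ra a) x))
    {s : κ} {w : Ra s}
    (hw : DirectLimit.Ring.of Ra t s w ∈ I.map (algebraMap A (DirectLimit Ra t))) :
    ∃ (c : κ) (h : s ≤ c), t s c h w ∈ I.map (algebraMap A (Ra c)) := by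
  obtain ⟨a, y, hy, e⟩ := exists_of_mem_map I Ra t ht halg hw
  obtain ⟨c, hac, hsc, e'⟩ := (of_eq_of_iff Ra t y w).mp e
  exact ⟨c, hsc, e' ▸ t_mem_map I Ra t ht hac hy⟩

theorem henselian_directLimit [Algebra A (DirectLimit Ra t)]
    [∀ a, HenselianRing (Ra a) (I.map (algebraMap A (Ra a)))]
    (ht : ∀ (a b : κ) (h : a ≤ b), (t a b h).comp (algebraMap A (Ra a)) = algebraMap A (Ra b))
    (halg : ∀ (a : κ) (x : A), algebraMap A (DirectLimit Ra t) x =
      DirectLimit.Ring.of Ra t a (algebraMap A (Ra a) x)) :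
    HenselianRing (DirectLimit Ra t) (I.map (algebraMap A (DirectLimit Ra t))) where
  jac := by
    intro x hx
    rw [Ideal.mem_jacobson_bot]
    intro y
    obtain ⟨a, x', hx', rfl⟩ := exists_of_mem_map I Ra t ht halg hx
    obtain ⟨b, y', rfl⟩ := exists_of Ra t y
    obtain ⟨c, hac, hbc⟩ := exists_ge_ge a b
    have h1 : t a c hac x' ∈ Ideal.jacobson (⊥ : Ideal (Ra c)) :=
      HenselianRing.jac (t_mem_map I Ra t ht hac hx')
    have h2 := Ideal.mem_jacobson_bot.mp h1 (t b c hbc y')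
    have h3 : DirectLimit.Ring.of Ra t a x' * DirectLimit.Ring.of Ra t b y' + 1 =
        DirectLimit.Ring.of Ra t c (t a c hac x' * t b c hbc y' + 1) := by
      rw [map_add, map_mul, map_one, DirectLimit.Ring.of_f, DirectLimit.Ring.of_f]
    rw [h3]
    exact h2.map _
  is_henselian := by
    intro f hf a₀ h₁ h₂
    classical
    obtain ⟨v, hv⟩ := h₂.exists_right_inv
    obtain ⟨u, rfl⟩ := Ideal.Quotient.mk_surjective v
    have hu : f.derivative.eval a₀ * u - 1 ∈ I.map (algebraMap A (DirectLimit Ra t)) := by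
      rw [← Ideal.Quotient.eq_zero_iff_mem, map_sub, map_mul, map_one, hv, sub_self]
    let c : Option (Option (Fin f.natDegree)) → DirectLimit Ra t :=
      fun o => o.elim u (fun o' => o'.elim a₀ (fun k => f.coeff k))
    obtain ⟨s, c', hc'⟩ := exists_stage_fin Ra t c
    have ecoef : ∀ k : Fin f.natDegree,
        DirectLimit.Ring.of Ra t s (c' (some (some k))) = f.coeff k := fun k => hc' (some (some k))
    have ex₀ : DirectLimit.Ring.of Ra t s (c' (some none)) = a₀ := hc' (some none)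
    have eu : DirectLimit.Ring.of Ra t s (c' none) = u := hc' none
    let p : (Ra s)[X] := X ^ f.natDegree +
      ∑ k : Fin f.natDegree, C (c' (some (some k))) * X ^ (k : ℕ)
    have hpmonic : p.Monic := by
      apply Polynomial.monic_X_pow_add
      refine lt_of_le_of_lt (Polynomial.degree_sum_le _ _) ?_
      refine (Finset.sup_lt_iff (WithBot.bot_lt_coe f.natDegree)).mpr ?_
      intro k _
      exact lt_of_le_of_lt (Polynomial.degree_C_mul_X_pow_le _ _) (by
        have hk : (k : ℕ) < f.natDegree := k.2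
        simpa [Nat.cast_withBot] using hk)
    have hpmap : p.map (DirectLimit.Ring.of Ra t s) = f := by
      conv_rhs => rw [hf.as_sum]
      simp only [p, Polynomial.map_add, Polynomial.map_pow, Polynomial.map_X,
        Polynomial.map_sum, Polynomial.map_mul, Polynomial.map_C]
      congr 1
      rw [Finset.sum_range]
      refine Finset.sum_congr rfl (fun k _ => ?_)
      rw [ecoef k]
    have hev : ∀ (q : (Ra s)[X]) (y : Ra s), DirectLimit.Ring.of Ra t s (q.eval y) =
        (q.map (DirectLimit.Ring.of Ra t s)).eval (DirectLimit.Ring.of Ra t s y) := by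
      intro q y
      rw [Polynomial.eval_map, Polynomial.eval₂_at_apply]
    have hw₁ : DirectLimit.Ring.of Ra t s (p.eval (c' (some none))) ∈
        I.map (algebraMap A (DirectLimit Ra t)) := by
      rw [hev, hpmap, ex₀]; exact h₁
    have hw₂ : DirectLimit.Ring.of Ra t s (p.derivative.eval (c' (some none)) * c' none - 1) ∈
        I.map (algebraMap A (DirectLimit Ra t)) := by
      rw [map_sub, map_mul, map_one, hev, ← Polynomial.derivative_map, hpmap, ex₀, eu]
      exact hu
    obtain ⟨c₁, hc₁, hm₁⟩ := exists_stage_mem I Ra t ht halg hw₁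
    obtain ⟨c₂, hc₂, hm₂⟩ := exists_stage_mem I Ra t ht halg hw₂
    obtain ⟨d, hd₁, hd₂⟩ := exists_ge_ge c₁ c₂
    have hsd : s ≤ d := hc₁.trans hd₁
    have hm₁' : t s d hsd (p.eval (c' (some none))) ∈ I.map (algebraMap A (Ra d)) := by
      have e := DirectedSystem.map_map' t hc₁ hd₁ (p.eval (c' (some none)))
      rw [← e]
      exact t_mem_map I Ra t ht hd₁ hm₁
    have hm₂' : t s d hsd (p.derivative.eval (c' (some none)) * c' none - 1) ∈
        I.map (algebraMap A (Ra d)) := by
      have e := DirectedSystem.map_map' t hc₂ hd₂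
        (p.derivative.eval (c' (some none)) * c' none - 1)
      rw [← e]
      exact t_mem_map I Ra t ht hd₂ hm₂
    have hP₁ : (p.map (t s d hsd)).eval (t s d hsd (c' (some none))) ∈
        I.map (algebraMap A (Ra d)) := by
      rw [Polynomial.eval_map, Polynomial.eval₂_at_apply]; exact hm₁'
    have hP₂ : IsUnit (Ideal.Quotient.mk (I.map (algebraMap A (Ra d)))
        ((p.map (t s d hsd)).derivative.eval (t s d hsd (c' (some none))))) := by
      have h3 : (p.map (t s d hsd)).derivative.eval (t s d hsd (c' (some none))) *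
          t s d hsd (c' none) - 1 ∈ I.map (algebraMap A (Ra d)) := by
        have e : (p.map (t s d hsd)).derivative.eval (t s d hsd (c' (some none))) *
            t s d hsd (c' none) - 1 =
            t s d hsd (p.derivative.eval (c' (some none)) * c' none - 1) := by
          rw [Polynomial.derivative_map, Polynomial.eval_map, Polynomial.eval₂_at_apply,
            map_sub, map_mul, map_one]
        rw [e]; exact hm₂'
      refine isUnit_iff_exists_inv.mpr ⟨Ideal.Quotient.mk _ (t s d hsd (c' none)), ?_⟩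
      rw [← map_mul, ← sub_eq_zero, ← map_one (Ideal.Quotient.mk _), ← map_sub,
        Ideal.Quotient.eq_zero_iff_mem]
      exact h3
    obtain ⟨r, hr, hr'⟩ := HenselianRing.is_henselian (p.map (t s d hsd)) (hpmonic.map _)
      (t s d hsd (c' (some none))) hP₁ hP₂
    have hr0 : (p.map (t s d hsd)).eval r = 0 := hr
    refine ⟨DirectLimit.Ring.of Ra t d r, ?_, ?_⟩
    · have e : f = (p.map (t s d hsd)).map (DirectLimit.Ring.of Ra t d) := by
        rw [← hpmap, Polynomial.map_map]
        congr 1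
        ext y
        exact (DirectLimit.Ring.of_f hsd y).symm
      rw [e, Polynomial.IsRoot.def, Polynomial.eval_map, Polynomial.eval₂_at_apply, hr0, map_zero]
    · have e : DirectLimit.Ring.of Ra t d r - a₀ =
          DirectLimit.Ring.of Ra t d (r - t s d hsd (c' (some none))) := by
        rw [map_sub, DirectLimit.Ring.of_f, ex₀]
      rw [e]
      exact of_mem_map I Ra t halg hr'

theorem exists_lift_of_fp [Algebra A (DirectLimit Ra t)]
    (ht : ∀ (a b : κ) (h : a ≤ b), (t a b h).comp (algebraMap A (Ra a)) = algebraMap A (Ra b))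
    (halg : ∀ (a : κ) (x : A), algebraMap A (DirectLimit Ra t) x =
      DirectLimit.Ring.of Ra t a (algebraMap A (Ra a) x))
    (R₀ : Type u) [CommRing R₀] [Algebra A R₀] [Algebra.FinitePresentation A R₀]
    (χ : R₀ →ₐ[A] DirectLimit Ra t) :
    ∃ (a : κ) (φ : R₀ →ₐ[A] Ra a), ∀ x, DirectLimit.Ring.of Ra t a (φ x) = χ x := by
  classical
  obtain ⟨n, f, hfsurj, gens, hgens⟩ := Algebra.FinitePresentation.out (R := A) (A := R₀)
  obtain ⟨s, y, hy⟩ := exists_stage_fin Ra t (fun i : Fin n => χ (f (MvPolynomial.X i)))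
  let ofA : ∀ a, Ra a →ₐ[A] DirectLimit Ra t := fun a =>
    { DirectLimit.Ring.of Ra t a with commutes' := fun x => (halg a x).symm }
  let tA : ∀ a b (h : a ≤ b), Ra a →ₐ[A] Ra b := fun a b h =>
    { t a b h with commutes' := fun x => RingHom.congr_fun (ht a b h) x }
  have key : (ofA s).comp (MvPolynomial.aeval y) = χ.comp f := by
    apply MvPolynomial.algHom_ext
    intro i
    simp only [AlgHom.comp_apply, MvPolynomial.aeval_X]
    exact hy i
  have hzero : ∀ g : {g // g ∈ gens}, ∃ (c : κ) (h : s ≤ c),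
      t s c h (MvPolynomial.aeval y g.1) = 0 := by
    intro g
    have hg : f g.1 = 0 := by
      have : g.1 ∈ RingHom.ker f.toRingHom := by
        rw [← hgens]; exact Ideal.subset_span g.2
      exact this
    have h0 : DirectLimit.Ring.of Ra t s (MvPolynomial.aeval y g.1) =
        DirectLimit.Ring.of Ra t s 0 := by
      have := congrArg (fun q : MvPolynomial (Fin n) A →ₐ[A] DirectLimit Ra t => q g.1) key
      simp only [AlgHom.comp_apply, hg, map_zero] at this
      rw [map_zero]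
      exact this
    obtain ⟨c, hsc, hsc', e⟩ := (of_eq_of_iff Ra t _ _).mp h0
    exact ⟨c, hsc, by rw [e, map_zero]⟩
  choose cg hcg hcg0 using hzero
  obtain ⟨d, hd⟩ := Finite.exists_le (fun o : Option {g // g ∈ gens} => o.elim s cg)
  have hsd : s ≤ d := hd none
  let ψ : MvPolynomial (Fin n) A →ₐ[A] Ra d := (tA s d hsd).comp (MvPolynomial.aeval y)
  have hker : RingHom.ker f.toRingHom ≤ RingHom.ker ψ.toRingHom := by
    rw [← hgens, Ideal.span_le]
    intro g hg
    have hgd : cg ⟨g, hg⟩ ≤ d := hd (some ⟨g, hg⟩)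
    change ψ g = 0
    change t s d hsd (MvPolynomial.aeval y g) = 0
    rw [← DirectedSystem.map_map' t (hcg ⟨g, hg⟩) hgd, hcg0 ⟨g, hg⟩, map_zero]
  refine ⟨d, AlgHom.liftOfSurjective f hfsurj ψ hker, ?_⟩
  intro x
  obtain ⟨q, rfl⟩ := hfsurj x
  rw [AlgHom.liftOfSurjective_apply]
  have e1 : DirectLimit.Ring.of Ra t d (ψ q) =
      DirectLimit.Ring.of Ra t s (MvPolynomial.aeval y q) :=
    DirectLimit.Ring.of_f hsd _
  rw [e1]
  exact congrArg (fun q' : MvPolynomial (Fin n) A →ₐ[A] DirectLimit Ra t => q' q) key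

end

theorem main (A : Type u) [CommRing A] (I : Ideal A)
    (R₀ : Type u) [CommRing R₀] [Algebra A R₀] [Algebra.FinitePresentation A R₀]
    (B : Type u) [CommRing B] [Algebra R₀ B] [Algebra A B] [IsScalarTower A R₀ B]
    (hB : Hens2.IsPairHenselization R₀ (I.map (algebraMap A R₀)) B)
    {κ : Type u} [Preorder κ] [IsDirectedOrder κ] [Nonempty κ]
    (Ra : κ → Type u) [∀ a, CommRing (Ra a)] [∀ a, Algebra A (Ra a)]
    [∀ a, HenselianRing (Ra a) (I.map (algebraMap A (Ra a)))]
    (t : ∀ a b : κ, a ≤ b → (Ra a →+* Ra b)) [DirectedSystem Ra (fun a b h => t a b h)]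
    (ht : ∀ (a b : κ) (h : a ≤ b), (t a b h).comp (algebraMap A (Ra a)) = algebraMap A (Ra b))
    [Algebra A (DirectLimit Ra t)]
    (halg : ∀ (a : κ) (x : A), algebraMap A (DirectLimit Ra t) x =
      DirectLimit.Ring.of Ra t a (algebraMap A (Ra a) x)) :
    (∀ χ : B →ₐ[A] DirectLimit Ra t, ∃ (a : κ) (φ : B →ₐ[A] Ra a),
        ∀ x : B, DirectLimit.Ring.of Ra t a (φ x) = χ x) ∧
    ∀ (a : κ) (φ ψ : B →ₐ[A] Ra a),
      (∀ x : B, DirectLimit.Ring.of Ra t a (φ x) = DirectLimit.Ring.of Ra t a (ψ x)) →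
      ∃ (b : κ) (h : a ≤ b), ∀ x : B, t a b h (φ x) = t a b h (ψ x) := by
  classical
  have hL : HenselianRing (DirectLimit Ra t) (I.map (algebraMap A (DirectLimit Ra t))) :=
    henselian_directLimit I Ra t ht halg
  have huniq : ∀ (C : Type u) [CommRing C] [Algebra A C]
      (_ : HenselianRing C (I.map (algebraMap A C))) (g₁ g₂ : B →ₐ[A] C),
      (∀ x : R₀, g₁ (algebraMap R₀ B x) = g₂ (algebraMap R₀ B x)) → g₁ = g₂ := by
    intro C _ _ hC g₁ g₂ h
    have hcomp : ((g₁ : B →+* C).comp (algebraMap R₀ B)).comp (algebraMap A R₀) =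
        algebraMap A C := by
      ext x
      change g₁ (algebraMap R₀ B (algebraMap A R₀ x)) = algebraMap A C x
      rw [← IsScalarTower.algebraMap_apply A R₀ B, AlgHom.commutes]
    have hmap : (I.map (algebraMap A R₀)).map ((g₁ : B →+* C).comp (algebraMap R₀ B)) ≤
        I.map (algebraMap A C) := by
      rw [Ideal.map_map, hcomp]
    obtain ⟨g, -, hg⟩ := hB.2 C (I.map (algebraMap A C))
      ((g₁ : B →+* C).comp (algebraMap R₀ B)) hC hmap
    have e1 : (g₁ : B →+* C) = g := hg _ rfl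
    have e2 : (g₂ : B →+* C) = g := hg _ (by ext x; exact (h x).symm)
    ext b
    exact congrArg (fun q : B →+* C => q b) (e1.trans e2.symm)
  let ofA : ∀ a, Ra a →ₐ[A] DirectLimit Ra t := fun a =>
    { DirectLimit.Ring.of Ra t a with commutes' := fun x => (halg a x).symm }
  let tA : ∀ a b (h : a ≤ b), Ra a →ₐ[A] Ra b := fun a b h =>
    { t a b h with commutes' := fun x => RingHom.congr_fun (ht a b h) x }
  constructor
  · intro χ
    obtain ⟨a, φ₀, hφ₀⟩ := exists_lift_of_fp Ra t ht halg R₀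
      (χ.comp (IsScalarTower.toAlgHom A R₀ B))
    have hmap : (I.map (algebraMap A R₀)).map (φ₀ : R₀ →+* Ra a) ≤
        I.map (algebraMap A (Ra a)) := by
      rw [Ideal.map_map, AlgHom.comp_algebraMap]
    obtain ⟨g, hg, -⟩ := hB.2 (Ra a) (I.map (algebraMap A (Ra a))) (φ₀ : R₀ →+* Ra a)
      inferInstance hmap
    have hg' : ∀ x : R₀, g (algebraMap R₀ B x) = φ₀ x := fun x => RingHom.congr_fun hg x
    let φ : B →ₐ[A] Ra a :=
      { g with
        commutes' := fun x => by
          change g (algebraMap A B x) = algebraMap A (Ra a) x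
          rw [IsScalarTower.algebraMap_apply A R₀ B, hg', AlgHom.commutes] }
    refine ⟨a, φ, ?_⟩
    have e : (ofA a).comp φ = χ := by
      apply huniq (DirectLimit Ra t) hL
      intro x
      change DirectLimit.Ring.of Ra t a (g (algebraMap R₀ B x)) = χ (algebraMap R₀ B x)
      rw [hg', hφ₀]
      rfl
    intro x
    exact congrArg (fun q : B →ₐ[A] DirectLimit Ra t => q x) e
  · intro a φ ψ h
    obtain ⟨S, hS⟩ := (Algebra.FiniteType.out : (⊤ : Subalgebra A R₀).FG)
    have hstage : ∀ x : {x // x ∈ S}, ∃ (c : κ) (hac : a ≤ c),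
        t a c hac (φ (algebraMap R₀ B x.1)) = t a c hac (ψ (algebraMap R₀ B x.1)) := by
      intro x
      obtain ⟨c, hac, hac', e⟩ := (of_eq_of_iff Ra t _ _).mp (h (algebraMap R₀ B x.1))
      exact ⟨c, hac, e⟩
    choose cx hcx hcxe using hstage
    obtain ⟨b, hb⟩ := Finite.exists_le (fun o : Option {x // x ∈ S} => o.elim a cx)
    have hab : a ≤ b := hb none
    refine ⟨b, hab, ?_⟩
    have e0 : ((tA a b hab).comp φ).comp (IsScalarTower.toAlgHom A R₀ B) =
        ((tA a b hab).comp ψ).comp (IsScalarTower.toAlgHom A R₀ B) := by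
      apply AlgHom.ext_of_adjoin_eq_top hS
      intro x hx
      have hxb : cx ⟨x, hx⟩ ≤ b := hb (some ⟨x, hx⟩)
      change t a b hab (φ (algebraMap R₀ B x)) = t a b hab (ψ (algebraMap R₀ B x))
      rw [← DirectedSystem.map_map' t (hcx ⟨x, hx⟩) hxb, hcxe ⟨x, hx⟩,
        DirectedSystem.map_map' t (hcx ⟨x, hx⟩) hxb]
    have e : (tA a b hab).comp φ = (tA a b hab).comp ψ := by
      apply huniq (Ra b) inferInstance
      intro x
      exact congrArg (fun q : R₀ →ₐ[A] Ra b => q x) e0
    intro x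
    exact congrArg (fun q : B →ₐ[A] Ra b => q x) e

end Groth.Agent.H87.HenselLim
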