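import Mathlib
import Groth.Prelude.Def_FlatCA
import Groth.Agent.H9.WeakAss
import Groth.Agent.H48.WeakAss

/-!
# Weakly associated primes: minimality criterion, direct sums, finite maps, flat descent
(helper87, for S9592 = Stacks 10.66.19)
-/

set_option autoImplicit false
set_option linter.style.haveILetI false
universe u v w

open Submodule

namespace Groth.Agent.H87.WAss

/-- A prime `p ⊇ I` such that every element of `p` is nilpotent mod `I` after multiplying by some
`s ∉ p` is minimal over `I`. -/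
theorem mem_minimalPrimes_of_forall {R : Type u} [CommRing R] {I p : Ideal R} [hp : p.IsPrime]
    (hI : I ≤ p) (h : ∀ a ∈ p, ∃ s ∉ p, ∃ n : ℕ, s * a ^ n ∈ I) : p ∈ I.minimalPrimes := by
  refine ⟨⟨hp, hI⟩, ?_⟩
  rintro p' ⟨hp', hI'⟩ hle a ha
  obtain ⟨s, hs, n, hsn⟩ := h a ha
  rcases hp'.mem_or_mem (hI' hsn) with h1 | h1
  · exact absurd (hle h1) hs
  · exact hp'.mem_of_pow_mem n h1

theorem ann_eq_comap {R : Type u} {A : Type v} [CommRing R] [CommRing A] [Algebra R A]
    {N : Type w} [AddCommGroup N] [Module A N] [Module R N] [IsScalarTower R A N] (y : N) :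
    (span R {y}).annihilator = Ideal.comap (algebraMap R A) (span A {y}).annihilator := by
  ext r
  rw [Ideal.mem_comap, mem_annihilator_span_singleton, mem_annihilator_span_singleton,
    algebraMap_smul]

/-- Weakly associated primes of a direct sum of copies of `M` are weakly associated to `M`. -/
theorem weakAss_finsupp_subset {R : Type u} [CommRing R] {ι : Type v} (M : Type w)
    [AddCommGroup M] [Module R M] :
    FlatCA.weakAss R (ι →₀ M) ⊆ FlatCA.weakAss R M := by
  classical
  rintro p ⟨v, hp⟩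
  have hpp : p.IsPrime := hp.1.1
  have hle : v.support.inf (fun i => (span R {v i}).annihilator) ≤ p := by
    refine le_trans ?_ hp.1.2
    intro a ha
    rw [mem_annihilator_span_singleton]
    ext i
    by_cases hi : i ∈ v.support
    · have h1 := Finset.inf_le (f := fun i => (span R {v i}).annihilator) hi ha
      rw [mem_annihilator_span_singleton] at h1
      simpa using h1
    · simp [Finsupp.notMem_support_iff.mp hi]
  obtain ⟨i, -, hip⟩ := (Ideal.IsPrime.inf_le' hpp).mp hle
  refine ⟨v i, ⟨hpp, hip⟩, ?_⟩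
  rintro p' ⟨hp', hI'⟩ hle'
  refine hp.2 ⟨hp', le_trans ?_ hI'⟩ hle'
  intro a ha
  rw [mem_annihilator_span_singleton] at ha ⊢
  rw [← Finsupp.smul_apply, ha, Finsupp.zero_apply]

/-- Finite ring maps: a weakly associated prime of an `S`-module contracts to a weakly associated
prime of the underlying `R`-module (Stacks 10.66.13/14). -/
theorem comap_mem_weakAss_of_finite {R : Type u} {S : Type v} [CommRing R] [CommRing S]
    [Algebra R S] [Module.Finite R S] {N : Type w} [AddCommGroup N] [Module S N] [Module R N]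
    [IsScalarTower R S N] (q : Ideal S) (hq : q ∈ FlatCA.weakAss S N) :
    q.comap (algebraMap R S) ∈ FlatCA.weakAss R N := by
  classical
  obtain ⟨z, hz⟩ := hq
  haveI hqp : q.IsPrime := hz.1.1
  set p := q.comap (algebraMap R S) with hp
  haveI hpp : p.IsPrime := Ideal.comap_isPrime _ _
  have hfin : (p.primesOver S).Finite := Algebra.QuasiFinite.finite_primesOver p
  -- an element of `q` outside the other primes over `p`
  obtain ⟨u, huq, hu⟩ : ∃ u ∈ q, ∀ q' : Ideal S, q'.IsPrime → q'.comap (algebraMap R S) = p →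
      u ∈ q' → q' = q := by
    by_contra hcon
    push Not at hcon
    let Q : Finset (Ideal S) := hfin.toFinset.erase q
    have hsub : (q : Set S) ⊆ ⋃ i ∈ (↑Q : Set (Ideal S)), (i : Set S) := by
      intro u huq
      obtain ⟨q', hq', hq'p, huq', hne⟩ := hcon u huq
      refine Set.mem_iUnion₂.mpr ⟨q', ?_, huq'⟩
      rw [Finset.mem_coe, Finset.mem_erase]
      refine ⟨hne, ?_⟩
      rw [Set.Finite.mem_toFinset]
      exact ⟨hq', ⟨hq'p.symm⟩⟩
    have hpr : ∀ i ∈ Q, i ≠ q → i ≠ q → (id i : Ideal S).IsPrime := by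
      intro i hi _ _
      rw [Finset.mem_erase, Set.Finite.mem_toFinset] at hi
      exact hi.2.1
    obtain ⟨q', hq'Q, hle⟩ := (Ideal.subset_union_prime (f := fun i : Ideal S => i) q q hpr).mp hsub
    rw [Finset.mem_erase, Set.Finite.mem_toFinset] at hq'Q
    obtain ⟨hne, hq'pr, ⟨hq'over⟩⟩ := hq'Q
    haveI := hq'pr
    exact hne (Algebra.QuasiFinite.eq_of_le_of_under_eq (R := R) q q' hle (by
      show q.comap _ = q'.comap _
      rw [← hp]; exact hq'over)).symm
  obtain ⟨w, hwq, n, hwn⟩ := Groth.Agent.H48.exists_mul_pow_mem_of_mem_minimalPrimes hz huq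
  set J := (span S {z}).annihilator with hJ
  set y := w • z with hy
  set J' := (span S {y}).annihilator with hJ'
  have ha : J ≤ J' := by
    intro g hg
    rw [hJ, mem_annihilator_span_singleton] at hg
    rw [hJ', mem_annihilator_span_singleton, hy, smul_comm, hg, smul_zero]
  have hb : J' ≤ q := by
    intro g hg
    rw [hJ', mem_annihilator_span_singleton, hy, smul_smul] at hg
    have : g * w ∈ J := by rw [hJ, mem_annihilator_span_singleton]; exact hg
    rcases hqp.mem_or_mem (hz.1.2 this) with h1 | h1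
    · exact h1
    · exact absurd h1 hwq
  have hc : u ^ n ∈ J' := by
    rw [hJ', mem_annihilator_span_singleton, hy, smul_smul, mul_comm]
    rw [hJ, mem_annihilator_span_singleton] at hwn
    exact hwn
  have hd : q ∈ J'.minimalPrimes :=
    ⟨⟨hqp, hb⟩, fun q'' hq'' hle => hz.2 ⟨hq''.1, ha.trans hq''.2⟩ hle⟩
  have he : ∀ q' : Ideal S, q'.IsPrime → J' ≤ q' → q'.comap (algebraMap R S) = p → q' = q := by
    intro q' hq' hJq' hq'p
    exact hu q' hq' hq'p (hq'.mem_of_pow_mem n (hJq' hc))
  refine ⟨y, ?_⟩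
  rw [ann_eq_comap (A := S)]
  refine ⟨⟨hpp, Ideal.comap_mono hb⟩, ?_⟩
  rintro p' ⟨hp', hIp'⟩ hle
  haveI := hp'
  obtain ⟨q'', hJq'', hq''pr, hq''p'⟩ :=
    Ideal.exists_ideal_over_prime_of_isIntegral (S := S) p' J' hIp'
  haveI := hq''pr
  obtain ⟨q''', hq''', hq'''pr, hq'''p⟩ :=
    Ideal.exists_ideal_over_prime_of_isIntegral (S := S) p q'' (by rw [hq''p']; exact hle)
  have h1 : q''' = q := he q''' hq'''pr (hJq''.trans hq''') hq'''p
  have h2 : q ≤ q'' := hd.2 ⟨hq''pr, hJq''⟩ (h1 ▸ hq''')
  calc p = q.comap (algebraMap R S) := hp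
    _ ≤ q''.comap (algebraMap R S) := Ideal.comap_mono h2
    _ = p' := hq''p'

/-- Flat descent of minimal primes over annihilators. -/
theorem comap_mem_minimalPrimes_ann_of_flat {A : Type u} {B : Type v} [CommRing A] [CommRing B]
    [Algebra A B] [Module.Flat A B] {N : Type w} {NB : Type w} [AddCommGroup N] [Module A N]
    [AddCommGroup NB] [Module B NB] [Module A NB] [IsScalarTower A B NB] (g : N →ₗ[A] NB)
    (hg : IsBaseChange B g) (n : N) (q : Ideal B)
    (hq : q ∈ (span B {g n}).annihilator.minimalPrimes) :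
    q.comap (algebraMap A B) ∈ (span A {n}).annihilator.minimalPrimes := by
  haveI hqp : q.IsPrime := hq.1.1
  have hann : (span B {g n}).annihilator = ((span A {n}).annihilator).map (algebraMap A B) := by
    rw [← Groth.Agent.H9.WeakAss.ann_tmul_of_flat, ← Groth.Agent.H9.WeakAss.ann_congr hg.equiv,
      IsBaseChange.equiv_tmul, one_smul]
  rw [hann] at hq
  set I := (span A {n}).annihilator with hI
  have hIq : I ≤ q.comap (algebraMap A B) := Ideal.map_le_iff_le_comap.mp hq.1.2
  refine ⟨⟨Ideal.comap_isPrime _ _, hIq⟩, ?_⟩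
  rintro p' ⟨hp', hIp'⟩ hle
  haveI := hp'
  haveI : (q.comap (algebraMap A B)).IsPrime := Ideal.comap_isPrime _ _
  haveI : q.LiesOver (q.comap (algebraMap A B)) := ⟨rfl⟩
  obtain ⟨q', hq'q, hq'pr, hq'over⟩ :=
    Ideal.exists_ideal_le_liesOver_of_le (S := B) (p := p') (q := q.comap (algebraMap A B)) q hle
  have hq'p : q'.comap (algebraMap A B) = p' := hq'over.over.symm
  have h1 : I.map (algebraMap A B) ≤ q' := by
    rw [Ideal.map_le_iff_le_comap, hq'p]; exact hIp'
  have h2 : q ≤ q' := hq.2 ⟨hq'pr, h1⟩ hq'q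
  calc q.comap (algebraMap A B) ≤ q'.comap (algebraMap A B) := Ideal.comap_mono h2
    _ = p' := hq'p

end Groth.Agent.H87.WAss
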