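import Mathlib
import Groth.Agent.H69.KatoExt_Ea
import Groth.Agent.H31.KatoExt_Ec

/-!
# Gluing finite extensions of the localizations at height one primes (Stacks 0EAW), abstract form
(for S1851-EXT)
-/

set_option autoImplicit false
set_option linter.style.haveILetI false
universe u

namespace Groth.Agent.H87.KatoExt

open IsLocalRing

theorem glue {A K : Type u} [CommRing A] [IsNoetherianRing A] [IsLocalRing A] [CommRing K]
    [Algebra A K] (t : A) (hinj : Function.Injective (algebraMap A K))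
    (ht : IsUnit (algebraMap A K t))
    {J : Type u} [Finite J] (q : J → Ideal A) (hq : ∀ j, (q j).IsPrime)
    (hqm : ∀ j, q j ≠ maximalIdeal A)
    (hcov : ∀ q' : Ideal A, q'.IsPrime → q' ≠ maximalIdeal A → t ∈ q' → ∃ j, q j = q')
    (Q : J → Type u) [∀ j, CommRing (Q j)] [∀ j, Algebra A (Q j)] (ρ : ∀ j, K →ₐ[A] Q j)
    (C : ∀ j, Subalgebra A (Q j))
    (H2 : ∃ n : ℕ, ∀ j, ∀ c ∈ C j, ∃ (y : A) (s : A), s ∉ q j ∧
      s • (t ^ n • c) = algebraMap A (Q j) y)
    (H3 : ∀ j, ∀ x : K, ρ j x = 0 → ∃ s : A, s ∉ q j ∧ s • x = 0)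
    (H4 : ∀ j j', j ≠ j' → ∀ n : ℕ, ∃ r : A, r ∉ q j' ∧ ∀ (y : A) (z : Q j),
      t ^ n • z = algebraMap A (Q j) y → r • z ∈ C j) :
    ∃ B : Subalgebra A K, (Subalgebra.toSubmodule B).FG ∧
      (∃ N : ℕ, ∀ x ∈ B, ∃ y : A, algebraMap A K t ^ N * x = algebraMap A K y) ∧
      (∃ _ : IsLocalRing B, Function.Surjective (algebraMap A (ResidueField B))) ∧
      (∀ j, ∀ x ∈ B, ρ j x ∈ C j) ∧
      (∀ j, ∀ c ∈ C j, ∃ x ∈ B, ∃ s : A, s ∉ q j ∧ ρ j x = s • c) := by
  classical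
  haveI := Fintype.ofFinite J
  obtain ⟨n, hn⟩ := H2
  obtain ⟨u, hu⟩ : ∃ u : K, algebraMap A K t * u = 1 := ⟨↑ht.unit⁻¹, ht.mul_val_inv⟩
  set τ := algebraMap A K t with hτ
  -- `t` acts invertibly on each `Q j`
  have htQ : ∀ j, ∀ (k : ℕ) (z z' : Q j), t ^ k • z = t ^ k • z' → z = z' := by
    intro j k z z' h
    have h1 : algebraMap A (Q j) t * ρ j u = 1 := by
      rw [← (ρ j).commutes t, ← map_mul, hu, map_one]
    have h2 : ∀ w : Q j, ρ j u ^ k * (t ^ k • w) = w := by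
      intro w
      rw [Algebra.smul_def, map_pow, ← mul_assoc, ← mul_pow, mul_comm (ρ j u), h1, one_pow,
        one_mul]
    rw [← h2 z, h, h2 z']
  -- the modules `Mn k`
  let Mn : ℕ → Submodule A K := fun k =>
    { carrier := {x | (∃ y : A, τ ^ k * x = algebraMap A K y) ∧ ∀ j, ρ j x ∈ C j}
      add_mem' := by
        rintro x x' ⟨⟨y, hy⟩, hx⟩ ⟨⟨y', hy'⟩, hx'⟩
        exact ⟨⟨y + y', by rw [mul_add, hy, hy', map_add]⟩,
          fun j => by rw [map_add]; exact (C j).add_mem (hx j) (hx' j)⟩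
      zero_mem' := ⟨⟨0, by simp⟩, fun j => by rw [map_zero]; exact (C j).zero_mem⟩
      smul_mem' := by
        rintro r x ⟨⟨y, hy⟩, hx⟩
        refine ⟨⟨r * y, by rw [mul_smul_comm, hy, Algebra.smul_def, map_mul]⟩, fun j => ?_⟩
        rw [map_smul]
        exact (C j).smul_mem (hx j) r }
  have memMn : ∀ k x, x ∈ Mn k ↔
      (∃ y : A, τ ^ k * x = algebraMap A K y) ∧ ∀ j, ρ j x ∈ C j := fun k x => Iff.rfl
  -- finiteness
  have hMnle : ∀ k, Mn k ≤ Submodule.span A {u ^ k} := by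
    intro k x hx
    obtain ⟨⟨y, hy⟩, -⟩ := hx
    rw [Submodule.mem_span_singleton]
    refine ⟨y, ?_⟩
    have : x = algebraMap A K y * u ^ k := by
      rw [← hy, mul_comm (τ ^ k), mul_assoc, ← mul_pow, hu, one_pow, mul_one]
    rw [this, Algebra.smul_def]
  have hfgle : ∀ k (P : Submodule A K), P ≤ Mn k → P.FG := by
    intro k P hP
    haveI : IsNoetherian A (Submodule.span A {u ^ k}) :=
      isNoetherian_span_of_finite A (Set.finite_singleton _)
    exact (isNoetherian_submodule.mp this) P (hP.trans (hMnle k))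
  -- claim (3)
  have key3 : ∀ j0, ∀ c ∈ C j0, ∃ x ∈ Mn n, ∃ s : A, s ∉ q j0 ∧ ρ j0 x = s • c := by
    intro j0 c hc
    obtain ⟨y, s1, hs1, h⟩ := hn j0 c hc
    have hr : ∀ j, ∃ r : A, r ∉ q j0 ∧ (j ≠ j0 → ∀ (y : A) (z : Q j),
        t ^ n • z = algebraMap A (Q j) y → r • z ∈ C j) := by
      intro j
      by_cases hj : j = j0
      · exact ⟨1, (hq j0).one_notMem, fun h => absurd hj h⟩
      · obtain ⟨r, hr1, hr2⟩ := H4 j j0 hj n
        exact ⟨r, hr1, fun _ => hr2⟩
    choose r hr1 hr2 using hr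
    set s2 := ∏ j, r j with hs2
    have hs2q : s2 ∉ q j0 := by
      rw [hs2, (hq j0).prod_mem_iff]
      rintro ⟨j, -, hj⟩
      exact hr1 j hj
    set x0 : K := y • u ^ n with hx0
    have hx0τ : τ ^ n * x0 = algebraMap A K y := by
      rw [hx0, mul_smul_comm, ← mul_pow, hu, one_pow, Algebra.smul_def, mul_one]
    have hρx0 : ∀ j, t ^ n • ρ j x0 = algebraMap A (Q j) y := by
      intro j
      rw [← map_smul, Algebra.smul_def, map_pow, hx0τ, (ρ j).commutes]
    have hρj0 : ρ j0 x0 = s1 • c := by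
      apply htQ j0 n
      rw [hρx0, ← h, smul_comm]
    refine ⟨s2 • x0, ⟨⟨s2 * y, ?_⟩, fun j => ?_⟩, s2 * s1, ?_, ?_⟩
    · rw [mul_smul_comm, hx0τ, Algebra.smul_def, map_mul]
    · rw [map_smul]
      by_cases hj : j = j0
      · subst hj
        rw [hρj0]
        exact (C j).smul_mem ((C j).smul_mem hc s1) s2
      · have h1 : r j • ρ j x0 ∈ C j := hr2 j hj y _ (hρx0 j)
        rw [hs2, ← Finset.mul_prod_erase Finset.univ r (Finset.mem_univ j), mul_comm, mul_smul]
        exact (C j).smul_mem h1 _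
    · intro hmem
      rcases (hq j0).mem_or_mem hmem with h' | h'
      · exact hs2q h'
      · exact hs1 h'
    · rw [map_smul, hρj0, mul_smul]
  -- claim (4)
  have key4 : ∀ (q' : Ideal A), q'.IsPrime → q' ≠ maximalIdeal A → ∀ x ∈ Mn (2 * n),
      ∃ s : A, s ∉ q' ∧ s • x ∈ Mn n := by
    intro q' hq' hq'm x hx
    by_cases htq : t ∈ q'
    · obtain ⟨j, rfl⟩ := hcov q' hq' hq'm htq
      obtain ⟨x', hx', s, hs, hxs⟩ := key3 j (ρ j x) (hx.2 j)
      have h0 : ρ j (x' - s • x) = 0 := by rw [map_sub, map_smul, hxs, sub_self]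
      obtain ⟨s', hs', hs'x⟩ := H3 j _ h0
      refine ⟨s' * s, ?_, ?_⟩
      · intro hmem
        rcases (hq j).mem_or_mem hmem with h' | h'
        · exact hs' h'
        · exact hs h'
      · have : (s' * s) • x = s' • x' := by
          rw [smul_sub, sub_eq_zero] at hs'x
          rw [mul_smul, ← hs'x]
        rw [this]
        exact (Mn n).smul_mem s' hx'
    · refine ⟨t ^ n, fun h => htq (hq'.mem_of_pow_mem n h), ?_⟩
      obtain ⟨⟨y, hy⟩, hxC⟩ := hx
      refine ⟨⟨y, ?_⟩, fun j => ?_⟩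
      · rw [Algebra.smul_def, map_pow, ← mul_assoc, ← pow_add, ← two_mul, hy]
      · rw [map_smul]
        exact (C j).smul_mem (hxC j) _
  obtain ⟨c, hc⟩ := Groth.Agent.H31.KatoExt.exists_pow_smul_le (Mn n) (Mn (2 * n))
    (hfgle (2 * n) _ le_rfl) key4
  -- the ring `B`
  set N : Submodule A K := maximalIdeal A ^ (c + 1) • Mn n with hN
  have hNle : N ≤ Mn n := Submodule.smul_le_right
  have hmulMn : ∀ m ∈ Mn n, ∀ m' ∈ Mn n, m * m' ∈ Mn (2 * n) := by
    rintro m ⟨⟨y, hy⟩, hm⟩ m' ⟨⟨y', hy'⟩, hm'⟩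
    refine ⟨⟨y * y', ?_⟩, fun j => ?_⟩
    · rw [two_mul, pow_add, map_mul, ← hy, ← hy']
      ring
    · rw [map_mul]
      exact (C j).mul_mem (hm j) (hm' j)
  have hII : (maximalIdeal A ^ (c + 1) * maximalIdeal A ^ (c + 1)) • Mn (2 * n) ≤
      maximalIdeal A • N := by
    have e : maximalIdeal A ^ (c + 1) * maximalIdeal A ^ (c + 1) =
        maximalIdeal A * (maximalIdeal A ^ (c + 1) * maximalIdeal A ^ c) := by ring
    rw [e, Submodule.mul_smul, Submodule.mul_smul, hN]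
    exact Submodule.smul_mono le_rfl (Submodule.smul_mono le_rfl hc)
  have hNN : ∀ y ∈ N, ∀ y' ∈ N, y * y' ∈ maximalIdeal A • N := by
    intro y hy y' hy'
    refine Submodule.smul_induction_on hy ?_ ?_
    · intro r hr m hm
      refine Submodule.smul_induction_on hy' ?_ ?_
      · intro r' hr' m' hm'
        apply hII
        rw [smul_mul_smul_comm]
        exact Submodule.smul_mem_smul (Ideal.mul_mem_mul hr hr') (hmulMn m hm m' hm')
      · intro z z' hz hz'
        rw [mul_add]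
        exact Submodule.add_mem _ hz hz'
    · intro z z' hz hz'
      rw [add_mul]
      exact Submodule.add_mem _ hz hz'
  have hNmul : ∀ y ∈ N, ∀ y' ∈ N, y * y' ∈ N := fun y hy y' hy' =>
    Submodule.smul_le_right (hNN y hy y' hy')
  set P : Submodule A K := 1 ⊔ N with hP
  have memP : ∀ x, x ∈ P ↔ ∃ a : A, ∃ y ∈ N, algebraMap A K a + y = x := by
    intro x
    rw [hP, Submodule.mem_sup]
    constructor
    · rintro ⟨z, hz, y, hy, rfl⟩
      obtain ⟨a, rfl⟩ := Submodule.mem_one.mp hz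
      exact ⟨a, y, hy, rfl⟩
    · rintro ⟨a, y, hy, rfl⟩
      exact ⟨_, Submodule.mem_one.mpr ⟨a, rfl⟩, y, hy, rfl⟩
  have hPone : (1 : K) ∈ P := (memP 1).mpr ⟨1, 0, N.zero_mem, by rw [map_one, add_zero]⟩
  have hPmul : ∀ x y, x ∈ P → y ∈ P → x * y ∈ P := by
    intro x x' hx hx'
    obtain ⟨a, y, hy, rfl⟩ := (memP x).mp hx
    obtain ⟨a', y', hy', rfl⟩ := (memP x').mp hx'
    refine (memP _).mpr ⟨a * a', a • y' + a' • y + y * y', ?_, ?_⟩
    · exact N.add_mem (N.add_mem (N.smul_mem a hy') (N.smul_mem a' hy)) (hNmul y hy y' hy')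
    · rw [map_mul, Algebra.smul_def, Algebra.smul_def]
      ring
  refine ⟨Submodule.toSubalgebra P hPone hPmul, ?_, ?_, ?_, ?_, ?_⟩
  · rw [Submodule.toSubalgebra_toSubmodule, hP]
    refine Submodule.FG.sup ?_ (hfgle n N hNle)
    rw [Submodule.one_eq_span]
    exact Submodule.fg_span_singleton 1
  · refine ⟨n, fun x hx => ?_⟩
    obtain ⟨a, y, hy, rfl⟩ := (memP x).mp (Submodule.mem_toSubalgebra.mp hx)
    obtain ⟨⟨y', hy'⟩, -⟩ := hNle hy
    exact ⟨t ^ n * a + y', by rw [mul_add, hy', map_add, map_mul, map_pow]⟩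
  · have hfg : (Subalgebra.toSubmodule (Submodule.toSubalgebra P hPone hPmul)).FG := by
      rw [Submodule.toSubalgebra_toSubmodule, hP]
      refine Submodule.FG.sup ?_ (hfgle n N hNle)
      rw [Submodule.one_eq_span]
      exact Submodule.fg_span_singleton 1
    haveI : Module.Finite A (Submodule.toSubalgebra P hPone hPmul) := Module.Finite.of_fg hfg
    exact Groth.Agent.H69.KatoExt_Ea.isLocalRing_of_sup hinj _ N
      (Submodule.toSubalgebra_toSubmodule P hPone hPmul) (fun y hy => hNN y hy y hy)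
  · intro j x hx
    obtain ⟨a, y, hy, rfl⟩ := (memP x).mp (Submodule.mem_toSubalgebra.mp hx)
    rw [map_add, (ρ j).commutes]
    exact (C j).add_mem ((C j).algebraMap_mem a) ((hNle hy).2 j)
  · intro j c' hc'
    obtain ⟨x, hx, s, hs, hxs⟩ := key3 j c' hc'
    -- an element of `𝔪 \ q j`
    obtain ⟨z, hzm, hzq⟩ : ∃ z ∈ maximalIdeal A, z ∉ q j := by
      by_contra hcon
      push_neg at hcon
      haveI := hq j
      exact hqm j (le_antisymm (IsLocalRing.le_maximalIdeal (hq j).ne_top) hcon)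
    refine ⟨z ^ (c + 1) • x, ?_, z ^ (c + 1) * s, ?_, ?_⟩
    · apply Submodule.mem_toSubalgebra.mpr
      refine (memP _).mpr ⟨0, _, Submodule.smul_mem_smul (Ideal.pow_mem_pow hzm _) hx, ?_⟩
      rw [map_zero, zero_add]
    · intro hmem
      rcases (hq j).mem_or_mem hmem with h' | h'
      · exact hzq ((hq j).mem_of_pow_mem _ h')
      · exact hs h'
    · rw [map_smul, hxs, mul_smul]

end Groth.Agent.H87.KatoExt
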