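import Mathlib
import Groth.Agent.H34.TameLoc
import Groth.Prelude.Def_CycAlg

/-!
(P6) for helper34's S1849 squad: localizing a finite extension `B ⊆ E` with `x E ⊆ B` at a
maximal ideal of `B` gives a `CycAlg.IsFinExt`.
-/

set_option autoImplicit false
universe u

namespace Groth.Agent.H87.TameP6

open IsLocalRing Groth.Agent.H34.TameLoc

/-- In a one-dimensional Noetherian local ring, a power of the maximal ideal is contained in the
ideal generated by a nonzerodivisor. -/
theorem exists_pow_le_span_of_dim_one {T : Type u} [CommRing T] [IsLocalRing T]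
    [IsNoetherianRing T] (hdim : ringKrullDim T = 1) (y : T) (hy : y ∈ nonZeroDivisors T) :
    ∃ n : ℕ, maximalIdeal T ^ n ≤ Ideal.span {y} := by
  apply Ideal.exists_pow_le_of_le_radical_of_fg _ (IsNoetherian.noetherian _)
  rw [Ideal.radical_eq_sInf]
  refine le_sInf ?_
  rintro P ⟨hyP, hP⟩
  have := hP
  have hyP' : y ∈ P := hyP (Ideal.subset_span rfl)
  have hle : P ≤ maximalIdeal T := IsLocalRing.le_maximalIdeal hP.ne_top
  by_contra hne
  have hlt : P < maximalIdeal T := lt_of_le_of_ne hle (fun h => hne (h ▸ le_rfl))
  have h1 : P.height < (maximalIdeal T).height :=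
    Ideal.height_strict_mono_of_isPrime_of_isPrime hlt
  have h2 : ((maximalIdeal T).height : WithBot ℕ∞) ≤ 1 := by
    rw [← hdim]
    exact Ideal.height_le_ringKrullDim_of_isPrime
  have h2' : (maximalIdeal T).height ≤ 1 := by
    exact_mod_cast h2
  have h3 : P.height = 0 := by
    have : P.height < 1 := lt_of_lt_of_le h1 h2'
    exact Order.lt_one_iff.mp this
  have h4 : P ∈ minimalPrimes T := Ideal.height_eq_zero_iff.mp h3
  exact Set.disjoint_left.mp (Ideal.disjoint_nonZeroDivisors_of_mem_minimalPrimes h4) hyP' hy

/-- (P6) -/
theorem isFinExt_localization {B E : Type u} [CommRing B] [IsNoetherianRing B] [CommRing E]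
    [Algebra B E] [Module.Finite B E] (hinj : Function.Injective (algebraMap B E))
    (q : MaximalSpectrum B) (hdim : ringKrullDim (Localization.AtPrime q.asIdeal) = 1)
    (x : B) (hxq : x ∈ q.asIdeal) (hx : x ∈ nonZeroDivisors B)
    (hxE : ∀ e : E, ∃ b : B, algebraMap B E b = x • e) :
    CycAlg.IsFinExt (Localization.AtPrime q.asIdeal)
      (Localization (Algebra.algebraMapSubmonoid E q.asIdeal.primeCompl))
      (maximalIdeal (Localization.AtPrime q.asIdeal)) := by
  refine ⟨?_, inferInstance, ?_⟩
  · exact localizationAlgebra_injective (Localization.AtPrime q.asIdeal)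
      (Localization (Algebra.algebraMapSubmonoid E q.asIdeal.primeCompl)) hinj
  · have hx1 : algebraMap B (Localization.AtPrime q.asIdeal) x ∈
        nonZeroDivisors (Localization.AtPrime q.asIdeal) :=
      IsLocalization.map_nonZeroDivisors_le q.asIdeal.primeCompl (Localization.AtPrime q.asIdeal)
        (Submonoid.mem_map_of_mem _ hx)
    obtain ⟨n, hn⟩ := exists_pow_le_span_of_dim_one hdim _ hx1
    refine ⟨n, ?_⟩
    intro r hr c
    obtain ⟨r1, hr1⟩ := Ideal.mem_span_singleton'.mp (hn hr)
    obtain ⟨e, s, rfl⟩ := IsLocalization.exists_mk'_eq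
      (Algebra.algebraMapSubmonoid E q.asIdeal.primeCompl) c
    obtain ⟨t, ht, hts⟩ := s.2
    obtain ⟨b, hb⟩ := hxE e
    have htunit : IsUnit (algebraMap B (Localization.AtPrime q.asIdeal) t) :=
      IsLocalization.map_units (Localization.AtPrime q.asIdeal) (⟨t, ht⟩ : q.asIdeal.primeCompl)
    obtain ⟨u, hu⟩ := htunit
    refine ⟨r1 * ((↑u⁻¹ : Localization.AtPrime q.asIdeal) *
      algebraMap B (Localization.AtPrime q.asIdeal) b), ?_⟩
    -- notation
    have hcomp : ∀ z : B, algebraMap (Localization.AtPrime q.asIdeal)
        (Localization (Algebra.algebraMapSubmonoid E q.asIdeal.primeCompl))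
        (algebraMap B (Localization.AtPrime q.asIdeal) z) =
        algebraMap E (Localization (Algebra.algebraMapSubmonoid E q.asIdeal.primeCompl))
          (algebraMap B E z) := by
      intro z
      rw [← IsScalarTower.algebraMap_apply B (Localization.AtPrime q.asIdeal),
        ← IsScalarTower.algebraMap_apply B E]
    have hc : algebraMap E (Localization (Algebra.algebraMapSubmonoid E q.asIdeal.primeCompl))
        (algebraMap B E t) * IsLocalization.mk'
          (Localization (Algebra.algebraMapSubmonoid E q.asIdeal.primeCompl)) e s =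
        algebraMap E _ e := by
      rw [hts, mul_comm]
      exact IsLocalization.mk'_spec _ e s
    rw [Algebra.smul_def, ← hr1, map_mul, map_mul, map_mul, hcomp, hcomp, hb, Algebra.smul_def,
      map_mul]
    -- use t-unit
    have hu' : algebraMap (Localization.AtPrime q.asIdeal)
        (Localization (Algebra.algebraMapSubmonoid E q.asIdeal.primeCompl)) (↑u⁻¹) *
        algebraMap E (Localization (Algebra.algebraMapSubmonoid E q.asIdeal.primeCompl))
          (algebraMap B E t) = 1 := by
      rw [← hcomp, ← hu, ← map_mul, Units.inv_mul, map_one]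
    rw [← hc]
    calc _ = algebraMap (Localization.AtPrime q.asIdeal)
          (Localization (Algebra.algebraMapSubmonoid E q.asIdeal.primeCompl)) r1 *
          algebraMap E _ (algebraMap B E x) *
          ((algebraMap (Localization.AtPrime q.asIdeal)
            (Localization (Algebra.algebraMapSubmonoid E q.asIdeal.primeCompl)) (↑u⁻¹) *
          algebraMap E (Localization (Algebra.algebraMapSubmonoid E q.asIdeal.primeCompl))
            (algebraMap B E t)) * IsLocalization.mk'
          (Localization (Algebra.algebraMapSubmonoid E q.asIdeal.primeCompl)) e s) := by ring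
      _ = _ := by rw [hu', one_mul]

end Groth.Agent.H87.TameP6
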