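import Mathlib
import Groth.Agent.H87.TameP6

/-!
# Local set-up at a height one prime for S1851-EXT
-/

set_option autoImplicit false
set_option linter.style.haveILetI false
universe u

namespace Groth.Agent.H87.KatoExt

open IsLocalRing

section Local

variable (A : Type u) [CommRing A] (t : A) (q : Ideal A) [q.IsPrime]

/-- `A_q`. -/
abbrev Rq : Type u := Localization.AtPrime q

/-- the image of `t` in `A_q`. -/
abbrev tq : Rq A q := algebraMap A (Rq A q) t

/-- `(A_q)_t`. -/
abbrev Qq : Type u := Localization.Away (tq A t q)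

theorem isUnit_algebraMap_t : IsUnit (algebraMap A (Qq A t q) t) := by
  rw [IsScalarTower.algebraMap_apply A (Rq A q) (Qq A t q)]
  exact IsLocalization.Away.algebraMap_isUnit (tq A t q)

/-- The canonical map `A_t → (A_q)_t`. -/
noncomputable def rho : Localization.Away t →ₐ[A] Qq A t q :=
  { IsLocalization.Away.lift t (isUnit_algebraMap_t A t q) with
    commutes' := fun a => IsLocalization.Away.lift_eq t (isUnit_algebraMap_t A t q) a }

/-- The kernel of `A_t → (A_q)_t` is `(A ∖ q)`-torsion. -/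
theorem rho_ker (ht : t ∈ nonZeroDivisors A) (x : Localization.Away t) (hx : rho A t q x = 0) :
    ∃ s : A, s ∉ q ∧ s • x = 0 := by
  obtain ⟨y, ⟨tm, htm⟩, rfl⟩ := IsLocalization.exists_mk'_eq (Submonoid.powers t) x
  obtain ⟨m, rfl⟩ := (Submonoid.mem_powers_iff _ _).mp htm
  -- `rho (mk' y t^m) * alg t^m = alg y`
  have h1 : rho A t q (IsLocalization.mk' (Localization.Away t) y
      (⟨t ^ m, htm⟩ : Submonoid.powers t)) * algebraMap A (Qq A t q) (t ^ m) =
      algebraMap A (Qq A t q) y := by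
    rw [← (rho A t q).commutes (t ^ m), ← map_mul]
    have := IsLocalization.mk'_spec (Localization.Away t) y (⟨t ^ m, htm⟩ : Submonoid.powers t)
    rw [this, (rho A t q).commutes]
  rw [hx, zero_mul] at h1
  -- so `y/1 = 0` in `(A_q)_t`
  have h2 : algebraMap (Rq A q) (Qq A t q) (algebraMap A (Rq A q) y) = 0 := by
    rw [← IsScalarTower.algebraMap_apply]
    exact h1.symm
  rw [← map_zero (algebraMap (Rq A q) (Qq A t q)),
    IsLocalization.eq_iff_exists (Submonoid.powers (tq A t q))] at h2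
  obtain ⟨⟨c, hc⟩, hk⟩ := h2
  obtain ⟨k, rfl⟩ := (Submonoid.mem_powers_iff _ _).mp hc
  have hk' : algebraMap A (Rq A q) (t ^ k * y) = algebraMap A (Rq A q) 0 := by
    rw [map_mul, map_pow, map_zero]
    rw [mul_zero] at hk
    exact hk
  rw [IsLocalization.eq_iff_exists q.primeCompl] at hk'
  obtain ⟨⟨s, hs⟩, hsk⟩ := hk'
  rw [mul_zero] at hsk
  have h3 : s * y = 0 := by
    have h4 : (s * y) * t ^ k = 0 := by
      rw [← hsk]
      ring
    exact (mul_right_mem_nonZeroDivisors_eq_zero_iff (pow_mem ht k)).mp h4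
  refine ⟨s, hs, ?_⟩
  rw [IsLocalization.smul_mk', h3, IsLocalization.mk'_zero]

/-- For a prime `q ⊄ q0` with `A_q` one-dimensional, some `r ∉ q0` becomes divisible by `t ^ n`
in `A_q`. -/
theorem exists_r [IsNoetherianRing A] (ht : t ∈ nonZeroDivisors A)
    (hdim : ringKrullDim (Rq A q) = 1) (q0 : Ideal A) [q0.IsPrime] (hq : ¬ q ≤ q0) (n : ℕ) :
    ∃ r : A, r ∉ q0 ∧ ∃ w : Rq A q, algebraMap A (Rq A q) r = w * tq A t q ^ n := by
  obtain ⟨z0, hz0q, hz0⟩ := Set.not_subset.mp hq
  haveI : IsNoetherianRing (Rq A q) := IsLocalization.isNoetherianRing q.primeCompl _ inferInstance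
  have hnzd : tq A t q ^ n ∈ nonZeroDivisors (Rq A q) := by
    apply pow_mem
    exact IsLocalization.map_nonZeroDivisors_le q.primeCompl (Rq A q)
      (Submonoid.mem_map_of_mem _ ht)
  obtain ⟨k, hk⟩ := Groth.Agent.H87.TameP6.exists_pow_le_span_of_dim_one hdim _ hnzd
  refine ⟨z0 ^ k, fun h => hz0 (Ideal.IsPrime.mem_of_pow_mem inferInstance k h), ?_⟩
  have hmem : algebraMap A (Rq A q) z0 ∈ maximalIdeal (Rq A q) :=
    (IsLocalization.AtPrime.to_map_mem_maximal_iff (Rq A q) q z0).mpr hz0q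
  have h1 : algebraMap A (Rq A q) (z0 ^ k) ∈ Ideal.span {tq A t q ^ n} := by
    rw [map_pow]
    exact hk (Ideal.pow_mem_pow hmem k)
  obtain ⟨w, hw⟩ := Ideal.mem_span_singleton'.mp h1
  exact ⟨w, hw.symm⟩

end Local

end Groth.Agent.H87.KatoExt
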