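import Mathlib
import Groth.Agent.H87.KatoExtLocal
import Groth.Agent.H31.KatoExt_Eb
import Groth.Agent.H34.Euclid1

/-!
# Transport of the monomial data to `Localization.AtPrime p` for S1851-EXT
-/

set_option autoImplicit false
set_option linter.style.haveILetI false
universe u

namespace Groth.Agent.H87.KatoExt

open IsLocalRing Groth.Agent.H34.Euclid1

section Trans

variable (A : Type u) [CommRing A] (t : A) (q : Ideal A) [q.IsPrime]

/-- The map `B → D` induced by `rho`. -/
noncomputable def phi (B : Subalgebra A (Localization.Away t))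
    (D : Subalgebra (Rq A q) (Qq A t q)) (hBC : ∀ x ∈ B, rho A t q x ∈ D) : B →+* D :=
  RingHom.codRestrict (((rho A t q : Localization.Away t →ₐ[A] Qq A t q) : _ →+* _).comp
    B.val.toRingHom) D (fun x => hBC x.1 x.2)

theorem phi_coe (B : Subalgebra A (Localization.Away t))
    (D : Subalgebra (Rq A q) (Qq A t q)) (hBC : ∀ x ∈ B, rho A t q x ∈ D) (x : B) :
    ((phi A t q B D hBC x : D) : Qq A t q) = rho A t q (x : Localization.Away t) := rfl

theorem phi_algebraMap (B : Subalgebra A (Localization.Away t))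
    (D : Subalgebra (Rq A q) (Qq A t q)) (hBC : ∀ x ∈ B, rho A t q x ∈ D) (s : A) :
    ((phi A t q B D hBC (algebraMap A B s) : D) : Qq A t q) = algebraMap A (Qq A t q) s := by
  rw [phi_coe]
  exact (rho A t q).commutes s

theorem isLocalization_D (ht : t ∈ nonZeroDivisors A) (B : Subalgebra A (Localization.Away t))
    (D : Subalgebra (Rq A q) (Qq A t q)) (hBC : ∀ x ∈ B, rho A t q x ∈ D)
    (hsurj : ∀ c ∈ D, ∃ x ∈ B, ∃ s : A, s ∉ q ∧ rho A t q x = s • c) :
    @IsLocalization B _ (Algebra.algebraMapSubmonoid B q.primeCompl) D _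
      (phi A t q B D hBC).toAlgebra := by
  letI : Algebra B D := (phi A t q B D hBC).toAlgebra
  have halg : ∀ x : B, algebraMap B D x = phi A t q B D hBC x := fun x => rfl
  rw [isLocalization_iff]
  refine ⟨?_, ?_, ?_⟩
  · rintro ⟨_, s, hs, rfl⟩
    rw [halg]
    -- the inverse of `s` in `D`
    have hinv : algebraMap (Rq A q) (Qq A t q)
        (IsLocalization.mk' (Rq A q) 1 (⟨s, hs⟩ : q.primeCompl)) ∈ D := D.algebraMap_mem _
    refine IsUnit.of_mul_eq_one ⟨_, hinv⟩ ?_
    apply Subtype.ext
    show ((phi A t q B D hBC (algebraMap A B s) : D) : Qq A t q) * _ = 1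
    rw [phi_algebraMap, IsScalarTower.algebraMap_apply A (Rq A q) (Qq A t q), ← map_mul,
      IsLocalization.mul_mk'_eq_mk'_of_mul, mul_one]
    have : IsLocalization.mk' (Rq A q) s (⟨s, hs⟩ : q.primeCompl) = 1 :=
      IsLocalization.mk'_self (Rq A q) hs
    rw [this, map_one]
  · intro c
    obtain ⟨x, hx, s, hs, hxs⟩ := hsurj c.1 c.2
    refine ⟨(⟨x, hx⟩, ⟨algebraMap A B s, s, hs, rfl⟩), ?_⟩
    apply Subtype.ext
    show (c : Qq A t q) * ((phi A t q B D hBC (algebraMap A B s) : D) : Qq A t q) =
      ((phi A t q B D hBC ⟨x, hx⟩ : D) : Qq A t q)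
    rw [phi_algebraMap, phi_coe, hxs, mul_comm]
    exact (Algebra.smul_def s (c : Qq A t q)).symm
  · intro x y hxy
    have h0 : rho A t q ((x : Localization.Away t) - (y : Localization.Away t)) = 0 := by
      have := congrArg (fun d : D => (d : Qq A t q)) hxy
      simp only [halg, phi_coe] at this
      rw [map_sub, this, sub_self]
    obtain ⟨s, hs, hsx⟩ := rho_ker A t q ht _ h0
    refine ⟨⟨algebraMap A B s, s, hs, rfl⟩, ?_⟩
    apply Subtype.ext
    show algebraMap A (Localization.Away t) s * (x : Localization.Away t) =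
      algebraMap A (Localization.Away t) s * (y : Localization.Away t)
    rw [smul_sub, sub_eq_zero, Algebra.smul_def, Algebra.smul_def] at hsx
    exact hsx

/-- Transport of the monomial data from `D` to the localization of `B` at a prime over `q`. -/
theorem mono_transport [IsNoetherianRing A] (ht : t ∈ nonZeroDivisors A) (htq : t ∈ q)
    (hdim : ringKrullDim (Rq A q) = 1) (a b : A)
    (B : Subalgebra A (Localization.Away t))
    (D : Subalgebra (Rq A q) (Qq A t q)) (hDfg : (Subalgebra.toSubmodule D).FG)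
    (hmono : Mono D [algebraMap (Rq A q) (Qq A t q) (algebraMap A (Rq A q) a),
      algebraMap (Rq A q) (Qq A t q) (algebraMap A (Rq A q) b)])
    (hBC : ∀ x ∈ B, rho A t q x ∈ D)
    (hsurj : ∀ c ∈ D, ∃ x ∈ B, ∃ s : A, s ∉ q ∧ rho A t q x = s • c)
    (p : Ideal B) [p.IsPrime] (hpq : p.comap (algebraMap A B) = q) :
    ∃ π ∈ nonZeroDivisors (Localization.AtPrime p),
      ∃ (u v : (Localization.AtPrime p)ˣ) (e f : ℕ),
        algebraMap B (Localization.AtPrime p) (algebraMap A B a) = u * π ^ e ∧
        algebraMap B (Localization.AtPrime p) (algebraMap A B b) = v * π ^ f := by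
  letI algBD : Algebra B D := (phi A t q B D hBC).toAlgebra
  have halg : ∀ x : B, algebraMap B D x = phi A t q B D hBC x := fun x => rfl
  haveI : IsLocalization (Algebra.algebraMapSubmonoid B q.primeCompl) D :=
    isLocalization_D A t q ht B D hBC hsurj
  have hdisj : Disjoint ((Algebra.algebraMapSubmonoid B q.primeCompl : Submonoid B) : Set B)
      (p : Set B) := by
    rw [Set.disjoint_left]
    rintro _ ⟨s, hs, rfl⟩ hmem
    apply hs
    rw [← hpq]
    exact hmem
  obtain ⟨n, hn, hcomap, e, he⟩ := Groth.Agent.H31.KatoExt.exists_ringEquiv_atPrime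
    (Algebra.algebraMapSubmonoid B q.primeCompl) p hdisj (C := D)
  haveI : IsNoetherianRing (Rq A q) := IsLocalization.isNoetherianRing q.primeCompl _ inferInstance
  haveI : Module.Finite (Rq A q) D := Module.Finite.of_fg hDfg
  haveI : Algebra.IsIntegral (Rq A q) D := Algebra.IsIntegral.of_finite (Rq A q) D
  -- `n` is maximal
  have hmax : n.IsMaximal := by
    have htn : algebraMap (Rq A q) D (tq A t q) ∈ n := by
      have h1 : algebraMap A B t ∈ p := by
        have : t ∈ p.comap (algebraMap A B) := by rw [hpq]; exact htq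
        exact this
      rw [← hcomap, Ideal.mem_comap, halg] at h1
      have h2 : algebraMap (Rq A q) D (tq A t q) = phi A t q B D hBC (algebraMap A B t) := by
        apply Subtype.ext
        rw [phi_algebraMap]
        exact (IsScalarTower.algebraMap_apply A (Rq A q) (Qq A t q) t).symm
      rw [h2]
      exact h1
    have hnzd : tq A t q ∈ nonZeroDivisors (Rq A q) :=
      IsLocalization.map_nonZeroDivisors_le q.primeCompl (Rq A q)
        (Submonoid.mem_map_of_mem _ ht)
    obtain ⟨k, hk⟩ := Groth.Agent.H87.TameP6.exists_pow_le_span_of_dim_one hdim _ hnzd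
    have hprime : (n.comap (algebraMap (Rq A q) D)).IsPrime := Ideal.comap_isPrime _ _
    have hle : maximalIdeal (Rq A q) ≤ n.comap (algebraMap (Rq A q) D) := by
      apply hprime.le_of_pow_le (n := k)
      refine hk.trans ?_
      rw [Ideal.span_singleton_le_iff_mem]
      exact htn
    have heq : n.comap (algebraMap (Rq A q) D) = maximalIdeal (Rq A q) :=
      ((maximalIdeal.isMaximal (Rq A q)).eq_of_le hprime.ne_top hle).symm
    apply Ideal.isMaximal_of_isIntegral_of_isMaximal_comap (R := Rq A q) n
    rw [heq]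
    infer_instance
  obtain ⟨π, hπ, hmon⟩ := hmono ⟨n, hmax⟩
  have hα : algebraMap (Rq A q) (Qq A t q) (algebraMap A (Rq A q) a) ∈ D := D.algebraMap_mem _
  have hβ : algebraMap (Rq A q) (Qq A t q) (algebraMap A (Rq A q) b) ∈ D := D.algebraMap_mem _
  obtain ⟨u, ea, hua⟩ := hmon _ (by simp) hα
  obtain ⟨v, eb, hvb⟩ := hmon _ (by simp) hβ
  have hαeq : ∀ (c : A) (hc : algebraMap (Rq A q) (Qq A t q) (algebraMap A (Rq A q) c) ∈ D),
      (⟨_, hc⟩ : D) = algebraMap B D (algebraMap A B c) := by
    intro c hc
    apply Subtype.ext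
    rw [halg, phi_algebraMap]
    exact (IsScalarTower.algebraMap_apply A (Rq A q) (Qq A t q) c).symm
  rw [hαeq a hα] at hua
  rw [hαeq b hβ] at hvb
  have hπ' : e π ∈ nonZeroDivisors (Localization.AtPrime p) := by
    rw [mem_nonZeroDivisors_iff_right]
    intro y hy
    have h1 : π * e.symm y = 0 := by
      apply e.injective
      rw [map_mul, e.apply_symm_apply, map_zero, mul_comm]
      exact hy
    have h2 : e.symm y = 0 := by
      rw [mul_comm] at h1
      exact (mem_nonZeroDivisors_iff_right.mp hπ) _ h1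
    rw [← e.apply_symm_apply y, h2, map_zero]
  refine ⟨e π, hπ', Units.map (e : _ →* _) u, Units.map (e : _ →* _) v, ea, eb, ?_, ?_⟩
  · rw [← he, hua, map_mul, map_pow]
    rfl
  · rw [← he, hvb, map_mul, map_pow]
    rfl

end Trans

end Groth.Agent.H87.KatoExt
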