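import Mathlib
import Groth.Prelude.Def_Tame
import Groth.Agent.H87.KatoExtGlue
import Groth.Agent.H87.KatoExtTrans
import Groth.Agent.H72.KatoDim2
import Groth.Agent.H34.RelLen

/-!
# (EXT) for S1851 (Kato key lemma): Stacks 0EAW + 0EAX
-/

set_option autoImplicit false
set_option linter.style.haveILetI false
universe u

namespace Groth.Agent.H87.KatoExt

open IsLocalRing Groth.Agent.H34.Euclid1

theorem exists_ext (A : Type u) [CommRing A] [IsNoetherianRing A] [IsLocalRing A]
    (hA : ringKrullDim A = 2) (a b : A) (ha : a ∈ nonZeroDivisors A) (hb : b ∈ nonZeroDivisors A)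
    (hab : a * b ∈ maximalIdeal A) :
    ∃ (B : Type u) (_ : CommRing B) (_ : Algebra A B) (_ : IsLocalRing B),
      Function.Injective (algebraMap A B) ∧ Module.Finite A B ∧
      Function.Surjective (algebraMap A (ResidueField B)) ∧
      algebraMap A B (a * b) ∈ nonZeroDivisors B ∧
      (∃ N : ℕ, ∀ x : B, algebraMap A B ((a * b) ^ N) * x ∈ (algebraMap A B).range) ∧
      ∀ (p : Ideal B) [p.IsPrime], p ≠ maximalIdeal B → algebraMap A B (a * b) ∈ p →
        ∃ π ∈ nonZeroDivisors (Localization.AtPrime p), ∃ (u v : (Localization.AtPrime p)ˣ) (e f : ℕ),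
          algebraMap B (Localization.AtPrime p) (algebraMap A B a) = u * π ^ e ∧
          algebraMap B (Localization.AtPrime p) (algebraMap A B b) = v * π ^ f := by
  classical
  obtain ⟨t, ht_def⟩ : ∃ t : A, t = a * b := ⟨_, rfl⟩
  rw [← ht_def] at hab ⊢
  have ht : t ∈ nonZeroDivisors A := by rw [ht_def]; exact mul_mem ha hb
  -- the index set
  let J : Type u := {q : PrimeSpectrum A // t ∈ q.asIdeal ∧ q.asIdeal ≠ maximalIdeal A}
  let qq : J → Ideal A := fun j => j.1.asIdeal
  have hqq : ∀ j : J, (qq j).IsPrime := fun j => j.1.isPrime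
  have hstruct : ∀ j : J, qq j ∈ (Ideal.span {t}).minimalPrimes ∧ (qq j).height = 1 := by
    intro j
    haveI := hqq j
    obtain ⟨h1, -, h3⟩ := Groth.Agent.H72.KatoDim2.dim_two_structure A hA.le t ht (qq j)
      j.2.1 j.2.2
    exact ⟨h1, h3 hA⟩
  haveI : Finite J := by
    have hfin := Ideal.finite_minimalPrimes_of_isNoetherianRing A (Ideal.span {t})
    haveI := hfin.to_subtype
    refine Finite.of_injective
      (fun j : J => (⟨qq j, (hstruct j).1⟩ : (Ideal.span {t}).minimalPrimes)) ?_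
    intro j j' h
    exact Subtype.ext (PrimeSpectrum.ext (congrArg Subtype.val h))
  have hdim : ∀ j : J, ringKrullDim (Rq A (qq j)) = 1 := by
    intro j
    haveI := hqq j
    rw [IsLocalization.AtPrime.ringKrullDim_eq_height (qq j) (Rq A (qq j)), (hstruct j).2]
    rfl
  have hnle : ∀ j j' : J, j ≠ j' → ¬ qq j ≤ qq j' := by
    intro j j' hne hle
    apply hne
    have h1 := (hstruct j').1
    have h2 : qq j' ≤ qq j := h1.2 ⟨hqq j, (hstruct j).1.1.2⟩ hle
    exact Subtype.ext (PrimeSpectrum.ext (le_antisymm hle h2))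
  -- local data
  have hD : ∀ j : J, ∃ D : Subalgebra (Rq A j.1.asIdeal) (Qq A t j.1.asIdeal),
      (Subalgebra.toSubmodule D).FG ∧
      Mono D [algebraMap (Rq A j.1.asIdeal) (Qq A t j.1.asIdeal)
          (algebraMap A (Rq A j.1.asIdeal) a),
        algebraMap (Rq A j.1.asIdeal) (Qq A t j.1.asIdeal)
          (algebraMap A (Rq A j.1.asIdeal) b)] := by
    intro j
    haveI : IsNoetherianRing (Rq A j.1.asIdeal) :=
      IsLocalization.isNoetherianRing j.1.asIdeal.primeCompl _ inferInstance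
    have hnzd : tq A t j.1.asIdeal ∈ nonZeroDivisors (Rq A j.1.asIdeal) :=
      IsLocalization.map_nonZeroDivisors_le j.1.asIdeal.primeCompl (Rq A j.1.asIdeal)
        (Submonoid.mem_map_of_mem _ ht)
    have hM : Submonoid.powers (tq A t j.1.asIdeal) ≤ nonZeroDivisors (Rq A j.1.asIdeal) :=
      Submonoid.powers_le.mpr hnzd
    have hu : IsUnit (algebraMap (Rq A j.1.asIdeal) (Qq A t j.1.asIdeal)
          (algebraMap A (Rq A j.1.asIdeal) a) *
        algebraMap (Rq A j.1.asIdeal) (Qq A t j.1.asIdeal)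
          (algebraMap A (Rq A j.1.asIdeal) b)) := by
      rw [← map_mul, ← map_mul, ← ht_def]
      exact IsLocalization.Away.algebraMap_isUnit (tq A t j.1.asIdeal)
    obtain ⟨D, -, hDfg, hmono⟩ := Groth.Agent.H34.Euclid1.main (Submonoid.powers (tq A t j.1.asIdeal)) (hdim j) hM
      2 [algebraMap (Rq A j.1.asIdeal) (Qq A t j.1.asIdeal) (algebraMap A (Rq A j.1.asIdeal) a),
        algebraMap (Rq A j.1.asIdeal) (Qq A t j.1.asIdeal) (algebraMap A (Rq A j.1.asIdeal) b)]
      rfl ⊥ Subalgebra.fg_bot_toSubmodule (by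
        intro α hα
        simp only [List.mem_cons, List.not_mem_nil, or_false] at hα
        rcases hα with rfl | rfl
        · exact ⟨Subalgebra.algebraMap_mem _ _, isUnit_of_mul_isUnit_left hu⟩
        · exact ⟨Subalgebra.algebraMap_mem _ _, isUnit_of_mul_isUnit_right hu⟩)
    exact ⟨D, hDfg, hmono⟩
  choose D hDfg hDmono using hD
  -- hypotheses of the gluing theorem
  have H2 : ∃ n : ℕ, ∀ j : J, ∀ c ∈ (D j).restrictScalars A, ∃ (y : A) (s : A),
      s ∉ j.1.asIdeal ∧ s • (t ^ n • c) = algebraMap A (Qq A t j.1.asIdeal) y := by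
    have h1 : ∀ j : J, ∃ nj : ℕ, ∀ x ∈ D j, ∃ z : Rq A j.1.asIdeal,
        algebraMap _ (Qq A t j.1.asIdeal) z = tq A t j.1.asIdeal ^ nj • x := by
      intro j
      obtain ⟨c, hcp, hc⟩ := Groth.Agent.H34.RelLen.exists_smul_mem_bot
        (Submonoid.powers (tq A t j.1.asIdeal)) (Subalgebra.toSubmodule (D j)) (hDfg j)
      obtain ⟨nj, rfl⟩ := (Submonoid.mem_powers_iff _ _).mp hcp
      exact ⟨nj, fun x hx => hc x hx⟩
    choose nj hnj using h1
    haveI := Fintype.ofFinite J
    refine ⟨∑ j, nj j, fun j c hc => ?_⟩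
    obtain ⟨z, hz⟩ := hnj j c hc
    have hle : nj j ≤ ∑ j, nj j :=
      Finset.single_le_sum (fun _ _ => Nat.zero_le _) (Finset.mem_univ j)
    obtain ⟨y, s, hys⟩ := IsLocalization.exists_mk'_eq j.1.asIdeal.primeCompl
      (tq A t j.1.asIdeal ^ (∑ j, nj j - nj j) * z)
    refine ⟨y, s.1, s.2, ?_⟩
    have h2 : algebraMap A (Rq A j.1.asIdeal) s.1 *
        (tq A t j.1.asIdeal ^ (∑ j, nj j - nj j) * z) = algebraMap A (Rq A j.1.asIdeal) y := by
      rw [← hys, IsLocalization.mk'_spec']
    have h3 := congrArg (algebraMap (Rq A j.1.asIdeal) (Qq A t j.1.asIdeal)) h2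
    rw [map_mul, map_mul, hz, ← IsScalarTower.algebraMap_apply,
      ← IsScalarTower.algebraMap_apply] at h3
    have e1 : ∀ (r : A) (z : Qq A t j.1.asIdeal),
        r • z = algebraMap A (Qq A t j.1.asIdeal) r * z := fun r z => Algebra.smul_def r z
    have e2 : ∀ (r : Rq A j.1.asIdeal) (z : Qq A t j.1.asIdeal),
        r • z = algebraMap (Rq A j.1.asIdeal) (Qq A t j.1.asIdeal) r * z :=
      fun r z => Algebra.smul_def r z
    rw [e2] at h3
    rw [← h3, e1, e1, map_pow, map_pow, map_pow,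
      IsScalarTower.algebraMap_apply A (Rq A j.1.asIdeal) (Qq A t j.1.asIdeal) t,
      ← pow_sub_mul_pow _ hle]
    ring
  have H3 : ∀ j : J, ∀ x : Localization.Away t, rho A t j.1.asIdeal x = 0 →
      ∃ s : A, s ∉ j.1.asIdeal ∧ s • x = 0 := fun j x hx => rho_ker A t j.1.asIdeal ht x hx
  have H4 : ∀ j j' : J, j ≠ j' → ∀ n : ℕ, ∃ r : A, r ∉ j'.1.asIdeal ∧
      ∀ (y : A) (z : Qq A t j.1.asIdeal), t ^ n • z = algebraMap A (Qq A t j.1.asIdeal) y →
        r • z ∈ (D j).restrictScalars A := by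
    intro j j' hne n
    obtain ⟨r, hr, w, hw⟩ := exists_r A t j.1.asIdeal ht (hdim j) j'.1.asIdeal (hnle j j' hne) n
    refine ⟨r, hr, fun y z hz => ?_⟩
    have e1 : ∀ (r : A) (z : Qq A t j.1.asIdeal),
        r • z = algebraMap A (Qq A t j.1.asIdeal) r * z := fun r z => Algebra.smul_def r z
    have : r • z = algebraMap (Rq A j.1.asIdeal) (Qq A t j.1.asIdeal)
        (w * algebraMap A (Rq A j.1.asIdeal) y) := by
      rw [e1, IsScalarTower.algebraMap_apply A (Rq A j.1.asIdeal)
        (Qq A t j.1.asIdeal), hw, map_mul, map_mul, map_pow, mul_assoc]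
      congr 1
      rw [← IsScalarTower.algebraMap_apply A (Rq A j.1.asIdeal) (Qq A t j.1.asIdeal) y, ← hz,
        e1, map_pow,
        IsScalarTower.algebraMap_apply A (Rq A j.1.asIdeal) (Qq A t j.1.asIdeal) t]
    rw [this]
    exact (D j).algebraMap_mem _
  have hinj : Function.Injective (algebraMap A (Localization.Away t)) :=
    IsLocalization.injective _ (Submonoid.powers_le.mpr ht)
  have htu : IsUnit (algebraMap A (Localization.Away t) t) :=
    IsLocalization.Away.algebraMap_isUnit t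
  obtain ⟨B, hBfg, ⟨N, hBN⟩, ⟨hloc, hres⟩, hBC, hsurj⟩ := glue t hinj htu
    (fun j : J => j.1.asIdeal) (fun j => j.1.isPrime) (fun j => j.2.2)
    (fun q' hq' hq'm htq' => ⟨⟨⟨q', hq'⟩, htq', hq'm⟩, rfl⟩)
    (fun j => Qq A t j.1.asIdeal) (fun j => rho A t j.1.asIdeal)
    (fun j => (D j).restrictScalars A) H2 H3 H4
  haveI : Module.Finite A B := Module.Finite.of_fg hBfg
  haveI : Algebra.IsIntegral A B := Algebra.IsIntegral.of_finite A B
  refine ⟨B, inferInstance, inferInstance, hloc, ?_, inferInstance, hres, ?_, ?_, ?_⟩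
  · intro x y hxy
    exact hinj (congrArg Subtype.val hxy)
  · rw [mem_nonZeroDivisors_iff_right]
    intro x hx
    have h1 : (x : Localization.Away t) * algebraMap A (Localization.Away t) t = 0 :=
      congrArg Subtype.val hx
    apply Subtype.ext
    exact (htu.mul_left_eq_zero).mp h1
  · refine ⟨N, fun x => ?_⟩
    obtain ⟨y, hy⟩ := hBN x.1 x.2
    refine ⟨y, Subtype.ext ?_⟩
    show algebraMap A (Localization.Away t) y =
      algebraMap A (Localization.Away t) (t ^ N) * (x : Localization.Away t)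
    rw [map_pow, hy]
  · intro p hp hpm htp
    haveI := hloc
    have hq'prime : (p.comap (algebraMap A B)).IsPrime := Ideal.comap_isPrime _ _
    have hq'm : p.comap (algebraMap A B) ≠ maximalIdeal A := by
      intro h
      apply hpm
      have hmax : p.IsMaximal :=
        Ideal.isMaximal_of_isIntegral_of_isMaximal_comap (R := A) p (by rw [h]; infer_instance)
      exact IsLocalRing.eq_maximalIdeal hmax
    let j : J := ⟨⟨p.comap (algebraMap A B), hq'prime⟩, htp, hq'm⟩
    exact mono_transport A t j.1.asIdeal ht j.2.1 (hdim j) a b B (D j) (hDfg j) (hDmono j)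
      (fun x hx => hBC j x hx) (fun c hc => hsurj j c hc) p rfl

end Groth.Agent.H87.KatoExt
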