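import Mathlib

/-!
# (SUBLOC) for helper38's S0419 squad: two finitely generated subalgebras with the same fraction
field have a common localization
-/

set_option autoImplicit false
universe u

namespace Groth.Agent.H87.IrrSUBLOC

section Rng

variable (A : Type u) {S L : Type u} [CommRing A] [CommRing S] [Field L] [Algebra A S]
  [Algebra A L] [Algebra S L] [IsScalarTower A S L]

/-- `S[1/s]` inside `L` as an `A`-subalgebra. -/
def Rng (s : S) : Subalgebra A L :=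
  Algebra.adjoin A (Set.range (algebraMap S L) ∪ {(algebraMap S L s)⁻¹})

theorem map_mem_Rng (s a : S) : algebraMap S L a ∈ Rng A (L := L) s :=
  Algebra.subset_adjoin (Or.inl ⟨a, rfl⟩)

theorem inv_mem_Rng (s : S) : (algebraMap S L s)⁻¹ ∈ Rng A (L := L) s :=
  Algebra.subset_adjoin (Or.inr rfl)

theorem Rng_le (s : S) (R' : Subalgebra A L) (h1 : ∀ a : S, algebraMap S L a ∈ R')
    (h2 : (algebraMap S L s)⁻¹ ∈ R') : Rng A (L := L) s ≤ R' := by
  apply Algebra.adjoin_le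
  rintro x (⟨a, rfl⟩ | rfl)
  · exact h1 a
  · exact h2

theorem exists_algHom_range_eq_Rng [IsDomain S] [IsFractionRing S L] (s : S) (hs : s ≠ 0) :
    ∃ φA : Localization.Away s →ₐ[A] L, Function.Injective φA ∧ φA.range = Rng A (L := L) s ∧
      ∀ x : L, x ∈ φA.range ↔ ∃ (a : S) (n : ℕ), x = algebraMap S L a * (algebraMap S L (s ^ n))⁻¹ := by
  have hS : Submonoid.powers s ≤ nonZeroDivisors S :=
    powers_le_nonZeroDivisors_of_noZeroDivisors hs
  let φ : Localization.Away s →ₐ[S] L :=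
    Localization.mapToFractionRing L (Submonoid.powers s) (Localization.Away s) hS
  let φA : Localization.Away s →ₐ[A] L := φ.restrictScalars A
  have hinj : Function.Injective φA := by
    show Function.Injective (IsLocalization.lift (Localization.map_isUnit_of_le L
      (Submonoid.powers s) hS) : Localization.Away s → L)
    rw [IsLocalization.lift_injective_iff]
    intro a b
    exact ⟨fun h => congr_arg _ (IsLocalization.injective _ hS h),
      fun h => congr_arg _ (IsFractionRing.injective S L h)⟩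
  have hmem : ∀ x : L, x ∈ φA.range ↔ x ∈ φ.range := fun x => Iff.rfl
  have hdesc : ∀ x : L, x ∈ φA.range ↔
      ∃ (a : S) (n : ℕ), x = algebraMap S L a * (algebraMap S L (s ^ n))⁻¹ := by
    intro x
    rw [hmem, Localization.subalgebra.mem_range_mapToFractionRing_iff_ofField]
    constructor
    · rintro ⟨a, t, ⟨n, rfl⟩, rfl⟩
      exact ⟨a, n, rfl⟩
    · rintro ⟨a, n, rfl⟩
      exact ⟨a, s ^ n, ⟨n, rfl⟩, rfl⟩
  have hrange : φA.range = Rng A (L := L) s := by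
    apply le_antisymm
    · intro x hx
      rw [hdesc] at hx
      obtain ⟨a, n, rfl⟩ := hx
      refine (Rng A s).mul_mem (map_mem_Rng A s a) ?_
      rw [map_pow, ← inv_pow]
      exact (Rng A s).pow_mem (inv_mem_Rng A s) n
    · apply Rng_le
      · intro a
        exact ⟨algebraMap S (Localization.Away s) a, φ.commutes a⟩
      · rw [hdesc]
        exact ⟨1, 1, by rw [map_one, one_mul, pow_one]⟩
  exact ⟨φA, hinj, hrange, hdesc⟩

theorem nonempty_away_equiv_Rng [IsDomain S] [IsFractionRing S L] (s : S) (hs : s ≠ 0) :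
    Nonempty (Localization.Away s ≃ₐ[A] Rng A (L := L) s) := by
  obtain ⟨φA, hinj, hrange, -⟩ := exists_algHom_range_eq_Rng A (L := L) s hs
  exact ⟨(AlgEquiv.ofInjective φA hinj).trans (Subalgebra.equivOfEq _ _ hrange)⟩

theorem mem_Rng_iff [IsDomain S] [IsFractionRing S L] (s : S) (hs : s ≠ 0) (x : L) :
    x ∈ Rng A (L := L) s ↔
      ∃ (a : S) (n : ℕ), x = algebraMap S L a * (algebraMap S L (s ^ n))⁻¹ := by
  obtain ⟨φA, -, hrange, hdesc⟩ := exists_algHom_range_eq_Rng A (L := L) s hs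
  rw [← hrange]
  exact hdesc x

end Rng

section Two

variable (A : Type u) {S₁ S₂ L : Type u} [CommRing A] [CommRing S₁] [CommRing S₂] [Field L]
  [Algebra A S₁] [Algebra A S₂] [Algebra A L] [Algebra S₁ L] [Algebra S₂ L]
  [IsScalarTower A S₁ L] [IsScalarTower A S₂ L]

theorem Rng_le_Rng (h g₁ : S₁) (g h₂ : S₂) (k l : ℕ)
    (hh : algebraMap S₁ L h ≠ 0) (hg₁ : algebraMap S₁ L g₁ ≠ 0)
    (hg : algebraMap S₂ L g ≠ 0) (hh₂ : algebraMap S₂ L h₂ ≠ 0)
    (ha : ∀ a : S₁, algebraMap S₁ L a ∈ Rng A (L := L) g)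
    (hc : algebraMap S₁ L h * algebraMap S₂ L g ^ k = algebraMap S₂ L h₂)
    (hd : algebraMap S₂ L g * algebraMap S₁ L h ^ l = algebraMap S₁ L g₁) :
    Rng A (L := L) (h * g₁) ≤ Rng A (L := L) (g * h₂) := by
  have hginv : (algebraMap S₂ L g)⁻¹ ∈ Rng A (L := L) (g * h₂) := by
    have : (algebraMap S₂ L g)⁻¹ = algebraMap S₂ L h₂ * (algebraMap S₂ L (g * h₂))⁻¹ := by
      rw [map_mul]
      field_simp
    rw [this]
    exact (Rng A (g * h₂)).mul_mem (map_mem_Rng A _ _) (inv_mem_Rng A _)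
  have hh₂inv : (algebraMap S₂ L h₂)⁻¹ ∈ Rng A (L := L) (g * h₂) := by
    have : (algebraMap S₂ L h₂)⁻¹ = algebraMap S₂ L g * (algebraMap S₂ L (g * h₂))⁻¹ := by
      rw [map_mul]
      field_simp
    rw [this]
    exact (Rng A (g * h₂)).mul_mem (map_mem_Rng A _ _) (inv_mem_Rng A _)
  have hgle : Rng A (L := L) g ≤ Rng A (L := L) (g * h₂) :=
    Rng_le A g _ (fun a => map_mem_Rng A _ a) hginv
  have hhinv : (algebraMap S₁ L h)⁻¹ ∈ Rng A (L := L) (g * h₂) := by
    have : (algebraMap S₁ L h)⁻¹ = algebraMap S₂ L g ^ k * (algebraMap S₂ L h₂)⁻¹ := by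
      rw [← hc]
      field_simp
    rw [this]
    exact (Rng A (g * h₂)).mul_mem ((Rng A (g * h₂)).pow_mem (map_mem_Rng A _ g) k) hh₂inv
  have hg₁inv : (algebraMap S₁ L g₁)⁻¹ ∈ Rng A (L := L) (g * h₂) := by
    have : (algebraMap S₁ L g₁)⁻¹ = (algebraMap S₂ L g)⁻¹ * ((algebraMap S₁ L h)⁻¹) ^ l := by
      rw [← hd, mul_inv, inv_pow]
    rw [this]
    exact (Rng A (g * h₂)).mul_mem hginv ((Rng A (g * h₂)).pow_mem hhinv l)
  apply Rng_le
  · intro a
    exact hgle (ha a)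
  · rw [map_mul, mul_inv]
    exact (Rng A (g * h₂)).mul_mem hhinv hg₁inv

theorem exists_subset_Rng [IsDomain S₂] [IsFractionRing S₂ L] [Algebra.FiniteType A S₁] :
    ∃ g : S₂, g ≠ 0 ∧ ∀ a : S₁, algebraMap S₁ L a ∈ Rng A (L := L) g := by
  classical
  obtain ⟨T, hT⟩ := (Algebra.FiniteType.out : (⊤ : Subalgebra A S₁).FG)
  have hfrac : ∀ t : S₁, ∃ b d : S₂, d ≠ 0 ∧
      algebraMap S₁ L t = algebraMap S₂ L b * (algebraMap S₂ L d)⁻¹ := by
    intro t
    obtain ⟨b, d, hd, hbd⟩ := IsFractionRing.div_surjective (A := S₂) (algebraMap S₁ L t)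
    exact ⟨b, d, nonZeroDivisors.ne_zero hd, by rw [← hbd, div_eq_mul_inv]⟩
  choose b d hd hbd using hfrac
  have hinj : Function.Injective (algebraMap S₂ L) := IsFractionRing.injective S₂ L
  have hne : ∀ x : S₂, x ≠ 0 → algebraMap S₂ L x ≠ 0 := by
    intro x hx h
    exact hx (hinj (by rw [h, map_zero]))
  refine ⟨∏ t ∈ T, d t, Finset.prod_ne_zero_iff.mpr (fun t _ => hd t), ?_⟩
  have key : ∀ t ∈ T, algebraMap S₁ L t ∈ Rng A (L := L) (∏ t ∈ T, d t) := by
    intro t ht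
    rw [hbd t]
    refine (Rng A _).mul_mem (map_mem_Rng A _ _) ?_
    have h1 : algebraMap S₂ L (d t) ≠ 0 := hne _ (hd t)
    have h2 : algebraMap S₂ L (∏ t' ∈ T.erase t, d t') ≠ 0 :=
      hne _ (Finset.prod_ne_zero_iff.mpr (fun t _ => hd t))
    have : (algebraMap S₂ L (d t))⁻¹ =
        algebraMap S₂ L (∏ t' ∈ T.erase t, d t') * (algebraMap S₂ L (∏ t ∈ T, d t))⁻¹ := by
      rw [← Finset.mul_prod_erase T d ht, map_mul]
      field_simp
    rw [this]
    exact (Rng A _).mul_mem (map_mem_Rng A _ _) (inv_mem_Rng A _)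
  intro a
  have hmem : a ∈ Algebra.adjoin A (T : Set S₁) := by
    rw [hT]
    trivial
  have hle : Algebra.adjoin A (T : Set S₁) ≤
      (Rng A (L := L) (∏ t ∈ T, d t)).comap (IsScalarTower.toAlgHom A S₁ L) :=
    Algebra.adjoin_le (fun t ht => key t ht)
  exact hle hmem

end Two

/-- (SUBLOC) two finitely generated subalgebras with the same fraction field have a common
localization. -/
theorem exists_away_algEquiv_of_isFractionRing {A S₁ S₂ L : Type u} [CommRing A] [CommRing S₁]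
    [CommRing S₂] [Field L] [Algebra A S₁] [Algebra A S₂] [Algebra A L] [Algebra S₁ L]
    [Algebra S₂ L] [IsScalarTower A S₁ L] [IsScalarTower A S₂ L] [IsFractionRing S₁ L]
    [IsFractionRing S₂ L] [Algebra.FiniteType A S₁] [Algebra.FiniteType A S₂] :
    ∃ (s₁ : S₁) (s₂ : S₂), s₁ ≠ 0 ∧ s₂ ≠ 0 ∧
      Nonempty (Localization.Away s₁ ≃ₐ[A] Localization.Away s₂) := by
  have hinj₁ : Function.Injective (algebraMap S₁ L) := IsFractionRing.injective S₁ L
  have hinj₂ : Function.Injective (algebraMap S₂ L) := IsFractionRing.injective S₂ L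
  haveI : IsDomain S₁ := hinj₁.isDomain _
  haveI : IsDomain S₂ := hinj₂.isDomain _
  have hne₁ : ∀ x : S₁, x ≠ 0 → algebraMap S₁ L x ≠ 0 := by
    intro x hx h
    exact hx (hinj₁ (by rw [h, map_zero]))
  have hne₂ : ∀ x : S₂, x ≠ 0 → algebraMap S₂ L x ≠ 0 := by
    intro x hx h
    exact hx (hinj₂ (by rw [h, map_zero]))
  obtain ⟨g, hg0, hg⟩ := exists_subset_Rng A (S₁ := S₁) (S₂ := S₂) (L := L)
  obtain ⟨h, hh0, hh⟩ := exists_subset_Rng A (S₁ := S₂) (S₂ := S₁) (L := L)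
  -- `j₁ h ∈ S₂[1/g]`, `j₂ g ∈ S₁[1/h]`
  obtain ⟨h₂, k, hk⟩ := (mem_Rng_iff A (L := L) g hg0 _).mp (hg h)
  obtain ⟨g₁, l, hl⟩ := (mem_Rng_iff A (L := L) h hh0 _).mp (hh g)
  have hjh : algebraMap S₁ L h ≠ 0 := hne₁ h hh0
  have hjg : algebraMap S₂ L g ≠ 0 := hne₂ g hg0
  have hc : algebraMap S₁ L h * algebraMap S₂ L g ^ k = algebraMap S₂ L h₂ := by
    rw [hk, map_pow, mul_assoc, inv_mul_cancel₀ (pow_ne_zero _ hjg), mul_one]
  have hd : algebraMap S₂ L g * algebraMap S₁ L h ^ l = algebraMap S₁ L g₁ := by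
    rw [hl, map_pow, mul_assoc, inv_mul_cancel₀ (pow_ne_zero _ hjh), mul_one]
  have hjh₂ : algebraMap S₂ L h₂ ≠ 0 := by
    rw [← hc]
    exact mul_ne_zero hjh (pow_ne_zero _ hjg)
  have hjg₁ : algebraMap S₁ L g₁ ≠ 0 := by
    rw [← hd]
    exact mul_ne_zero hjg (pow_ne_zero _ hjh)
  have hh₂0 : h₂ ≠ 0 := by
    rintro rfl
    exact hjh₂ (map_zero _)
  have hg₁0 : g₁ ≠ 0 := by
    rintro rfl
    exact hjg₁ (map_zero _)
  have hs₁ : h * g₁ ≠ 0 := mul_ne_zero hh0 hg₁0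
  have hs₂ : g * h₂ ≠ 0 := mul_ne_zero hg0 hh₂0
  have heq : Rng A (L := L) (h * g₁) = Rng A (L := L) (g * h₂) :=
    le_antisymm (Rng_le_Rng A h g₁ g h₂ k l hjh hjg₁ hjg hjh₂ hg hc hd)
      (Rng_le_Rng A g h₂ h g₁ l k hjg hjh₂ hjh hjg₁ hh hd hc)
  obtain ⟨e₁⟩ := nonempty_away_equiv_Rng A (L := L) (h * g₁) hs₁
  obtain ⟨e₂⟩ := nonempty_away_equiv_Rng A (L := L) (g * h₂) hs₂
  exact ⟨h * g₁, g * h₂, hs₁, hs₂, ⟨(e₁.trans (Subalgebra.equivOfEq _ _ heq)).trans e₂.symm⟩⟩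

end Groth.Agent.H87.IrrSUBLOC
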