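import Mathlib

/-!
# (PERF) for helper38's S0419 squad: a purely inseparable integral extension of a domain with
perfect fraction field
-/

set_option autoImplicit false
universe u

namespace Groth.Agent.H87.IrrPERF

section CharP

variable {A : Type u} [CommRing A] [IsDomain A] (p : ℕ) [hp : Fact p.Prime] [CharP A p]
  {P : Type u} [Field P] [CharP P p] (ι : A →+* P)

theorem pow_mem_of_pow_mem {z : P} {n : ℕ} (h : z ^ p ^ n ∈ ι.range) (m : ℕ) :
    z ^ p ^ (n + m) ∈ ι.range := by
  obtain ⟨a, ha⟩ := h
  refine ⟨a ^ p ^ m, ?_⟩
  rw [map_pow, ha, ← pow_mul, ← pow_add]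

/-- The subring of elements which are `p`-power roots of elements of `A`. -/
def rootSubring : Subring P where
  carrier := {z | ∃ n : ℕ, z ^ p ^ n ∈ ι.range}
  one_mem' := ⟨0, 1, by simp⟩
  zero_mem' := ⟨0, 0, by simp⟩
  mul_mem' := by
    rintro x y ⟨n, hx⟩ ⟨m, hy⟩
    have hx' := pow_mem_of_pow_mem p ι hx m
    have hy' := pow_mem_of_pow_mem p ι hy n
    rw [add_comm] at hy'
    refine ⟨n + m, ?_⟩
    rw [mul_pow]
    exact ι.range.mul_mem hx' hy'
  add_mem' := by
    rintro x y ⟨n, hx⟩ ⟨m, hy⟩
    have hx' := pow_mem_of_pow_mem p ι hx m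
    have hy' := pow_mem_of_pow_mem p ι hy n
    rw [add_comm] at hy'
    refine ⟨n + m, ?_⟩
    rw [add_pow_char_pow]
    exact ι.range.add_mem hx' hy'
  neg_mem' := by
    rintro x ⟨n, hx⟩
    refine ⟨n, ?_⟩
    rw [neg_pow]
    refine ι.range.mul_mem ?_ hx
    exact ι.range.pow_mem (ι.range.neg_mem ι.range.one_mem) _

theorem mem_rootSubring {z : P} : z ∈ rootSubring p ι ↔ ∃ n : ℕ, z ^ p ^ n ∈ ι.range := Iff.rfl

theorem map_mem_rootSubring (a : A) : ι a ∈ rootSubring p ι := ⟨0, a, by simp⟩

end CharP

theorem exists_perfect_extension_aux (A : Type u) [CommRing A] [IsDomain A] (q : ℕ)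
    [hq : ExpChar A q] :
    ∃ (A' : Type u) (_ : CommRing A') (_ : IsDomain A') (_ : Algebra A A'),
      Function.Injective (algebraMap A A') ∧ PerfectField (FractionRing A') ∧
      ∀ z : A', ∃ n : ℕ, z ^ (q ^ n) ∈ (algebraMap A A').range := by
  cases hq with
  | zero =>
    refine ⟨A, inferInstance, inferInstance, Algebra.id A, Function.injective_id, ?_, ?_⟩
    · haveI : CharZero (FractionRing A) :=
        charZero_of_injective_algebraMap (IsFractionRing.injective A (FractionRing A))
      infer_instance
    · intro z
      exact ⟨0, z, by simp⟩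
  | prime hprime =>
    rename_i hchar
    haveI : Fact q.Prime := ⟨hprime⟩
    haveI : CharP (FractionRing A) q :=
      charP_of_injective_algebraMap (IsFractionRing.injective A (FractionRing A)) q
    let P := PerfectClosure (FractionRing A) q
    let ι : A →+* P := (PerfectClosure.of (FractionRing A) q).comp (algebraMap A (FractionRing A))
    have hι : Function.Injective ι :=
      (PerfectClosure.of (FractionRing A) q).injective.comp
        (IsFractionRing.injective A (FractionRing A))
    let S : Subring P := rootSubring q ι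
    let ι' : A →+* S := ι.codRestrict S (map_mem_rootSubring q ι)
    letI algS : Algebra A S := ι'.toAlgebra
    have hι' : Function.Injective (algebraMap A S) := by
      intro a b hab
      apply hι
      exact congrArg Subtype.val hab
    haveI : CharP S q := charP_of_injective_ringHom hι' q
    haveI : CharP (FractionRing S) q :=
      charP_of_injective_algebraMap (IsFractionRing.injective S (FractionRing S)) q
    haveI : ExpChar (FractionRing S) q := ExpChar.prime hprime
    -- `S` is closed under `q`-th roots
    have hroot : ∀ s : S, ∃ s' : S, s' ^ q = s := by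
      intro s
      obtain ⟨y, hy⟩ := (PerfectRing.bijective_frobenius (R := P) (p := q)).2 s.1
      obtain ⟨n, hn⟩ := s.2
      have hyS : y ∈ S := by
        refine ⟨n + 1, ?_⟩
        have : y ^ q ^ (n + 1) = (s : P) ^ q ^ n := by
          rw [← hy, ← pow_mul, pow_succ, mul_comm]
        rw [this]
        exact hn
      exact ⟨⟨y, hyS⟩, Subtype.ext hy⟩
    refine ⟨S, inferInstance, inferInstance, algS, hι', ?_, ?_⟩
    · haveI : PerfectRing (FractionRing S) q := by
        refine PerfectRing.ofSurjective _ _ fun x => ?_
        obtain ⟨s, t, ht, rfl⟩ := IsFractionRing.div_surjective (A := S) x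
        obtain ⟨s', rfl⟩ := hroot s
        obtain ⟨t', rfl⟩ := hroot t
        refine ⟨algebraMap S (FractionRing S) s' / algebraMap S (FractionRing S) t', ?_⟩
        rw [frobenius_def, map_pow, map_pow]
        exact div_pow (α := FractionRing S) _ _ _
      exact PerfectRing.toPerfectField (FractionRing S) q
    · intro z
      obtain ⟨n, a, ha⟩ := z.2
      exact ⟨n, a, Subtype.ext ha⟩

/-- (PERF) a purely inseparable integral extension of a domain with perfect fraction field. -/
theorem exists_perfect_extension (A : Type u) [CommRing A] [IsDomain A] :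
    ∃ (A' : Type u) (_ : CommRing A') (_ : IsDomain A') (_ : Algebra A A'),
      Function.Injective (algebraMap A A') ∧ PerfectField (FractionRing A') ∧
      ∀ z : A', ∃ n : ℕ, z ^ (ringExpChar A ^ n) ∈ (algebraMap A A').range :=
  exists_perfect_extension_aux A (ringExpChar A)

end Groth.Agent.H87.IrrPERF
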