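import Mathlib
import Groth.Prelude.Def_CAlgX
import Groth.Agent.S9272

/-!
# Transfer of quasi-regular sequences

* `isQuasiRegular_of_ringEquiv`, `isQuasiRegular_of_isLocalization`,
  `isQuasiRegular_quotient` (base change along `A → A/𝔞` when `B/(f)` is `A`-flat).
-/

set_option autoImplicit false
universe u

open MvPolynomial

namespace Groth.Agent.H87.QRegLoc

theorem map_eval' {A B : Type*} [CommRing A] [CommRing B] (φ : A →+* B) {σ : Type*} (f : σ → A)
    (P : MvPolynomial σ A) : φ (eval f P) = eval (φ ∘ f) (map φ P) := by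
  induction P using MvPolynomial.induction_on with
  | C a => simp
  | add p q hp hq => simp [hp, hq]
  | mul_X p i hp => simp [hp]

theorem isQuasiRegular_of_ringEquiv {R R' : Type u} [CommRing R] [CommRing R'] (e : R ≃+* R')
    {c : ℕ} (f : Fin c → R) (hf : CAlgX.IsQuasiRegular f) :
    CAlgX.IsQuasiRegular (fun i => e (f i)) := by
  intro n P' hP' hev d
  have hspan : Ideal.span (Set.range fun i => e (f i)) =
      (Ideal.span (Set.range f)).map (e : R →+* R') := by
    rw [Ideal.map_span, ← Set.range_comp]; rfl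
  set P := map (e.symm : R' →+* R) P' with hPdef
  have hP : P.IsHomogeneous n := hP'.map _
  have hevP : eval f P = e.symm (eval (fun i => e (f i)) P') := by
    have := map_eval' (e.symm : R' →+* R) (fun i => e (f i)) P'
    rw [RingHom.coe_coe] at this
    rw [this]
    have hfe : (⇑e.symm ∘ fun i => e (f i)) = f := by
      funext i
      simp
    rw [hfe]
  have h1 : eval f P ∈ Ideal.span (Set.range f) ^ (n + 1) := by
    rw [hevP]
    rw [hspan, ← Ideal.map_pow] at hev
    obtain ⟨x, hx, hxe⟩ := (Ideal.mem_map_of_equiv e _).mp hev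
    rw [← hxe, RingEquiv.symm_apply_apply]
    exact hx
  have h2 := hf n P hP h1 d
  rw [hPdef, coeff_map] at h2
  rw [hspan]
  have := Ideal.mem_map_of_mem (e : R →+* R') h2
  simpa using this

theorem isQuasiRegular_of_isLocalization {D T : Type u} [CommRing D] [CommRing T] [Algebra D T]
    (M : Submonoid D) [IsLocalization M T] {c : ℕ} (f : Fin c → D)
    (hf : CAlgX.IsQuasiRegular f) :
    CAlgX.IsQuasiRegular (fun i => algebraMap D T (f i)) := by
  classical
  intro n P hP hev d
  set J := Ideal.span (Set.range f) with hJ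
  have hspan : Ideal.span (Set.range fun i => algebraMap D T (f i)) = J.map (algebraMap D T) := by
    rw [Ideal.map_span, ← Set.range_comp]; rfl
  rw [hspan] at hev ⊢
  obtain ⟨s, hs⟩ := IsLocalization.exist_integer_multiples_of_finset M
    (P.support.image (fun d => coeff d P))
  have hs' : ∀ d ∈ P.support, ∃ a : D, algebraMap D T a = algebraMap D T s * coeff d P := by
    intro d hd
    obtain ⟨a, ha⟩ := hs (coeff d P) (Finset.mem_image_of_mem _ hd)
    exact ⟨a, by rw [ha, Algebra.smul_def]⟩
  choose! a ha using hs'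
  let P₀ : MvPolynomial (Fin c) D := ∑ d ∈ P.support, monomial d (a d)
  have hcoeff₀ : ∀ d, coeff d P₀ = if d ∈ P.support then a d else 0 := by
    intro d
    simp only [P₀, coeff_sum, coeff_monomial]
    rw [Finset.sum_ite_eq' P.support d]
  have hP₀map : map (algebraMap D T) P₀ = C (algebraMap D T s) * P := by
    ext d
    rw [coeff_map, hcoeff₀, coeff_C_mul]
    by_cases hd : d ∈ P.support
    · rw [if_pos hd, ha d hd]
    · rw [if_neg hd, map_zero, notMem_support_iff.mp hd, mul_zero]
  have hP₀hom : P₀.IsHomogeneous n := by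
    refine IsHomogeneous.sum _ _ _ (fun d hd => ?_)
    refine isHomogeneous_monomial _ ?_
    have := hP (mem_support_iff.mp hd)
    rw [← this, Finsupp.degree_eq_weight_one]
    rfl
  have h1 : algebraMap D T (eval f P₀) ∈ (J ^ (n + 1)).map (algebraMap D T) := by
    rw [map_eval' (algebraMap D T) f P₀, hP₀map, map_mul, eval_C, Ideal.map_pow]
    exact Ideal.mul_mem_left _ _ hev
  obtain ⟨⟨⟨b, hb⟩, t⟩, hbt⟩ := (IsLocalization.mem_map_algebraMap_iff M T).mp h1
  simp only at hbt
  rw [← map_mul] at hbt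
  obtain ⟨t', ht'⟩ := (IsLocalization.eq_iff_exists M T).mp hbt
  have h2 : eval f (C ((t' : D) * t) * P₀) ∈ J ^ (n + 1) := by
    rw [map_mul, eval_C]
    have : (t' : D) * t * eval f P₀ = t' * (eval f P₀ * t) := by ring
    rw [this, ht']
    exact Ideal.mul_mem_left _ _ hb
  have h3 := hf n (C ((t' : D) * t) * P₀) (hP₀hom.C_mul _) h2 d
  rw [coeff_C_mul, hcoeff₀] at h3
  by_cases hd : d ∈ P.support
  · rw [if_pos hd] at h3
    have h4 := Ideal.mem_map_of_mem (algebraMap D T) h3
    rw [map_mul, ha d hd, ← mul_assoc] at h4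
    have hu : IsUnit (algebraMap D T ((t' : D) * t) * algebraMap D T s) := by
      rw [← map_mul]
      exact IsLocalization.map_units T (t' * t * s)
    exact (Ideal.unit_mul_mem_iff_mem _ hu).mp h4
  · rw [notMem_support_iff.mp hd]
    exact zero_mem _

theorem isQuasiRegular_quotient (A B : Type u) [CommRing A] [CommRing B] [Algebra A B] {r : ℕ}
    (f : Fin r → B) (hflat : Module.Flat A (B ⧸ Ideal.span (Set.range f)))
    (hq : CAlgX.IsQuasiRegular f) (𝔞 : Ideal A) :
    CAlgX.IsQuasiRegular (fun i => Ideal.Quotient.mk (𝔞.map (algebraMap A B)) (f i)) := by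
  have h1 := Groth.Agent.S9272.result A B (A ⧸ 𝔞) r f hflat hq
  have h2 := isQuasiRegular_of_ringEquiv
    (Algebra.TensorProduct.quotIdealMapEquivQuotTensor B 𝔞).symm.toRingEquiv _ h1
  have h3 : (fun i => (Algebra.TensorProduct.quotIdealMapEquivQuotTensor B 𝔞).symm.toRingEquiv
      ((1 : A ⧸ 𝔞) ⊗ₜ[A] f i)) = fun i => Ideal.Quotient.mk (𝔞.map (algebraMap A B)) (f i) := by
    funext i
    change (Algebra.TensorProduct.quotIdealMapEquivQuotTensor B 𝔞).symm ((1 : A ⧸ 𝔞) ⊗ₜ[A] f i) = _
    rw [AlgEquiv.symm_apply_eq]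
    exact (Algebra.TensorProduct.quotIdealMapEquivQuotTensor_mk B 𝔞 (f i)).symm
  rw [← h3]
  exact h2

end Groth.Agent.H87.QRegLoc
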