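import Mathlib

/-!
# (P2a) for helper47's S7155 squad: Artin–Schreier minimal form over `K` (perfect residue field)
-/

set_option autoImplicit false
universe u
open IsLocalRing

namespace Groth.Agent.H87.AS55P2a

theorem aux (p : ℕ) (hp : p.Prime) (A K : Type u) [CommRing A] [IsDomain A]
    [IsDiscreteValuationRing A] [Field K] [Algebra A K] [IsFractionRing A K] [CharP K p]
    (π : A) (hπ : maximalIdeal A = Ideal.span {π})
    (hperf : ∀ x : ResidueField A, ∃ y : ResidueField A, y ^ p = x) :
    ∀ (s : ℕ) (η : K) (x : A), η * algebraMap A K π ^ s = algebraMap A K x →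
      ∃ (wK : K), (∃ a₀ : A, η = (wK ^ p - wK) + algebraMap A K a₀) ∨
        ∃ (s : ℕ) (a : Aˣ), 0 < s ∧ ¬ p ∣ s ∧
          (η - (wK ^ p - wK)) * algebraMap A K π ^ s = algebraMap A K a := by
  haveI := Fact.mk hp
  have hirr : Irreducible π := (IsDiscreteValuationRing.irreducible_iff_uniformizer π).mpr hπ
  have hπ0 : π ≠ 0 := hirr.ne_zero
  have hinj : Function.Injective (algebraMap A K) := IsFractionRing.injective A K
  have hP0 : algebraMap A K π ≠ 0 := by
    intro h
    exact hπ0 (hinj (by rw [h, map_zero]))
  intro s
  induction s with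
  | zero =>
    intro η x hx
    refine ⟨0, Or.inl ⟨x, ?_⟩⟩
    rw [pow_zero, mul_one] at hx
    rw [hx, zero_pow hp.ne_zero, sub_zero, zero_add]
  | succ s ih =>
    intro η x hx
    by_cases hxu : IsUnit x
    · by_cases hdiv : p ∣ s + 1
      · obtain ⟨t, ht⟩ := hdiv
        have ht0 : 0 < t := by
          rcases Nat.eq_zero_or_pos t with h | h
          · rw [h, mul_zero] at ht
            omega
          · exact h
        have hts : t ≤ s := by
          have := hp.two_le
          nlinarith
        obtain ⟨y, hy⟩ := hperf (residue A x)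
        obtain ⟨a', rfl⟩ := residue_surjective y
        have hmem : x - a' ^ p ∈ maximalIdeal A := by
          rw [← residue_eq_zero_iff, map_sub, map_pow, hy, sub_self]
        rw [hπ, Ideal.mem_span_singleton] at hmem
        obtain ⟨a'', ha''⟩ := hmem
        have hx' : x = a' ^ p + π * a'' := by rw [← ha'']; ring
        have hw₁p : (algebraMap A K a' / algebraMap A K π ^ t) ^ p =
            algebraMap A K (a' ^ p) / algebraMap A K π ^ (s + 1) := by
          rw [div_pow, ← pow_mul, mul_comm t p, ← ht, map_pow]
        have hη : η = algebraMap A K x / algebraMap A K π ^ (s + 1) := by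
          rw [eq_div_iff (pow_ne_zero _ hP0)]
          exact hx
        have hη' : (algebraMap A K a' / algebraMap A K π ^ t +
            algebraMap A K a'' / algebraMap A K π ^ s) * algebraMap A K π ^ s =
            algebraMap A K (a' * π ^ (s - t) + a'') := by
          rw [add_mul, div_mul_cancel₀ _ (pow_ne_zero _ hP0), map_add, map_mul, map_pow]
          congr 1
          rw [div_mul_eq_mul_div, div_eq_iff (pow_ne_zero _ hP0), mul_assoc, ← pow_add,
            Nat.sub_add_cancel hts]
        obtain ⟨wK', h⟩ := ih _ _ hη'
        have hrel : η = ((algebraMap A K a' / algebraMap A K π ^ t) ^ p -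
            algebraMap A K a' / algebraMap A K π ^ t) +
            (algebraMap A K a' / algebraMap A K π ^ t +
              algebraMap A K a'' / algebraMap A K π ^ s) := by
          rw [hη, hw₁p, hx', map_add, map_mul, add_div]
          have h1 : algebraMap A K π * algebraMap A K a'' / algebraMap A K π ^ (s + 1) =
              algebraMap A K a'' / algebraMap A K π ^ s := by
            rw [pow_succ, mul_comm (algebraMap A K π), mul_div_mul_right _ _ hP0]
          rw [h1]
          ring
        refine ⟨algebraMap A K a' / algebraMap A K π ^ t + wK', ?_⟩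
        have hpow : (algebraMap A K a' / algebraMap A K π ^ t + wK') ^ p -
            (algebraMap A K a' / algebraMap A K π ^ t + wK') =
            ((algebraMap A K a' / algebraMap A K π ^ t) ^ p -
              algebraMap A K a' / algebraMap A K π ^ t) + (wK' ^ p - wK') := by
          rw [add_pow_char]
          ring
        rcases h with ⟨a₀, ha₀⟩ | ⟨s', a, hs', hps', hfin⟩
        · left
          refine ⟨a₀, ?_⟩
          rw [hpow]
          rw [ha₀] at hrel
          rw [hrel]
          ring
        · right
          refine ⟨s', a, hs', hps', ?_⟩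
          rw [← hfin, hpow]
          congr 1
          rw [hrel]
          ring
      · refine ⟨0, Or.inr ⟨s + 1, hxu.unit, Nat.succ_pos s, hdiv, ?_⟩⟩
        rw [zero_pow hp.ne_zero, sub_zero, sub_zero, hx]
        rfl
    · have hmem : x ∈ maximalIdeal A := (mem_maximalIdeal x).mpr hxu
      rw [hπ, Ideal.mem_span_singleton] at hmem
      obtain ⟨x', rfl⟩ := hmem
      apply ih η x'
      rw [pow_succ, ← mul_assoc, map_mul, mul_comm (algebraMap A K π)] at hx
      exact mul_right_cancel₀ hP0 hx

/-- (P2a) minimal form over `K` (perfect residue field). -/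
theorem normalFormK (p : ℕ) (hp : p.Prime) (A K : Type u) [CommRing A] [IsDomain A]
    [IsDiscreteValuationRing A]
    [Field K] [Algebra A K] [IsFractionRing A K] [CharP K p]
    (π : A) (hπ : maximalIdeal A = Ideal.span {π})
    (hperf : ∀ x : ResidueField A, ∃ y : ResidueField A, y ^ p = x) (η : K) :
    ∃ (wK : K), (∃ a₀ : A, η = (wK ^ p - wK) + algebraMap A K a₀) ∨
      ∃ (s : ℕ) (a : Aˣ), 0 < s ∧ ¬ p ∣ s ∧
        (η - (wK ^ p - wK)) * algebraMap A K π ^ s = algebraMap A K a := by
  have hirr : Irreducible π := (IsDiscreteValuationRing.irreducible_iff_uniformizer π).mpr hπ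
  obtain ⟨x, y, hy, rfl⟩ := IsFractionRing.div_surjective (A := A) η
  have hy0 : y ≠ 0 := nonZeroDivisors.ne_zero hy
  obtain ⟨n, u, rfl⟩ := IsDiscreteValuationRing.eq_unit_mul_pow_irreducible hy0 hirr
  have hinj : Function.Injective (algebraMap A K) := IsFractionRing.injective A K
  have hP0 : algebraMap A K π ≠ 0 := by
    intro h
    exact hirr.ne_zero (hinj (by rw [h, map_zero]))
  have hu0 : algebraMap A K (u : A) ≠ 0 := by
    intro h
    exact u.ne_zero (hinj (by rw [h, map_zero]))
  apply aux p hp A K π hπ hperf n _ (x * ((u⁻¹ : Aˣ) : A))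
  rw [map_mul, map_mul, map_pow, div_mul_eq_mul_div, div_eq_iff (mul_ne_zero hu0 (pow_ne_zero _ hP0))]
  have h1 : algebraMap A K ((u⁻¹ : Aˣ) : A) * algebraMap A K (u : A) = 1 := by
    rw [← map_mul, Units.inv_mul, map_one]
  calc algebraMap A K x * algebraMap A K π ^ n
      = algebraMap A K x * (algebraMap A K ((u⁻¹ : Aˣ) : A) * algebraMap A K (u : A)) *
        algebraMap A K π ^ n := by rw [h1, mul_one]
    _ = _ := by ring

end Groth.Agent.H87.AS55P2a
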