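import Groth.Agent.H90.CohPC

/-!
# (Q3) for S1116: bounded-above objects with coherent cohomology are pseudo-coherent
-/

set_option autoImplicit false

universe u

open CategoryTheory CategoryTheory.Limits AlgebraicGeometry HomologicalComplex
  CategoryTheory.Pretriangulated

attribute [local instance] HasDerivedCategory.standard

namespace Groth.Agent.PC

/-- **(Q3)** on a locally Noetherian scheme, a bounded-above object of `D(O_X)` with coherent
cohomology sheaves is `m`-pseudo-coherent for every `m`. -/
theorem isPseudoCoherentD_of_isCohD {X : Scheme.{u}} [IsLocallyNoetherian X] (K : DCoh.D X)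
    (b : ℤ) [K.IsLE b] (hK : DCoh.IsCohD K) (m : ℤ) : DCoh.IsPseudoCoherentD m K := by
  rw [Groth.Agent.H90.SPerf.isPC_iff]
  intro x
  refine Groth.Agent.H90.QH.locPC_of_coh_isLE m x (b - m + 1).toNat K b inferInstance
    (fun i _ => hK i) ?_
  have h : b - m + 1 ≤ ((b - m + 1).toNat : ℤ) := Int.self_le_toNat _
  omega

end Groth.Agent.PC
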