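import Groth.Agent.H58.CDL.Defs
import Groth.Agent.H46.LatMain

/-!
Helper lemmas for helper58's S1853 squad: (P2) lemmas on `scaleFrom`, plus local copies of
the saturation lemma (P1) and a universe-general `equiv_last`.
-/

set_option autoImplicit false
universe u v

namespace Groth.Agent.H87.CDLScale

open CycDet IsLocalRing Groth.Agent.H46.CD Groth.Agent.H46.LatDist Groth.Agent.H58.CDL

/-- universe-general copy of `Groth.Agent.S1852.equiv_last`. -/
theorem equiv_last' {A : Type*} [CommRing A] {M : Type*} [AddCommGroup M] [Module A M]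
    (I : Ideal A) (N N' : Submodule A M) (y : M) (hy : y ∈ N')
    (hle : N' ≤ N ⊔ Submodule.span A {y}) (hcol : ∀ r : A, r • y ∈ N ↔ r ∈ I) :
    Nonempty ((↥N' ⧸ N.submoduleOf N') ≃ₗ[A] (A ⧸ I)) := by
  obtain ⟨f, hf⟩ : ∃ f : A →ₗ[A] (↥N' ⧸ N.submoduleOf N'),
      f = (N.submoduleOf N').mkQ ∘ₗ LinearMap.toSpanSingleton A ↥N' ⟨y, hy⟩ := ⟨_, rfl⟩
  have hfa : ∀ r : A, f r = (N.submoduleOf N').mkQ (r • (⟨y, hy⟩ : ↥N')) := by
    intro r; rw [hf]; rfl
  have hker : LinearMap.ker f = I := by
    ext r
    rw [LinearMap.mem_ker, hfa, Submodule.mkQ_apply, Submodule.Quotient.mk_eq_zero]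
    exact hcol r
  have hsurj : Function.Surjective f := by
    intro z
    obtain ⟨⟨n, hn⟩, rfl⟩ := (N.submoduleOf N').mkQ_surjective z
    obtain ⟨a, ha, b, hb, hab⟩ := Submodule.mem_sup.mp (hle hn)
    obtain ⟨r, rfl⟩ := Submodule.mem_span_singleton.mp hb
    refine ⟨r, ?_⟩
    rw [hfa, Submodule.mkQ_apply, Submodule.mkQ_apply, Submodule.Quotient.eq]
    have h1 : ((r • (⟨y, hy⟩ : ↥N') - ⟨n, hn⟩ : ↥N') : M) = -a := by
      show r • y - n = -a
      rw [← hab]; abel
    show ((r • (⟨y, hy⟩ : ↥N') - ⟨n, hn⟩ : ↥N') : M) ∈ N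
    rw [h1]; exact N.neg_mem ha
  have e1 : (A ⧸ LinearMap.ker f) ≃ₗ[A] (↥N' ⧸ N.submoduleOf N') :=
    LinearMap.quotKerEquivOfSurjective f hsurj
  have e2 : (A ⧸ LinearMap.ker f) ≃ₗ[A] (A ⧸ I) := Submodule.quotEquivOfEq _ _ hker
  exact ⟨e1.symm.trans e2⟩

variable {R : Type u} [CommRing R] [IsLocalRing R] {N : Type v} [AddCommGroup N] [Module R N]
  {q : Ideal R} [q.IsPrime] {l : ℕ}

set_option linter.unusedSectionVars false

theorem spanBefore_le_span_range (y : Fin l → N) (i : ℕ) :
    spanBefore R N y i ≤ Submodule.span R (Set.range y) :=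
  spanBefore_le y (fun j _ => Submodule.subset_span ⟨j, rfl⟩)

/-- (P1) saturation, local copy. -/
theorem sat {y : Fin l → N} (hy : GoodR q y) (k : ℕ) (n : N)
    (hn : n ∈ Submodule.span R (Set.range y)) (s : R) (hs : s ∉ q)
    (hsn : s • n ∈ spanBefore R N y k) : n ∈ spanBefore R N y k := by
  by_cases hkl : l ≤ k
  · have : spanBefore R N y l ≤ spanBefore R N y k := spanBefore_mono y hkl
    apply this
    rw [spanBefore_eq_range]
    exact hn
  rw [not_le] at hkl
  have key : ∀ d j : ℕ, j = k + d → j ≤ l → n ∈ spanBefore R N y j → n ∈ spanBefore R N y k := by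
    intro d
    induction d with
    | zero =>
      intro j hj _ h
      rw [hj] at h
      exact h
    | succ d ih =>
      intro j hj hjl h
      have hlt : k + d < l := by omega
      have hsucc := spanBefore_succ (R := R) y (⟨k + d, hlt⟩ : Fin l)
      have hj' : j = ((⟨k + d, hlt⟩ : Fin l) : ℕ) + 1 := by
        show j = k + d + 1
        omega
      rw [hj', hsucc] at h
      obtain ⟨w, hw, z, hz, hwz⟩ := Submodule.mem_sup.mp h
      obtain ⟨c, rfl⟩ := Submodule.mem_span_singleton.mp hz
      have hw' : w ∈ spanBefore R N y (k + d) := hw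
      have h1 : s • n ∈ spanBefore R N y (k + d) :=
        spanBefore_mono y (Nat.le_add_right k d) hsn
      have h2 : (s * c) • y ⟨k + d, hlt⟩ ∈ spanBefore R N y (k + d) := by
        have : (s * c) • y ⟨k + d, hlt⟩ = s • n - s • w := by
          rw [← hwz, smul_add, mul_smul]; abel
        rw [this]
        exact Submodule.sub_mem _ h1 (Submodule.smul_mem _ _ hw')
      have h3 : s * c ∈ q := (hy ⟨k + d, hlt⟩ (s * c)).mp h2
      have h4 : c ∈ q := by
        rcases Ideal.IsPrime.mem_or_mem inferInstance h3 with h | h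
        · exact absurd h hs
        · exact h
      have h5 : c • y ⟨k + d, hlt⟩ ∈ spanBefore R N y (k + d) :=
        (hy ⟨k + d, hlt⟩ c).mpr h4
      apply ih (k + d) rfl hlt.le
      rw [← hwz]
      exact Submodule.add_mem _ hw' h5
  apply key (l - k) l (by omega) le_rfl
  rw [spanBefore_eq_range]
  exact hn

/-- (P2a) -/
theorem spanBefore_scaleFrom_of_le (y : Fin l → N) (k : ℕ) (a : R) {i : ℕ} (hi : i ≤ k) :
    spanBefore R N (scaleFrom k a y) i = spanBefore R N y i := by
  apply spanBefore_congr
  intro j hj
  have : ¬ k ≤ (j : ℕ) := by omega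
  simp only [scaleFrom, this, if_false]

theorem scaleFrom_of_le (y : Fin l → N) (k : ℕ) (a : R) (j : Fin l) (h : k ≤ (j : ℕ)) :
    scaleFrom k a y j = a • y j := by
  simp only [scaleFrom, h, if_true]

theorem scaleFrom_of_lt (y : Fin l → N) (k : ℕ) (a : R) (j : Fin l) (h : (j : ℕ) < k) :
    scaleFrom k a y j = y j := by
  have : ¬ k ≤ (j : ℕ) := by omega
  simp only [scaleFrom, this, if_false]

/-- (P2b) -/
theorem span_scaleFrom (y : Fin l → N) (k : ℕ) (a : R) :
    Submodule.span R (Set.range (scaleFrom k a y)) =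
      spanBefore R N y k ⊔ (Submodule.span R (Set.range y)).map (LinearMap.lsmul R N a) := by
  apply le_antisymm
  · rw [Submodule.span_le]
    rintro _ ⟨j, rfl⟩
    by_cases h : k ≤ (j : ℕ)
    · rw [scaleFrom_of_le y k a j h]
      apply Submodule.mem_sup_right
      exact ⟨y j, Submodule.subset_span ⟨j, rfl⟩, rfl⟩
    · rw [not_le] at h
      rw [scaleFrom_of_lt y k a j h]
      exact Submodule.mem_sup_left (mem_spanBefore y j h)
  · apply sup_le
    · apply spanBefore_le
      intro j hj
      rw [← scaleFrom_of_lt y k a j hj]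
      exact Submodule.subset_span ⟨j, rfl⟩
    · rw [Submodule.map_le_iff_le_comap, Submodule.span_le]
      rintro _ ⟨j, rfl⟩
      show a • y j ∈ Submodule.span R (Set.range (scaleFrom k a y))
      by_cases h : k ≤ (j : ℕ)
      · rw [← scaleFrom_of_le y k a j h]
        exact Submodule.subset_span ⟨j, rfl⟩
      · rw [not_le] at h
        rw [← scaleFrom_of_lt y k a j h]
        exact Submodule.smul_mem _ _ (Submodule.subset_span ⟨j, rfl⟩)

theorem spanBefore_scaleFrom_le (y : Fin l → N) (k : ℕ) (a : R) (i : ℕ) :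
    spanBefore R N (scaleFrom k a y) i ≤ spanBefore R N y i := by
  apply spanBefore_le
  intro j hj
  by_cases h : k ≤ (j : ℕ)
  · rw [scaleFrom_of_le y k a j h]
    exact Submodule.smul_mem _ _ (mem_spanBefore y j hj)
  · rw [not_le] at h
    rw [scaleFrom_of_lt y k a j h]
    exact mem_spanBefore y j hj

theorem smul_mem_spanBefore_scaleFrom (y : Fin l → N) (k : ℕ) (a : R) (i : ℕ) (n : N)
    (hn : n ∈ spanBefore R N y i) : a • n ∈ spanBefore R N (scaleFrom k a y) i := by
  have : spanBefore R N y i ≤ (spanBefore R N (scaleFrom k a y) i).comap (LinearMap.lsmul R N a) := by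
    apply spanBefore_le
    intro j hj
    show a • y j ∈ spanBefore R N (scaleFrom k a y) i
    by_cases h : k ≤ (j : ℕ)
    · rw [← scaleFrom_of_le y k a j h]
      exact mem_spanBefore _ j hj
    · rw [not_le] at h
      rw [← scaleFrom_of_lt y k a j h]
      exact Submodule.smul_mem _ _ (mem_spanBefore _ j hj)
  exact this hn

/-- (P2c) -/
theorem goodR_scaleFrom {y : Fin l → N} (hy : GoodR q y) (k : ℕ) (a : R) (ha : a ∉ q) :
    GoodR q (scaleFrom k a y) := by
  intro i r
  by_cases h : k ≤ (i : ℕ)
  · rw [scaleFrom_of_le y k a i h]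
    constructor
    · intro hr
      have h1 : (r * a) • y i ∈ spanBefore R N y i := by
        rw [mul_smul]
        exact spanBefore_scaleFrom_le y k a i hr
      have h2 : r * a ∈ q := (hy i (r * a)).mp h1
      rcases Ideal.IsPrime.mem_or_mem inferInstance h2 with h | h
      · exact h
      · exact absurd h ha
    · intro hr
      have h1 : r • y i ∈ spanBefore R N y i := (hy i r).mpr hr
      rw [smul_comm]
      exact smul_mem_spanBefore_scaleFrom y k a i _ h1
  · rw [not_le] at h
    rw [scaleFrom_of_lt y k a i h, spanBefore_scaleFrom_of_le y k a h.le]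
    exact hy i r

theorem idx_self {A : Type*} [CommRing A] {V : Type*} [AddCommGroup V] [Module A V]
    (L : Submodule A V) : idx L L = 0 := by
  unfold idx
  rw [Submodule.submoduleOf_self]
  exact Module.length_eq_zero

/-- (P2d) -/
theorem idx_scaleFrom {y : Fin l → N} (hy : GoodR q y) (k : ℕ) (hk : k ≤ l) (a : R) (ha : a ∉ q) :
    idx (Submodule.span R (Set.range y)) (Submodule.span R (Set.range (scaleFrom k a y))) =
      (l - k) • Module.length R (R ⧸ (q ⊔ Ideal.span {a})) := by
  have hmapl : (Submodule.span R (Set.range y)).map (LinearMap.lsmul R N a) ≤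
      Submodule.span R (Set.range y) := by
    rw [Submodule.map_le_iff_le_comap]
    intro n hn
    exact Submodule.smul_mem _ a hn
  have key : ∀ d k : ℕ, k + d = l →
      idx (Submodule.span R (Set.range y)) (Submodule.span R (Set.range (scaleFrom k a y))) =
        d • Module.length R (R ⧸ (q ⊔ Ideal.span {a})) := by
    intro d
    induction d with
    | zero =>
      intro k hk
      have hkl : k = l := by omega
      have : Submodule.span R (Set.range (scaleFrom k a y)) = Submodule.span R (Set.range y) := by
        rw [span_scaleFrom, hkl, spanBefore_eq_range]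
        exact sup_eq_left.mpr hmapl
      rw [this, idx_self, zero_nsmul]
    | succ d ih =>
      intro k hk
      have hlt : k < l := by omega
      have ih' := ih (k + 1) (by omega)
      have h₁ : Submodule.span R (Set.range (scaleFrom k a y)) ≤
          Submodule.span R (Set.range (scaleFrom (k + 1) a y)) := by
        rw [span_scaleFrom, span_scaleFrom]
        exact sup_le_sup_right (spanBefore_mono y (Nat.le_succ k)) _
      have h₂ : Submodule.span R (Set.range (scaleFrom (k + 1) a y)) ≤
          Submodule.span R (Set.range y) := by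
        rw [span_scaleFrom]
        exact sup_le (spanBefore_le_span_range y _) hmapl
      rw [idx_add h₁ h₂, ih', succ_nsmul, add_comm]
      congr 1
      unfold idx
      have hsucc := spanBefore_succ (R := R) y (⟨k, hlt⟩ : Fin l)
      have hsucc' : spanBefore R N y (k + 1) =
          spanBefore R N y k ⊔ Submodule.span R {y ⟨k, hlt⟩} := hsucc
      have hyk : y ⟨k, hlt⟩ ∈ Submodule.span R (Set.range (scaleFrom (k + 1) a y)) := by
        rw [span_scaleFrom]
        exact Submodule.mem_sup_left (mem_spanBefore y ⟨k, hlt⟩ (Nat.lt_succ_self k))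
      have hle : Submodule.span R (Set.range (scaleFrom (k + 1) a y)) ≤
          Submodule.span R (Set.range (scaleFrom k a y)) ⊔ Submodule.span R {y ⟨k, hlt⟩} := by
        rw [span_scaleFrom, span_scaleFrom, hsucc']
        apply sup_le
        · apply sup_le
          · exact le_sup_of_le_left le_sup_left
          · exact le_sup_right
        · exact le_sup_of_le_left le_sup_right
      have hcol : ∀ r : R, r • y ⟨k, hlt⟩ ∈ Submodule.span R (Set.range (scaleFrom k a y)) ↔
          r ∈ q ⊔ Ideal.span {a} := by
        intro r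
        rw [span_scaleFrom]
        constructor
        · intro hr
          obtain ⟨w, hw, z, hz, hwz⟩ := Submodule.mem_sup.mp hr
          obtain ⟨n, hn, rfl⟩ := hz
          have hz' : (LinearMap.lsmul R N a) n = a • n := rfl
          rw [hz'] at hwz
          have h1 : a • n ∈ spanBefore R N y (k + 1) := by
            have : a • n = r • y ⟨k, hlt⟩ - w := by rw [← hwz]; abel
            rw [this]
            apply Submodule.sub_mem
            · exact Submodule.smul_mem _ _ (mem_spanBefore y ⟨k, hlt⟩ (Nat.lt_succ_self k))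
            · exact spanBefore_mono y (Nat.le_succ k) hw
          have h2 : n ∈ spanBefore R N y (k + 1) := sat hy (k + 1) n hn a ha h1
          rw [hsucc'] at h2
          obtain ⟨w', hw', z', hz', hwz'⟩ := Submodule.mem_sup.mp h2
          obtain ⟨t, rfl⟩ := Submodule.mem_span_singleton.mp hz'
          have h3 : (r - a * t) • y ⟨k, hlt⟩ ∈ spanBefore R N y k := by
            have : (r - a * t) • y ⟨k, hlt⟩ = w + a • w' := by
              rw [sub_smul, ← hwz, ← hwz', smul_add, mul_smul]; abel
            rw [this]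
            exact Submodule.add_mem _ hw (Submodule.smul_mem _ _ hw')
          have h4 : r - a * t ∈ q := (hy ⟨k, hlt⟩ _).mp h3
          have : r = (r - a * t) + t * a := by ring
          rw [this]
          exact Submodule.add_mem_sup h4 (Ideal.mem_span_singleton'.mpr ⟨t, rfl⟩)
        · intro hr
          obtain ⟨s, hs, z, hz, rfl⟩ := Submodule.mem_sup.mp hr
          obtain ⟨t, rfl⟩ := Ideal.mem_span_singleton'.mp hz
          rw [add_smul]
          apply Submodule.add_mem_sup
          · exact (hy ⟨k, hlt⟩ s).mpr hs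
          · refine ⟨t • y ⟨k, hlt⟩, ?_, ?_⟩
            · exact Submodule.smul_mem _ _ (Submodule.subset_span ⟨_, rfl⟩)
            · show a • t • y ⟨k, hlt⟩ = (t * a) • y ⟨k, hlt⟩
              rw [smul_smul, mul_comm]
      obtain ⟨e⟩ := equiv_last' (q ⊔ Ideal.span {a})
        (Submodule.span R (Set.range (scaleFrom k a y)))
        (Submodule.span R (Set.range (scaleFrom (k + 1) a y))) (y ⟨k, hlt⟩) hyk hle hcol
      exact e.length_eq
  have := key (l - k) k (by omega)
  exact this

end Groth.Agent.H87.CDLScale
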