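import Groth.Agent.H58.CDL.Defs
import Groth.Agent.H46.LatMain

/-!
Helper lemmas for helper58's S1853 squad: (P3) swap/update lemmas for `GoodR`.
-/

set_option autoImplicit false
universe u v

namespace Groth.Agent.H87.CDLSwap

open CycDet IsLocalRing Groth.Agent.H46.CD Groth.Agent.H46.LatDist Groth.Agent.H58.CDL

variable {R : Type u} [CommRing R] [IsLocalRing R] {N : Type v} [AddCommGroup N] [Module R N]
  {q : Ideal R} [q.IsPrime] {l : ℕ}

set_option linter.unusedSectionVars false

/-- (P3a) -/
theorem goodR_swap {y : Fin l → N} (hy : GoodR q y) (a b : Fin l) (hab : (b : ℕ) + 1 = a)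
    (h : ∀ r ∈ q, r • y a ∈ spanBefore R N y b) : GoodR q (y ∘ Equiv.swap a b) := by
  have hne : a ≠ b := by
    intro hh
    rw [hh] at hab
    omega
  intro i r
  by_cases hia : i = a
  · -- position a: entry y b, span = spanBefore y b ⊔ span {y a}
    rw [hia, spanBefore_swap_at y a b hab]
    have hval : (y ∘ Equiv.swap a b) a = y b := by
      simp [Function.comp, Equiv.swap_apply_left]
    rw [hval]
    constructor
    · intro hr
      obtain ⟨w, hw, z, hz, hwz⟩ := Submodule.mem_sup.mp hr
      obtain ⟨c, rfl⟩ := Submodule.mem_span_singleton.mp hz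
      have hsucc := spanBefore_succ (R := R) y b
      have h1 : c • y a ∈ spanBefore R N y a := by
        rw [← hab, hsucc]
        have : c • y a = r • y b - w := by rw [← hwz]; abel
        rw [this]
        apply Submodule.sub_mem
        · exact Submodule.mem_sup_right
            (Submodule.smul_mem _ _ (Submodule.mem_span_singleton_self _))
        · exact Submodule.mem_sup_left hw
      have h2 : c ∈ q := (hy a c).mp h1
      have h3 : c • y a ∈ spanBefore R N y b := h c h2
      have h4 : r • y b ∈ spanBefore R N y b := by
        rw [← hwz]
        exact Submodule.add_mem _ hw h3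
      exact (hy b r).mp h4
    · intro hr
      exact Submodule.mem_sup_left ((hy b r).mpr hr)
  by_cases hib : i = b
  · rw [hib, spanBefore_swap_of_le y a b hab le_rfl]
    have hval : (y ∘ Equiv.swap a b) b = y a := by
      simp [Function.comp, Equiv.swap_apply_right]
    rw [hval]
    constructor
    · intro hr
      have : spanBefore R N y b ≤ spanBefore R N y a :=
        spanBefore_mono y (by omega)
      exact (hy a r).mp (this hr)
    · intro hr
      exact h r hr
  · have hval : (y ∘ Equiv.swap a b) i = y i := by
      simp [Function.comp, Equiv.swap_apply_of_ne_of_ne hia hib]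
    rw [hval]
    have hia' : (i : ℕ) ≠ a := fun hh => hia (Fin.ext hh)
    have hib' : (i : ℕ) ≠ b := fun hh => hib (Fin.ext hh)
    by_cases hlt : (i : ℕ) < b
    · rw [spanBefore_swap_of_le y a b hab hlt.le]
      exact hy i r
    · have hgt : (a : ℕ) < i := by omega
      rw [spanBefore_swap_of_gt y a b hab hgt]
      exact hy i r

/-- (P3b) -/
theorem span_swap (y : Fin l → N) (a b : Fin l) :
    Submodule.span R (Set.range (y ∘ Equiv.swap a b)) = Submodule.span R (Set.range y) := by
  rw [Function.Surjective.range_comp (Equiv.swap a b).surjective]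

/-- (P3c) -/
theorem goodR_update {y : Fin l → N} (hy : GoodR q y) (k : Fin l) (n : N)
    (hn : n ∈ spanBefore R N y k) : GoodR q (Function.update y k (y k + n)) := by
  have hsp : ∀ i : ℕ, spanBefore R N (Function.update y k (y k + n)) i = spanBefore R N y i :=
    fun i => spanBefore_update y k (y k + n) n 1 hn (by simp) i
  intro i r
  rw [hsp]
  by_cases hik : i = k
  · rw [hik, Function.update_self, smul_add]
    have hrn : r • n ∈ spanBefore R N y k := Submodule.smul_mem _ _ hn
    rw [← hy k r]
    constructor
    · intro hh
      have : r • y k = (r • y k + r • n) - r • n := by abel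
      rw [this]
      exact Submodule.sub_mem _ hh hrn
    · intro hh
      exact Submodule.add_mem _ hh hrn
  · rw [Function.update_of_ne hik]
    exact hy i r

/-- (P3d) -/
theorem span_update (y : Fin l → N) (k : Fin l) (n : N) (hn : n ∈ spanBefore R N y k) :
    Submodule.span R (Set.range (Function.update y k (y k + n))) =
      Submodule.span R (Set.range y) := by
  rw [← spanBefore_eq_range, ← spanBefore_eq_range]
  exact spanBefore_update y k (y k + n) n 1 hn (by simp) l

end Groth.Agent.H87.CDLSwap
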