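import Mathlib
import Groth.Prelude.Def_DRing2
import Groth.Prelude.Def_CAlg
import Groth.Agent.H29.CM2

set_option autoImplicit false

universe u

open RingTheory.Sequence

namespace Groth.Agent.H87.TorCI_CMR

/-- If every prime containing `I` has height at least `n`, then `dim R/I + n ≤ dim R`. -/
theorem ringKrullDim_quotient_add_le {R : Type u} [CommRing R] (I : Ideal R) (n : ℕ)
    (h : ∀ 𝔮 : Ideal R, 𝔮.IsPrime → I ≤ 𝔮 → (n : ℕ∞) ≤ 𝔮.height) :
    ringKrullDim (R ⧸ I) + (n : WithBot ℕ∞) ≤ ringKrullDim R := by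
  rw [ringKrullDim_quotient]
  rcases isEmpty_or_nonempty (PrimeSpectrum.zeroLocus (R := R) (I : Set R)) with hne | hne
  · rw [Order.krullDim_eq_bot]; simp
  · haveI : Nonempty (PrimeSpectrum R) :=
      ⟨(Classical.arbitrary (PrimeSpectrum.zeroLocus (R := R) (I : Set R))).1⟩
    rw [Order.krullDim_eq_iSup_length, ringKrullDim,
      Order.krullDim_eq_iSup_height_add_coheight_of_nonempty]
    have hn : ((n : ℕ) : WithBot ℕ∞) = ((n : ℕ∞) : WithBot ℕ∞) := rfl
    rw [hn, ← WithBot.coe_add, WithBot.coe_le_coe, ENat.iSup_add]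
    refine iSup_le fun p => ?_
    let q : LTSeries (PrimeSpectrum R) := p.map Subtype.val (fun _ _ hab => hab)
    have h1 : (q.length : ℕ∞) ≤ Order.coheight q.head := Order.length_le_coheight_head
    have h2 : (n : ℕ∞) ≤ Order.height q.head := by
      rw [← PrimeSpectrum.height_eq_orderHeight]
      refine h _ q.head.2 ?_
      have h3 : (p.head : PrimeSpectrum R) ∈ PrimeSpectrum.zeroLocus (R := R) (I : Set R) :=
        p.head.2
      exact (PrimeSpectrum.mem_zeroLocus _ _).mp h3
    calc (p.length : ℕ∞) + n = q.length + n := by simp [q]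
      _ ≤ Order.coheight q.head + Order.height q.head := add_le_add h1 h2
      _ = Order.height q.head + Order.coheight q.head := add_comm _ _
      _ ≤ _ := le_iSup (fun a => Order.height a + Order.coheight a) q.head

/-- **(CMR)** In a Cohen–Macaulay local ring, a sequence in the maximal ideal all of whose
containing primes have height at least its length is a (weakly) regular sequence. -/
theorem isWeaklyRegular_of_height {R : Type u} [CommRing R] [LocCoh.IsCohenMacaulayLocalRing R]
    (l : List R) (hm : ∀ r ∈ l, r ∈ IsLocalRing.maximalIdeal R)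
    (hht : ∀ 𝔮 : Ideal R, 𝔮.IsPrime → Ideal.ofList l ≤ 𝔮 → (l.length : ℕ∞) ≤ 𝔮.height) :
    IsWeaklyRegular R l := by
  have hCM : LocCoh.IsCohenMacaulayModule R R :=
    LocCoh.IsCohenMacaulayLocalRing.supportDim_eq_depth
  refine ((Groth.Agent.H29.CM.isWeaklyRegular_iff_of_isCM l R hCM hm).1).mpr ?_
  apply le_antisymm
  · have e : Ideal.ofList l • (⊤ : Submodule R R) = Ideal.ofList l := by
      rw [smul_eq_mul, Ideal.mul_top]
    have h1 : Module.supportDim R (R ⧸ (Ideal.ofList l • (⊤ : Submodule R R))) =
        ringKrullDim (R ⧸ Ideal.ofList l) := by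
      rw [← Module.supportDim_quotient_eq_ringKrullDim]
      exact Module.supportDim_eq_of_equiv (Submodule.quotEquivOfEq _ _ e)
    rw [Module.supportDim_self_eq_ringKrullDim, h1]
    exact ringKrullDim_quotient_add_le _ _ hht
  · exact Groth.Agent.H29.CM.supportDim_le_supportDim_quotient_ofList_add_length l R hm

end Groth.Agent.H87.TorCI_CMR
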