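import Mathlib
import Groth.Prelude.Def_DRing2
import Groth.Prelude.Def_CAlg

set_option autoImplicit false

universe u

open RingTheory.Sequence

namespace Groth.Agent.H87.TorCI_SP

open TensorProduct

/-- `1 ⊗ -: M → B ⊗[A] M` is a localization of modules when `B` is a localization of `A`. -/
theorem isLocalizedModule_mk {A : Type u} [CommRing A] (S : Submonoid A) (B : Type u) [CommRing B]
    [Algebra A B] [IsLocalization S B] (M : Type u) [AddCommGroup M] [Module A M] :
    IsLocalizedModule S (TensorProduct.mk A B M 1) :=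
  (isLocalizedModule_iff_isBaseChange S B _).mpr (TensorProduct.isBaseChange A M B)

/-- A finitely generated submodule all of whose elements are killed by elements of a submonoid is
killed by a single element of the submonoid. -/
theorem exists_smul_eq_zero_of_fg {A : Type u} [CommRing A] (S : Submonoid A) {M : Type u}
    [AddCommGroup M] [Module A M] (K : Submodule A M) (hK : K.FG)
    (h : ∀ k ∈ K, ∃ s ∈ S, s • k = 0) : ∃ c ∈ S, ∀ k ∈ K, c • k = 0 := by
  classical
  obtain ⟨G, rfl⟩ := hK
  have h' : ∀ g : M, ∃ s : A, g ∈ G → s ∈ S ∧ s • g = 0 := by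
    intro g
    by_cases hg : g ∈ G
    · obtain ⟨s, hs, hsg⟩ := h g (Submodule.subset_span hg)
      exact ⟨s, fun _ => ⟨hs, hsg⟩⟩
    · exact ⟨1, fun hg' => absurd hg' hg⟩
  choose sf hsf using h'
  refine ⟨∏ g ∈ G, sf g, Submonoid.prod_mem S (fun g hg => (hsf g hg).1), ?_⟩
  intro k hk
  induction hk using Submodule.span_induction with
  | mem x hx =>
    obtain ⟨d, hd⟩ := Finset.dvd_prod_of_mem sf hx
    rw [hd, mul_comm, mul_smul, (hsf x hx).2, smul_zero]
  | zero => simp
  | add x y _ _ hx hy => rw [smul_add, hx, hy, add_zero]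
  | smul a x _ hx => rw [smul_comm, hx, smul_zero]

/-- The strengthened spreading-out statement for finitely generated modules. -/
theorem exists_away_isWeaklyRegular_module {A : Type u} [CommRing A] [IsNoetherianRing A]
    (𝔭 : Ideal A) [𝔭.IsPrime] (R : Type u) [CommRing R] [Algebra A R]
    [IsLocalization.AtPrime R 𝔭] (rs : List A) :
    ∀ (M : Type u) [AddCommGroup M] [Module A M] [Module.Finite A M],
      IsWeaklyRegular (R ⊗[A] M) rs →
      ∃ c : A, c ∉ 𝔭 ∧ ∀ c' : A, c ∣ c' → ∀ (B : Type u) [CommRing B] [Algebra A B]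
        [IsLocalization.Away c' B], IsWeaklyRegular (B ⊗[A] M) rs := by
  induction rs with
  | nil =>
    intro M _ _ _ _
    exact ⟨1, fun h => (Ideal.IsPrime.ne_top ‹_›) ((Ideal.eq_top_iff_one _).mpr h),
      fun c' _ B _ _ _ => IsWeaklyRegular.nil A _⟩
  | cons r rs ih =>
    intro M _ _ _ hM
    rw [isWeaklyRegular_cons_iff] at hM
    obtain ⟨hreg, hquot⟩ := hM
    have hquot' : IsWeaklyRegular (R ⊗[A] QuotSMulTop r M) rs :=
      ((QuotSMulTop.tensorQuotSMulTopEquivQuotSMulTop r R M).isWeaklyRegular_congr rs).mpr hquot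
    obtain ⟨c₂, hc₂, hc₂'⟩ := ih (QuotSMulTop r M) hquot'
    -- the kernel of multiplication by `r`
    let K : Submodule A M := LinearMap.ker (LinearMap.lsmul A M r)
    have hKfg : K.FG := IsNoetherian.noetherian K
    have hloc : IsLocalizedModule 𝔭.primeCompl (TensorProduct.mk A R M 1) :=
      isLocalizedModule_mk 𝔭.primeCompl R M
    have hK : ∀ k ∈ K, ∃ s ∈ 𝔭.primeCompl, s • k = 0 := by
      intro k hk
      have hk' : r • k = 0 := by simpa [K] using hk
      have h1 : r • ((1 : R) ⊗ₜ[A] k) = r • (0 : R ⊗[A] M) := by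
        rw [smul_zero, TensorProduct.smul_tmul', TensorProduct.smul_tmul, hk',
          TensorProduct.tmul_zero]
      have h2 : (TensorProduct.mk A R M 1) k = 0 := hreg h1
      obtain ⟨s, hs⟩ := (IsLocalizedModule.eq_zero_iff 𝔭.primeCompl _).mp h2
      exact ⟨s.1, s.2, hs⟩
    obtain ⟨c₁, hc₁, hc₁'⟩ := exists_smul_eq_zero_of_fg 𝔭.primeCompl K hKfg hK
    refine ⟨c₁ * c₂, fun h => ?_, ?_⟩
    · rcases Ideal.IsPrime.mem_or_mem ‹_› h with h | h
      · exact hc₁ h
      · exact hc₂ h
    · intro c' hc' B _ _ _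
      rw [isWeaklyRegular_cons_iff]
      refine ⟨?_, ?_⟩
      · -- regularity of `r` on `B ⊗ M`
        have hlocB : IsLocalizedModule (Submonoid.powers c') (TensorProduct.mk A B M 1) :=
          isLocalizedModule_mk (Submonoid.powers c') B M
        obtain ⟨d, hd⟩ : c₁ ∣ c' := Dvd.dvd.trans (Dvd.intro _ rfl) hc'
        have key : ∀ x : B ⊗[A] M, r • x = 0 → x = 0 := by
          intro x hx
          obtain ⟨⟨m, s⟩, hms⟩ := IsLocalizedModule.surj (Submonoid.powers c')
            (TensorProduct.mk A B M 1) x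
          have hms' : s • x = (TensorProduct.mk A B M 1) m := hms
          have h3 : (TensorProduct.mk A B M 1) (r • m) = 0 := by
            rw [map_smul, ← hms', smul_comm, hx, smul_zero]
          obtain ⟨t, ht⟩ := (IsLocalizedModule.eq_zero_iff (Submonoid.powers c') _).mp h3
          have ht' : (t : A) • r • m = 0 := ht
          have h4 : (t : A) • m ∈ K := by
            change (LinearMap.lsmul A M r) ((t : A) • m) = 0
            simp only [LinearMap.lsmul_apply]
            rw [smul_comm]; exact ht'
          have h5 : c₁ • (t : A) • m = 0 := hc₁' _ h4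
          have h6 : c' • (t : A) • m = 0 := by
            have e : ∀ y : M, c' • y = d • c₁ • y := fun y => by
              rw [← mul_smul, mul_comm d c₁, ← hd]
            rw [e, h5, smul_zero]
          have h7 : (TensorProduct.mk A B M 1) m = 0 := by
            rw [IsLocalizedModule.eq_zero_iff (Submonoid.powers c')]
            refine ⟨⟨c', Submonoid.mem_powers c'⟩ * t, ?_⟩
            change (c' * (t : A)) • m = 0
            rw [mul_smul]; exact h6
          have h8 : s • x = s • (0 : B ⊗[A] M) := by rw [hms', h7, smul_zero]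
          exact IsLocalizedModule.smul_injective (TensorProduct.mk A B M 1) s h8
        intro x y hxy
        have : r • (x - y) = 0 := by rw [smul_sub]; exact sub_eq_zero.mpr hxy
        exact sub_eq_zero.mp (key _ this)
      · have hB : IsWeaklyRegular (B ⊗[A] QuotSMulTop r M) rs :=
          hc₂' c' (Dvd.dvd.trans (Dvd.intro_left _ rfl) hc') B
        exact ((QuotSMulTop.tensorQuotSMulTopEquivQuotSMulTop r B M).isWeaklyRegular_congr rs).mp hB

/-- **(SP)** Spreading out weak regularity of a sequence from the localization at a prime to a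
basic open neighbourhood. -/
theorem exists_away_isWeaklyRegular {A : Type u} [CommRing A] [IsNoetherianRing A] (𝔭 : Ideal A)
    [𝔭.IsPrime] (R : Type u) [CommRing R] [Algebra A R] [IsLocalization.AtPrime R 𝔭] (rs : List A)
    (h : IsWeaklyRegular R (rs.map (algebraMap A R))) :
    ∃ c : A, c ∉ 𝔭 ∧ ∀ (B : Type u) [CommRing B] [Algebra A B] [IsLocalization.Away c B],
      IsWeaklyRegular B (rs.map (algebraMap A B)) := by
  have h1 : IsWeaklyRegular R rs := (isWeaklyRegular_map_algebraMap_iff R R rs).mp h
  have h2 : IsWeaklyRegular (R ⊗[A] A) rs :=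
    ((TensorProduct.rid A R).isWeaklyRegular_congr rs).mpr h1
  obtain ⟨c, hc, hc'⟩ := exists_away_isWeaklyRegular_module 𝔭 R rs A h2
  refine ⟨c, hc, fun B _ _ _ => ?_⟩
  have h3 : IsWeaklyRegular (B ⊗[A] A) rs := hc' c dvd_rfl B
  have h4 : IsWeaklyRegular B rs := ((TensorProduct.rid A B).isWeaklyRegular_congr rs).mp h3
  exact (isWeaklyRegular_map_algebraMap_iff B B rs).mpr h4

end Groth.Agent.H87.TorCI_SP
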