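import Mathlib
import Groth.Agent.H61.HilbTanDefs
import Groth.Prelude.Def_DCoh4
import Groth.Prelude.Def_ClSub2
import Groth.Prelude.Def_Omega2

/-!
# (TSb) for S12265: Artinian points of a `k`-scheme based at a `k`-point = augmented ring maps
out of the local ring at that point
-/

set_option autoImplicit false

universe u v

open CategoryTheory CategoryTheory.Limits AlgebraicGeometry
open ArtFun ArtFun.Art
open Groth.Agent.H61.HilbTan

namespace Groth.Agent.H87.HilbTan_TSb

variable {k : Type u} [Field k]

/-- the augmentation of an object is a local ring map -/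
theorem isLocalHom_res (A : Art k k) : IsLocalHom (A.res : A →+* k) := by
  refine ⟨fun a ha => ?_⟩
  by_contra hu
  have ha' : a ∈ IsLocalRing.maximalIdeal A := (IsLocalRing.mem_maximalIdeal a).2 hu
  rw [Art.mem_maximalIdeal_iff] at ha'
  have h0 : (A.res : A →+* k) a = 0 := ha'
  rw [h0] at ha
  exact not_isUnit_zero ha

section

variable (H : Over (Spec (CommRingCat.of k))) (h : Over.mk (𝟙 (Spec (CommRingCat.of k))) ⟶ H)

/-- the `k`-point as a morphism `Spec k ⟶ H.left` -/
noncomputable abbrev hl : Spec (CommRingCat.of k) ⟶ H.left := h.left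

/-- the local ring at the image of the `k`-point -/
noncomputable abbrev RR : CommRingCat.{u} :=
  H.left.presheaf.stalk ((hl H h).base (IsLocalRing.closedPoint k))

/-- the augmentation `O_{H,p} → k` -/
noncomputable def eHom : RR H h ⟶ CommRingCat.of k :=
  Scheme.stalkClosedPointTo (R := CommRingCat.of k) (hl H h)

instance isLocalHom_eHom : IsLocalHom (eHom H h).hom :=
  Scheme.isLocalHom_stalkClosedPointTo (R := CommRingCat.of k) (hl H h)

/-- the structure map `k → O_{H,p}` -/
noncomputable def sHom : CommRingCat.of k ⟶ RR H h :=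
  Spec.preimage (H.left.fromSpecStalk ((hl H h).base (IsLocalRing.closedPoint k)) ≫ H.hom)

theorem spec_sHom : Spec.map (sHom H h) =
    H.left.fromSpecStalk ((hl H h).base (IsLocalRing.closedPoint k)) ≫ H.hom :=
  Spec.map_preimage _

theorem spec_eHom : Spec.map (eHom H h) ≫
    H.left.fromSpecStalk ((hl H h).base (IsLocalRing.closedPoint k)) = hl H h :=
  Scheme.Spec_stalkClosedPointTo_fromSpecStalk (R := CommRingCat.of k) (hl H h)

theorem hl_hom : hl H h ≫ H.hom = 𝟙 _ := Over.w h

theorem sHom_eHom : sHom H h ≫ eHom H h = 𝟙 _ := by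
  apply Spec.map_injective
  rw [Spec.map_comp, spec_sHom, ← Category.assoc, spec_eHom, hl_hom, Spec.map_id]

end

section Psi

variable (H : Over (Spec (CommRingCat.of k))) (h : Over.mk (𝟙 (Spec (CommRingCat.of k))) ⟶ H)

/-- the morphism `Spec A ⟶ H.left` attached to a ring map out of the local ring -/
noncomputable def psiLeft {A : Art k k} (φ : (RR H h : Type u) →+* A) : spec A ⟶ H.left :=
  Spec.map (CommRingCat.ofHom φ) ≫
    H.left.fromSpecStalk ((hl H h).base (IsLocalRing.closedPoint k))

theorem psiLeft_hom {A : Art k k} (φ : (RR H h : Type u) →+* A)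
    (hφ : φ.comp (sHom H h).hom = algebraMap k A) : psiLeft H h φ ≫ H.hom = specOver A := by
  unfold psiLeft
  rw [Category.assoc, ← spec_sHom, ← Spec.map_comp]
  change _ = Spec.map (CommRingCat.ofHom (ofBase A).toAlgHom.toRingHom)
  congr 1
  apply CommRingCat.hom_ext
  change φ.comp (sHom H h).hom = algebraMap k A.carrier
  exact hφ

theorem specRes_psiLeft {A : Art k k} (φ : (RR H h : Type u) →+* A)
    (hφ : (A.res : A →+* k).comp φ = (eHom H h).hom) : specRes A ≫ psiLeft H h φ = hl H h := by
  unfold psiLeft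
  rw [← Category.assoc]
  change (Spec.map (CommRingCat.ofHom (A.res : A →+* k)) ≫ _) ≫ _ = _
  rw [← Spec.map_comp]
  have e1 : CommRingCat.ofHom φ ≫ CommRingCat.ofHom (A.res : A →+* k) = eHom H h := by
    apply CommRingCat.hom_ext
    rw [CommRingCat.hom_comp, CommRingCat.hom_ofHom, CommRingCat.hom_ofHom, hφ]
  rw [e1, spec_eHom]

/-- the point attached to an element of `DPt` -/
noncomputable def psi (A : Art k k) (φ : DPt (sHom H h).hom (eHom H h).hom A) : TV H h A :=
  ⟨Over.homMk (psiLeft H h φ.1) (psiLeft_hom H h φ.1 φ.2.1), by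
    apply Over.OverMorphism.ext
    exact specRes_psiLeft H h φ.1 φ.2.2⟩

theorem psi_left (A : Art k k) (φ : DPt (sHom H h).hom (eHom H h).hom A) :
    (psi H h A φ).1.left = psiLeft H h φ.1 := rfl

/-- a ring map out of the local ring whose composite with the augmentation is local is local -/
theorem isLocalHom_of_comp {A : Art k k} (φ : (RR H h : Type u) →+* A)
    (hφ : (A.res : A →+* k).comp φ = (eHom H h).hom) : IsLocalHom φ := by
  refine ⟨fun r hr => ?_⟩
  have h1 : IsUnit ((A.res : A →+* k) (φ r)) := hr.map _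
  have h2 : IsUnit ((eHom H h).hom r) := by
    rw [← hφ]; exact h1
  exact isUnit_of_map_unit (eHom H h).hom r h2

/-- injectivity of `φ ↦ Spec φ ≫ fromSpecStalk` on local homomorphisms -/
theorem eq_of_spec_comp_eq {X : Scheme.{u}} (x : X) {R : CommRingCat.{u}} [IsLocalRing R]
    (f₁ f₂ : X.presheaf.stalk x ⟶ R) [IsLocalHom f₁.hom] [IsLocalHom f₂.hom]
    (hf : Spec.map f₁ ≫ X.fromSpecStalk x = Spec.map f₂ ≫ X.fromSpecStalk x) : f₁ = f₂ := by
  have h1 : (⟨x, ⟨f₁, inferInstance⟩⟩ : Σ x, { f : X.presheaf.stalk x ⟶ R // IsLocalHom f.hom }) =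
      ⟨x, ⟨f₂, inferInstance⟩⟩ := (SpecToEquivOfLocalRing X R).symm.injective hf
  obtain ⟨_, h3⟩ := SpecToEquivOfLocalRing_eq_iff.mp h1
  simpa using h3

theorem psi_injective (A : Art k k) : Function.Injective (psi H h A) := by
  intro φ₁ φ₂ he
  have h1 : psiLeft H h φ₁.1 = psiLeft H h φ₂.1 := by
    rw [← psi_left, ← psi_left, he]
  haveI := isLocalHom_of_comp H h φ₁.1 φ₁.2.2
  haveI := isLocalHom_of_comp H h φ₂.1 φ₂.2.2
  haveI : IsLocalHom (CommRingCat.ofHom φ₁.1).hom := by rw [CommRingCat.hom_ofHom]; infer_instance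
  haveI : IsLocalHom (CommRingCat.ofHom φ₂.1).hom := by rw [CommRingCat.hom_ofHom]; infer_instance
  have h2 := eq_of_spec_comp_eq (R := CommRingCat.of A)
    ((hl H h).base (IsLocalRing.closedPoint k)) (CommRingCat.ofHom φ₁.1) (CommRingCat.ofHom φ₂.1) h1
  apply Subtype.ext
  have h3 := congrArg CommRingCat.Hom.hom h2
  exact h3

end Psi

/-- a morphism from the spectrum of a local ring factors through the local ring at any point equal
to the image of the closed point -/
theorem exists_of_point_eq {X : Scheme.{u}} {R : CommRingCat.{u}} [IsLocalRing R]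
    (f : Spec R ⟶ X) (p : X) (hp : f.base (IsLocalRing.closedPoint R) = p) :
    ∃ φ : X.presheaf.stalk p ⟶ R, IsLocalHom φ.hom ∧ Spec.map φ ≫ X.fromSpecStalk p = f := by
  subst hp
  exact ⟨Scheme.stalkClosedPointTo f, inferInstance,
    Scheme.Spec_stalkClosedPointTo_fromSpecStalk f⟩

section Surj

variable (H : Over (Spec (CommRingCat.of k))) (h : Over.mk (𝟙 (Spec (CommRingCat.of k))) ⟶ H)

theorem psi_surjective (A : Art k k) : Function.Surjective (psi H h A) := by
  intro t
  -- the underlying morphism
  let tl : Spec (CommRingCat.of A) ⟶ H.left := t.1.left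
  have htl1 : tl ≫ H.hom = specOver A := Over.w t.1
  have htl2 : specRes A ≫ tl = hl H h := by
    have := congrArg CommaMorphism.left t.2
    exact this
  haveI hres : IsLocalHom (CommRingCat.ofHom (A.res : A →+* k)).hom := by
    rw [CommRingCat.hom_ofHom]; exact isLocalHom_res A
  -- the closed point goes to `p`
  have hpt : tl.base (IsLocalRing.closedPoint A) =
      (hl H h).base (IsLocalRing.closedPoint k) := by
    rw [← htl2]
    change _ = tl.base ((Spec.map (CommRingCat.ofHom (A.res : A →+* k))).base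
      (IsLocalRing.closedPoint k))
    congr 1
    exact (Spec_closedPoint (f := CommRingCat.ofHom (A.res : A →+* k))).symm
  obtain ⟨φ, hφloc, hφ⟩ := exists_of_point_eq (R := CommRingCat.of A) tl _ hpt
  -- compatibility with the structure map
  have c1 : φ.hom.comp (sHom H h).hom = algebraMap k A := by
    have e1 : Spec.map (sHom H h ≫ φ) =
        Spec.map (CommRingCat.ofHom (ofBase A).toAlgHom.toRingHom) := by
      rw [Spec.map_comp, spec_sHom, ← Category.assoc, hφ]
      exact htl1
    have e2 := congrArg CommRingCat.Hom.hom (Spec.map_injective e1)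
    rw [CommRingCat.hom_comp] at e2
    exact e2
  -- compatibility with the augmentation
  have c2 : (A.res : A →+* k).comp φ.hom = (eHom H h).hom := by
    haveI : IsLocalHom (φ ≫ CommRingCat.ofHom (A.res : A →+* k)).hom := by
      rw [CommRingCat.hom_comp]
      exact RingHom.isLocalHom_comp _ _
    have e1 : Spec.map (φ ≫ CommRingCat.ofHom (A.res : A →+* k)) ≫
        H.left.fromSpecStalk ((hl H h).base (IsLocalRing.closedPoint k)) =
        Spec.map (eHom H h) ≫
          H.left.fromSpecStalk ((hl H h).base (IsLocalRing.closedPoint k)) := by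
      rw [Spec.map_comp, Category.assoc, hφ, spec_eHom]
      exact htl2
    have e2 := eq_of_spec_comp_eq (R := CommRingCat.of k) _ _ _ e1
    have e3 := congrArg CommRingCat.Hom.hom e2
    rw [CommRingCat.hom_comp, CommRingCat.hom_ofHom] at e3
    exact e3
  refine ⟨⟨φ.hom, c1, c2⟩, ?_⟩
  apply Subtype.ext
  apply Over.OverMorphism.ext
  exact hφ

theorem psi_natural {A B : Art k k} (g : A ⟶ B) (φ : DPt (sHom H h).hom (eHom H h).hom A) :
    psi H h B (DPt.map g φ) = TV.map g (psi H h A φ) := by
  apply Subtype.ext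
  apply Over.OverMorphism.ext
  change psiLeft H h ((g.toAlgHom : A →+* B).comp φ.1) = specMap g ≫ psiLeft H h φ.1
  unfold psiLeft
  rw [← Category.assoc]
  congr 1
  change _ = Spec.map (CommRingCat.ofHom g.toAlgHom.toRingHom) ≫ _
  rw [← Spec.map_comp, ← CommRingCat.ofHom_comp]
  rfl

end Surj

/-- **(TSb)** -/
theorem TSb {k : Type u} [Field k] (H : Over (Spec (CommRingCat.of k)))
    (h : Over.mk (𝟙 (Spec (CommRingCat.of k))) ⟶ H) :
    ∃ (s : k →+* (H.left.presheaf.stalk (h.left.base (IsLocalRing.closedPoint k))))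
      (e : (H.left.presheaf.stalk (h.left.base (IsLocalRing.closedPoint k))) →+* k),
      e.comp s = RingHom.id k ∧ IsLocalHom e ∧
      ∃ Φ : ∀ A : Art k k, TV H h A ≃ DPt s e A,
        ∀ (A B : Art k k) (g : A ⟶ B) (t : TV H h A), Φ B (TV.map g t) = DPt.map g (Φ A t) := by
  refine ⟨(sHom H h).hom, (eHom H h).hom, ?_, isLocalHom_eHom H h,
    fun A => (Equiv.ofBijective (psi H h A) ⟨psi_injective H h A, psi_surjective H h A⟩).symm, ?_⟩
  · have e1 := congrArg CommRingCat.Hom.hom (sHom_eHom H h)
    rw [CommRingCat.hom_comp] at e1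
    exact e1
  · intro A B g t
    obtain ⟨φ, rfl⟩ := psi_surjective H h A t
    rw [← psi_natural H h g φ]
    have h1 : (Equiv.ofBijective (psi H h A)
        ⟨psi_injective H h A, psi_surjective H h A⟩).symm (psi H h A φ) = φ :=
      (Equiv.ofBijective (psi H h A) ⟨psi_injective H h A, psi_surjective H h A⟩).symm_apply_apply φ
    have h2 : (Equiv.ofBijective (psi H h B)
        ⟨psi_injective H h B, psi_surjective H h B⟩).symm (psi H h B (DPt.map g φ)) =
        DPt.map g φ :=
      (Equiv.ofBijective (psi H h B)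
        ⟨psi_injective H h B, psi_surjective H h B⟩).symm_apply_apply _
    rw [h1]
    exact h2

end Groth.Agent.H87.HilbTan_TSb
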