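import Mathlib
import Groth.Prelude
import Groth.Agent.H95.ProjSpaceChart
import Groth.Agent.H18.ProjSubD

/-!
# (A1P1) for S18571: the affine line over a field is an open subscheme of `P^1_K` over `Spec K`
-/

set_option autoImplicit false

universe u

open CategoryTheory CategoryTheory.Limits AlgebraicGeometry

namespace Groth.Agent.H87.RR_A1P1

/-- the index type of the chart `X_0 ≠ 0` of `P^1` has exactly one element -/
noncomputable instance uniqueI0 : Unique (Groth.Agent.H95.ProjSpaceChart.I0 1) where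
  default := ⟨⟨1, by decide⟩⟩
  uniq := by
    rintro ⟨⟨j, hj⟩⟩
    fin_cases j
    · exact absurd rfl hj
    · rfl

/-- `K[x_1] ≃ K[X]` -/
noncomputable def ePoly (K : Type u) [Field K] :
    MvPolynomial (Groth.Agent.H95.ProjSpaceChart.I0 1) K ≃ₐ[K] Polynomial K :=
  MvPolynomial.uniqueAlgEquiv K (Groth.Agent.H95.ProjSpaceChart.I0 1)

/-- **(A1P1)** -/
theorem exists_openImmersion_A1_P1 (K : Type u) [Field K] :
    ∃ (j : Spec (CommRingCat.of (Polynomial K)) ⟶ REq.P1K K), IsOpenImmersion j ∧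
      j ≫ REq.P1K.toSpec K = Spec.map (CommRingCat.ofHom (algebraMap K (Polynomial K))) := by
  obtain ⟨θ, hθ⟩ := Groth.Agent.H18.ProjSubD.nonempty_projSpaceOver_iso 1 K
  have hθ' : θ.inv ≫ REq.P1K.toSpec K = CohB1.ProjSpace.toSpec 1 K := by
    rw [Iso.inv_comp_eq]
    exact hθ.symm
  haveI : IsIso (CommRingCat.ofHom (ePoly K).toRingEquiv.toRingHom) :=
    (inferInstance : IsIso (ePoly K).toRingEquiv.toCommRingCatIso.hom)
  refine ⟨Spec.map (CommRingCat.ofHom (ePoly K).toRingEquiv.toRingHom) ≫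
      Groth.Agent.H95.ProjSpaceChart.c0 1 K ≫ θ.inv, inferInstance, ?_⟩
  rw [Category.assoc, Category.assoc, hθ', Groth.Agent.H95.ProjSpaceChart.c0_toSpec,
    ← Spec.map_comp]
  congr 1
  apply CommRingCat.hom_ext
  apply RingHom.ext
  intro r
  show (ePoly K) (MvPolynomial.C r) = algebraMap K (Polynomial K) r
  rw [← MvPolynomial.algebraMap_eq]
  exact (ePoly K).commutes r

end Groth.Agent.H87.RR_A1P1
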