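import Mathlib

/-!
# (PD) for S14816: a scheme of finite type over a finite field has finitely many rational points
-/

set_option autoImplicit false
set_option linter.style.haveILetI false

universe u

open CategoryTheory CategoryTheory.Limits AlgebraicGeometry

namespace Groth.Agent.H87.FO_PD

/-- Finitely many retractions of a finite-type ring map into a finite ring. -/
theorem finite_retractions {R A : Type u} [CommRing R] [CommRing A] [Finite R] (φ : R →+* A)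
    (hφ : φ.FiniteType) : Finite {ψ : A →+* R // ψ.comp φ = RingHom.id R} := by
  classical
  letI : Algebra R A := φ.toAlgebra
  obtain ⟨s, hs⟩ := (hφ : Algebra.FiniteType R A).out
  let Φ : {ψ : A →+* R // ψ.comp φ = RingHom.id R} → (↥(↑s : Set A) → R) := fun ψ a => ψ.1 a.1
  apply Finite.of_injective Φ
  rintro ⟨ψ₁, h₁⟩ ⟨ψ₂, h₂⟩ h
  have mk : ∀ ψ : A →+* R, ψ.comp φ = RingHom.id R → ∃ a : A →ₐ[R] R, (a : A →+* R) = ψ := by
    intro ψ hψ
    refine ⟨{ ψ with commutes' := fun r => ?_ }, rfl⟩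
    have := congrArg (fun k : R →+* R => k r) hψ
    simp only [RingHom.comp_apply, RingHom.id_apply] at this
    change ψ (φ r) = r
    exact this
  obtain ⟨a₁, ha₁⟩ := mk ψ₁ h₁
  obtain ⟨a₂, ha₂⟩ := mk ψ₂ h₂
  have : a₁ = a₂ := by
    apply AlgHom.ext_of_adjoin_eq_top hs
    intro x hx
    have := congrFun h ⟨x, hx⟩
    simp only [Φ] at this
    rw [← ha₁, ← ha₂] at this
    exact this
  apply Subtype.ext
  show ψ₁ = ψ₂
  rw [← ha₁, ← ha₂, this]

/-- **(PD)** -/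
theorem finite_sections_of_finite_field (R₀ : CommRingCat.{u}) (hF : IsField R₀) [Finite R₀]
    {Y : Scheme.{u}} (f : Y ⟶ Spec R₀) [LocallyOfFiniteType f] [QuasiCompact f] :
    Finite {b : Spec R₀ ⟶ Y // b ≫ f = 𝟙 _} := by
  classical
  letI : Field R₀ := hF.toField
  haveI : CompactSpace Y := QuasiCompact.compactSpace_of_compactSpace f
  haveI : Subsingleton (Spec R₀) := (inferInstance : Subsingleton (PrimeSpectrum R₀))
  let 𝒰 := Y.affineCover.finiteSubcover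
  let U : 𝒰.I₀ → Y.Opens := fun i => (𝒰.f i).opensRange
  have hU : ∀ i, IsAffineOpen (U i) := fun i => isAffineOpen_opensRange (𝒰.f i)
  have hle : ∀ i, U i ≤ f ⁻¹ᵁ ⊤ := fun i => le_top
  let φ : ∀ i, R₀ →+* Γ(Y, U i) := fun i =>
    (f.appLE ⊤ (U i) (hle i)).hom.comp (Scheme.ΓSpecIso R₀).inv.hom
  have hφ : ∀ i, (φ i).FiniteType := fun i =>
    (Scheme.Hom.finiteType_appLE f (isAffineOpen_top _) (hU i) _).comp
      (RingHom.FiniteType.of_surjective _
        (ConcreteCategory.bijective_of_isIso (Scheme.ΓSpecIso R₀).inv).2)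
  haveI : ∀ i, Finite {ψ : Γ(Y, U i) →+* R₀ // ψ.comp (φ i) = RingHom.id R₀} :=
    fun i => finite_retractions (φ i) (hφ i)
  -- the pieces
  let S : 𝒰.I₀ → Set {b : Spec R₀ ⟶ Y // b ≫ f = 𝟙 _} := fun i => {b | ⊤ ≤ b.1 ⁻¹ᵁ U i}
  have hS : ∀ i, (S i).Finite := by
    intro i
    rw [← Set.finite_coe_iff]
    have hmem : ∀ b : S i, ⊤ ≤ b.1.1 ⁻¹ᵁ U i := fun b => b.2
    let Ψ : S i → {ψ : Γ(Y, U i) →+* R₀ // ψ.comp (φ i) = RingHom.id R₀} := fun b =>
      ⟨(b.1.1.appLE (U i) ⊤ (hmem b) ≫ (Scheme.ΓSpecIso R₀).hom).hom, by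
        have h1 : f.appLE ⊤ (U i) (hle i) ≫ b.1.1.appLE (U i) ⊤ (hmem b) = 𝟙 _ := by
          rw [Scheme.Hom.appLE_comp_appLE]
          have key : ∀ (k : Spec R₀ ⟶ Spec R₀) (_ : k = 𝟙 _) (e : ⊤ ≤ k ⁻¹ᵁ ⊤),
              k.appLE ⊤ ⊤ e = 𝟙 _ := by
            intro k hk e
            subst hk
            simp only [Scheme.Hom.appLE, Scheme.Hom.id_app]
            exact (Spec R₀).presheaf.map_id _
          exact key _ b.1.2 _
        have h2 : (Scheme.ΓSpecIso R₀).inv ≫ f.appLE ⊤ (U i) (hle i) ≫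
            b.1.1.appLE (U i) ⊤ (hmem b) ≫ (Scheme.ΓSpecIso R₀).hom = 𝟙 _ := by
          rw [reassoc_of% h1]
          simp
        have := congrArg CommRingCat.Hom.hom h2
        simpa [φ, RingHom.comp_assoc] using this⟩
    apply Finite.of_injective Ψ
    rintro ⟨⟨b₁, hb₁⟩, hb₁''⟩ ⟨⟨b₂, hb₂⟩, hb₂''⟩ h
    have hb₁' : ⊤ ≤ b₁ ⁻¹ᵁ U i := hb₁''
    have hb₂' : ⊤ ≤ b₂ ⁻¹ᵁ U i := hb₂''
    have h3 : b₁.appLE (U i) ⊤ hb₁' ≫ (Scheme.ΓSpecIso R₀).hom =
        b₂.appLE (U i) ⊤ hb₂' ≫ (Scheme.ΓSpecIso R₀).hom := by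
      ext1
      exact congrArg Subtype.val h
    have h4 : b₁.appLE (U i) ⊤ hb₁' = b₂.appLE (U i) ⊤ hb₂' := (cancel_mono _).mp h3
    have e1 := IsAffineOpen.SpecMap_appLE_fromSpec b₁ (hU i) (isAffineOpen_top _) hb₁'
    have e2 := IsAffineOpen.SpecMap_appLE_fromSpec b₂ (hU i) (isAffineOpen_top _) hb₂'
    rw [h4] at e1
    have e3 : (isAffineOpen_top (Spec R₀)).fromSpec ≫ b₁ =
        (isAffineOpen_top (Spec R₀)).fromSpec ≫ b₂ := e1.symm.trans e2
    rw [IsAffineOpen.fromSpec_top] at e3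
    have : b₁ = b₂ := (cancel_epi _).mp e3
    subst this
    rfl
  have hcover : (⋃ i, S i) = Set.univ := by
    apply Set.eq_univ_of_forall
    rintro ⟨b, hb⟩
    obtain ⟨pt⟩ : Nonempty (Spec R₀) := (inferInstance : Nonempty (PrimeSpectrum R₀))
    obtain ⟨i, y, hy⟩ := 𝒰.exists_eq (b pt)
    refine Set.mem_iUnion.mpr ⟨i, fun z _ => ?_⟩
    have hz : z = pt := Subsingleton.elim _ _
    subst hz
    exact ⟨y, hy⟩
  rw [← Set.finite_univ_iff, ← hcover]
  exact Set.finite_iUnion hS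

end Groth.Agent.H87.FO_PD
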