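import Mathlib
import Groth.Prelude.Def_CAlgX
import Groth.Agent.H87.FlatQuotLoc
import Groth.Agent.H87.QRegLoc
import Groth.Agent.S5803

/-!
# Stacks: flatness of `B'/(f')` from quasi-regularity modulo a locally nilpotent ideal
-/

set_option autoImplicit false
set_option maxHeartbeats 400000
universe u

open IsLocalRing RingTheory.Sequence Algebra

namespace Groth.Agent.H87.FlatQuotGlobal

/-- the fibre ring `S/𝔪_R S` of an essentially finitely presented local algebra is Noetherian -/
theorem isNoetherianRing_fibre {R S : Type u} [CommRing R] [CommRing S] [IsLocalRing R]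
    [Algebra R S] (S₀ : Type u) [CommRing S₀] [Algebra R S₀] [Algebra S₀ S] [IsScalarTower R S₀ S]
    (W : Submonoid S₀) [Algebra.FiniteType R S₀] [IsLocalization W S] :
    IsNoetherianRing (S ⧸ (maximalIdeal R).map (algebraMap R S)) := by
  set m := maximalIdeal R
  set K := m.map (algebraMap R S₀) with hK
  letI := Ideal.Quotient.field m
  haveI : Algebra.FiniteType R (S₀ ⧸ K) :=
    Algebra.FiniteType.trans (inferInstance : Algebra.FiniteType R S₀)
      (Algebra.FiniteType.of_surjective (Algebra.ofId S₀ (S₀ ⧸ K)) Ideal.Quotient.mk_surjective)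
  haveI : Algebra.FiniteType (R ⧸ m) (S₀ ⧸ K) :=
    Algebra.FiniteType.of_restrictScalars_finiteType R (R ⧸ m) (S₀ ⧸ K)
  haveI : IsNoetherianRing (S₀ ⧸ K) := Algebra.FiniteType.isNoetherianRing (R ⧸ m) (S₀ ⧸ K)
  haveI : IsNoetherianRing (S ⧸ K.map (algebraMap S₀ S)) :=
    IsLocalization.isNoetherianRing (Algebra.algebraMapSubmonoid (S₀ ⧸ K) W) _ inferInstance
  have hKm : K.map (algebraMap S₀ S) = m.map (algebraMap R S) := by
    rw [hK, Ideal.map_map, ← IsScalarTower.algebraMap_eq]
  exact isNoetherianRing_of_ringEquiv _ (Ideal.quotEquivOfEq hKm)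


theorem ofList_ofFn {S : Type*} [CommRing S] {r : ℕ} (g : Fin r → S) :
    Ideal.ofList (List.ofFn g) = Ideal.span (Set.range g) := by
  unfold Ideal.ofList
  congr 1
  ext z
  simp [List.mem_ofFn]

/-- Local core (EGA IV 11.3.8 for quasi-regular sequences): if the images of `g` in the closed
fibre ring are quasi-regular then `S/(g)` is `R`-flat. -/
theorem flat_quotient_of_isQuasiRegular_fibre {R S : Type u} [CommRing R] [CommRing S]
    [IsLocalRing R] [IsLocalRing S] [Algebra R S] [IsLocalHom (algebraMap R S)]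
    (S₀ : Type u) [CommRing S₀] [Algebra R S₀] [Algebra S₀ S] [IsScalarTower R S₀ S]
    (W : Submonoid S₀) [Algebra.FinitePresentation R S₀] [IsLocalization W S] [Module.Flat R S]
    {r : ℕ} (g : Fin r → S) (hg : ∀ i, g i ∈ maximalIdeal S)
    (hq : CAlgX.IsQuasiRegular
      (fun i => Ideal.Quotient.mk ((maximalIdeal R).map (algebraMap R S)) (g i))) :
    Module.Flat R (S ⧸ Ideal.span (Set.range g)) := by
  set mS := (maximalIdeal R).map (algebraMap R S) with hmS
  have hle : mS ≤ maximalIdeal S :=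
    ((local_hom_TFAE (algebraMap R S)).out 0 2).mp ‹IsLocalHom (algebraMap R S)›
  haveI : Nontrivial (S ⧸ mS) := Ideal.Quotient.nontrivial_iff.mpr
    (ne_top_of_le_ne_top (maximalIdeal.isMaximal S).ne_top hle)
  haveI : IsLocalRing (S ⧸ mS) :=
    IsLocalRing.of_surjective' (Ideal.Quotient.mk mS) Ideal.Quotient.mk_surjective
  haveI : IsNoetherianRing (S ⧸ mS) := isNoetherianRing_fibre S₀ W
  haveI : IsLocalHom (Ideal.Quotient.mk mS) :=
    IsLocalHom.of_surjective _ Ideal.Quotient.mk_surjective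
  have hjac : ∀ i, Ideal.Quotient.mk mS (g i) ∈ Ring.jacobson (S ⧸ mS) := by
    intro i
    rw [← Ideal.jacobson_bot, IsLocalRing.jacobson_eq_maximalIdeal ⊥ bot_ne_top,
      mem_maximalIdeal, mem_nonunits_iff]
    intro hu
    exact (mem_nonunits_iff.mp ((mem_maximalIdeal _).mp (hg i)))
      (isUnit_of_map_unit (Ideal.Quotient.mk mS) (g i) hu)
  have h1 := Groth.Agent.S5803.result (S ⧸ mS) r _ hjac hq
  have h2 : IsWeaklyRegular (S ⧸ mS) (List.ofFn g) := by
    rw [← isWeaklyRegular_map_algebraMap_iff (S ⧸ mS) (S ⧸ mS) (List.ofFn g), List.map_ofFn]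
    exact h1
  let e : (S ⧸ mS • (⊤ : Submodule S S)) ≃ₗ[S] (S ⧸ mS) :=
    Submodule.quotEquivOfEq _ _ (by rw [smul_eq_mul, Ideal.mul_top])
  have h3 : IsWeaklyRegular (S ⧸ mS • (⊤ : Submodule S S)) (List.ofFn g) :=
    (e.isWeaklyRegular_congr (List.ofFn g)).mpr h2
  have h4 := Groth.Agent.H87.FlatQuotLoc.flat_quot_of_isWeaklyRegular_fibre S₀ W (List.ofFn g) S h3
  let e' : (S ⧸ Ideal.ofList (List.ofFn g) • (⊤ : Submodule S S)) ≃ₗ[S]
      (S ⧸ Ideal.span (Set.range g)) :=
    Submodule.quotEquivOfEq _ _ (by rw [smul_eq_mul, Ideal.mul_top, ofList_ofFn])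
  exact Module.Flat.of_linearEquiv (e'.symm.restrictScalars R)


open Groth.Agent.H87 in
/-- Flatness of the localized quotient at a prime containing the sequence. -/
theorem flat_localization_quotient (A' B' : Type u) [CommRing A'] [CommRing B'] [Algebra A' B']
    [Module.Flat A' B'] [Algebra.FinitePresentation A' B']
    (I : Ideal A') (hI : ∀ x ∈ I, IsNilpotent x) (r : ℕ) (f' : Fin r → B')
    (hq : CAlgX.IsQuasiRegular
      (fun i => Ideal.Quotient.mk (Ideal.map (algebraMap A' B') I) (f' i)))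
    (hflat : Module.Flat (A' ⧸ I)
      ((B' ⧸ Ideal.map (algebraMap A' B') I) ⧸
        Ideal.span (Set.range (fun i => Ideal.Quotient.mk (Ideal.map (algebraMap A' B') I) (f' i)))))
    (q : Ideal B') [q.IsPrime] (hfq : ∀ i, f' i ∈ q) :
    Module.Flat A' (Localization.AtPrime q ⧸
      Ideal.span (Set.range fun i => algebraMap B' (Localization.AtPrime q) (f' i))) := by
  classical
  set p := q.under A' with hp
  haveI : q.LiesOver p := ⟨rfl⟩
  let Rp := Localization.AtPrime p
  let Sp := Localization (algebraMapSubmonoid B' p.primeCompl)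
  let Sq := Localization.AtPrime q
  letI := Localization.AtPrime.algebraOfLiesOver p q
  let f : Sp →ₐ[B'] Sq := IsLocalization.liftAlgHom (M := algebraMapSubmonoid B' p.primeCompl)
        (f := Algebra.ofId _ _) (by
      rintro ⟨_, x, hx, rfl⟩
      simpa using! IsLocalization.map_units (M := q.primeCompl) Sq ⟨algebraMap _ _ x,
        by simp_all [q.over_def p]⟩)
  algebraize [f.toRingHom]
  have : IsScalarTower A' Sp Sq := .to₁₃₄ _ B' _ _
  have : IsScalarTower Rp Sp Sq := .of_algebraMap_eq' <| by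
    apply IsLocalization.ringHom_ext p.primeCompl
    simp only [RingHom.comp_assoc, ← IsScalarTower.algebraMap_eq]
  have : IsLocalization (algebraMapSubmonoid Sp q.primeCompl) Sq :=
    .isLocalization_of_submonoid_le _ _ (algebraMapSubmonoid B' p.primeCompl) _
    (by rintro _ ⟨x, hx, rfl⟩; simp_all [q.over_def p])
  have : FinitePresentation Rp Sp := by
    have : Algebra.IsPushout A' Rp B' Sp :=
      .symm <| Algebra.isPushout_of_isLocalization p.primeCompl _ _ _
    exact .equiv (Algebra.IsPushout.equiv A' Rp B' Sp)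
  haveI : IsLocalHom (algebraMap Rp Sq) := by
    rw [RingHom.algebraMap_toAlgebra]; infer_instance
  haveI : Module.Flat Rp Sq :=
    (Module.flat_iff_of_isLocalization Rp p.primeCompl Sq).mpr inferInstance
  have hIp : I ≤ p := fun x hx => by
    obtain ⟨n, hn⟩ := hI x hx
    exact Ideal.IsPrime.mem_of_pow_mem inferInstance n (hn ▸ zero_mem _)
  set IB := I.map (algebraMap A' B') with hIB
  set pB := p.map (algebraMap A' B') with hpB
  have hle : IB ≤ pB := Ideal.map_mono hIp
  have h1 := QRegLoc.isQuasiRegular_quotient (A' ⧸ I) (B' ⧸ IB)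
    (fun i => Ideal.Quotient.mk IB (f' i)) hflat hq (p.map (Ideal.Quotient.mk I))
  have h𝔞 : (p.map (Ideal.Quotient.mk I)).map (algebraMap (A' ⧸ I) (B' ⧸ IB)) =
      pB.map (Ideal.Quotient.mk IB) := by
    rw [hpB, Ideal.map_map, Ideal.map_map]
    congr 1
  let e1 : ((B' ⧸ IB) ⧸ (p.map (Ideal.Quotient.mk I)).map (algebraMap (A' ⧸ I) (B' ⧸ IB))) ≃+*
      B' ⧸ pB := (Ideal.quotEquivOfEq h𝔞).trans (DoubleQuot.quotQuotEquivQuotOfLE hle)
  have h2 := QRegLoc.isQuasiRegular_of_ringEquiv e1 _ h1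
  have h2' : CAlgX.IsQuasiRegular (fun i => Ideal.Quotient.mk pB (f' i)) := h2
  set mS := (maximalIdeal Rp).map (algebraMap Rp Sq) with hmSdef
  have hmS : mS = pB.map (algebraMap B' Sq) := by
    rw [hmSdef, hpB, ← Localization.AtPrime.map_eq_maximalIdeal, Ideal.map_map, Ideal.map_map,
      ← IsScalarTower.algebraMap_eq, ← IsScalarTower.algebraMap_eq]
  let φ₂ : B' ⧸ pB →+* Sq ⧸ mS := Ideal.Quotient.lift pB
    ((Ideal.Quotient.mk mS).comp (algebraMap B' Sq)) (by
      intro x hx
      rw [RingHom.comp_apply, Ideal.Quotient.eq_zero_iff_mem, hmS]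
      exact Ideal.mem_map_of_mem _ hx)
  letI : Algebra (B' ⧸ pB) (Sq ⧸ mS) := φ₂.toAlgebra
  haveI : IsLocalization (q.primeCompl.map (Ideal.Quotient.mk pB)) (Sq ⧸ mS) :=
    IsLocalization.of_surjective q.primeCompl Sq (Ideal.Quotient.mk pB)
      Ideal.Quotient.mk_surjective (Ideal.Quotient.mk mS) Ideal.Quotient.mk_surjective rfl
      (by rw [Ideal.mk_ker, Ideal.mk_ker, hmS])
  have h3 := QRegLoc.isQuasiRegular_of_isLocalization (T := Sq ⧸ mS)
    (q.primeCompl.map (Ideal.Quotient.mk pB)) _ h2'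
  have hg : ∀ i, algebraMap B' Sq (f' i) ∈ maximalIdeal Sq := fun i =>
    (IsLocalization.AtPrime.to_map_mem_maximal_iff Sq q (f' i)).mpr (hfq i)
  have hcore := flat_quotient_of_isQuasiRegular_fibre (R := Rp) (S := Sq) Sp
    (algebraMapSubmonoid Sp q.primeCompl) (fun i => algebraMap B' Sq (f' i)) hg h3
  haveI : Module.Flat A' Rp := IsLocalization.flat Rp p.primeCompl
  exact Module.Flat.trans A' Rp _

end Groth.Agent.H87.FlatQuotGlobal
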