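import Mathlib
import Groth.Agent.H15.FPA.Defs2
import Groth.Agent.H87.ComplFlat
import Groth.Agent.H3.PH15

/-!
# (D6) for S9298: the henselization of a pair has the same adic completion
-/

set_option autoImplicit false

universe u

open MvPolynomial
open Groth.Agent.H15.FPA

namespace Groth.Agent.H87.ALG_D6

open AdicCompletion

/-- A map of adic completions which is bijective on all truncations is bijective. -/
theorem complMap_bijective_of_levelwise {S T : Type u} [CommRing S] [CommRing T] (I : Ideal S)
    (K : Ideal T) (g : S →+* T) (h : I.map g ≤ K)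
    (hlev : ∀ n : ℕ, Function.Bijective
      (Ideal.quotientMap (K ^ n) g (FSch.pow_le_comap_pow_of_map_le I K g h n))) :
    Function.Bijective (FSch.complMap I K g h) := by
  have hmemK : ∀ (k : ℕ) (x : T), x ∈ (K ^ k • ⊤ : Submodule T T) ↔ x ∈ K ^ k := by
    intro k x; simp
  have hmemI : ∀ (k : ℕ) (x : S), x ∈ (I ^ k • ⊤ : Submodule S S) ↔ x ∈ I ^ k := by
    intro k x; simp
  constructor
  · rw [injective_iff_map_eq_zero]
    intro x hx
    apply AdicCompletion.ext_evalₐ
    intro n
    have h1 := congrArg (AdicCompletion.evalₐ K n) hx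
    rw [Groth.Agent.H87.ComplFlat.evalₐ_complMap, _root_.map_zero] at h1
    rw [_root_.map_zero]
    exact (hlev n).1 (by rw [h1, _root_.map_zero])
  · intro y
    obtain ⟨c, rfl⟩ := AdicCompletion.mk_surjective K T y
    have hc : ∀ {m n : ℕ}, m ≤ n → c.1 m - c.1 n ∈ K ^ m := by
      intro m n hmn
      have := c.2 hmn
      rw [SModEq.sub_mem, hmemK] at this
      exact this
    have hex : ∀ n : ℕ, ∃ b : S, g b - c.1 n ∈ K ^ n := by
      intro n
      obtain ⟨a, ha⟩ := (hlev n).2 (Ideal.Quotient.mk (K ^ n) (c.1 n))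
      obtain ⟨b, rfl⟩ := Ideal.Quotient.mk_surjective a
      refine ⟨b, ?_⟩
      rw [Ideal.quotientMap_mk] at ha
      exact (Ideal.Quotient.eq).mp ha
    choose b hb using hex
    have hbc : ∀ {m n : ℕ}, m ≤ n → b m - b n ∈ I ^ m := by
      intro m n hmn
      have h1 : g (b m - b n) ∈ K ^ m := by
        have e : g (b m - b n) = (g (b m) - c.1 m) + (c.1 m - c.1 n) - (g (b n) - c.1 n) := by
          rw [map_sub]; ring
        rw [e]
        exact sub_mem (add_mem (hb m) (hc hmn)) (Ideal.pow_le_pow_right hmn (hb n))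
      have h2 : Ideal.quotientMap (K ^ m) g (FSch.pow_le_comap_pow_of_map_le I K g h m)
          (Ideal.Quotient.mk (I ^ m) (b m - b n)) = 0 := by
        rw [Ideal.quotientMap_mk]
        exact Ideal.Quotient.eq_zero_iff_mem.mpr h1
      have h3 := (hlev m).1 (h2.trans (_root_.map_zero _).symm)
      exact Ideal.Quotient.eq_zero_iff_mem.mp h3
    let a : AdicCauchySequence I S := ⟨b, by
      intro m n hmn
      rw [SModEq.sub_mem, hmemI]
      exact hbc hmn⟩
    refine ⟨AdicCompletion.mk I S a, ?_⟩
    apply AdicCompletion.ext_evalₐ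
    intro k
    rw [Groth.Agent.H87.ComplFlat.evalₐ_complMap, AdicCompletion.evalₐ_mk, AdicCompletion.evalₐ_mk,
      Ideal.quotientMap_mk, Ideal.Quotient.eq]
    exact hb k

/-- transport of levelwise bijectivity along an equality of ideals -/
theorem quotientMap_bijective_of_eq {S T : Type u} [CommRing S] [CommRing T] (g : S →+* T)
    (I : Ideal S) (J J' : Ideal T) (hJ : J' = J) (hle : I ≤ J.comap g) (hle' : I ≤ J'.comap g)
    (hb : Function.Bijective (Ideal.quotientMap J g hle)) :
    Function.Bijective (Ideal.quotientMap J' g hle') := by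
  subst hJ
  exact hb

/-- **(D6)** the henselization of a pair has the same adic completion. -/
theorem complMap_bijective_of_isPairHenselization {B Bh : Type u} [CommRing B]
    [IsNoetherianRing B] [CommRing Bh] [Algebra B Bh] (K : Ideal B)
    (hBh : Hens2.IsPairHenselization B K Bh) (Kh : Ideal Bh) (hKh : Kh = K.map (algebraMap B Bh))
    (h : K.map (algebraMap B Bh) ≤ Kh) :
    Function.Bijective (FSch.complMap K Kh (algebraMap B Bh) h) := by
  apply complMap_bijective_of_levelwise
  intro n
  refine quotientMap_bijective_of_eq (algebraMap B Bh) (K ^ n) ((K ^ n).map (algebraMap B Bh))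
    (Kh ^ n) ?_ Ideal.le_comap_map _ (Groth.Agent.H3.PH.quotientMap_pow_bijective K Bh hBh n)
  rw [hKh, Ideal.map_pow]

end Groth.Agent.H87.ALG_D6
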