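import Mathlib
import Groth.Prelude.Def_SGA1t

/-!
# Ring-level core: a finite étale `ℤ/p`-torsor algebra in characteristic `p` is Artin–Schreier
-/

set_option autoImplicit false
universe u
open TensorProduct

namespace Groth.Agent.H87.ASTorsor

/-- An idempotent killed by every map to an algebraically closed field is zero. -/
theorem idem_eq_zero_of_forall_map {R : Type u} [CommRing R] (ε : R) (hε : IsIdempotentElem ε)
    (h : ∀ (Ω : Type u) [Field Ω] [IsAlgClosed Ω] (χ : R →+* Ω), χ ε = 0) : ε = 0 := by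
  by_contra hne
  have h1 : Ideal.span {1 - ε} ≠ ⊤ := by
    intro htop
    rw [Ideal.span_singleton_eq_top] at htop
    obtain ⟨u, hu⟩ := htop
    apply hne
    have h2 : (1 - ε) * ε = 0 := by rw [sub_mul, one_mul, hε.eq, sub_self]
    rw [← hu] at h2
    exact (Units.mul_right_eq_zero u).mp h2
  obtain ⟨M, hM, hle⟩ := Ideal.exists_le_maximal _ h1
  letI : Field (R ⧸ M) := Ideal.Quotient.field M
  let χ : R →+* AlgebraicClosure (R ⧸ M) :=
    (algebraMap (R ⧸ M) (AlgebraicClosure (R ⧸ M))).comp (Ideal.Quotient.mk M)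
  have h2 : χ (1 - ε) = 0 := by
    have h3 : (Ideal.Quotient.mk M) (1 - ε) = 0 :=
      Ideal.Quotient.eq_zero_iff_mem.mpr (hle (Ideal.subset_span rfl))
    simp only [χ, RingHom.comp_apply, h3, map_zero]
  have h3 := h (AlgebraicClosure (R ⧸ M)) χ
  rw [map_sub, map_one, h3, sub_zero] at h2
  exact one_ne_zero h2

section Sep
variable {A B : Type u} [CommRing A] [CommRing B] [Algebra A B]

theorem mul_elem_eq (e : B ⊗[A] B) (he : ∀ s : B, (1 ⊗ₜ[A] s) * e = (s ⊗ₜ[A] 1) * e)
    (z : B ⊗[A] B) :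
    z * e = ((Algebra.TensorProduct.lmul' A z) ⊗ₜ[A] (1 : B)) * e := by
  induction z using TensorProduct.induction_on with
  | zero => simp
  | tmul x y =>
    have h1 : x ⊗ₜ[A] y = (x ⊗ₜ[A] 1) * (1 ⊗ₜ[A] y) := by simp
    rw [h1, mul_assoc, he, ← mul_assoc]
    simp [Algebra.TensorProduct.lmul'_apply_tmul]
  | add z w hz hw => rw [add_mul, hz, hw, map_add, TensorProduct.add_tmul, add_mul]

theorem map_elem_of_eq {Ω : Type*} [Field Ω] (e : B ⊗[A] B)
    (hμ : Algebra.TensorProduct.lmul' A e = 1) (χ : B ⊗[A] B →+* Ω)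
    (h : ∀ b : B, χ (b ⊗ₜ[A] 1) = χ (1 ⊗ₜ[A] b)) : χ e = 1 := by
  have key : ∀ z : B ⊗[A] B, χ z = χ ((Algebra.TensorProduct.lmul' A z) ⊗ₜ[A] (1 : B)) := by
    intro z
    induction z using TensorProduct.induction_on with
    | zero => simp
    | tmul x y =>
      have h1 : x ⊗ₜ[A] y = (x ⊗ₜ[A] 1) * (1 ⊗ₜ[A] y) := by simp
      rw [h1, map_mul, ← h, ← map_mul]
      simp [Algebra.TensorProduct.lmul'_apply_tmul]
    | add z w hz hw => rw [map_add, hz, hw, map_add, TensorProduct.add_tmul, map_add]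
  rw [key e, hμ]
  exact map_one χ

theorem eq_of_map_elem_ne_zero {Ω : Type*} [Field Ω] (e : B ⊗[A] B)
    (he : ∀ s : B, (1 ⊗ₜ[A] s) * e = (s ⊗ₜ[A] 1) * e) (χ : B ⊗[A] B →+* Ω)
    (h : χ e ≠ 0) (b : B) : χ (b ⊗ₜ[A] 1) = χ (1 ⊗ₜ[A] b) := by
  have h1 := congrArg χ (he b)
  rw [map_mul, map_mul] at h1
  exact (mul_right_cancel₀ h h1).symm

/-- `λ ⊗ id : B ⊗ B → A ⊗ B = B`. -/
noncomputable def Lam (l : B →ₗ[A] A) : B ⊗[A] B →ₗ[A] B :=
  (TensorProduct.lid A B).toLinearMap ∘ₗ (LinearMap.rTensor B l)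

@[simp] theorem Lam_tmul (l : B →ₗ[A] A) (x y : B) : Lam l (x ⊗ₜ[A] y) = l x • y := by
  simp [Lam]

theorem Lam_mul_right (l : B →ₗ[A] A) (z : B ⊗[A] B) (x : B) :
    Lam l (z * (1 ⊗ₜ[A] x)) = Lam l z * x := by
  induction z using TensorProduct.induction_on with
  | zero => simp
  | tmul x' y => simp
  | add z w hz hw => rw [add_mul, map_add, hz, hw, map_add, add_mul]

theorem prod_congr_mul {ι : Type*} [DecidableEq ι] (E0 : B ⊗[A] B) (s : Finset ι)
    (f g : ι → B ⊗[A] B) (h : ∀ i ∈ s, E0 * f i = E0 * g i) :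
    E0 * ∏ i ∈ s, f i = E0 * ∏ i ∈ s, g i := by
  induction s using Finset.induction_on with
  | empty => simp
  | insert a s has ih =>
    rw [Finset.prod_insert has, Finset.prod_insert has]
    calc E0 * (f a * ∏ i ∈ s, f i) = (E0 * f a) * ∏ i ∈ s, f i := by ring
      _ = (E0 * g a) * ∏ i ∈ s, f i := by rw [h a (Finset.mem_insert_self _ _)]
      _ = g a * (E0 * ∏ i ∈ s, f i) := by ring
      _ = g a * (E0 * ∏ i ∈ s, g i) := by
          rw [ih (fun i hi => h i (Finset.mem_insert_of_mem hi))]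
      _ = E0 * (g a * ∏ i ∈ s, g i) := by ring

end Sep

set_option maxHeartbeats 1600000 in
theorem main {A B : Type u} [CommRing A] [CommRing B] [Algebra A B] (p : ℕ) [Fact p.Prime]
    [CharP A p] [Module.Finite A B] [Algebra.Etale A B]
    (σ : ZMod p → (B →ₐ[A] B)) (hσ0 : σ 0 = AlgHom.id A B)
    (hσadd : ∀ j k, σ (j + k) = (σ j).comp (σ k))
    (hS : ∀ 𝔭 : PrimeSpectrum A, ∃ 𝔮 : PrimeSpectrum B,
      𝔮.asIdeal.comap (algebraMap A B) = 𝔭.asIdeal)
    (hT : ∀ (Ω : Type u) [Field Ω] [IsAlgClosed Ω] (ψ ψ' : B →+* Ω),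
      ψ.comp (algebraMap A B) = ψ'.comp (algebraMap A B) →
        ∃! j : ZMod p, ψ.comp (σ j : B →+* B) = ψ') :
    ∃ (a : A) (Φ : SGA1t.artinSchreier A p a ≃ₐ[A] B),
      ∀ (j : ZMod p) (x : SGA1t.artinSchreier A p a),
        Φ (SGA1t.artinSchreierShift A p a j x) = σ j (Φ x) := by
  classical
  haveI : NeZero p := ⟨(Fact.out : p.Prime).ne_zero⟩
  haveI : Module.FinitePresentation A B :=
    Module.FinitePresentation.of_finite_of_finitePresentation A B
  haveI : Module.Projective A B := Module.Flat.projective_of_finitePresentation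
  set e : B ⊗[A] B := Algebra.FormallyUnramified.elem A B with he_def
  have he : ∀ s : B, (1 ⊗ₜ[A] s) * e = (s ⊗ₜ[A] 1) * e :=
    Algebra.FormallyUnramified.one_tmul_mul_elem
  have hμ : Algebra.TensorProduct.lmul' A e = 1 := Algebra.FormallyUnramified.lmul_elem
  have heid : e * e = e := by
    rw [mul_elem_eq e he e, hμ]
    simp [← Algebra.TensorProduct.one_def]
  let θ : ZMod p → (B ⊗[A] B →ₐ[A] B ⊗[A] B) := fun j =>
    Algebra.TensorProduct.map (AlgHom.id A B) (σ j)
  have hθ1 : ∀ j (x : B), θ j (x ⊗ₜ[A] 1) = x ⊗ₜ[A] 1 := fun j x => by simp [θ]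
  have hθ2 : ∀ j (x : B), θ j (1 ⊗ₜ[A] x) = 1 ⊗ₜ[A] σ j x := fun j x => by simp [θ]
  let E : ZMod p → B ⊗[A] B := fun j => θ j e
  have hEid : ∀ j, E j * E j = E j := fun j => by simp only [E, ← map_mul, heid]
  have hR1 : ∀ j (x : B), E j * (x ⊗ₜ[A] 1) = E j * (1 ⊗ₜ[A] σ j x) := by
    intro j x
    rw [← hθ1 j, ← hθ2 j]
    simp only [E, ← map_mul]
    rw [mul_comm e, mul_comm e, he]
  have hχ : ∀ (Ω : Type u) [Field Ω] [IsAlgClosed Ω] (χ : B ⊗[A] B →+* Ω),
      ∃ j₀ : ZMod p, χ (E j₀) = 1 ∧ ∀ j, j ≠ j₀ → χ (E j) = 0 := by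
    intro Ω _ _ χ
    let ψ₁ : B →+* Ω := χ.comp (Algebra.TensorProduct.includeLeftRingHom)
    let ψ₂ : B →+* Ω :=
      χ.comp ((Algebra.TensorProduct.includeRight : B →ₐ[A] B ⊗[A] B) : B →+* B ⊗[A] B)
    have hψ1 : ∀ b, ψ₁ b = χ (b ⊗ₜ[A] 1) := fun _ => rfl
    have hψ2 : ∀ b, ψ₂ b = χ (1 ⊗ₜ[A] b) := fun _ => rfl
    have hψ : ψ₂.comp (algebraMap A B) = ψ₁.comp (algebraMap A B) := by
      ext a
      show χ (1 ⊗ₜ[A] algebraMap A B a) = χ (algebraMap A B a ⊗ₜ[A] 1)
      congr 1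
      rw [Algebra.algebraMap_eq_smul_one, TensorProduct.smul_tmul]
    obtain ⟨j₀, hj₀, huniq⟩ := hT Ω ψ₂ ψ₁ hψ
    refine ⟨j₀, ?_, ?_⟩
    · apply map_elem_of_eq e hμ (χ.comp (θ j₀ : B ⊗[A] B →+* B ⊗[A] B))
      intro b
      have h1 : χ (1 ⊗ₜ[A] σ j₀ b) = χ (b ⊗ₜ[A] 1) := RingHom.congr_fun hj₀ b
      show χ (θ j₀ (b ⊗ₜ[A] 1)) = χ (θ j₀ (1 ⊗ₜ[A] b))
      rw [hθ1 j₀ b, hθ2 j₀ b]
      exact h1.symm
    · intro j hj
      by_contra hne
      apply hj
      apply huniq
      ext b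
      have h1 : χ (θ j (b ⊗ₜ[A] 1)) = χ (θ j (1 ⊗ₜ[A] b)) :=
        eq_of_map_elem_ne_zero e he (χ.comp (θ j : B ⊗[A] B →+* B ⊗[A] B)) hne b
      rw [hθ1 j b, hθ2 j b] at h1
      show χ (1 ⊗ₜ[A] σ j b) = χ (b ⊗ₜ[A] 1)
      exact h1.symm
  have hEorth : ∀ j k, j ≠ k → E j * E k = 0 := by
    intro j k hjk
    apply idem_eq_zero_of_forall_map
    · show (E j * E k) * (E j * E k) = E j * E k
      rw [mul_mul_mul_comm, hEid, hEid]
    · intro Ω _ _ χ
      obtain ⟨j₀, h1, h0⟩ := hχ Ω χ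
      rw [map_mul]
      by_cases hj : j = j₀
      · have hk : k ≠ j₀ := fun hk => hjk (hj.trans hk.symm)
        rw [h0 k hk, mul_zero]
      · rw [h0 j hj, zero_mul]
  have hEsum : ∑ j, E j = 1 := by
    have hs : IsIdempotentElem (∑ j, E j) := by
      show (∑ j, E j) * (∑ j, E j) = ∑ j, E j
      rw [Finset.sum_mul]
      refine Finset.sum_congr rfl fun j _ => ?_
      rw [Finset.mul_sum, Finset.sum_eq_single j]
      · exact hEid j
      · intro k _ hk; exact hEorth j k (Ne.symm hk)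
      · intro h; exact absurd (Finset.mem_univ j) h
    have h0 : 1 - ∑ j, E j = 0 := by
      apply idem_eq_zero_of_forall_map _ hs.one_sub
      intro Ω _ _ χ
      obtain ⟨j₀, h1, h0⟩ := hχ Ω χ
      rw [map_sub, map_one, map_sum,
        Finset.sum_eq_single j₀ (fun j _ hj => h0 j hj)
          (fun h => absurd (Finset.mem_univ j₀) h), h1, sub_self]
    exact (sub_eq_zero.mp h0).symm
  -- dual basis
  obtain ⟨n, F, Gm, hF, hG, hFG⟩ := Module.Finite.exists_comp_eq_id_of_projective A B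
  let u : Fin n → B := fun l => F (fun j => if l = j then 1 else 0)
  let lam : Fin n → (B →ₗ[A] A) := fun l => (LinearMap.proj l).comp Gm
  have hdual : ∀ b : B, b = ∑ l, lam l b • u l := by
    intro b
    have h1 : F (Gm b) = b := LinearMap.congr_fun hFG b
    conv_lhs => rw [← h1]
    rw [LinearMap.pi_apply_eq_sum_univ F (Gm b)]
    rfl
  -- a retraction
  obtain ⟨lam1, hlam1⟩ : ∃ lam1 : B →ₗ[A] A, lam1 1 = 1 := by
    let J : Ideal A := LinearMap.range (LinearMap.applyₗ (1 : B) : (B →ₗ[A] A) →ₗ[A] A)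
    by_contra hcon
    have hJ : J ≠ ⊤ := by
      intro htop
      have h1 : (1 : A) ∈ J := htop ▸ Submodule.mem_top
      obtain ⟨l, hl⟩ := h1
      exact hcon ⟨l, hl⟩
    obtain ⟨M, hM, hJM⟩ := Ideal.exists_le_maximal J hJ
    obtain ⟨𝔮, h𝔮⟩ := hS ⟨M, hM.isPrime⟩
    have h1 : (1 : B) ∈ 𝔮.asIdeal := by
      rw [hdual 1]
      refine Ideal.sum_mem _ fun l _ => ?_
      rw [Algebra.smul_def]
      apply Ideal.mul_mem_right
      have h2 : lam l 1 ∈ M := hJM ⟨lam l, rfl⟩
      have h3 : lam l 1 ∈ 𝔮.asIdeal.comap (algebraMap A B) := by rw [h𝔮]; exact h2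
      exact h3
    exact 𝔮.isPrime.ne_top ((Ideal.eq_top_iff_one _).mpr h1)
  have hinj : Function.Injective (algebraMap A B) := by
    intro x y hxy
    have h1 := congrArg lam1 hxy
    rw [Algebra.algebraMap_eq_smul_one, Algebra.algebraMap_eq_smul_one, map_smul, map_smul,
      hlam1, smul_eq_mul, smul_eq_mul, mul_one, mul_one] at h1
    exact h1
  haveI : CharP B p := charP_of_injective_algebraMap hinj p
  -- invariants
  have hfix : ∀ b : B, (∀ j, σ j b = b) → b = algebraMap A B (lam1 b) := by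
    intro b hb
    have h1 : (b ⊗ₜ[A] (1 : B)) = 1 ⊗ₜ[A] b := by
      calc b ⊗ₜ[A] (1 : B) = (∑ j, E j) * (b ⊗ₜ[A] 1) := by rw [hEsum, one_mul]
        _ = ∑ j, E j * (1 ⊗ₜ[A] b) := by
            rw [Finset.sum_mul]
            exact Finset.sum_congr rfl fun j _ => by rw [hR1, hb]
        _ = 1 ⊗ₜ[A] b := by rw [← Finset.sum_mul, hEsum, one_mul]
    have h2 := congrArg (Lam lam1) h1
    rw [Lam_tmul, Lam_tmul, hlam1, one_smul] at h2
    rw [Algebra.algebraMap_eq_smul_one]
    exact h2.symm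
  -- trace one element
  let c : B := Lam lam1 e
  have hΛσ : ∀ j (z : B ⊗[A] B), σ j (Lam lam1 z) = Lam lam1 (θ j z) := by
    intro j z
    induction z using TensorProduct.induction_on with
    | zero => simp
    | tmul x y => simp [θ]
    | add z w hz hw => simp only [map_add, hz, hw]
  have hc : ∑ j, σ j c = 1 := by
    simp only [c, hΛσ]
    rw [← map_sum]
    show Lam lam1 (∑ j, E j) = 1
    rw [hEsum, Algebra.TensorProduct.one_def, Lam_tmul, hlam1, one_smul]
  let ι : ZMod p →+* B := (algebraMap A B).comp (ZMod.castHom (dvd_refl p) A)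
  have hσι : ∀ j k, σ j (ι k) = ι k := fun j k => (σ j).commutes _
  let t : B := - ∑ j, ι j * σ j c
  have hσσ : ∀ j k (b : B), σ j (σ k b) = σ (j + k) b := fun j k b => by rw [hσadd]; rfl
  have hσt : ∀ k, σ k t = t + ι k := by
    intro k
    have h1 : σ k t = - ∑ j, ι j * σ (k + j) c := by
      simp only [t, map_neg, map_sum, map_mul, hσι, hσσ]
    have h2 : ∑ j, ι j * σ (k + j) c = ∑ j, ι (j - k) * σ j c :=
      Fintype.sum_equiv (Equiv.addLeft k) _ _ (fun j => by simp)
    rw [h1, h2]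
    simp only [map_sub, sub_mul, Finset.sum_sub_distrib, ← Finset.mul_sum, hc, mul_one, t]
    ring
  have hιp : ∀ k, ι k ^ p = ι k := fun k => by rw [← map_pow, ZMod.pow_card]
  have hfixa : ∀ k, σ k (t ^ p - t) = t ^ p - t := by
    intro k
    rw [map_sub, map_pow, hσt, add_pow_char, hιp]; ring
  obtain ⟨a, ha⟩ : ∃ a : A, algebraMap A B a = t ^ p - t := ⟨_, (hfix _ hfixa).symm⟩
  have hm0 : Polynomial.aeval t
      ((Polynomial.X : Polynomial A) ^ p - Polynomial.X - Polynomial.C a) = 0 := by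
    simp [ha]
  let Φ : SGA1t.artinSchreier A p a →ₐ[A] B :=
    Ideal.Quotient.liftₐ _ (Polynomial.aeval t) (by
      intro f hf
      obtain ⟨g, rfl⟩ := Ideal.mem_span_singleton.mp hf
      rw [map_mul, hm0, zero_mul])
  have hΦmk : ∀ f : Polynomial A, Φ (Ideal.Quotient.mk _ f) = Polynomial.aeval t f :=
    fun f => rfl
  have hΦeq : ∀ (j : ZMod p) (x : SGA1t.artinSchreier A p a),
      Φ (SGA1t.artinSchreierShift A p a j x) = σ j (Φ x) := by
    intro j x
    obtain ⟨f, rfl⟩ := Ideal.Quotient.mk_surjective x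
    have h1 : SGA1t.artinSchreierShift A p a j (Ideal.Quotient.mk _ f) =
        Ideal.Quotient.mk _ (Polynomial.aeval
          (Polynomial.X + Polynomial.C ((ZMod.castHom (dvd_refl p) A) j)) f) := rfl
    rw [h1, hΦmk, hΦmk, ← Polynomial.aeval_algHom_apply (σ j) t f, hσt,
      ← Polynomial.aeval_algHom_apply (Polynomial.aeval t)]
    congr 1
    simp [ι]
  -- surjectivity
  have hsurj : Function.Surjective Φ := by
    let C' : Subalgebra A B := Φ.range
    have htC : t ∈ C' :=
      (AlgHom.mem_range _).mpr ⟨Ideal.Quotient.mk _ Polynomial.X, by rw [hΦmk, Polynomial.aeval_X]⟩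
    have hιC : ∀ k, ι k ∈ C' := fun k => C'.algebraMap_mem _
    let S : Subalgebra A (B ⊗[A] B) :=
      (Algebra.TensorProduct.map (AlgHom.id A B) C'.val).range
    have hS1 : ∀ b : B, b ⊗ₜ[A] (1 : B) ∈ S := fun b =>
      (AlgHom.mem_range _).mpr ⟨b ⊗ₜ[A] 1, by simp⟩
    have hS2 : ∀ y ∈ C', (1 : B) ⊗ₜ[A] y ∈ S := fun y hy =>
      (AlgHom.mem_range _).mpr ⟨1 ⊗ₜ[A] ⟨y, hy⟩, by simp⟩
    have hSΛ : ∀ z ∈ S, ∀ l : B →ₗ[A] A, Lam l z ∈ C' := by
      intro z hz l
      obtain ⟨z', rfl⟩ := (AlgHom.mem_range _).mp hz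
      clear hz
      induction z' using TensorProduct.induction_on with
      | zero => rw [map_zero, map_zero]; exact C'.zero_mem
      | tmul x y =>
        have h1 : Lam l ((Algebra.TensorProduct.map (AlgHom.id A B) C'.val) (x ⊗ₜ[A] y)) =
            l x • (y : B) := by simp
        rw [h1]
        exact C'.smul_mem y.2 _
      | add z w hz hw => rw [map_add, map_add]; exact C'.add_mem hz hw
    let w : B ⊗[A] B :=
      ∏ i ∈ Finset.univ.erase (0 : ZMod p), ((1 : B) ⊗ₜ[A] t - (t + ι i) ⊗ₜ[A] (1 : B))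
    have hwS : w ∈ S := Subalgebra.prod_mem _ fun i _ => S.sub_mem (hS2 t htC) (hS1 _)
    have hEw : ∀ j, E j * w =
        E j * ((1 : B) ⊗ₜ[A] (∏ i ∈ Finset.univ.erase (0 : ZMod p), (- ι (j + i)))) := by
      intro j
      have h1 : ((1 : B) ⊗ₜ[A] (∏ i ∈ Finset.univ.erase (0 : ZMod p), (- ι (j + i)))) =
          ∏ i ∈ Finset.univ.erase (0 : ZMod p), ((1 : B) ⊗ₜ[A] (- ι (j + i))) :=
        map_prod (Algebra.TensorProduct.includeRight : B →ₐ[A] B ⊗[A] B) _ _
      rw [h1]
      apply prod_congr_mul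
      intro i _
      rw [mul_sub, hR1, ← mul_sub, ← TensorProduct.tmul_sub]
      congr 2
      rw [map_add, hσt, hσι, map_add]; ring
    let κ₀ : ZMod p := ∏ i ∈ Finset.univ.erase (0 : ZMod p), (- i)
    have hκ₀ : κ₀ ≠ 0 := by
      rw [Finset.prod_ne_zero_iff]
      intro i hi
      exact neg_ne_zero.mpr (Finset.ne_of_mem_erase hi)
    have hE0 : E 0 = e := by
      show θ 0 e = e
      simp only [θ, hσ0]
      rw [Algebra.TensorProduct.map_id]
      rfl
    have hw : w = e * ((1 : B) ⊗ₜ[A] ι κ₀) := by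
      calc w = (∑ j, E j) * w := by rw [hEsum, one_mul]
        _ = ∑ j, E j * ((1 : B) ⊗ₜ[A]
              (∏ i ∈ Finset.univ.erase (0 : ZMod p), (- ι (j + i)))) := by
            rw [Finset.sum_mul]
            exact Finset.sum_congr rfl fun j _ => hEw j
        _ = E 0 * ((1 : B) ⊗ₜ[A]
              (∏ i ∈ Finset.univ.erase (0 : ZMod p), (- ι (0 + i)))) := by
            apply Finset.sum_eq_single (0 : ZMod p)
            · intro j _ hj
              have h1 : ∏ i ∈ Finset.univ.erase (0 : ZMod p), (- ι (j + i)) = 0 := by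
                apply Finset.prod_eq_zero (i := -j)
                · exact Finset.mem_erase.mpr ⟨neg_ne_zero.mpr hj, Finset.mem_univ _⟩
                · rw [add_neg_cancel, map_zero, neg_zero]
              rw [h1, TensorProduct.tmul_zero, mul_zero]
            · intro h; exact absurd (Finset.mem_univ _) h
        _ = e * ((1 : B) ⊗ₜ[A] ι κ₀) := by
            rw [hE0]
            congr 2
            simp only [zero_add, κ₀, map_prod, map_neg]
    have heS : e ∈ S := by
      have h1 : e = w * ((1 : B) ⊗ₜ[A] ι κ₀⁻¹) := by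
        rw [hw, mul_assoc, Algebra.TensorProduct.tmul_mul_tmul, one_mul, ← map_mul,
          mul_inv_cancel₀ hκ₀, map_one, ← Algebra.TensorProduct.one_def, mul_one]
      rw [h1]
      exact S.mul_mem hwS (hS2 _ (hιC _))
    have hμΛ : ∀ z : B ⊗[A] B, ∑ l, u l * Lam (lam l) z = Algebra.TensorProduct.lmul' A z := by
      intro z
      induction z using TensorProduct.induction_on with
      | zero => simp
      | tmul x y =>
        rw [Algebra.TensorProduct.lmul'_apply_tmul]
        conv_rhs => rw [hdual x, Finset.sum_mul]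
        refine Finset.sum_congr rfl fun l _ => ?_
        rw [Lam_tmul, mul_smul_comm, smul_mul_assoc]
      | add z w hz hw =>
        simp only [map_add, mul_add, Finset.sum_add_distrib, hz, hw]
    intro b
    have hb : b ∈ C' := by
      have h1 : b = ∑ l, Lam (lam l) (e * ((u l * b) ⊗ₜ[A] (1 : B))) := by
        have h2 : ∀ l, Lam (lam l) (e * ((u l * b) ⊗ₜ[A] (1 : B))) =
            u l * Lam (lam l) e * b := by
          intro l
          rw [mul_comm e, ← he, mul_comm _ e, Lam_mul_right]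
          ring
        simp only [h2]
        rw [← Finset.sum_mul, hμΛ, hμ, one_mul]
      rw [h1]
      exact C'.sum_mem fun l _ => hSΛ _ (S.mul_mem heS (hS1 _)) _
    exact hb
  -- injectivity
  have hinjΦ : Function.Injective Φ := by
    rw [injective_iff_map_eq_zero]
    intro x hx
    obtain ⟨f, rfl⟩ := Ideal.Quotient.mk_surjective x
    set m : Polynomial A := (Polynomial.X : Polynomial A) ^ p - Polynomial.X - Polynomial.C a
      with hm_def
    have hp1 : 1 < p := (Fact.out : p.Prime).one_lt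
    have hm' : m = Polynomial.X ^ p - (Polynomial.X + Polynomial.C a) := by
      rw [hm_def, sub_sub]
    haveI : Nontrivial A := CharP.nontrivial_of_char_ne_one (Fact.out : p.Prime).ne_one
    have hdegq : (Polynomial.X + Polynomial.C a : Polynomial A).degree < (p : WithBot ℕ) := by
      rw [Polynomial.degree_X_add_C]
      exact_mod_cast hp1
    have hmon : m.Monic := by rw [hm']; exact Polynomial.monic_X_pow_sub hdegq
    have hdeg : m.natDegree = p := by
      rw [hm', Polynomial.natDegree_sub_eq_left_of_natDegree_lt, Polynomial.natDegree_X_pow]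
      rw [Polynomial.natDegree_X_pow, Polynomial.natDegree_X_add_C]
      exact hp1
    have hm1 : m ≠ 1 := by
      intro h1
      rw [h1, Polynomial.natDegree_one] at hdeg
      omega
    set r := f %ₘ m with hr
    have hfr : Ideal.Quotient.mk (Ideal.span {m}) f = Ideal.Quotient.mk _ r := by
      rw [Ideal.Quotient.eq, Ideal.mem_span_singleton]
      refine ⟨f /ₘ m, ?_⟩
      have h1 := Polynomial.modByMonic_add_div f m
      rw [← hr] at h1
      linear_combination (-1 : Polynomial A) * h1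
    have hx' : Polynomial.aeval t r = 0 := by
      have h1 : Φ (Ideal.Quotient.mk _ r) = 0 := by rw [← hfr]; exact hx
      exact h1
    have hrdeg : r.natDegree < p := by
      have h1 := Polynomial.natDegree_modByMonic_lt f hmon hm1
      rw [hdeg] at h1
      exact h1
    have hall : ∀ j : ZMod p, Polynomial.aeval (t + ι j) r = 0 := by
      intro j
      rw [← hσt, Polynomial.aeval_algHom_apply, hx', map_zero]
    let v : Fin p → B := fun k => t + ι (ZMod.finEquiv p k)
    let wv : Fin p → B := fun i => algebraMap A B (r.coeff i)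
    have hVw : (Matrix.vandermonde v).mulVec wv = (Matrix.vandermonde v).mulVec 0 := by
      rw [Matrix.mulVec_zero]
      ext k
      have h1 := hall (ZMod.finEquiv p k)
      rw [Polynomial.aeval_eq_sum_range' hrdeg, Finset.sum_range] at h1
      rw [Pi.zero_apply, ← h1]
      simp only [Matrix.mulVec, dotProduct, Matrix.vandermonde_apply]
      refine Finset.sum_congr rfl fun i _ => ?_
      rw [Algebra.smul_def, mul_comm]
    have hdet : IsUnit (Matrix.vandermonde v).det := by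
      rw [Matrix.det_vandermonde]
      refine Finset.prod_induction _ IsUnit (fun _ _ => IsUnit.mul) isUnit_one fun i _ => ?_
      refine Finset.prod_induction _ IsUnit (fun _ _ => IsUnit.mul) isUnit_one fun j hj => ?_
      have h1 : v j - v i = ι (ZMod.finEquiv p j - ZMod.finEquiv p i) := by
        simp only [v, map_sub]; ring
      rw [h1]
      apply IsUnit.map
      apply Ne.isUnit
      rw [sub_ne_zero]
      intro h2
      have h3 := (ZMod.finEquiv p).injective h2
      rw [Finset.mem_Ioi] at hj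
      exact (ne_of_gt hj) h3
    have hwv : wv = 0 :=
      Matrix.mulVec_injective_of_isUnit ((Matrix.isUnit_iff_isUnit_det _).mpr hdet) hVw
    have hr0 : r = 0 := by
      ext i
      rw [Polynomial.coeff_zero]
      by_cases hi : i < p
      · have h1 : algebraMap A B (r.coeff i) = 0 := congrFun hwv ⟨i, hi⟩
        exact hinj (by rw [h1, map_zero])
      · exact Polynomial.coeff_eq_zero_of_natDegree_lt (lt_of_lt_of_le hrdeg (not_lt.mp hi))
    rw [hfr, hr0, map_zero]
  exact ⟨a, AlgEquiv.ofBijective Φ ⟨hinjΦ, hsurj⟩, fun j x => hΦeq j x⟩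

end Groth.Agent.H87.ASTorsor
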