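import Mathlib.RingTheory.AdicCompletion.Basic

set_option autoImplicit false
universe u v w

namespace Groth.Agent.H87

open Submodule

variable {A : Type u} [CommRing A] (I : Ideal A) (M : Type v) [AddCommGroup M] [Module A M]

/-- `J • ⊤ = ⊥` in the quotient `M ⧸ J • ⊤`. -/
theorem smul_top_quotient_eq_bot (J : Ideal A) :
    (J • ⊤ : Submodule A (M ⧸ (J • ⊤ : Submodule A M))) = ⊥ := by
  rw [eq_bot_iff]
  intro x hx
  refine Submodule.smul_induction_on hx (fun r hr y _ => ?_) (fun x y hx hy => ?_)
  · induction y using Submodule.Quotient.induction_on with | _ y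
    rw [Submodule.mem_bot, ← Submodule.Quotient.mk_smul, Submodule.Quotient.mk_eq_zero]
    exact Submodule.smul_mem_smul hr Submodule.mem_top
  · exact Submodule.add_mem _ hx hy

/-- A linear map to `N ⧸ J • ⊤` kills `J • ⊤`. -/
theorem apply_eq_zero_of_mem_smul_top {N : Type w} [AddCommGroup N] [Module A N] (J : Ideal A)
    (φ : M →ₗ[A] N ⧸ (J • ⊤ : Submodule A N)) {x : M} (hx : x ∈ (J • ⊤ : Submodule A M)) :
    φ x = 0 := by
  have h := Submodule.smul_top_le_comap_smul_top J φ hx
  rw [Submodule.mem_comap, smul_top_quotient_eq_bot] at h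
  exact h

/-- The map `M^ ⧸ I^n M^ → M ⧸ I^n M` induced by evaluation. -/
noncomputable def evalQ (n : ℕ) :
    (AdicCompletion I M ⧸ (I ^ n • ⊤ : Submodule A (AdicCompletion I M))) →ₗ[A]
      M ⧸ (I ^ n • ⊤ : Submodule A M) :=
  Submodule.liftQ _ (AdicCompletion.eval I M n) (fun _ hx => by
    rw [LinearMap.mem_ker]
    exact apply_eq_zero_of_mem_smul_top (AdicCompletion I M) (I ^ n) _ hx)

@[simp] theorem evalQ_mk (n : ℕ) (x : AdicCompletion I M) :
    evalQ I M n (Submodule.Quotient.mk x) = x.val n := rfl

@[simp] theorem evalQ_mkQ (n : ℕ) (x : AdicCompletion I M) :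
    evalQ I M n (Submodule.mkQ _ x) = x.val n := rfl

theorem transitionMap_comp_evalQ {m n : ℕ} (hle : m ≤ n) :
    AdicCompletion.transitionMap I M hle ∘ₗ evalQ I M n =
      evalQ I M m ∘ₗ AdicCompletion.transitionMap I (AdicCompletion I M) hle := by
  apply Submodule.linearMap_qext
  ext x
  simp only [LinearMap.coe_comp, Function.comp_apply, Submodule.mkQ_apply, evalQ_mk]
  rw [AdicCompletion.transitionMap_comp_eval_apply]
  rfl

/-- The retraction of `M^ → M^^`. -/
noncomputable def retract :
    AdicCompletion I (AdicCompletion I M) →ₗ[A] AdicCompletion I M :=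
  AdicCompletion.lift I
    (fun n => evalQ I M n ∘ₗ AdicCompletion.eval I (AdicCompletion I M) n)
    (fun {m n} hle => by
      rw [← LinearMap.comp_assoc, transitionMap_comp_evalQ, LinearMap.comp_assoc,
        AdicCompletion.transitionMap_comp_eval])

theorem retract_val (x : AdicCompletion I (AdicCompletion I M)) (n : ℕ) :
    (retract I M x).val n = evalQ I M n (x.val n) := rfl

theorem retract_comp_of :
    retract I M ∘ₗ AdicCompletion.of I (AdicCompletion I M) = LinearMap.id := by
  ext x n
  simp only [LinearMap.coe_comp, Function.comp_apply, LinearMap.id_coe, id_eq, retract_val,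
    AdicCompletion.of_apply, evalQ_mkQ]

end Groth.Agent.H87
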