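import Groth.Agent.H87.Decaying
import Groth.Agent.H87.AdicAux
import Mathlib.Algebra.BigOperators.Finprod

set_option autoImplicit false
universe u v w

namespace Groth.Agent.H87

open W4c5adicflatcompl Function

variable {A : Type u} [CommRing A] (I : Ideal A) {Z : Type v} {M : Type w}
  [AddCommGroup M] [Module A M]

theorem mem_pow_of_mem_smul_top {a : A} {n : ℕ} (h : a ∈ (I ^ n • ⊤ : Submodule A A)) :
    a ∈ I ^ n := by
  simpa using h

theorem smul_mem_of_mem_smul_top {a : A} {n : ℕ} (h : a ∈ (I ^ n • ⊤ : Submodule A A)) (m : M) :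
    a • m ∈ (I ^ n • ⊤ : Submodule A M) :=
  Submodule.smul_mem_smul (mem_pow_of_mem_smul_top I h) Submodule.mem_top

/-- the terms of the sum `∑ g z • f z` modulo `I ^ n` have finite support -/
theorem hasFiniteSupport_mkQ_smul (f : Z → M) (g : decaying I Z A) (n : ℕ) :
    HasFiniteSupport fun z => Submodule.mkQ (I ^ n • ⊤ : Submodule A M) ((g : Z → A) z • f z) := by
  refine (g.2 n).subset ?_
  intro z hz h
  apply hz
  simp only [Submodule.mkQ_apply, Submodule.Quotient.mk_eq_zero]
  exact smul_mem_of_mem_smul_top I h (f z)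

/-- The sum `∑ g z • f z` modulo `I ^ n`. -/
noncomputable def decSumQ (f : Z → M) (n : ℕ) :
    decaying I Z A →ₗ[A] M ⧸ (I ^ n • ⊤ : Submodule A M) where
  toFun g := ∑ᶠ z, Submodule.mkQ (I ^ n • ⊤ : Submodule A M) ((g : Z → A) z • f z)
  map_add' g g' := by
    rw [← finsum_add_distrib (hasFiniteSupport_mkQ_smul I f g n)
      (hasFiniteSupport_mkQ_smul I f g' n)]
    congr 1
    funext z
    simp [add_smul]
  map_smul' a g := by
    rw [RingHom.id_apply, smul_finsum' a (hasFiniteSupport_mkQ_smul I f g n)]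
    congr 1
    funext z
    simp [mul_smul]

theorem decSumQ_apply (f : Z → M) (n : ℕ) (g : decaying I Z A) :
    decSumQ I f n g = ∑ᶠ z, Submodule.mkQ (I ^ n • ⊤ : Submodule A M) ((g : Z → A) z • f z) := rfl

theorem decSumQ_eq_sum (f : Z → M) (n : ℕ) (g : decaying I Z A) (S : Finset Z)
    (hS : ∀ z, z ∉ S → (g : Z → A) z • f z ∈ (I ^ n • ⊤ : Submodule A M)) :
    decSumQ I f n g = Submodule.mkQ (I ^ n • ⊤ : Submodule A M) (∑ z ∈ S, (g : Z → A) z • f z) := by
  rw [decSumQ_apply, map_sum]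
  apply finsum_eq_sum_of_support_subset
  intro z hz
  by_contra hzS
  apply hz
  simp only [Submodule.mkQ_apply, Submodule.Quotient.mk_eq_zero]
  exact hS z hzS

theorem factorPow_comp_decSumQ (f : Z → M) {m n : ℕ} (hle : m ≤ n) :
    Submodule.factorPow I M hle ∘ₗ decSumQ I f n = decSumQ I f m := by
  ext g
  simp only [LinearMap.coe_comp, Function.comp_apply, decSumQ_apply]
  rw [map_finsum _ (hasFiniteSupport_mkQ_smul I f g n)]
  rfl

/-- The convergent sum `g ↦ ∑ g z • f z` for a complete module. -/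
noncomputable def decSum [IsAdicComplete I M] (f : Z → M) : decaying I Z A →ₗ[A] M :=
  IsAdicComplete.lift I (decSumQ I f) (fun hle => factorPow_comp_decSumQ I f hle)

theorem mk_decSum [IsAdicComplete I M] (f : Z → M) (n : ℕ) (g : decaying I Z A) :
    (Submodule.Quotient.mk (decSum I f g) : M ⧸ (I ^ n • ⊤ : Submodule A M)) = decSumQ I f n g :=
  IsAdicComplete.mk_lift I _ n g

theorem decSum_sub_sum_mem [IsAdicComplete I M] (f : Z → M) (n : ℕ) (g : decaying I Z A)
    (S : Finset Z) (hS : ∀ z, z ∉ S → (g : Z → A) z • f z ∈ (I ^ n • ⊤ : Submodule A M)) :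
    decSum I f g - ∑ z ∈ S, (g : Z → A) z • f z ∈ (I ^ n • ⊤ : Submodule A M) := by
  rw [← Submodule.Quotient.eq, mk_decSum, decSumQ_eq_sum I f n g S hS]
  rfl

/-- a canonical finite set outside of which `g z ∈ I ^ n`. -/
theorem exists_finset_of_decaying (g : decaying I Z M) (n : ℕ) :
    ∃ S : Finset Z, ∀ z, z ∉ S → (g : Z → M) z ∈ (I ^ n • ⊤ : Submodule A M) := by
  refine ⟨(g.2 n).toFinset, fun z hz => ?_⟩
  by_contra h
  exact hz ((g.2 n).mem_toFinset.2 h)

end Groth.Agent.H87
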