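import Groth.Agent.H87.DecayingNoeth
import Groth.Agent.H87.DecayingSum

set_option autoImplicit false
universe u v w

namespace Groth.Agent.H87

open W4c5adicflatcompl

variable {A : Type u} [CommRing A] (I : Ideal A) {Z : Type v} {M : Type w}
  [AddCommGroup M] [Module A M]

theorem exists_coeff_of_mem_span_smul {r : ℕ} (gen : Fin r → A) (N : Submodule A M) {x : M}
    (hx : x ∈ Ideal.span (Set.range gen) • N) :
    ∃ c : Fin r → M, (∀ i, c i ∈ N) ∧ x = ∑ i, gen i • c i := by
  refine Submodule.smul_induction_on hx (fun a ha y hy => ?_) (fun x y hx hy => ?_)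
  · obtain ⟨b, rfl⟩ := Ideal.mem_span_range_iff_exists_fun.1 ha
    refine ⟨fun i => b i • y, fun i => N.smul_mem _ hy, ?_⟩
    rw [Finset.sum_smul]
    refine Finset.sum_congr rfl (fun i _ => ?_)
    rw [smul_smul, mul_comm]
  · obtain ⟨c, hc, rfl⟩ := hx
    obtain ⟨c', hc', rfl⟩ := hy
    refine ⟨fun i => c i + c' i, fun i => N.add_mem (hc i) (hc' i), ?_⟩
    simp [smul_add, Finset.sum_add_distrib]

/-- If `gen` generates `I ^ n`, elements of `I ^ (n + k) • M` are combinations of the `gen i` with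
coefficients in `I ^ k • M`. -/
theorem exists_coeff_of_mem_pow_add_smul {r : ℕ} (gen : Fin r → A) {n : ℕ}
    (hgen : Ideal.span (Set.range gen) = I ^ n) (k : ℕ) {x : M}
    (hx : x ∈ (I ^ (n + k) • ⊤ : Submodule A M)) :
    ∃ c : Fin r → M, (∀ i, c i ∈ (I ^ k • ⊤ : Submodule A M)) ∧ x = ∑ i, gen i • c i := by
  apply exists_coeff_of_mem_span_smul gen
  rw [hgen, ← mul_smul, ← pow_add]
  exact hx

theorem exists_coeff_forall_pow_smul (h : (⨅ i : ℕ, I ^ i • ⊤ : Submodule A M) = ⊥)
    {r : ℕ} (gen : Fin r → A) {n : ℕ}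
    (hgen : Ideal.span (Set.range gen) = I ^ n) {x : M} (hx : x ∈ (I ^ n • ⊤ : Submodule A M)) :
    ∃ c : Fin r → M, x = ∑ i, gen i • c i ∧
      ∀ k : ℕ, x ∈ (I ^ (n + k) • ⊤ : Submodule A M) → ∀ i, c i ∈ (I ^ k • ⊤ : Submodule A M) := by
  by_cases hx0 : x = 0
  · exact ⟨0, by simp [hx0], fun k _ i => by simp⟩
  · obtain ⟨N, hN, hmax⟩ := exists_max_pow_of_iInf_eq_bot I h x hx0
    have hnN : n ≤ N := hmax n hx
    obtain ⟨k₀, rfl⟩ := Nat.exists_eq_add_of_le hnN
    obtain ⟨c, hc, hxc⟩ := exists_coeff_of_mem_pow_add_smul I gen hgen k₀ hN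
    refine ⟨c, hxc, fun k hk i => ?_⟩
    have : n + k ≤ n + k₀ := hmax _ hk
    exact Submodule.pow_smul_top_le I M (by omega) (hc i)

/-- A decaying function with values in `I ^ n • M` lies in `I ^ n • ⊤` (for `I ^ n` finitely
generated and `M` separated). -/
theorem mem_pow_smul_top_decaying_of_forall_mem_smul (n : ℕ) (hfg : (I ^ n).FG)
    (h : (⨅ i : ℕ, I ^ i • ⊤ : Submodule A M) = ⊥) (f : decaying I Z M)
    (hf : ∀ z, (f : Z → M) z ∈ (I ^ n • ⊤ : Submodule A M)) :
    f ∈ (I ^ n • ⊤ : Submodule A (decaying I Z M)) := by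
  obtain ⟨r, gen, hgen⟩ := Submodule.fg_iff_exists_fin_generating_family.1 hfg
  choose c hc1 hc2 using fun z => exists_coeff_forall_pow_smul I h gen hgen (hf z)
  have hdec : ∀ i, (fun z => c z i) ∈ decaying I Z M := by
    intro i k
    refine (f.2 (n + k)).subset ?_
    intro z hz hmem
    exact hz (hc2 z k hmem i)
  have hsum : f = ∑ i, gen i • (⟨fun z => c z i, hdec i⟩ : decaying I Z M) := by
    apply Subtype.ext
    funext z
    rw [Submodule.coe_sum, Finset.sum_apply, hc1 z]
    rfl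
  rw [hsum]
  refine Submodule.sum_mem _ (fun i _ => Submodule.smul_mem_smul ?_ Submodule.mem_top)
  rw [← hgen]
  exact Ideal.subset_span (Set.mem_range_self i)

theorem mem_pow_smul_top_decaying_iff_smul (n : ℕ) (hfg : (I ^ n).FG)
    (h : (⨅ i : ℕ, I ^ i • ⊤ : Submodule A M) = ⊥) (f : decaying I Z M) :
    f ∈ (I ^ n • ⊤ : Submodule A (decaying I Z M)) ↔
      ∀ z, (f : Z → M) z ∈ (I ^ n • ⊤ : Submodule A M) :=
  ⟨fun h z => decaying_apply_mem h z, mem_pow_smul_top_decaying_of_forall_mem_smul I n hfg h f⟩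

theorem iInf_eq_bot_of_isHausdorff [IsHausdorff I M] :
    (⨅ i : ℕ, I ^ i • ⊤ : Submodule A M) = ⊥ := by
  rw [eq_bot_iff]
  intro x hx
  rw [Submodule.mem_iInf] at hx
  rw [Submodule.mem_bot]
  exact IsHausdorff.haus' x (fun n => SModEq.zero.2 (hx n))

/-- decaying functions to a complete module form a complete module (when powers of `I` are
finitely generated). -/
theorem isAdicComplete_decaying (hfg : ∀ n, (I ^ n).FG) [IsAdicComplete I M] :
    IsAdicComplete I (decaying I Z M) := by
  have hbot := iInf_eq_bot_of_isHausdorff I (M := M)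
  have hH : IsHausdorff I (decaying I Z M) := by
    refine ⟨fun f hf => ?_⟩
    apply Subtype.ext
    funext z
    apply IsHausdorff.haus' (I := I)
    intro n
    have h := hf n
    rw [SModEq.zero] at h ⊢
    exact decaying_apply_mem h z
  have hP : IsPrecomplete I (decaying I Z M) := by
    refine ⟨fun F hF => ?_⟩
    have hpt : ∀ z : Z, ∀ {m n : ℕ}, m ≤ n →
        (F m : Z → M) z ≡ (F n : Z → M) z [SMOD (I ^ m • ⊤ : Submodule A M)] := by
      intro z m n hmn
      have h := hF hmn
      rw [SModEq.sub_mem] at h ⊢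
      exact decaying_apply_mem h z
    choose L hL using fun z => IsPrecomplete.prec' (I := I) (fun n => (F n : Z → M) z) (hpt z)
    have hLdec : L ∈ decaying I Z M := by
      intro k
      refine ((F k).2 k).subset ?_
      intro z hz h
      apply hz
      have h1 := hL z k
      rw [SModEq.sub_mem] at h1
      have : L z = (F k : Z → M) z - ((F k : Z → M) z - L z) := by abel
      rw [this]
      exact Submodule.sub_mem _ h h1
    refine ⟨⟨L, hLdec⟩, fun n => ?_⟩
    rw [SModEq.sub_mem, mem_pow_smul_top_decaying_iff_smul I n (hfg n) hbot]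
    intro z
    have h1 := hL z n
    rw [SModEq.sub_mem] at h1
    exact h1
  exact { toIsHausdorff := hH, toIsPrecomplete := hP }

end Groth.Agent.H87
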