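import Groth.Prelude.Def_W4c5adicflatcomplDec
import Mathlib.RingTheory.AdicCompletion.Basic

set_option autoImplicit false
universe u v w

namespace Groth.Agent.H87

open W4c5adicflatcompl

variable {A : Type u} [CommRing A] (I : Ideal A) (Z : Type v) (M : Type w)
  [AddCommGroup M] [Module A M]

/-- Evaluation at `z` as a linear map on decaying functions. -/
def decEval (z : Z) : decaying I Z M →ₗ[A] M :=
  (LinearMap.proj z).comp (decaying I Z M).subtype

@[simp] theorem decEval_apply (z : Z) (f : decaying I Z M) :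
    decEval I Z M z f = (f : Z → M) z := rfl

variable {I Z M}

theorem map_mem_smul_top {N : Type*} [AddCommGroup N] [Module A N] (J : Ideal A)
    (φ : M →ₗ[A] N) {x : M} (hx : x ∈ (J • ⊤ : Submodule A M)) :
    φ x ∈ (J • ⊤ : Submodule A N) :=
  Submodule.smul_top_le_comap_smul_top J φ hx

theorem decaying_apply_mem {f : decaying I Z M} {n : ℕ}
    (hf : f ∈ (I ^ n • ⊤ : Submodule A (decaying I Z M))) (z : Z) :
    (f : Z → M) z ∈ (I ^ n • ⊤ : Submodule A M) :=
  map_mem_smul_top (I ^ n) (decEval I Z M z) hf

end Groth.Agent.H87
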