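import Groth.Agent.H87.AdicAux
import Groth.Agent.H87.Decaying

set_option autoImplicit false
universe u v w

namespace Groth.Agent.H87

open Submodule

variable {A : Type u} [CommRing A] (I : Ideal A) (M : Type v) [AddCommGroup M] [Module A M]

/-- Elements of `I ^ n • M^` have vanishing `n`-th component. -/
theorem val_eq_zero_of_mem_smul_top {n : ℕ} {x : AdicCompletion I M}
    (hx : x ∈ (I ^ n • ⊤ : Submodule A (AdicCompletion I M))) : x.val n = 0 :=
  apply_eq_zero_of_mem_smul_top (AdicCompletion I M) (I ^ n) (AdicCompletion.eval I M n) hx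

/-- `of y ∈ I ^ n • M^` as soon as `y ∈ I ^ n • M`. -/
theorem of_mem_smul_top {n : ℕ} {y : M} (hy : y ∈ (I ^ n • ⊤ : Submodule A M)) :
    AdicCompletion.of I M y ∈ (I ^ n • ⊤ : Submodule A (AdicCompletion I M)) :=
  map_mem_smul_top (I ^ n) (AdicCompletion.of I M) hy

/-- If `M^` is precomplete, every element is congruent to some `of y` modulo `I ^ n • M^`. -/
theorem exists_of_sub_mem_of_isPrecomplete [IsPrecomplete I (AdicCompletion I M)] (n : ℕ)
    (x : AdicCompletion I M) :
    ∃ y : M, x - AdicCompletion.of I M y ∈ (I ^ n • ⊤ : Submodule A (AdicCompletion I M)) := by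
  choose y hy using fun m => Submodule.mkQ_surjective (I ^ m • ⊤ : Submodule A M) (x.val m)
  have hcauchy : ∀ {m m' : ℕ}, m ≤ m' → AdicCompletion.of I M (y m) ≡ AdicCompletion.of I M (y m')
      [SMOD (I ^ m • ⊤ : Submodule A (AdicCompletion I M))] := by
    intro m m' hmm'
    rw [SModEq.sub_mem, ← map_sub]
    apply of_mem_smul_top
    rw [← Submodule.Quotient.mk_eq_zero, Submodule.Quotient.mk_sub, sub_eq_zero]
    have h1 : (Submodule.Quotient.mk (y m) : M ⧸ (I ^ m • ⊤ : Submodule A M)) = x.val m := hy m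
    have h2 : (Submodule.Quotient.mk (y m') : M ⧸ (I ^ m • ⊤ : Submodule A M)) = x.val m := by
      rw [← AdicCompletion.transitionMap_comp_eval_apply I M hmm' x, ← hy m']
      rfl
    rw [h1, h2]
  obtain ⟨L, hL⟩ := IsPrecomplete.prec' (I := I) (fun m => AdicCompletion.of I M (y m)) hcauchy
  have hLx : L = x := by
    apply AdicCompletion.ext
    intro m
    have h := hL m
    rw [SModEq.sub_mem] at h
    have h0 := val_eq_zero_of_mem_smul_top I M h
    rw [AdicCompletion.val_sub_apply, sub_eq_zero] at h0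
    rw [← h0, AdicCompletion.of_apply]
    exact hy m
  refine ⟨y n, ?_⟩
  have h := hL n
  rw [SModEq.sub_mem, hLx] at h
  have : x - AdicCompletion.of I M (y n) = -(AdicCompletion.of I M (y n) - x) := by abel
  rw [this]
  exact Submodule.neg_mem _ h

variable {I M}

/-- Under the approximation hypothesis, the kernel of the `n`-th evaluation is `I ^ n • M^`. -/
theorem mem_smul_top_of_val_eq_zero
    (H : ∀ (n : ℕ) (x : AdicCompletion I M), ∃ y : M,
      x - AdicCompletion.of I M y ∈ (I ^ n • ⊤ : Submodule A (AdicCompletion I M)))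
    {n : ℕ} {x : AdicCompletion I M} (hx : x.val n = 0) :
    x ∈ (I ^ n • ⊤ : Submodule A (AdicCompletion I M)) := by
  obtain ⟨y, hy⟩ := H n x
  have h0 := val_eq_zero_of_mem_smul_top I M hy
  rw [AdicCompletion.val_sub_apply, hx, zero_sub, neg_eq_zero, AdicCompletion.of_apply,
    Submodule.mkQ_apply, Submodule.Quotient.mk_eq_zero] at h0
  have : x = (x - AdicCompletion.of I M y) + AdicCompletion.of I M y := by abel
  rw [this]
  exact Submodule.add_mem _ hy (of_mem_smul_top I M h0)

theorem isPrecomplete_of_approx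
    (H : ∀ (n : ℕ) (x : AdicCompletion I M), ∃ y : M,
      x - AdicCompletion.of I M y ∈ (I ^ n • ⊤ : Submodule A (AdicCompletion I M))) :
    IsPrecomplete I (AdicCompletion I M) := by
  refine ⟨fun F hF => ?_⟩
  have hcompat : ∀ {m n : ℕ} (hmn : m ≤ n),
      AdicCompletion.transitionMap I M hmn ((F n).val n) = (F m).val m := by
    intro m n hmn
    rw [AdicCompletion.transitionMap_comp_eval_apply]
    have h := hF hmn
    rw [SModEq.sub_mem] at h
    have h0 := val_eq_zero_of_mem_smul_top I M h
    rw [AdicCompletion.val_sub_apply, sub_eq_zero] at h0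
    exact h0.symm
  refine ⟨⟨fun n => (F n).val n, fun hmn => hcompat hmn⟩, fun n => ?_⟩
  rw [SModEq.sub_mem]
  apply mem_smul_top_of_val_eq_zero H
  rw [AdicCompletion.val_sub_apply, sub_eq_zero]

end Groth.Agent.H87
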