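import Groth.Agent.H87.DecayingMod
import Groth.Agent.H87.AdicComplete
import Mathlib.RingTheory.AdicCompletion.Functoriality
import Mathlib.RingTheory.AdicCompletion.Completeness

set_option autoImplicit false
universe u v w w'

namespace Groth.Agent.H87

open W4c5adicflatcompl Function

variable {A : Type u} [CommRing A] (I : Ideal A) {Z : Type v} {M : Type w} {N : Type w'}
  [AddCommGroup M] [Module A M] [AddCommGroup N] [Module A N]

/-- finite support of the terms of `∑ a z (g z)` modulo `I ^ n` -/
theorem hasFiniteSupport_mkQ_apply (a : Z → N →ₗ[A] M) (g : decaying I Z N) (n : ℕ) :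
    HasFiniteSupport fun z => Submodule.mkQ (I ^ n • ⊤ : Submodule A M) (a z ((g : Z → N) z)) := by
  refine (g.2 n).subset ?_
  intro z hz h
  apply hz
  simp only [Submodule.mkQ_apply, Submodule.Quotient.mk_eq_zero]
  exact map_mem_smul_top (I ^ n) (a z) h

/-- The sum `∑ a z (g z)` modulo `I ^ n`. -/
noncomputable def decSumLQ (a : Z → N →ₗ[A] M) (n : ℕ) :
    decaying I Z N →ₗ[A] M ⧸ (I ^ n • ⊤ : Submodule A M) where
  toFun g := ∑ᶠ z, Submodule.mkQ (I ^ n • ⊤ : Submodule A M) (a z ((g : Z → N) z))
  map_add' g g' := by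
    rw [← finsum_add_distrib (hasFiniteSupport_mkQ_apply I a g n)
      (hasFiniteSupport_mkQ_apply I a g' n)]
    congr 1
    funext z
    simp
  map_smul' c g := by
    rw [RingHom.id_apply, smul_finsum' c (hasFiniteSupport_mkQ_apply I a g n)]
    congr 1
    funext z
    simp

theorem decSumLQ_apply (a : Z → N →ₗ[A] M) (n : ℕ) (g : decaying I Z N) :
    decSumLQ I a n g =
      ∑ᶠ z, Submodule.mkQ (I ^ n • ⊤ : Submodule A M) (a z ((g : Z → N) z)) := rfl

theorem decSumLQ_eq_sum (a : Z → N →ₗ[A] M) (n : ℕ) (g : decaying I Z N) (S : Finset Z)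
    (hS : ∀ z, z ∉ S → (g : Z → N) z ∈ (I ^ n • ⊤ : Submodule A N)) :
    decSumLQ I a n g =
      Submodule.mkQ (I ^ n • ⊤ : Submodule A M) (∑ z ∈ S, a z ((g : Z → N) z)) := by
  rw [decSumLQ_apply, map_sum]
  apply finsum_eq_sum_of_support_subset
  intro z hz
  by_contra hzS
  apply hz
  simp only [Submodule.mkQ_apply, Submodule.Quotient.mk_eq_zero]
  exact map_mem_smul_top (I ^ n) (a z) (hS z hzS)

theorem factorPow_comp_decSumLQ (a : Z → N →ₗ[A] M) {m n : ℕ} (hle : m ≤ n) :
    Submodule.factorPow I M hle ∘ₗ decSumLQ I a n = decSumLQ I a m := by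
  ext g
  simp only [LinearMap.coe_comp, Function.comp_apply, decSumLQ_apply]
  rw [map_finsum _ (hasFiniteSupport_mkQ_apply I a g n)]
  rfl

/-- The convergent sum `g ↦ ∑ a z (g z)` for a complete module. -/
noncomputable def decSumL [IsAdicComplete I M] (a : Z → N →ₗ[A] M) : decaying I Z N →ₗ[A] M :=
  IsAdicComplete.lift I (decSumLQ I a) (fun hle => factorPow_comp_decSumLQ I a hle)

theorem decSumL_sub_sum_mem [IsAdicComplete I M] (a : Z → N →ₗ[A] M) (n : ℕ) (g : decaying I Z N)
    (S : Finset Z) (hS : ∀ z, z ∉ S → (g : Z → N) z ∈ (I ^ n • ⊤ : Submodule A N)) :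
    decSumL I a g - ∑ z ∈ S, a z ((g : Z → N) z) ∈ (I ^ n • ⊤ : Submodule A M) := by
  rw [← Submodule.Quotient.eq]
  have : (Submodule.Quotient.mk (decSumL I a g) : M ⧸ (I ^ n • ⊤ : Submodule A M)) =
      decSumLQ I a n g := IsAdicComplete.mk_lift I _ n g
  rw [this, decSumLQ_eq_sum I a n g S hS]
  rfl

/-- `single` as a linear map. -/
def singleL [DecidableEq Z] (z : Z) : N →ₗ[A] decaying I Z N where
  toFun c := single I z c
  map_add' c c' := by
    apply Subtype.ext
    simp [Pi.single_add]
  map_smul' r c := by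
    apply Subtype.ext
    simp [Pi.single_smul]

@[simp] theorem singleL_apply [DecidableEq Z] (z : Z) (c : N) :
    singleL I (Z := Z) z c = single I z c := rfl

theorem eq_of_forall_sub_mem [IsHausdorff I M] {x y : M}
    (h : ∀ n : ℕ, x - y ∈ (I ^ n • ⊤ : Submodule A M)) : x = y := by
  rw [← sub_eq_zero]
  exact IsHausdorff.haus' (I := I) _ (fun n => SModEq.zero.2 (h n))

theorem decSumL_single [DecidableEq Z] [IsAdicComplete I M] (a : Z → N →ₗ[A] M) (z : Z) (c : N) :
    decSumL I a (single I z c) = a z c := by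
  apply eq_of_forall_sub_mem I
  intro n
  have := decSumL_sub_sum_mem I a n (single I z c) {z} (fun z' hz' => by
    have hne : z' ≠ z := by simpa using hz'
    simp [Pi.single_eq_of_ne hne])
  simpa using this

/-- A linear map killing all `single z c` is zero. -/
theorem eq_zero_of_forall_single [DecidableEq Z] (hfg : ∀ n, (I ^ n).FG) [IsHausdorff I N]
    [IsHausdorff I M] (ψ : decaying I Z N →ₗ[A] M) (h : ∀ z c, ψ (single I z c) = 0) : ψ = 0 := by
  ext g
  rw [LinearMap.zero_apply]
  apply eq_of_forall_sub_mem I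
  intro n
  rw [sub_zero]
  obtain ⟨S, hS⟩ := exists_finset_of_decaying I g n
  have hdiff : g - ∑ z ∈ S, single I z ((g : Z → N) z) ∈
      (I ^ n • ⊤ : Submodule A (decaying I Z N)) := by
    apply mem_pow_smul_top_decaying_of_forall_mem_smul I n (hfg n) (iInf_eq_bot_of_isHausdorff I)
    intro z
    rw [Submodule.coe_sub, Pi.sub_apply, Submodule.coe_sum, Finset.sum_apply]
    by_cases hz : z ∈ S
    · rw [Finset.sum_eq_single z]
      · simp
      · intro z' _ hne
        simp [Pi.single_eq_of_ne hne.symm]
      · intro h'; exact absurd hz h'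
    · rw [Finset.sum_eq_zero]
      · simpa using hS z hz
      · intro z' hz'
        have hne : z ≠ z' := fun e => hz (e ▸ hz')
        simp [Pi.single_eq_of_ne hne]
  have := map_mem_smul_top (I ^ n) ψ hdiff
  rw [map_sub, map_sum] at this
  simpa [h] using this

/-- the action map `Â → M`, `c ↦ c • m` for a complete module `M` -/
noncomputable def actL [IsAdicComplete I M] (m : M) : AdicCompletion I A →ₗ[A] M :=
  (AdicCompletion.ofLinearEquiv I M).symm.toLinearMap ∘ₗ
    ((AdicCompletion.map I (LinearMap.toSpanSingleton A M m)).restrictScalars A)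

theorem actL_one [IsAdicComplete I M] (m : M) : actL I m 1 = m := by
  have h1 : (1 : AdicCompletion I A) = AdicCompletion.of I A 1 := by
    apply AdicCompletion.ext; intro n; rfl
  simp only [actL, LinearMap.coe_comp, LinearEquiv.coe_coe, Function.comp_apply,
    LinearMap.coe_restrictScalars]
  rw [h1, AdicCompletion.map_of]
  simp

theorem of_eq_smul_one (a : A) : AdicCompletion.of I A a = a • (1 : AdicCompletion I A) := by
  apply AdicCompletion.ext; intro n
  rw [AdicCompletion.val_smul_apply]
  change Submodule.mkQ _ a = a • Submodule.mkQ _ (1 : A)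
  rw [← map_smul]
  congr 1
  simp

/-- For `A` with `I` finitely generated: a linear map out of `decaying I Z Â` into a separated
module that kills the `single z 1` is zero. -/
theorem eq_zero_of_forall_single_one [DecidableEq Z] (hfg : ∀ n, (I ^ n).FG) [IsHausdorff I M]
    (ψ : decaying I Z (AdicCompletion I A) →ₗ[A] M)
    (h : ∀ z, ψ (single I z (1 : AdicCompletion I A)) = 0) : ψ = 0 := by
  have hc : IsAdicComplete I (AdicCompletion I A) :=
    AdicCompletion.isAdicComplete (by simpa using hfg 1)
  apply eq_zero_of_forall_single I hfg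
  intro z c
  apply eq_of_forall_sub_mem I
  intro n
  rw [sub_zero]
  obtain ⟨a, ha⟩ := exists_of_sub_mem_of_isPrecomplete I A n c
  have hsplit : single I z c = singleL I z (c - AdicCompletion.of I A a) +
      a • single I z (1 : AdicCompletion I A) := by
    rw [of_eq_smul_one, map_sub, map_smul]
    simp
  rw [hsplit, map_add, map_smul, h z, smul_zero, add_zero]
  exact map_mem_smul_top (I ^ n) (ψ ∘ₗ singleL I z) ha

end Groth.Agent.H87
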