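import Groth.Agent.H87.FinsuppCompletion
import Groth.Agent.H87.DecayingMod
import Groth.Agent.H87.DecayingUniv
import Mathlib.RingTheory.AdicCompletion.Completeness
import Mathlib.RingTheory.TensorProduct.Basic

set_option autoImplicit false
universe u v w

namespace Groth.Agent.H87

open W4c5adicflatcompl TensorProduct

section compl

variable {R : Type u} [CommRing R] (J : Ideal R) {M : Type v} {N : Type w}
  [AddCommGroup M] [Module R M] [AddCommGroup N] [Module R N]

theorem map_bijective_of_approx (φ : M →ₗ[R] N)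
    (hinj : ∀ (n : ℕ) (x : M), φ x ∈ (J ^ n • ⊤ : Submodule R N) →
      x ∈ (J ^ n • ⊤ : Submodule R M))
    (hsurj : ∀ (n : ℕ) (y : N), ∃ x : M, y - φ x ∈ (J ^ n • ⊤ : Submodule R N)) :
    Function.Bijective (AdicCompletion.map J φ) := by
  constructor
  · rw [injective_iff_map_eq_zero]
    intro x hx
    apply AdicCompletion.ext
    intro n
    obtain ⟨m, hm⟩ := Submodule.Quotient.mk_surjective _ (x.val n)
    have h1 : (AdicCompletion.map J φ x).val n = 0 := by rw [hx]; rfl
    rw [AdicCompletion.map_val_apply, ← hm, LinearMap.reduceModIdeal_apply,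
      Submodule.Quotient.mk_eq_zero] at h1
    rw [← hm, AdicCompletion.val_zero_apply, Submodule.Quotient.mk_eq_zero]
    exact hinj n m h1
  · intro y
    choose yn hyn using fun n =>
      Submodule.Quotient.mk_surjective (J ^ n • ⊤ : Submodule R N) (y.val n)
    choose xn hxn using fun n => hsurj n (yn n)
    have hydiff : ∀ {a b : ℕ} (hab : a ≤ b), yn b - yn a ∈ (J ^ a • ⊤ : Submodule R N) := by
      intro a b hab
      rw [← Submodule.Quotient.mk_eq_zero, Submodule.Quotient.mk_sub, sub_eq_zero]
      have h1 : (Submodule.Quotient.mk (yn a) : N ⧸ (J ^ a • ⊤ : Submodule R N)) = y.val a :=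
        hyn a
      have h2 : (Submodule.Quotient.mk (yn b) : N ⧸ (J ^ a • ⊤ : Submodule R N)) = y.val a := by
        rw [← AdicCompletion.transitionMap_comp_eval_apply J N hab y, ← hyn b]
        rfl
      rw [h1, h2]
    have hxdiff : ∀ {a b : ℕ} (hab : a ≤ b), xn b - xn a ∈ (J ^ a • ⊤ : Submodule R M) := by
      intro a b hab
      apply hinj
      have hle : (J ^ b • ⊤ : Submodule R N) ≤ J ^ a • ⊤ :=
        Submodule.smul_mono_left (Ideal.pow_le_pow_right hab)
      have : φ (xn b - xn a) = (yn b - yn a) - (yn b - φ (xn b)) + (yn a - φ (xn a)) := by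
        rw [map_sub]; abel
      rw [this]
      exact Submodule.add_mem _ (Submodule.sub_mem _ (hydiff hab) (hle (hxn b))) (hxn a)
    let x : AdicCompletion J M := ⟨fun n => Submodule.Quotient.mk (xn n), fun {a b} hab => by
      show (Submodule.Quotient.mk (xn b) : M ⧸ (J ^ a • ⊤ : Submodule R M)) =
        Submodule.Quotient.mk (xn a)
      rw [Submodule.Quotient.eq]
      exact hxdiff hab⟩
    refine ⟨x, AdicCompletion.ext fun n => ?_⟩
    rw [AdicCompletion.map_val_apply]
    show (φ.reduceModIdeal (J ^ n)) (Submodule.Quotient.mk (xn n)) = y.val n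
    rw [LinearMap.reduceModIdeal_apply, ← hyn n, eq_comm, Submodule.Quotient.eq]
    exact hxn n

/-- the packaged form of the comparison between the completion of `Z →₀ M` and decaying
functions -/
noncomputable def finsuppCompEquiv (Z : Type*) [IsAdicComplete J (AdicCompletion J M)] :
    AdicCompletion J (Z →₀ M) ≃ₗ[R] decaying J Z (AdicCompletion J M) :=
  LinearEquiv.ofBijective
    (LinearMap.codRestrict (decaying J Z (AdicCompletion J M)) (finsuppCompMap J Z M)
      (fun x => by rw [← range_finsuppCompMap]; exact ⟨x, rfl⟩))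
    ⟨fun x y h => finsuppCompMap_injective J Z M (congrArg Subtype.val h), fun g => by
      have hg : (g : Z → AdicCompletion J M) ∈ LinearMap.range (finsuppCompMap J Z M) := by
        rw [range_finsuppCompMap]; exact g.2
      obtain ⟨x, hx⟩ := hg
      exact ⟨x, Subtype.ext hx⟩⟩

theorem apply_eq_zero_of_mem_smul_top' {T : Type*} [AddCommGroup T] [Module R T] (K : Ideal R)
    (ψ : T →ₗ[R] R ⧸ K) {x : T} (hx : x ∈ (K • ⊤ : Submodule R T)) : ψ x = 0 := by
  refine Submodule.smul_induction_on hx (fun c hc t _ => ?_)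
    (fun a b ha hb => by rw [map_add, ha, hb, add_zero])
  rw [map_smul, Algebra.smul_def, Ideal.Quotient.algebraMap_eq,
    Ideal.Quotient.eq_zero_iff_mem.2 hc, zero_mul]

end compl

section basechange

variable {A B : Type u} [CommRing A] [CommRing B] [Algebra A B]
  (I : Ideal A) (J : Ideal B) (hIJ : I.map (algebraMap A B) ≤ J) (Z : Type u)

include hIJ in
theorem algebraMap_mem_pow {n : ℕ} {a : A} (ha : a ∈ I ^ n) : algebraMap A B a ∈ J ^ n := by
  have h1 : algebraMap A B a ∈ (I ^ n).map (algebraMap A B) := Ideal.mem_map_of_mem _ ha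
  rw [Ideal.map_pow] at h1
  exact Ideal.pow_right_mono hIJ n h1

/-- reduction `Â → B / J ^ n` -/
noncomputable def redMap (n : ℕ) : AdicCompletion I A →ₗ[A] B ⧸ J ^ n :=
  (Submodule.liftQ (I ^ n • ⊤ : Submodule A A)
    ((Ideal.Quotient.mkₐ A (J ^ n)).toLinearMap ∘ₗ Algebra.linearMap A B) (by
      intro a ha
      have ha' : a ∈ I ^ n := mem_pow_of_mem_smul_top I ha
      rw [LinearMap.mem_ker]
      show Ideal.Quotient.mk (J ^ n) (algebraMap A B a) = 0
      exact Ideal.Quotient.eq_zero_iff_mem.2 (algebraMap_mem_pow I J hIJ ha'))) ∘ₗ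
    AdicCompletion.eval I A n

theorem redMap_of (n : ℕ) (a : A) :
    redMap I J hIJ n (AdicCompletion.of I A a) = Ideal.Quotient.mk (J ^ n) (algebraMap A B a) := by
  simp only [redMap, LinearMap.coe_comp, Function.comp_apply, AdicCompletion.eval_of]
  rfl

theorem redMap_one (n : ℕ) : redMap I J hIJ n (1 : AdicCompletion I A) = 1 := by
  have h1 : (1 : AdicCompletion I A) = AdicCompletion.of I A 1 := by
    rw [of_eq_smul_one, one_smul]
  rw [h1, redMap_of, map_one, map_one]

/-- coordinate functionals on the base change -/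
noncomputable def coordMap (z : Z) (n : ℕ) :
    B ⊗[A] decaying I Z (AdicCompletion I A) →ₗ[B] B ⧸ J ^ n :=
  (redMap I J hIJ n ∘ₗ decEval I Z (AdicCompletion I A) z).liftBaseChange B

theorem coordMap_tmul (z : Z) (n : ℕ) (b : B) (g : decaying I Z (AdicCompletion I A)) :
    coordMap I J hIJ Z z n (b ⊗ₜ[A] g) =
      b • redMap I J hIJ n ((g : Z → AdicCompletion I A) z) := by
  simp [coordMap]

open Classical in
/-- the comparison map from finitely supported functions -/
noncomputable def baseMap : (Z →₀ B) →ₗ[B] B ⊗[A] decaying I Z (AdicCompletion I A) :=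
  Finsupp.linearCombination B
    (fun z => (1 : B) ⊗ₜ[A] (single I z (1 : AdicCompletion I A)))

open Classical in
theorem baseMap_single (z : Z) (c : B) :
    baseMap I Z (Finsupp.single z c) =
      c ⊗ₜ[A] (single I z (1 : AdicCompletion I A)) := by
  rw [baseMap, Finsupp.linearCombination_single, TensorProduct.smul_tmul', smul_eq_mul, mul_one]

theorem coordMap_baseMap (z : Z) (n : ℕ) (f : Z →₀ B) :
    coordMap I J hIJ Z z n (baseMap I Z f) = Ideal.Quotient.mk (J ^ n) (f z) := by
  classical
  have h : (coordMap I J hIJ Z z n) ∘ₗ (baseMap I Z) =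
      (Ideal.Quotient.mkₐ B (J ^ n)).toLinearMap ∘ₗ (Finsupp.lapply z) := by
    apply Finsupp.lhom_ext
    intro z' c
    simp only [LinearMap.coe_comp, Function.comp_apply, baseMap_single, coordMap_tmul,
      coe_single, Finsupp.lapply_apply, Finsupp.single_apply, Pi.single_apply]
    by_cases hz : z = z'
    · subst hz
      rw [if_pos rfl, if_pos rfl, redMap_one, Algebra.smul_def, mul_one]
      rfl
    · rw [if_neg hz, if_neg (Ne.symm hz), map_zero, smul_zero, map_zero]
  exact LinearMap.congr_fun h f

include hIJ in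
theorem baseMap_inj (n : ℕ) (f : Z →₀ B)
    (hf : baseMap I Z f ∈
      (J ^ n • ⊤ : Submodule B (B ⊗[A] decaying I Z (AdicCompletion I A)))) :
    f ∈ (J ^ n • ⊤ : Submodule B (Z →₀ B)) := by
  apply finsupp_mem_smul_top_of_forall
  intro z
  have h0 := apply_eq_zero_of_mem_smul_top' (J ^ n) (coordMap I J hIJ Z z n) hf
  rw [coordMap_baseMap, Ideal.Quotient.eq_zero_iff_mem] at h0
  simpa using h0

include hIJ in
theorem tmul_mem_smul_top (n : ℕ) (b : B) {h : decaying I Z (AdicCompletion I A)}
    (hh : h ∈ (I ^ n • ⊤ : Submodule A (decaying I Z (AdicCompletion I A)))) :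
    b ⊗ₜ[A] h ∈ (J ^ n • ⊤ : Submodule B (B ⊗[A] decaying I Z (AdicCompletion I A))) := by
  refine Submodule.smul_induction_on hh (fun c hc d _ => ?_)
    (fun x y hx hy => by rw [TensorProduct.tmul_add]; exact Submodule.add_mem _ hx hy)
  rw [TensorProduct.tmul_smul, ← algebraMap_smul B c (b ⊗ₜ[A] d)]
  exact Submodule.smul_mem_smul (algebraMap_mem_pow I J hIJ hc) Submodule.mem_top

include hIJ in
theorem baseMap_approx [IsNoetherianRing A] (n : ℕ)
    (t : B ⊗[A] decaying I Z (AdicCompletion I A)) :
    ∃ f : Z →₀ B, t - baseMap I Z f ∈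
      (J ^ n • ⊤ : Submodule B (B ⊗[A] decaying I Z (AdicCompletion I A))) := by
  classical
  induction t using TensorProduct.induction_on with
  | zero => exact ⟨0, by simp⟩
  | add t₁ t₂ h₁ h₂ =>
    obtain ⟨f₁, hf₁⟩ := h₁
    obtain ⟨f₂, hf₂⟩ := h₂
    refine ⟨f₁ + f₂, ?_⟩
    have : t₁ + t₂ - baseMap I Z (f₁ + f₂) = (t₁ - baseMap I Z f₁) + (t₂ - baseMap I Z f₂) := by
      rw [map_add]; abel
    rw [this]
    exact Submodule.add_mem _ hf₁ hf₂
  | tmul b g =>
    have hIfg : I.FG := IsNoetherian.noetherian I
    have hc : IsAdicComplete I (AdicCompletion I A) := AdicCompletion.isAdicComplete hIfg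
    obtain ⟨S, hS⟩ := exists_finset_of_decaying I g n
    choose a ha using fun z =>
      exists_of_sub_mem_of_isPrecomplete I A n ((g : Z → AdicCompletion I A) z)
    refine ⟨∑ z ∈ S, Finsupp.single z (b * algebraMap A B (a z)), ?_⟩
    set h : decaying I Z (AdicCompletion I A) :=
      g - ∑ z ∈ S, a z • single I z (1 : AdicCompletion I A) with hh
    have hval : ∀ z, (h : Z → AdicCompletion I A) z ∈
        (I ^ n • ⊤ : Submodule A (AdicCompletion I A)) := by
      intro z
      have hz : (h : Z → AdicCompletion I A) z = (g : Z → AdicCompletion I A) z -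
          (if z ∈ S then AdicCompletion.of I A (a z) else 0) := by
        rw [hh, Submodule.coe_sub, Pi.sub_apply, Submodule.coe_sum, Finset.sum_apply]
        congr 1
        have : ∀ z' ∈ S, ((a z' • single I z' (1 : AdicCompletion I A) :
            decaying I Z (AdicCompletion I A)) : Z → AdicCompletion I A) z =
            if z = z' then AdicCompletion.of I A (a z') else 0 := by
          intro z' _
          rw [Submodule.coe_smul, Pi.smul_apply, coe_single, Pi.single_apply]
          by_cases hzz : z = z'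
          · rw [if_pos hzz, if_pos hzz, of_eq_smul_one]
          · rw [if_neg hzz, if_neg hzz, smul_zero]
        rw [Finset.sum_congr rfl this, Finset.sum_ite_eq]
      rw [hz]
      by_cases hzS : z ∈ S
      · rw [if_pos hzS]
        exact ha z
      · rw [if_neg hzS, sub_zero]
        exact hS z hzS
    have hmem : h ∈ (I ^ n • ⊤ : Submodule A (decaying I Z (AdicCompletion I A))) :=
      mem_pow_smul_top_decaying_of_forall_mem_smul I n (IsNoetherian.noetherian (I ^ n))
        (iInf_eq_bot_of_isHausdorff I) h hval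
    have hφ : baseMap I Z (∑ z ∈ S, Finsupp.single z (b * algebraMap A B (a z))) =
        b ⊗ₜ[A] (∑ z ∈ S, a z • single I z (1 : AdicCompletion I A)) := by
      rw [map_sum, TensorProduct.tmul_sum]
      refine Finset.sum_congr rfl (fun z _ => ?_)
      rw [baseMap_single, TensorProduct.tmul_smul, TensorProduct.smul_tmul', Algebra.smul_def,
        mul_comm]
    rw [hφ, ← TensorProduct.tmul_sub]
    exact tmul_mem_smul_top I J hIJ Z n b hmem

include hIJ in
theorem baseMap_completion_bijective [IsNoetherianRing A] :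
    Function.Bijective (AdicCompletion.map J (baseMap I Z)) :=
  map_bijective_of_approx J (baseMap I Z) (baseMap_inj I J hIJ Z) (baseMap_approx I J hIJ Z)

include hIJ in
theorem isAdicFree_baseChange [IsNoetherianRing A] [IsNoetherianRing B]
    (P : Type u) [AddCommGroup P] [Module A P]
    (e : P ≃ₗ[A] decaying I Z (AdicCompletion I A)) :
    Nonempty (AdicCompletion J (B ⊗[A] P) ≃ₗ[B] decaying J Z (AdicCompletion J B)) := by
  have hJfg : J.FG := IsNoetherian.noetherian J
  have hc : IsAdicComplete J (AdicCompletion J B) := AdicCompletion.isAdicComplete hJfg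
  let e1 : AdicCompletion J (B ⊗[A] P) ≃ₗ[B]
      AdicCompletion J (B ⊗[A] decaying I Z (AdicCompletion I A)) :=
    (AdicCompletion.congr J
      (TensorProduct.AlgebraTensorModule.congr (LinearEquiv.refl B B) e)).restrictScalars B
  let e2 : AdicCompletion J (Z →₀ B) ≃ₗ[B]
      AdicCompletion J (B ⊗[A] decaying I Z (AdicCompletion I A)) :=
    LinearEquiv.ofBijective ((AdicCompletion.map J (baseMap I Z)).restrictScalars B)
      (baseMap_completion_bijective I J hIJ Z)
  exact ⟨e1.trans (e2.symm.trans (finsuppCompEquiv J Z))⟩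

end basechange

end Groth.Agent.H87
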