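import Mathlib

set_option autoImplicit false
universe u

namespace Groth.Agent.H87.AdicExactLocal

variable {A : Type u} [CommRing A]

theorem subsingleton_of_completions {N : Type u} [AddCommGroup N] [Module A N] [Module.Finite A N]
    (h : ∀ (m : Ideal A) [m.IsMaximal], Subsingleton (AdicCompletion m N)) : Subsingleton N := by
  suffices hz : ∀ z : N, z = 0 from ⟨fun x y => by rw [hz x, hz y]⟩
  intro z
  by_contra hz
  let Ann : Ideal A := LinearMap.ker (LinearMap.toSpanSingleton A N z)
  have hAnn : Ann ≠ ⊤ := by
    intro h1
    have h3 : (1 : A) ∈ Ann := h1 ▸ Submodule.mem_top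
    apply hz
    simpa [Ann] using h3
  obtain ⟨m, hm, hle⟩ := Ideal.exists_le_maximal _ hAnn
  have hsub := h m
  have hq : Subsingleton (N ⧸ (m ^ 1 • ⊤ : Submodule A N)) :=
    (AdicCompletion.eval_surjective m N 1).subsingleton
  have htop : (m ^ 1 • ⊤ : Submodule A N) = ⊤ := Submodule.Quotient.subsingleton_iff.mp hq
  rw [pow_one] at htop
  obtain ⟨r, hr, hr0⟩ := Submodule.exists_sub_one_mem_and_smul_eq_zero_of_fg_of_le_smul m
    (⊤ : Submodule A N) Module.Finite.fg_top (by rw [htop])
  have hrA : r ∈ Ann := by simp [Ann, hr0 z Submodule.mem_top]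
  exact hm.ne_top ((Ideal.eq_top_iff_one m).mpr (by simpa using m.sub_mem (hle hrA) hr))

theorem main [IsNoetherianRing A]
    (M' M M'' : Type u) [AddCommGroup M'] [Module A M'] [AddCommGroup M] [Module A M]
    [AddCommGroup M''] [Module A M'']
    [Module.Finite A M'] [Module.Finite A M] [Module.Finite A M'']
    (f : M' →ₗ[A] M) (g : M →ₗ[A] M'') :
    (Function.Injective f ∧ Function.Exact f g ∧ Function.Surjective g) ↔
      ∀ (m : Ideal A) [m.IsMaximal],
        Function.Injective (AdicCompletion.map m f) ∧
          Function.Exact (AdicCompletion.map m f) (AdicCompletion.map m g) ∧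
          Function.Surjective (AdicCompletion.map m g) := by
  constructor
  · rintro ⟨hf, hfg, hg⟩ m _
    exact ⟨AdicCompletion.map_injective m hf, AdicCompletion.map_exact hf hfg hg,
      AdicCompletion.map_surjective m hg⟩
  · intro H
    have : IsNoetherian A M' := isNoetherian_of_isNoetherianRing_of_finite A M'
    have : IsNoetherian A M := isNoetherian_of_isNoetherianRing_of_finite A M
    have : IsNoetherian A M'' := isNoetherian_of_isNoetherianRing_of_finite A M''
    have ha : Function.Injective f := by
      have : Module.Finite A (LinearMap.ker f) :=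
        Module.Finite.iff_fg.mpr (IsNoetherian.noetherian _)
      have hsub : Subsingleton (LinearMap.ker f) := by
        apply subsingleton_of_completions (A := A)
        intro m _
        have hinj := AdicCompletion.map_injective m (f := (LinearMap.ker f).subtype)
          (Submodule.injective_subtype _)
        have e : ∀ x : AdicCompletion m (LinearMap.ker f),
            AdicCompletion.map m f (AdicCompletion.map m (LinearMap.ker f).subtype x) = 0 := by
          intro x
          rw [AdicCompletion.map_comp_apply, LinearMap.comp_ker_subtype, AdicCompletion.map_zero,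
            LinearMap.zero_apply]
        refine ⟨fun x y => ?_⟩
        apply hinj
        apply (H m).1
        rw [e x, e y]
      rw [← LinearMap.ker_eq_bot]
      exact Submodule.eq_bot_of_subsingleton
    have hb : Function.Surjective g := by
      have hsub : Subsingleton (M'' ⧸ LinearMap.range g) := by
        apply subsingleton_of_completions (A := A)
        intro m _
        have e : ∀ y : AdicCompletion m (M'' ⧸ LinearMap.range g), y = 0 := by
          intro y
          obtain ⟨z, rfl⟩ := AdicCompletion.map_surjective m
            (Submodule.mkQ_surjective (LinearMap.range g)) y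
          obtain ⟨w, rfl⟩ := (H m).2.2 z
          rw [AdicCompletion.map_comp_apply, LinearMap.range_mkQ_comp, AdicCompletion.map_zero,
            LinearMap.zero_apply]
        exact ⟨fun x y => by rw [e x, e y]⟩
      rw [← LinearMap.range_eq_top]
      exact Submodule.Quotient.subsingleton_iff.mp hsub
    have hgf : g ∘ₗ f = 0 := by
      have : Module.Finite A (LinearMap.range (g ∘ₗ f)) :=
        Module.Finite.iff_fg.mpr (IsNoetherian.noetherian _)
      have hsub : Subsingleton (LinearMap.range (g ∘ₗ f)) := by
        apply subsingleton_of_completions (A := A)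
        intro m _
        have hinj := AdicCompletion.map_injective m (f := (LinearMap.range (g ∘ₗ f)).subtype)
          (Submodule.injective_subtype _)
        let h' : M' →ₗ[A] LinearMap.range (g ∘ₗ f) :=
          LinearMap.codRestrict (LinearMap.range (g ∘ₗ f)) (g ∘ₗ f) (fun x => ⟨x, rfl⟩)
        have hh' : (LinearMap.range (g ∘ₗ f)).subtype ∘ₗ h' = g ∘ₗ f :=
          LinearMap.subtype_comp_codRestrict _ _ _
        have hsurj : Function.Surjective h' := by
          rintro ⟨y, x, hx⟩
          exact ⟨x, Subtype.ext hx⟩
        have e : ∀ y : AdicCompletion m (LinearMap.range (g ∘ₗ f)), y = 0 := by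
          intro y
          obtain ⟨x, rfl⟩ := AdicCompletion.map_surjective m hsurj y
          apply hinj
          rw [map_zero, AdicCompletion.map_comp_apply, hh', ← AdicCompletion.map_comp_apply]
          exact (H m).2.1.apply_apply_eq_zero x
        exact ⟨fun x y => by rw [e x, e y]⟩
      exact LinearMap.range_eq_bot.mp Submodule.eq_bot_of_subsingleton
    have hc : Function.Exact f g := by
      have hmem : ∀ x, f x ∈ LinearMap.ker g := fun x => by
        rw [LinearMap.mem_ker]; exact LinearMap.congr_fun hgf x
      let F : M' →ₗ[A] LinearMap.ker g := LinearMap.codRestrict (LinearMap.ker g) f hmem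
      have hF : (LinearMap.ker g).subtype ∘ₗ F = f := LinearMap.subtype_comp_codRestrict _ _ _
      have : Module.Finite A (LinearMap.ker g) :=
        Module.Finite.iff_fg.mpr (IsNoetherian.noetherian _)
      have hsub : Subsingleton (LinearMap.ker g ⧸ LinearMap.range F) := by
        apply subsingleton_of_completions (A := A)
        intro m _
        have hinj := AdicCompletion.map_injective m (f := (LinearMap.ker g).subtype)
          (Submodule.injective_subtype _)
        have e : ∀ y' : AdicCompletion m (LinearMap.ker g ⧸ LinearMap.range F), y' = 0 := by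
          intro y'
          obtain ⟨y, rfl⟩ := AdicCompletion.map_surjective m
            (Submodule.mkQ_surjective (LinearMap.range F)) y'
          have h1 : AdicCompletion.map m g
              (AdicCompletion.map m (LinearMap.ker g).subtype y) = 0 := by
            rw [AdicCompletion.map_comp_apply, LinearMap.comp_ker_subtype,
              AdicCompletion.map_zero, LinearMap.zero_apply]
          obtain ⟨x, hx⟩ := ((H m).2.1 _).mp h1
          have h2 : AdicCompletion.map m F x = y := by
            apply hinj
            rw [AdicCompletion.map_comp_apply, hF, hx]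
          rw [← h2, AdicCompletion.map_comp_apply, LinearMap.range_mkQ_comp,
            AdicCompletion.map_zero, LinearMap.zero_apply]
        exact ⟨fun x y => by rw [e x, e y]⟩
      have hrange : LinearMap.range F = ⊤ := Submodule.Quotient.subsingleton_iff.mp hsub
      intro y
      constructor
      · intro hy
        have h3 : (⟨y, hy⟩ : LinearMap.ker g) ∈ LinearMap.range F := by
          rw [hrange]; exact Submodule.mem_top
        obtain ⟨x, hx⟩ := h3
        exact ⟨x, congrArg Subtype.val hx⟩
      · rintro ⟨x, rfl⟩
        exact LinearMap.congr_fun hgf x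
    exact ⟨ha, hc, hb⟩

theorem map_smul_id_apply (I : Ideal A) {M : Type u} [AddCommGroup M] [Module A M] (j : A)
    (y : AdicCompletion I M) :
    AdicCompletion.map I (j • (LinearMap.id : M →ₗ[A] M)) y = j • y := by
  apply AdicCompletion.ext
  intro n
  obtain ⟨m, hm⟩ := Submodule.Quotient.mk_surjective _ (y.val n)
  rw [AdicCompletion.map_val_apply, AdicCompletion.val_smul_apply, ← hm,
    LinearMap.reduceModIdeal_apply]
  simp

theorem main77 [IsNoetherianRing A] (I J : Ideal A)
    (M : Type u) [AddCommGroup M] [Module A M] [Module.Finite A M] :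
    Function.Injective (AdicCompletion.map I (J • (⊤ : Submodule A M)).subtype) ∧
      LinearMap.range (AdicCompletion.map I (J • (⊤ : Submodule A M)).subtype) =
        (J.map (algebraMap A (AdicCompletion I A))) •
          (⊤ : Submodule (AdicCompletion I A) (AdicCompletion I M)) := by
  classical
  refine ⟨AdicCompletion.map_injective I (Submodule.injective_subtype _), le_antisymm ?_ ?_⟩
  · rintro _ ⟨z, rfl⟩
    obtain ⟨S, hS⟩ := (isNoetherianRing_iff_ideal_fg A).mp inferInstance J
    have hkJ : ∀ k : S, (k : A) ∈ J := fun k => by
      rw [← hS]; exact Ideal.subset_span k.2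
    let π₀ : (S → M) →ₗ[A] M := ∑ k : S, (k : A) • LinearMap.proj k
    have hπ₀ : ∀ v, π₀ v = ∑ k : S, (k : A) • v k := by
      intro v
      simp [π₀, LinearMap.sum_apply]
    have hmem : ∀ v : S → M, π₀ v ∈ (J • ⊤ : Submodule A M) := by
      intro v
      rw [hπ₀]
      exact Submodule.sum_mem _ (fun k _ => Submodule.smul_mem_smul (hkJ k) Submodule.mem_top)
    let π : (S → M) →ₗ[A] ↥(J • ⊤ : Submodule A M) := LinearMap.codRestrict _ π₀ hmem
    have hππ₀ : (J • ⊤ : Submodule A M).subtype ∘ₗ π = π₀ :=
      LinearMap.subtype_comp_codRestrict _ _ _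
    have hπsurj : Function.Surjective π := by
      rintro ⟨x, hx⟩
      suffices h : ∃ v : S → M, ∑ k : S, (k : A) • v k = x by
        obtain ⟨v, hv⟩ := h
        exact ⟨v, Subtype.ext ((hπ₀ v).trans hv)⟩
      refine Submodule.smul_induction_on hx ?_ ?_
      · intro a ha m _
        rw [← hS] at ha
        obtain ⟨c, -, hc⟩ := Submodule.mem_span_finset.mp ha
        refine ⟨fun k => c k • m, ?_⟩
        rw [Finset.sum_coe_sort S (fun i => i • (c i • m)), ← hc, Finset.sum_smul]
        refine Finset.sum_congr rfl (fun i _ => ?_)
        rw [smul_smul, smul_eq_mul, mul_comm]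
      · rintro x y ⟨v, hv⟩ ⟨v', hv'⟩
        refine ⟨v + v', ?_⟩
        simp only [Pi.add_apply, smul_add, Finset.sum_add_distrib, hv, hv']
    obtain ⟨w, rfl⟩ := AdicCompletion.map_surjective I hπsurj z
    rw [AdicCompletion.map_comp_apply, hππ₀]
    have claim : AdicCompletion.map I π₀ w =
        ∑ k : S, (k : A) • AdicCompletion.map I (LinearMap.proj k : (S → M) →ₗ[A] M) w := by
      apply AdicCompletion.ext
      intro n
      obtain ⟨m, hm⟩ := Submodule.Quotient.mk_surjective _ (w.val n)
      have hr : (∑ k : S, (k : A) • AdicCompletion.map I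
          (LinearMap.proj k : (S → M) →ₗ[A] M) w).val n =
          AdicCompletion.eval I M n (∑ k : S, (k : A) • AdicCompletion.map I
          (LinearMap.proj k : (S → M) →ₗ[A] M) w) := rfl
      rw [hr, map_sum, AdicCompletion.map_val_apply, ← hm, LinearMap.reduceModIdeal_apply, hπ₀,
        ← Submodule.mkQ_apply, map_sum]
      refine Finset.sum_congr rfl (fun k _ => ?_)
      rw [map_smul, map_smul, AdicCompletion.eval_apply, AdicCompletion.map_val_apply, ← hm,
        LinearMap.reduceModIdeal_apply]
      rfl
    rw [claim]
    refine Submodule.sum_mem _ (fun k _ => ?_)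
    rw [← algebraMap_smul (AdicCompletion I A) (k : A)]
    exact Submodule.smul_mem_smul (Ideal.mem_map_of_mem _ (hkJ k)) Submodule.mem_top
  · rw [Submodule.smul_le]
    intro r hr y _
    unfold Ideal.map at hr
    refine Submodule.span_induction (p := fun r _ => r • y ∈
      LinearMap.range (AdicCompletion.map I (J • (⊤ : Submodule A M)).subtype)) ?_ ?_ ?_ ?_ hr
    · rintro _ ⟨j, hj, rfl⟩
      let μ : M →ₗ[A] ↥(J • ⊤ : Submodule A M) :=
        LinearMap.codRestrict _ (j • (LinearMap.id : M →ₗ[A] M))
          (fun x => Submodule.smul_mem_smul hj Submodule.mem_top)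
      refine ⟨AdicCompletion.map I μ y, ?_⟩
      rw [AdicCompletion.map_comp_apply, LinearMap.subtype_comp_codRestrict, map_smul_id_apply,
        algebraMap_smul]
    · rw [zero_smul]; exact Submodule.zero_mem _
    · intro r r' _ _ h1 h2
      rw [add_smul]; exact Submodule.add_mem _ h1 h2
    · intro a r _ h1
      rw [smul_eq_mul, mul_smul]
      exact Submodule.smul_mem _ a h1

end Groth.Agent.H87.AdicExactLocal
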