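import Groth.Agent.H87.DecayingSum
import Mathlib.RingTheory.Ideal.Operations

set_option autoImplicit false
universe u v w

namespace Groth.Agent.H87

open W4c5adicflatcompl

variable {A : Type u} [CommRing A] (I : Ideal A) {M : Type v} [AddCommGroup M] [Module A M]
  {Z : Type w} (m : Z → M)

/-- one approximation step -/
theorem exists_step (hspan : Submodule.span A (Set.range m) ⊔ I • ⊤ = ⊤) (k : ℕ) (x : M)
    (hx : x ∈ (I ^ k • ⊤ : Submodule A M)) :
    ∃ h : Z →₀ A, (∀ z, h z ∈ I ^ k) ∧
      x - h.sum (fun z c => c • m z) ∈ (I ^ (k + 1) • ⊤ : Submodule A M) := by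
  have : (I ^ k • ⊤ : Submodule A M) =
      I ^ k • Submodule.span A (Set.range m) ⊔ I ^ (k + 1) • ⊤ := by
    conv_lhs => rw [← hspan]
    rw [Submodule.smul_sup, ← mul_smul, ← pow_succ]
  rw [this] at hx
  obtain ⟨y, hy, w, hw, rfl⟩ := Submodule.mem_sup.1 hx
  obtain ⟨h, hh, rfl⟩ := (Submodule.mem_ideal_smul_span_iff_exists_sum _ m y).1 hy
  exact ⟨h, hh, by simpa using hw⟩

variable (hspan : Submodule.span A (Set.range m) ⊔ I • ⊤ = ⊤)

open Classical in
/-- the chosen step -/
noncomputable def stepFn (k : ℕ) (x : M) : Z →₀ A :=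
  if hx : x ∈ (I ^ k • ⊤ : Submodule A M) then Classical.choose (exists_step I m hspan k x hx)
  else 0

theorem stepFn_spec (k : ℕ) (x : M) (hx : x ∈ (I ^ k • ⊤ : Submodule A M)) :
    (∀ z, stepFn I m hspan k x z ∈ I ^ k) ∧
      x - (stepFn I m hspan k x).sum (fun z c => c • m z) ∈ (I ^ (k + 1) • ⊤ : Submodule A M) := by
  unfold stepFn
  rw [dif_pos hx]
  exact Classical.choose_spec (exists_step I m hspan k x hx)

/-- the sequence of remainders -/
noncomputable def remSeq (x : M) : ℕ → M
  | 0 => x
  | k + 1 => remSeq x k - (stepFn I m hspan k (remSeq x k)).sum (fun z c => c • m z)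

theorem remSeq_mem (x : M) (k : ℕ) : remSeq I m hspan x k ∈ (I ^ k • ⊤ : Submodule A M) := by
  induction k with
  | zero => simp
  | succ k ih => exact (stepFn_spec I m hspan k _ ih).2

/-- the coefficient functions -/
noncomputable def coefSeq (x : M) (k : ℕ) : Z →₀ A := stepFn I m hspan k (remSeq I m hspan x k)

theorem coefSeq_mem (x : M) (k : ℕ) (z : Z) : coefSeq I m hspan x k z ∈ I ^ k :=
  (stepFn_spec I m hspan k _ (remSeq_mem I m hspan x k)).1 z

theorem sub_sum_coefSeq (x : M) (n : ℕ) :
    x - ∑ k ∈ Finset.range n, (coefSeq I m hspan x k).sum (fun z c => c • m z) =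
      remSeq I m hspan x n := by
  induction n with
  | zero => simp [remSeq]
  | succ n ih =>
    rw [Finset.sum_range_succ, ← sub_sub, ih]
    rfl

include hspan in
theorem exists_decaying_sum [IsPrecomplete I A] (x : M) :
    ∃ g : Z → A, g ∈ decaying I Z A ∧
      ∀ n : ℕ, ∃ S : Finset Z,
        (∀ z, z ∉ S → g z • m z ∈ (I ^ n • ⊤ : Submodule A M)) ∧
        x - (∑ z ∈ S, g z • m z) ∈ (I ^ n • ⊤ : Submodule A M) := by
  classical
  set hs := coefSeq I m hspan x with hhs
  -- partial sums
  set G : ℕ → Z → A := fun K z => ∑ k ∈ Finset.range K, hs k z with hG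
  have hcauchy : ∀ z : Z, ∀ {K K' : ℕ}, K ≤ K' →
      G K z ≡ G K' z [SMOD (I ^ K • ⊤ : Submodule A A)] := by
    intro z K K' hle
    rw [SModEq.sub_mem]
    have : G K z - G K' z = -∑ k ∈ Finset.Ico K K', hs k z := by
      rw [Finset.sum_Ico_eq_sub _ hle]; simp [hG]
    rw [this]
    refine Submodule.neg_mem _ (Submodule.sum_mem _ (fun k hk => ?_))
    have hk' : K ≤ k := (Finset.mem_Ico.1 hk).1
    have := Ideal.pow_le_pow_right hk' (coefSeq_mem I m hspan x k z)
    simpa using this
  choose g hg using fun z => IsPrecomplete.prec' (I := I) (fun K => G K z) (hcauchy z)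
  -- supports
  set S : ℕ → Finset Z := fun n => (Finset.range n).biUnion (fun k => (hs k).support) with hS
  have hGzero : ∀ n z, z ∉ S n → G n z = 0 := by
    intro n z hz
    simp only [hG]
    apply Finset.sum_eq_zero
    intro k hk
    by_contra hne
    apply hz
    simp only [hS, Finset.mem_biUnion]
    exact ⟨k, hk, Finsupp.mem_support_iff.2 hne⟩
  have hgmem : ∀ n z, z ∉ S n → g z ∈ (I ^ n • ⊤ : Submodule A A) := by
    intro n z hz
    have := hg z n
    rw [SModEq.sub_mem] at this
    simp only [hGzero n z hz, zero_sub] at this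
    simpa using Submodule.neg_mem _ this
  refine ⟨g, fun n => (S n).finite_toSet.subset (fun z hz => ?_), fun n => ⟨S n, ?_, ?_⟩⟩
  · by_contra hzS
    exact hz (hgmem n z hzS)
  · intro z hz
    exact smul_mem_of_mem_smul_top I (hgmem n z hz) (m z)
  · have h1 : ∑ z ∈ S n, G n z • m z =
        ∑ k ∈ Finset.range n, (hs k).sum (fun z c => c • m z) := by
      simp only [hG, Finset.sum_smul]
      rw [Finset.sum_comm]
      refine Finset.sum_congr rfl (fun k hk => ?_)
      symm
      apply Finsupp.sum_of_support_subset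
      · intro z hz
        simp only [hS, Finset.mem_biUnion]
        exact ⟨k, hk, hz⟩
      · intro z _; simp
    have h2 : x - ∑ z ∈ S n, g z • m z =
        remSeq I m hspan x n - ∑ z ∈ S n, (g z - G n z) • m z := by
      rw [← sub_sum_coefSeq I m hspan x n, ← h1]
      simp only [sub_smul, Finset.sum_sub_distrib]
      abel
    rw [h2]
    refine Submodule.sub_mem _ (remSeq_mem I m hspan x n) (Submodule.sum_mem _ (fun z _ => ?_))
    have := hg z n
    rw [SModEq.sub_mem] at this
    have h3 : g z - G n z ∈ (I ^ n • ⊤ : Submodule A A) := by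
      have := Submodule.neg_mem _ this
      simpa using this
    exact smul_mem_of_mem_smul_top I h3 (m z)

end Groth.Agent.H87
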