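import Groth.Agent.H87.DecayingSum
import Groth.Agent.H87.DecayingUniv
import Groth.Agent.H87.TopNak
import Mathlib.RingTheory.Flat.Tensor
import Mathlib.RingTheory.LocalRing.ResidueField.Basic
import Mathlib.LinearAlgebra.Dual.Lemmas
import Mathlib.LinearAlgebra.TensorProduct.RightExactness
import Mathlib.RingTheory.TensorProduct.Basic

set_option autoImplicit false
universe u v w

namespace Groth.Agent.H87

open W4c5adicflatcompl TensorProduct IsLocalRing

section congr

variable {A : Type u} [CommRing A] (I : Ideal A) (Z : Type v) {N : Type*} {N' : Type*}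
  [AddCommGroup N] [Module A N] [AddCommGroup N'] [Module A N']

/-- post-composition on decaying functions -/
def decayingMap (φ : N →ₗ[A] N') : decaying I Z N →ₗ[A] decaying I Z N' where
  toFun f := ⟨fun z => φ ((f : Z → N) z), fun n =>
    (f.2 n).subset (fun z hz h => hz (map_mem_smul_top (I ^ n) φ h))⟩
  map_add' f g := by
    apply Subtype.ext
    funext z
    simp
  map_smul' a f := by
    apply Subtype.ext
    funext z
    simp

@[simp] theorem decayingMap_apply (φ : N →ₗ[A] N') (f : decaying I Z N) (z : Z) :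
    ((decayingMap I Z φ f : decaying I Z N') : Z → N') z = φ ((f : Z → N) z) := rfl

/-- a linear equivalence induces an equivalence on decaying functions -/
def decayingCongr (e : N ≃ₗ[A] N') : decaying I Z N ≃ₗ[A] decaying I Z N' :=
  LinearEquiv.ofLinear (decayingMap I Z e.toLinearMap) (decayingMap I Z e.symm.toLinearMap)
    (by
      apply LinearMap.ext
      intro f
      apply Subtype.ext
      funext z
      simp)
    (by
      apply LinearMap.ext
      intro f
      apply Subtype.ext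
      funext z
      simp)

end congr

section flat

variable {A : Type u} [CommRing A] {M : Type v} [AddCommGroup M] [Module A M]

/-- the multiplication map `J ⊗ M → M` -/
noncomputable def mulMap (J : Ideal A) : J ⊗[A] M →ₗ[A] M :=
  TensorProduct.lift ((LinearMap.lsmul A M).comp J.subtype)

@[simp] theorem mulMap_tmul (J : Ideal A) (c : J) (y : M) :
    mulMap J (c ⊗ₜ[A] y) = (c : A) • y := by
  simp [mulMap]

theorem mulMap_injective [Module.Flat A M] (J : Ideal A) :
    Function.Injective (mulMap (M := M) J) := by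
  have h := (Module.Flat.iff_rTensor_injective'.1 (inferInstance : Module.Flat A M)) J
  have h2 : mulMap (M := M) J =
      (TensorProduct.lid A M).toLinearMap ∘ₗ (LinearMap.rTensor M J.subtype) := by
    apply TensorProduct.ext'
    intro c y
    simp
  rw [h2, LinearMap.coe_comp]
  exact (TensorProduct.lid A M).injective.comp h

end flat

section localring

variable {A : Type u} [CommRing A] [IsLocalRing A] {M : Type v} [AddCommGroup M] [Module A M]

local notation "𝔪" => maximalIdeal A
local notation "k" => ResidueField A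

theorem ker_mk_residue (Q : Type w) [AddCommGroup Q] [Module A Q] :
    LinearMap.ker (TensorProduct.mk A k Q 1) = (𝔪 • ⊤ : Submodule A Q) :=
  LinearMap.ker_tensorProductMk Q

theorem exists_tensor_of_mem (J : Ideal A) {y : M}
    (hy : y ∈ ((𝔪 * J) • ⊤ : Submodule A M)) :
    ∃ t : J ⊗[A] M, mulMap J t = y ∧
      LinearMap.rTensor M (TensorProduct.mk A k J 1) t = 0 := by
  refine Submodule.smul_induction_on hy ?_ ?_
  · intro c hc w _
    have hcJ : c ∈ J := Ideal.mul_le_right hc
    refine ⟨(⟨c, hcJ⟩ : J) ⊗ₜ[A] w, by simp, ?_⟩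
    rw [LinearMap.rTensor_tmul]
    have hmem : (⟨c, hcJ⟩ : J) ∈ (𝔪 • ⊤ : Submodule A J) := by
      rw [Submodule.mem_smul_top_iff]
      exact hc
    rw [← ker_mk_residue] at hmem
    rw [LinearMap.mem_ker.1 hmem, zero_tmul]
  · rintro y₁ y₂ ⟨t₁, h₁, h₁'⟩ ⟨t₂, h₂, h₂'⟩
    exact ⟨t₁ + t₂, by rw [map_add, h₁, h₂], by rw [map_add, h₁', h₂', add_zero]⟩

theorem coeff_mem_mul_of_flat [Module.Flat A M] {Z : Type w} (x : Z → M)
    (hli : LinearIndependent k (fun z => (1 : k) ⊗ₜ[A] x z))
    (J : Ideal A) (S : Finset Z) (a : Z → J)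
    (h : ∑ z ∈ S, (a z : A) • x z ∈ ((𝔪 * J) • ⊤ : Submodule A M)) :
    ∀ z ∈ S, (a z : A) ∈ 𝔪 * J := by
  obtain ⟨t', ht', hρ'⟩ := exists_tensor_of_mem J h
  have ht : mulMap J (∑ z ∈ S, a z ⊗ₜ[A] x z) = ∑ z ∈ S, (a z : A) • x z := by
    simp [map_sum]
  have hEq : (∑ z ∈ S, a z ⊗ₜ[A] x z) = t' := mulMap_injective J (ht.trans ht'.symm)
  have hsum : ∑ z ∈ S, ((1 : k) ⊗ₜ[A] a z) ⊗ₜ[A] x z = 0 := by
    rw [← hρ', ← hEq, map_sum]
    refine Finset.sum_congr rfl (fun z _ => ?_)
    rw [LinearMap.rTensor_tmul]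
    rfl
  have key : ∀ φ : Module.Dual k (k ⊗[A] J), ∀ z ∈ S, φ ((1 : k) ⊗ₜ[A] a z) = 0 := by
    intro φ
    have h1 := congrArg (LinearMap.rTensor M (φ.restrictScalars A)) hsum
    rw [map_sum, map_zero] at h1
    have h2 : ∑ z ∈ S, φ ((1 : k) ⊗ₜ[A] a z) • ((1 : k) ⊗ₜ[A] x z) = 0 := by
      rw [← h1]
      refine Finset.sum_congr rfl (fun z _ => ?_)
      rw [LinearMap.rTensor_tmul, TensorProduct.smul_tmul', smul_eq_mul, mul_one]
      rfl
    exact linearIndependent_iff'.1 hli S _ h2
  intro z hz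
  have hz0 : (1 : k) ⊗ₜ[A] a z = 0 :=
    (Module.forall_dual_apply_eq_zero_iff k _).1 (fun φ => key φ z hz)
  have hmem : a z ∈ LinearMap.ker (TensorProduct.mk A k J 1) := hz0
  rw [ker_mk_residue, Submodule.mem_smul_top_iff] at hmem
  exact hmem

theorem coeff_mem_pow_of_flat [Module.Flat A M] {Z : Type w} (x : Z → M)
    (hli : LinearIndependent k (fun z => (1 : k) ⊗ₜ[A] x z))
    (N : ℕ) (S : Finset Z) (a : Z → A)
    (h : ∑ z ∈ S, a z • x z ∈ (𝔪 ^ N • ⊤ : Submodule A M)) :
    ∀ z ∈ S, a z ∈ 𝔪 ^ N := by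
  induction N with
  | zero => intro z _; simp
  | succ N ih =>
    have hle : (𝔪 ^ (N + 1) • ⊤ : Submodule A M) ≤ 𝔪 ^ N • ⊤ :=
      Submodule.smul_mono_left (Ideal.pow_le_pow_right (Nat.le_succ N))
    have ihS := ih (hle h)
    classical
    set a' : Z → (𝔪 ^ N : Ideal A) := fun z => if hz : a z ∈ 𝔪 ^ N then ⟨a z, hz⟩ else 0 with ha'def
    have ha' : ∀ z ∈ S, (a' z : A) = a z := fun z hz => by
      simp only [ha'def, dif_pos (ihS z hz)]
    have h' : ∑ z ∈ S, (a' z : A) • x z ∈ ((𝔪 * 𝔪 ^ N) • ⊤ : Submodule A M) := by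
      rw [← pow_succ']
      have : ∑ z ∈ S, (a' z : A) • x z = ∑ z ∈ S, a z • x z :=
        Finset.sum_congr rfl (fun z hz => by rw [ha' z hz])
      rw [this]
      exact h
    intro z hz
    have := coeff_mem_mul_of_flat x hli (𝔪 ^ N) S a' h' z hz
    rwa [ha' z hz, ← pow_succ'] at this

end localring

section main

variable {A : Type u} [CommRing A] [IsLocalRing A]

local notation "𝔪" => maximalIdeal A
local notation "k" => ResidueField A

theorem exists_decaying_equiv_of_flat [IsAdicComplete (maximalIdeal A) A]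
    (M : Type u) [AddCommGroup M] [Module A M]
    [Module.Flat A M] [IsAdicComplete (maximalIdeal A) M] :
    ∃ Z : Type u, Nonempty (decaying (maximalIdeal A) Z A ≃ₗ[A] M) := by
  classical
  set w := Module.Free.chooseBasis k (k ⊗[A] M) with hw
  refine ⟨Module.Free.ChooseBasisIndex k (k ⊗[A] M), ?_⟩
  have hsurj : Function.Surjective (TensorProduct.mk A k M 1) :=
    TensorProduct.mk_surjective A M k Ideal.Quotient.mk_surjective
  choose x hx using fun z => hsurj (w z)
  have hli : LinearIndependent k (fun z => (1 : k) ⊗ₜ[A] x z) := by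
    have h2 : (fun z => (1 : k) ⊗ₜ[A] x z) = w := funext hx
    rw [h2]
    exact w.linearIndependent
  have hspan : Submodule.span A (Set.range x) ⊔ 𝔪 • ⊤ = ⊤ := by
    rw [eq_top_iff]
    rintro y -
    set c := w.repr ((1 : k) ⊗ₜ[A] y) with hc
    have hy : ∑ z ∈ c.support, c z • w z = (1 : k) ⊗ₜ[A] y := by
      have := w.linearCombination_repr ((1 : k) ⊗ₜ[A] y)
      rw [Finsupp.linearCombination_apply, Finsupp.sum] at this
      exact this
    choose a ha using fun z => Ideal.Quotient.mk_surjective (c z)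
    have h1 : (1 : k) ⊗ₜ[A] (∑ z ∈ c.support, a z • x z) = (1 : k) ⊗ₜ[A] y := by
      rw [← hy, TensorProduct.tmul_sum]
      refine Finset.sum_congr rfl (fun z _ => ?_)
      have hxz : (1 : k) ⊗ₜ[A] x z = w z := hx z
      rw [← hxz, ← ha z, TensorProduct.tmul_smul, TensorProduct.smul_tmul',
        TensorProduct.smul_tmul']
      congr 1
    have h2 : y - ∑ z ∈ c.support, a z • x z ∈ (𝔪 • ⊤ : Submodule A M) := by
      rw [← ker_mk_residue, LinearMap.mem_ker, map_sub, sub_eq_zero]
      exact h1.symm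
    have : y = (∑ z ∈ c.support, a z • x z) + (y - ∑ z ∈ c.support, a z • x z) := by abel
    rw [this]
    refine Submodule.add_mem _ (Submodule.mem_sup_left ?_) (Submodule.mem_sup_right h2)
    exact Submodule.sum_mem _ (fun z _ => Submodule.smul_mem _ _ (Submodule.subset_span ⟨z, rfl⟩))
  have hinj : Function.Injective (decSum 𝔪 x) := by
    rw [injective_iff_map_eq_zero]
    intro g hg
    apply Subtype.ext
    funext z
    show (g : _ → A) z = 0
    apply IsHausdorff.haus' (I := 𝔪)
    intro n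
    rw [SModEq.zero]
    obtain ⟨S, hS⟩ := exists_finset_of_decaying 𝔪 g n
    by_cases hzS : z ∈ S
    · have hS' : ∀ z, z ∉ S → (g : _ → A) z • x z ∈ (𝔪 ^ n • ⊤ : Submodule A M) :=
        fun z hz => smul_mem_of_mem_smul_top 𝔪 (hS z hz) (x z)
      have h3 := decSum_sub_sum_mem 𝔪 x n g S hS'
      rw [hg, zero_sub] at h3
      have h4 := Submodule.neg_mem _ h3
      rw [neg_neg] at h4
      have := coeff_mem_pow_of_flat x hli n S (g : _ → A) h4 z hzS
      simpa using this
    · exact hS z hzS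
  have hsurjφ : Function.Surjective (decSum 𝔪 x) := by
    intro y
    obtain ⟨g, hg, happ⟩ := exists_decaying_sum 𝔪 x hspan y
    refine ⟨⟨g, hg⟩, ?_⟩
    apply eq_of_forall_sub_mem (I := 𝔪)
    intro n
    obtain ⟨S, hS1, hS2⟩ := happ n
    have h3 := decSum_sub_sum_mem 𝔪 x n ⟨g, hg⟩ S hS1
    have : decSum 𝔪 x ⟨g, hg⟩ - y =
        (decSum 𝔪 x ⟨g, hg⟩ - ∑ z ∈ S, g z • x z) - (y - ∑ z ∈ S, g z • x z) := by abel
    rw [this]
    exact Submodule.sub_mem _ h3 hS2
  exact ⟨LinearEquiv.ofBijective (decSum 𝔪 x) ⟨hinj, hsurjφ⟩⟩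

end main

end Groth.Agent.H87
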