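import Groth.Agent.H87.AdicProj
import Mathlib.RingTheory.Finiteness.Projective

set_option autoImplicit false
universe u v w

namespace Groth.Agent.H87

variable {A : Type u} [CommRing A] (I : Ideal A)

theorem mem_smul_top_self (J : Ideal A) (a : A) :
    a ∈ (J • ⊤ : Submodule A A) ↔ a ∈ J := by
  constructor
  · intro ha
    refine Submodule.smul_induction_on ha (fun r hr m _ => ?_) (fun a b ha hb => J.add_mem ha hb)
    simpa using J.mul_mem_right m hr
  · intro ha
    simpa using Submodule.smul_mem_smul ha (Submodule.mem_top (x := (1 : A)))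

theorem mem_smul_top_pi {ι : Type w} [Fintype ι] [DecidableEq ι] (J : Ideal A) (x : ι → A) :
    x ∈ (J • ⊤ : Submodule A (ι → A)) ↔ ∀ i, x i ∈ J := by
  constructor
  · intro hx i
    refine Submodule.smul_induction_on hx (fun r hr m _ => ?_) (fun a b ha hb => ?_)
    · simpa using J.mul_mem_right (m i) hr
    · simpa using J.add_mem ha hb
  · intro h
    rw [pi_eq_sum_univ x]
    exact Submodule.sum_mem _ fun i _ => Submodule.smul_mem_smul (h i) Submodule.mem_top

theorem isAdicComplete_pi (ι : Type w) [Fintype ι] [DecidableEq ι] [IsAdicComplete I A] :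
    IsAdicComplete I (ι → A) := by
  have hH : IsHausdorff I (ι → A) := by
    refine ⟨fun x hx => ?_⟩
    funext i
    apply IsHausdorff.haus' (I := I) (x i)
    intro n
    have := hx n
    rw [SModEq.zero] at this ⊢
    exact (mem_smul_top_self (I ^ n) _).mpr ((mem_smul_top_pi (I ^ n) x).mp this i)
  have hP : IsPrecomplete I (ι → A) := by
    refine ⟨fun f hf => ?_⟩
    have hc : ∀ i, ∃ L : A, ∀ n, f n i ≡ L [SMOD (I ^ n • ⊤ : Submodule A A)] := by
      intro i
      apply IsPrecomplete.prec' (I := I) (fun n => f n i)
      intro m n hmn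
      have := hf hmn
      rw [SModEq.sub_mem] at this ⊢
      exact (mem_smul_top_self (I ^ m) _).mpr ((mem_smul_top_pi (I ^ m) _).mp this i)
    choose L hL using hc
    refine ⟨L, fun n => ?_⟩
    rw [SModEq.sub_mem]
    refine (mem_smul_top_pi (I ^ n) _).mpr fun i => ?_
    have := hL i n
    rw [SModEq.sub_mem] at this
    exact (mem_smul_top_self (I ^ n) _).mp this
  exact { toIsHausdorff := hH, toIsPrecomplete := hP }

theorem isAdicComplete_of_finite_projective [IsAdicComplete I A] (Q : Type v) [AddCommGroup Q]
    [Module A Q] [Module.Finite A Q] [Module.Projective A Q] : IsAdicComplete I Q := by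
  obtain ⟨n, f, g, -, -, hfg⟩ := Module.Finite.exists_comp_eq_id_of_projective A Q
  have := isAdicComplete_pi I (Fin n)
  exact isAdicComplete_of_retract I g f hfg

end Groth.Agent.H87
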