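import Groth.Agent.H87.DecayingUniv

set_option autoImplicit false
universe u v w

namespace Groth.Agent.H87

open W4c5adicflatcompl

variable {A : Type u} [CommRing A] (I : Ideal A)

/-- a retract of a complete module is complete -/
theorem isAdicComplete_of_retract {P : Type v} {F : Type w} [AddCommGroup P] [Module A P]
    [AddCommGroup F] [Module A F] [IsAdicComplete I F]
    (i : P →ₗ[A] F) (r : F →ₗ[A] P) (h : r ∘ₗ i = LinearMap.id) : IsAdicComplete I P := by
  have hri : ∀ x, r (i x) = x := fun x => LinearMap.congr_fun h x
  have hH : IsHausdorff I P := by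
    refine ⟨fun x hx => ?_⟩
    have : i x = 0 := by
      apply IsHausdorff.haus' (I := I)
      intro n
      have := hx n
      rw [SModEq.zero] at this ⊢
      exact map_mem_smul_top (I ^ n) i this
    rw [← hri x, this, map_zero]
  have hP : IsPrecomplete I P := by
    refine ⟨fun f hf => ?_⟩
    obtain ⟨L, hL⟩ := IsPrecomplete.prec' (I := I) (fun n => i (f n)) (fun {m n} hmn => by
      have := hf hmn
      rw [SModEq.sub_mem] at this ⊢
      rw [← map_sub]
      exact map_mem_smul_top (I ^ m) i this)
    refine ⟨r L, fun n => ?_⟩
    have := hL n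
    rw [SModEq.sub_mem] at this ⊢
    have h2 := map_mem_smul_top (I ^ n) r this
    rwa [map_sub, hri] at h2
  exact { toIsHausdorff := hH, toIsPrecomplete := hP }

end Groth.Agent.H87
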