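import Groth.Agent.H87.DecayingNoeth
import Groth.Agent.H87.DecayingSum

set_option autoImplicit false
universe u v w

namespace Groth.Agent.H87

open W4c5adicflatcompl

variable {A : Type u} [CommRing A] (I : Ideal A) {Z : Type v}

theorem mem_smul_top_of_mem_pow {a : A} {n : ℕ} (h : a ∈ I ^ n) :
    a ∈ (I ^ n • ⊤ : Submodule A A) := by
  simpa using h

theorem mem_smul_top_iff_mem_pow {a : A} {n : ℕ} :
    a ∈ (I ^ n • ⊤ : Submodule A A) ↔ a ∈ I ^ n :=
  ⟨mem_pow_of_mem_smul_top I, mem_smul_top_of_mem_pow I⟩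

/-- If `gen` generates `I ^ n`, elements of `I ^ (n + k)` are combinations of the `gen i` with
coefficients in `I ^ k`. -/
theorem exists_coeff_of_mem_pow_add {r : ℕ} (gen : Fin r → A) {n : ℕ}
    (hgen : Ideal.span (Set.range gen) = I ^ n) (k : ℕ) {x : A} (hx : x ∈ I ^ (n + k)) :
    ∃ c : Fin r → A, (∀ i, c i ∈ I ^ k) ∧ x = ∑ i, c i * gen i := by
  have hx' : x ∈ (I ^ k • Submodule.span A (Set.range gen) : Submodule A A) := by
    have : (I ^ k • Submodule.span A (Set.range gen) : Submodule A A) = I ^ (n + k) := by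
      change I ^ k • Ideal.span (Set.range gen) = I ^ (n + k)
      rw [hgen, smul_eq_mul, pow_add, mul_comm]
    rw [this]; exact hx
  obtain ⟨a, ha, rfl⟩ := (Submodule.mem_ideal_smul_span_iff_exists_sum _ gen x).1 hx'
  refine ⟨fun i => a i, ha, ?_⟩
  rw [Finsupp.sum_fintype _ _ (fun i => by simp)]
  simp [smul_eq_mul]

variable [IsNoetherianRing A] [IsAdicComplete I A]

/-- pointwise choice of coefficients, compatible with all the powers containing `x`. -/
theorem exists_coeff_forall_pow {r : ℕ} (gen : Fin r → A) {n : ℕ}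
    (hgen : Ideal.span (Set.range gen) = I ^ n) {x : A} (hx : x ∈ I ^ n) :
    ∃ c : Fin r → A, x = ∑ i, c i * gen i ∧ ∀ k : ℕ, x ∈ I ^ (n + k) → ∀ i, c i ∈ I ^ k := by
  by_cases hx0 : x = 0
  · exact ⟨0, by simp [hx0], fun k _ i => by simp⟩
  · obtain ⟨N, hN, hmax⟩ := exists_max_pow_of_iInf_eq_bot I
      (iInf_pow_smul_top_eq_bot I (M := A)) x hx0
    have hnN : n ≤ N := hmax n (mem_smul_top_of_mem_pow I hx)
    obtain ⟨k₀, rfl⟩ := Nat.exists_eq_add_of_le hnN
    obtain ⟨c, hc, hxc⟩ := exists_coeff_of_mem_pow_add I gen hgen k₀ (mem_pow_of_mem_smul_top I hN)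
    refine ⟨c, hxc, fun k hk i => ?_⟩
    have : n + k ≤ n + k₀ := hmax _ (mem_smul_top_of_mem_pow I hk)
    exact Ideal.pow_le_pow_right (by omega) (hc i)

/-- A decaying function with values in `I ^ n` lies in `I ^ n • ⊤`. -/
theorem mem_pow_smul_top_decaying_of_forall_mem (n : ℕ) (f : decaying I Z A)
    (hf : ∀ z, (f : Z → A) z ∈ I ^ n) :
    f ∈ (I ^ n • ⊤ : Submodule A (decaying I Z A)) := by
  obtain ⟨r, gen, hgen⟩ := Submodule.fg_iff_exists_fin_generating_family.1
    (IsNoetherian.noetherian (I ^ n))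
  choose c hc1 hc2 using fun z => exists_coeff_forall_pow I gen hgen (hf z)
  have hdec : ∀ i, (fun z => c z i) ∈ decaying I Z A := by
    intro i k
    refine (f.2 (n + k)).subset ?_
    intro z hz h
    exact hz (mem_smul_top_of_mem_pow I (hc2 z k (mem_pow_of_mem_smul_top I h) i))
  have hsum : f = ∑ i, gen i • (⟨fun z => c z i, hdec i⟩ : decaying I Z A) := by
    apply Subtype.ext
    funext z
    rw [Submodule.coe_sum, Finset.sum_apply, hc1 z]
    refine Finset.sum_congr rfl (fun i _ => ?_)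
    simp [mul_comm]
  rw [hsum]
  refine Submodule.sum_mem _ (fun i _ => Submodule.smul_mem_smul ?_ Submodule.mem_top)
  rw [← hgen]
  exact Ideal.subset_span (Set.mem_range_self i)

theorem mem_pow_smul_top_decaying_iff (n : ℕ) (f : decaying I Z A) :
    f ∈ (I ^ n • ⊤ : Submodule A (decaying I Z A)) ↔ ∀ z, (f : Z → A) z ∈ I ^ n :=
  ⟨fun h z => mem_pow_of_mem_smul_top I (decaying_apply_mem h z),
    mem_pow_smul_top_decaying_of_forall_mem I n f⟩

end Groth.Agent.H87
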