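import Groth.Agent.H87.FlatLI
import Groth.Agent.H87.AdicFree
import Groth.Agent.H87.DecayingPow
import Groth.Agent.S17546

set_option autoImplicit false
universe u v w

namespace Groth.Agent.H87

open W4c5adicflatcompl TensorProduct IsLocalRing

section nilp

variable {A : Type u} [CommRing A] (I : Ideal A) {M : Type v} [AddCommGroup M] [Module A M]

/-- a module killed by a power of `I` is `I`-adically complete -/
theorem isAdicComplete_of_pow_smul_top_eq_bot (N : ℕ)
    (h : (I ^ N • ⊤ : Submodule A M) = ⊥) : IsAdicComplete I M := by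
  have hH : IsHausdorff I M := ⟨fun x hx => by
    have := hx N
    rw [SModEq.zero, h] at this
    simpa using this⟩
  have hP : IsPrecomplete I M := ⟨fun f hf => ⟨f N, fun n => by
    rcases le_total n N with hle | hle
    · exact hf hle
    · have e := hf hle
      rw [SModEq.sub_mem, h, Submodule.mem_bot, sub_eq_zero] at e
      rw [e]⟩⟩
  exact { toIsHausdorff := hH, toIsPrecomplete := hP }

/-- in a module killed by `I ^ N`, the convergent sum is a finite sum -/
theorem decSum_eq_sum_of_bot {Z : Type w} [IsAdicComplete I M] (N : ℕ)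
    (h : (I ^ N • ⊤ : Submodule A M) = ⊥) (f : Z → M) (g : decaying I Z A) (S : Finset Z)
    (hS : ∀ z, z ∉ S → (g : Z → A) z ∈ (I ^ N • ⊤ : Submodule A A)) :
    decSum I f g = ∑ z ∈ S, (g : Z → A) z • f z := by
  have := decSum_sub_sum_mem I f N g S (fun z hz => smul_mem_of_mem_smul_top I (hS z hz) (f z))
  rw [h, Submodule.mem_bot, sub_eq_zero] at this
  exact this

end nilp

section basis

variable {A : Type u} [CommRing A] [IsLocalRing A] {M : Type v} [AddCommGroup M] [Module A M]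

local notation "𝔪" => maximalIdeal A
local notation "k" => ResidueField A

theorem span_sup_of_basis {Z : Type w} (b : Module.Basis Z k (k ⊗[A] M)) (x : Z → M)
    (hx : ∀ z, (1 : k) ⊗ₜ[A] x z = b z) :
    Submodule.span A (Set.range x) ⊔ 𝔪 • ⊤ = ⊤ := by
  classical
  rw [eq_top_iff]
  rintro y -
  set c := b.repr ((1 : k) ⊗ₜ[A] y) with hc
  have hy : ∑ z ∈ c.support, c z • b z = (1 : k) ⊗ₜ[A] y := by
    have := b.linearCombination_repr ((1 : k) ⊗ₜ[A] y)
    rw [Finsupp.linearCombination_apply, Finsupp.sum] at this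
    exact this
  choose a ha using fun z => Ideal.Quotient.mk_surjective (c z)
  have h1 : (1 : k) ⊗ₜ[A] (∑ z ∈ c.support, a z • x z) = (1 : k) ⊗ₜ[A] y := by
    rw [← hy, TensorProduct.tmul_sum]
    refine Finset.sum_congr rfl (fun z _ => ?_)
    rw [← hx z, ← ha z, TensorProduct.tmul_smul, TensorProduct.smul_tmul',
      TensorProduct.smul_tmul']
    congr 1
  have h2 : y - ∑ z ∈ c.support, a z • x z ∈ (𝔪 • ⊤ : Submodule A M) := by
    rw [← ker_mk_residue, LinearMap.mem_ker, map_sub, sub_eq_zero]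
    exact h1.symm
  have : y = (∑ z ∈ c.support, a z • x z) + (y - ∑ z ∈ c.support, a z • x z) := by abel
  rw [this]
  refine Submodule.add_mem _ (Submodule.mem_sup_left ?_) (Submodule.mem_sup_right h2)
  exact Submodule.sum_mem _ (fun z _ => Submodule.smul_mem _ _ (Submodule.subset_span ⟨z, rfl⟩))

end basis

section tower

variable {A : Type u} [CommRing A] [IsLocalRing A]

local notation "𝔪" => maximalIdeal A
local notation "k" => ResidueField A

theorem pow_succ_ne_top (n : ℕ) : 𝔪 ^ (n + 1) ≠ ⊤ := fun h =>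
  (IsLocalRing.maximalIdeal.isMaximal A).ne_top
    (top_le_iff.1 (h ▸ Ideal.pow_le_self (Nat.succ_ne_zero n)))

theorem isLocalRing_quot (n : ℕ) : IsLocalRing (A ⧸ 𝔪 ^ (n + 1)) :=
  haveI : Nontrivial (A ⧸ 𝔪 ^ (n + 1)) := Ideal.Quotient.nontrivial_iff.2 (pow_succ_ne_top n)
  IsLocalRing.of_surjective' (Ideal.Quotient.mk _) Ideal.Quotient.mk_surjective

theorem factor_eq_zero_of_mem (n : ℕ) (r : A ⧸ 𝔪 ^ (n + 1))
    (hr : r ∈ @maximalIdeal (A ⧸ 𝔪 ^ (n + 1)) _ (isLocalRing_quot n)) :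
    Ideal.Quotient.factor (Ideal.pow_le_self (Nat.succ_ne_zero n)) r = (0 : A ⧸ 𝔪) := by
  haveI := isLocalRing_quot (A := A) n
  obtain ⟨a, rfl⟩ := Ideal.Quotient.mk_surjective r
  rw [Ideal.Quotient.factor_mk, Ideal.Quotient.eq_zero_iff_mem]
  by_contra ha
  have hu : IsUnit a := by
    by_contra hnu
    exact ha ((IsLocalRing.mem_maximalIdeal a).2 hnu)
  exact (IsLocalRing.mem_maximalIdeal _).1 hr (hu.map (Ideal.Quotient.mk _))

variable (M : ℕ → Type u) [∀ n, AddCommGroup (M n)] [∀ n, Module A (M n)]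
  [∀ n, Module (A ⧸ maximalIdeal A ^ (n + 1)) (M n)]
  [∀ n, IsScalarTower A (A ⧸ maximalIdeal A ^ (n + 1)) (M n)]

theorem mk_smul_level (n : ℕ) (a : A) (y : M n) :
    (Ideal.Quotient.mk (𝔪 ^ (n + 1)) a) • y = a • y := by
  rw [← Ideal.Quotient.algebraMap_eq, algebraMap_smul]

theorem pow_smul_top_eq_bot (n : ℕ) : (𝔪 ^ (n + 1) • ⊤ : Submodule A (M n)) = ⊥ := by
  rw [eq_bot_iff, Submodule.smul_le]
  intro a ha y _
  rw [Submodule.mem_bot, ← mk_smul_level M n a y, Ideal.Quotient.eq_zero_iff_mem.2 ha, zero_smul]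

theorem linearIndependent_quot [∀ n, Module.Flat (A ⧸ maximalIdeal A ^ (n + 1)) (M n)] (n : ℕ)
    {Z : Type u} (x : Z → M n)
    (hli : LinearIndependent k (fun z => (1 : k) ⊗ₜ[A] x z)) :
    LinearIndependent (A ⧸ 𝔪 ^ (n + 1)) x := by
  haveI := isLocalRing_quot (A := A) n
  refine linearIndependent_of_flat_of_semilinear (R := A ⧸ 𝔪 ^ (n + 1)) (K := k)
    (Ideal.Quotient.factor (Ideal.pow_le_self (Nat.succ_ne_zero n)))
    (factor_eq_zero_of_mem n) (V := k ⊗[A] M n)
    (TensorProduct.mk A k (M n) 1).toAddMonoidHom ?_ x hli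
  intro r y
  obtain ⟨a, rfl⟩ := Ideal.Quotient.mk_surjective r
  rw [mk_smul_level]
  show (1 : k) ⊗ₜ[A] (a • y) = (residue A a : k) • ((1 : k) ⊗ₜ[A] y)
  rw [TensorProduct.tmul_smul, TensorProduct.smul_tmul', TensorProduct.smul_tmul']
  congr 1

variable (ψ : ∀ n, M (n + 1) →ₗ[A] M n) (hψ : ∀ n, Function.Surjective (ψ n))

/-- compatible lifts along the tower -/
noncomputable def liftSeq {Z : Type u} (x0 : Z → M 0) : ∀ n, Z → M n
  | 0 => x0
  | n + 1 => fun z => Function.surjInv (hψ n) (liftSeq x0 n z)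

theorem liftSeq_succ {Z : Type u} (x0 : Z → M 0) (n : ℕ) (z : Z) :
    ψ n (liftSeq M ψ hψ x0 (n + 1) z) = liftSeq M ψ hψ x0 n z :=
  Function.surjInv_eq (hψ n) _

theorem linearIndependent_liftSeq {Z : Type u} (x0 : Z → M 0)
    (hli0 : LinearIndependent k (fun z => (1 : k) ⊗ₜ[A] x0 z)) :
    ∀ n, LinearIndependent k (fun z => (1 : k) ⊗ₜ[A] liftSeq M ψ hψ x0 n z)
  | 0 => hli0
  | n + 1 => by
    have ih := linearIndependent_liftSeq x0 hli0 n
    apply LinearIndependent.of_comp ((ψ n).baseChange k)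
    have : ((ψ n).baseChange k) ∘ (fun z => (1 : k) ⊗ₜ[A] liftSeq M ψ hψ x0 (n + 1) z) =
        fun z => (1 : k) ⊗ₜ[A] liftSeq M ψ hψ x0 n z := by
      funext z
      simp [liftSeq_succ]
    rw [this]
    exact ih

theorem span_liftSeq {Z : Type u} (x0 : Z → M 0)
    (hker : ∀ n, LinearMap.ker (ψ n) = (𝔪 ^ (n + 1) • ⊤ : Submodule A (M (n + 1))))
    (hspan0 : Submodule.span A (Set.range x0) = ⊤) :
    ∀ n, Submodule.span A (Set.range (liftSeq M ψ hψ x0 n)) = ⊤
  | 0 => hspan0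
  | n + 1 => by
    have ih := span_liftSeq x0 hker hspan0 n
    set N := Submodule.span A (Set.range (liftSeq M ψ hψ x0 (n + 1))) with hN
    have h1 : ∀ y : M (n + 1), ∃ y' ∈ N, y - y' ∈ (𝔪 ^ (n + 1) • ⊤ : Submodule A (M (n + 1))) := by
      intro y
      have hy : ψ n y ∈ Submodule.span A (Set.range (liftSeq M ψ hψ x0 n)) := by
        rw [ih]; trivial
      obtain ⟨c, hc⟩ := Finsupp.mem_span_range_iff_exists_finsupp.1 hy
      refine ⟨∑ i ∈ c.support, c i • liftSeq M ψ hψ x0 (n + 1) i, ?_, ?_⟩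
      · exact Submodule.sum_mem _ (fun i _ =>
          Submodule.smul_mem _ _ (Submodule.subset_span ⟨i, rfl⟩))
      · rw [← hker n, LinearMap.mem_ker, map_sub, map_sum, ← hc, Finsupp.sum, sub_eq_zero]
        refine Finset.sum_congr rfl (fun i _ => ?_)
        rw [map_smul, liftSeq_succ]
    have h2 : (𝔪 ^ (n + 1) • ⊤ : Submodule A (M (n + 1))) ≤ N := by
      rw [Submodule.smul_le]
      intro a ha y _
      obtain ⟨y', hy', hr⟩ := h1 y
      have har : a • (y - y') = 0 := by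
        have h3 : a • (y - y') ∈
            (𝔪 ^ (n + 1) • (𝔪 ^ (n + 1) • ⊤) : Submodule A (M (n + 1))) :=
          Submodule.smul_mem_smul ha hr
        rw [← mul_smul, ← pow_add] at h3
        have h4 : a • (y - y') ∈ (𝔪 ^ (n + 1 + 1) • ⊤ : Submodule A (M (n + 1))) :=
          Submodule.smul_mono_left (Ideal.pow_le_pow_right (by omega)) h3
        rw [pow_smul_top_eq_bot M (n + 1)] at h4
        simpa using h4
      have : a • y = a • y' := by
        rw [← sub_eq_zero, ← smul_sub]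
        exact har
      rw [this]
      exact Submodule.smul_mem _ _ hy'
    rw [eq_top_iff]
    rintro y -
    obtain ⟨y', hy', hr⟩ := h1 y
    have : y = y' + (y - y') := by abel
    rw [this]
    exact Submodule.add_mem _ hy' (h2 hr)

variable [∀ n, IsAdicComplete (maximalIdeal A) (M n)] {Z : Type u} (xs : ∀ n, Z → M n)

theorem psi_levelMap (hxs : ∀ n z, ψ n (xs (n + 1) z) = xs n z) (n : ℕ) (g : decaying 𝔪 Z A) :
    ψ n (decSum 𝔪 (xs (n + 1)) g) = decSum 𝔪 (xs n) g := by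
  obtain ⟨S, hS⟩ := exists_finset_of_decaying 𝔪 g (n + 1 + 1)
  rw [decSum_eq_sum_of_bot 𝔪 (n + 1 + 1) (pow_smul_top_eq_bot M (n + 1)) _ g S hS,
    decSum_eq_sum_of_bot 𝔪 (n + 1) (pow_smul_top_eq_bot M n) _ g S
      (fun z hz => Submodule.smul_mono_left (Ideal.pow_le_pow_right (Nat.le_succ _)) (hS z hz)),
    map_sum]
  refine Finset.sum_congr rfl (fun z _ => ?_)
  rw [map_smul, hxs]

theorem levelMap_surjective (n : ℕ) (hspan : Submodule.span A (Set.range (xs n)) = ⊤) :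
    Function.Surjective (decSum 𝔪 (xs n)) := by
  intro y
  have hy : y ∈ Submodule.span A (Set.range (xs n)) := by rw [hspan]; trivial
  obtain ⟨c, hc⟩ := Finsupp.mem_span_range_iff_exists_finsupp.1 hy
  have hcdec : (⇑c : Z → A) ∈ decaying 𝔪 Z A := fun N =>
    c.finite_support.subset (fun z hz => by
      simp only [Function.mem_support]
      intro h0
      apply hz
      rw [h0]
      exact Submodule.zero_mem _)
  refine ⟨⟨c, hcdec⟩, ?_⟩
  rw [decSum_eq_sum_of_bot 𝔪 (n + 1) (pow_smul_top_eq_bot M n) _ _ c.support (fun z hz => by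
    have h0 : c z = 0 := Finsupp.notMem_support_iff.1 hz
    show c z ∈ _
    rw [h0]
    exact Submodule.zero_mem _)]
  exact hc

theorem mem_pow_of_levelMap_eq_zero (n : ℕ)
    (hLI : LinearIndependent (A ⧸ 𝔪 ^ (n + 1)) (xs n)) (g : decaying 𝔪 Z A)
    (hg : decSum 𝔪 (xs n) g = 0) (z : Z) : (g : Z → A) z ∈ 𝔪 ^ (n + 1) := by
  obtain ⟨S, hS⟩ := exists_finset_of_decaying 𝔪 g (n + 1)
  by_cases hzS : z ∈ S
  · rw [decSum_eq_sum_of_bot 𝔪 (n + 1) (pow_smul_top_eq_bot M n) _ g S hS] at hg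
    have h2 : ∑ z ∈ S, (Ideal.Quotient.mk (𝔪 ^ (n + 1)) ((g : Z → A) z)) • xs n z = 0 := by
      rw [← hg]
      exact Finset.sum_congr rfl (fun z _ => mk_smul_level M n _ _)
    have := linearIndependent_iff'.1 hLI S _ h2 z hzS
    exact Ideal.Quotient.eq_zero_iff_mem.1 this
  · exact mem_pow_of_mem_smul_top 𝔪 (hS z hzS)

theorem levelMap_eq_zero_of_forall_mem (n : ℕ) (g : decaying 𝔪 Z A)
    (h : ∀ z, (g : Z → A) z ∈ 𝔪 ^ (n + 1)) : decSum 𝔪 (xs n) g = 0 := by
  rw [decSum_eq_sum_of_bot 𝔪 (n + 1) (pow_smul_top_eq_bot M n) _ g ∅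
    (fun z _ => mem_smul_top_of_mem_pow 𝔪 (h z))]
  simp

/-- the comparison map from decaying functions to the limit of the tower -/
noncomputable def towerMap (hxs : ∀ n z, ψ n (xs (n + 1) z) = xs n z) :
    decaying 𝔪 Z A →ₗ[A] sysLim M ψ :=
  LinearMap.codRestrict (sysLim M ψ) (LinearMap.pi fun n => decSum 𝔪 (xs n))
    (fun g n => psi_levelMap M ψ xs hxs n g)

theorem towerMap_apply (hxs : ∀ n z, ψ n (xs (n + 1) z) = xs n z) (g : decaying 𝔪 Z A) (n : ℕ) :
    ((towerMap M ψ xs hxs g : sysLim M ψ) : ∀ n, M n) n = decSum 𝔪 (xs n) g := rfl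

theorem towerMap_bijective [IsNoetherianRing A] [IsAdicComplete 𝔪 A]
    (hxs : ∀ n z, ψ n (xs (n + 1) z) = xs n z)
    (hsurj : ∀ n, Function.Surjective (decSum 𝔪 (xs n)))
    (hkerΦ : ∀ n (g : decaying 𝔪 Z A), decSum 𝔪 (xs n) g = 0 →
      ∀ z, (g : Z → A) z ∈ 𝔪 ^ (n + 1)) :
    Function.Bijective (towerMap M ψ xs hxs) := by
  constructor
  · rw [injective_iff_map_eq_zero]
    intro g hg
    apply Subtype.ext
    funext z
    show (g : Z → A) z = 0
    apply IsHausdorff.haus' (I := 𝔪)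
    intro n
    rw [SModEq.zero]
    have h0 : decSum 𝔪 (xs n) g = 0 := by
      rw [← towerMap_apply M ψ xs hxs g n, hg]
      rfl
    exact mem_smul_top_of_mem_pow 𝔪 (Ideal.pow_le_pow_right (Nat.le_succ n) (hkerΦ n g h0 z))
  · intro y
    choose G hG using fun n => hsurj n ((y : ∀ n, M n) n)
    have : IsAdicComplete 𝔪 (decaying 𝔪 Z A) := Groth.Agent.S17546.result 𝔪 Z
    have hy : ∀ n, ψ n ((y : ∀ n, M n) (n + 1)) = (y : ∀ n, M n) n := y.2
    have hstep : ∀ (g : decaying 𝔪 Z A) (j : ℕ),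
        decSum 𝔪 (xs (j + 1)) g = (y : ∀ n, M n) (j + 1) →
        decSum 𝔪 (xs j) g = (y : ∀ n, M n) j := by
      intro g j h
      rw [← psi_levelMap M ψ xs hxs, h, hy j]
    have hdown : ∀ (g : decaying 𝔪 Z A) (i d : ℕ),
        decSum 𝔪 (xs (i + d)) g = (y : ∀ n, M n) (i + d) →
        decSum 𝔪 (xs i) g = (y : ∀ n, M n) i := by
      intro g i d
      induction d with
      | zero => exact id
      | succ d ih => intro h; exact ih (hstep g (i + d) h)
    have hcauchy : ∀ {m n : ℕ}, m ≤ n →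
        G m ≡ G n [SMOD (𝔪 ^ m • ⊤ : Submodule A (decaying 𝔪 Z A))] := by
      intro m n hmn
      obtain ⟨d, rfl⟩ := Nat.exists_eq_add_of_le hmn
      rw [SModEq.sub_mem, mem_pow_smul_top_decaying_iff]
      intro z
      have h0 : decSum 𝔪 (xs m) (G m - G (m + d)) = 0 := by
        rw [map_sub, hG m, hdown (G (m + d)) m d (hG (m + d)), sub_self]
      exact Ideal.pow_le_pow_right (Nat.le_succ m) (hkerΦ m _ h0 z)
    obtain ⟨g, hg⟩ := IsPrecomplete.prec' (I := 𝔪) G hcauchy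
    refine ⟨g, Subtype.ext (funext fun n => ?_)⟩
    rw [towerMap_apply]
    have h1 := hg (n + 1)
    rw [SModEq.sub_mem, mem_pow_smul_top_decaying_iff] at h1
    have h2 := levelMap_eq_zero_of_forall_mem M xs n (G (n + 1) - g) h1
    rw [map_sub, sub_eq_zero] at h2
    rw [← h2]
    exact hstep (G (n + 1)) n (hG (n + 1))

end tower

section final

variable {A : Type u} [CommRing A] [IsNoetherianRing A] [IsLocalRing A]
  [IsAdicComplete (maximalIdeal A) A]

local notation "𝔪" => maximalIdeal A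
local notation "k" => ResidueField A

theorem tower_main (M : ℕ → Type u) [∀ n, AddCommGroup (M n)] [∀ n, Module A (M n)]
    [∀ n, Module (A ⧸ maximalIdeal A ^ (n + 1)) (M n)]
    [∀ n, IsScalarTower A (A ⧸ maximalIdeal A ^ (n + 1)) (M n)]
    [∀ n, Module.Flat (A ⧸ maximalIdeal A ^ (n + 1)) (M n)]
    (ψ : ∀ n, M (n + 1) →ₗ[A] M n) (hψ : ∀ n, Function.Surjective (ψ n))
    (hker : ∀ n, LinearMap.ker (ψ n) = (𝔪 ^ (n + 1) • ⊤ : Submodule A (M (n + 1)))) :
    (∃ Z : Type u, Nonempty (decaying 𝔪 Z A ≃ₗ[A] sysLim M ψ)) ∧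
      ∀ n, Function.Surjective (sysProj M ψ n) ∧
        LinearMap.ker (sysProj M ψ n) = (𝔪 ^ (n + 1) • ⊤ : Submodule A (sysLim M ψ)) := by
  classical
  have : ∀ n, IsAdicComplete 𝔪 (M n) := fun n =>
    isAdicComplete_of_pow_smul_top_eq_bot 𝔪 (n + 1) (pow_smul_top_eq_bot M n)
  set b := Module.Free.chooseBasis k (k ⊗[A] M 0) with hb
  have hsurj0 : Function.Surjective (TensorProduct.mk A k (M 0) 1) :=
    TensorProduct.mk_surjective A (M 0) k Ideal.Quotient.mk_surjective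
  choose x0 hx0 using fun z => hsurj0 (b z)
  have hx0' : ∀ z, (1 : k) ⊗ₜ[A] x0 z = b z := hx0
  have hli0 : LinearIndependent k (fun z => (1 : k) ⊗ₜ[A] x0 z) := by
    have h2 : (fun z => (1 : k) ⊗ₜ[A] x0 z) = b := funext hx0'
    rw [h2]
    exact b.linearIndependent
  have hspan0 : Submodule.span A (Set.range x0) = ⊤ := by
    have h := span_sup_of_basis b x0 hx0'
    have hbot : (𝔪 • ⊤ : Submodule A (M 0)) = ⊥ := by
      have := pow_smul_top_eq_bot (A := A) M 0
      rwa [zero_add, pow_one] at this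
    rwa [hbot, sup_bot_eq] at h
  set xs := liftSeq M ψ hψ x0 with hxsdef
  have hxs : ∀ n z, ψ n (xs (n + 1) z) = xs n z := liftSeq_succ M ψ hψ x0
  have hli := linearIndependent_liftSeq M ψ hψ x0 hli0
  have hLI : ∀ n, LinearIndependent (A ⧸ 𝔪 ^ (n + 1)) (xs n) := fun n =>
    linearIndependent_quot M n (xs n) (hli n)
  have hspan := span_liftSeq M ψ hψ x0 hker hspan0
  have hsurj : ∀ n, Function.Surjective (decSum 𝔪 (xs n)) := fun n =>
    levelMap_surjective M xs n (hspan n)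
  have hkerΦ : ∀ n (g : decaying 𝔪 _ A), decSum 𝔪 (xs n) g = 0 →
      ∀ z, (g : _ → A) z ∈ 𝔪 ^ (n + 1) := fun n g hg z =>
    mem_pow_of_levelMap_eq_zero M xs n (hLI n) g hg z
  have hbij := towerMap_bijective M ψ xs hxs hsurj hkerΦ
  set Φ := towerMap M ψ xs hxs with hΦ
  refine ⟨⟨_, ⟨LinearEquiv.ofBijective Φ hbij⟩⟩, fun n => ⟨?_, ?_⟩⟩
  · intro y
    obtain ⟨g, hg⟩ := hsurj n y
    exact ⟨Φ g, hg⟩
  · apply le_antisymm
    · intro y hy
      obtain ⟨g, rfl⟩ := hbij.2 y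
      have h0 : decSum 𝔪 (xs n) g = 0 := hy
      have hmem : g ∈ (𝔪 ^ (n + 1) • ⊤ : Submodule A (decaying 𝔪 _ A)) :=
        (mem_pow_smul_top_decaying_iff 𝔪 (n + 1) g).2 (hkerΦ n g h0)
      exact map_mem_smul_top (𝔪 ^ (n + 1)) Φ hmem
    · rw [Submodule.smul_le]
      intro a ha y _
      rw [LinearMap.mem_ker, map_smul]
      have : a • sysProj M ψ n y ∈ (𝔪 ^ (n + 1) • ⊤ : Submodule A (M n)) :=
        Submodule.smul_mem_smul ha Submodule.mem_top
      rw [pow_smul_top_eq_bot M n] at this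
      simpa using this

end final

end Groth.Agent.H87
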