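import Groth.Agent.H87.AdicPi
import Mathlib.RingTheory.AdicCompletion.Algebra
import Mathlib.RingTheory.Nilpotent.Basic

set_option autoImplicit false
universe u

namespace Groth.Agent.H87

variable {R : Type u} [CommRing R] (I : Ideal R)

theorem isUnit_of_forall_isUnit_val (x : AdicCompletion I R) (h : ∀ n, IsUnit (x.val n)) :
    IsUnit x := by
  have hcompat : ∀ {m n : ℕ} (hmn : m ≤ n),
      AdicCompletion.transitionMap I R hmn (↑((h n).unit⁻¹) : R ⧸ (I ^ n • ⊤ : Ideal R)) =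
        ↑((h m).unit⁻¹) := by
    intro m n hmn
    have h1 : AdicCompletion.transitionMap I R hmn
        (↑((h n).unit⁻¹) : R ⧸ (I ^ n • ⊤ : Ideal R)) * x.val m = 1 := by
      rw [← AdicCompletion.transitionMap_comp_eval_apply I R hmn x,
        ← AdicCompletion.transitionMap_map_mul, IsUnit.val_inv_mul,
        AdicCompletion.transitionMap_map_one]
    calc AdicCompletion.transitionMap I R hmn (↑((h n).unit⁻¹) : R ⧸ (I ^ n • ⊤ : Ideal R))
        = AdicCompletion.transitionMap I R hmn (↑((h n).unit⁻¹) : R ⧸ (I ^ n • ⊤ : Ideal R)) *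
            (x.val m * ↑((h m).unit⁻¹)) := by rw [IsUnit.mul_val_inv, mul_one]
      _ = (AdicCompletion.transitionMap I R hmn (↑((h n).unit⁻¹) : R ⧸ (I ^ n • ⊤ : Ideal R)) *
            x.val m) * ↑((h m).unit⁻¹) := (mul_assoc _ _ _).symm
      _ = ↑((h m).unit⁻¹) := by rw [h1, one_mul]
  refine isUnit_iff_exists_inv.mpr ⟨⟨fun n => ↑((h n).unit⁻¹), fun hmn => hcompat hmn⟩, ?_⟩
  apply AdicCompletion.ext
  intro n
  rw [AdicCompletion.val_mul, AdicCompletion.val_one]
  exact IsUnit.mul_val_inv (h n)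

theorem isUnit_val_of_isUnit_val_one (x : AdicCompletion I R) (h1 : IsUnit (x.val 1)) (n : ℕ) :
    IsUnit (x.val n) := by
  rcases Nat.eq_zero_or_pos n with rfl | hn
  · have : Subsingleton (R ⧸ (I ^ 0 • ⊤ : Ideal R)) := by
      rw [Ideal.Quotient.subsingleton_iff, eq_top_iff]
      intro a _
      exact (mem_smul_top_self _ _).mpr (by simp)
    exact isUnit_of_subsingleton _
  · have hn' : 1 ≤ n := hn
    obtain ⟨r, hr⟩ := Ideal.Quotient.mk_surjective (x.val n)
    have hr1 : x.val 1 = Ideal.Quotient.mk (I ^ 1 • ⊤ : Ideal R) r := by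
      rw [← AdicCompletion.transitionMap_comp_eval_apply I R hn' x, ← hr]
      rfl
    rw [hr1] at h1
    obtain ⟨s', hs'⟩ := isUnit_iff_exists_inv.mp h1
    obtain ⟨s, rfl⟩ := Ideal.Quotient.mk_surjective s'
    have hs'' : Ideal.Quotient.mk (I ^ 1 • ⊤ : Ideal R) (r * s) =
        Ideal.Quotient.mk (I ^ 1 • ⊤ : Ideal R) 1 := by
      rw [map_mul, map_one]
      exact hs'
    have h2 : r * s - 1 ∈ I := by
      have := (mem_smul_top_self (I ^ 1) _).mp (Ideal.Quotient.eq.mp hs'')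
      rwa [pow_one] at this
    have h3 : (r * s - 1) ^ n ∈ (I ^ n • ⊤ : Ideal R) :=
      (mem_smul_top_self (I ^ n) _).mpr (Ideal.pow_mem_pow h2 n)
    have h4 : IsNilpotent (Ideal.Quotient.mk (I ^ n • ⊤ : Ideal R) (r * s - 1)) :=
      ⟨n, by rw [← map_pow]; exact Ideal.Quotient.eq_zero_iff_mem.mpr h3⟩
    have h5 : IsUnit (Ideal.Quotient.mk (I ^ n • ⊤ : Ideal R) r *
        Ideal.Quotient.mk (I ^ n • ⊤ : Ideal R) s) := by
      have h6 := h4.isUnit_add_one
      have h7 : Ideal.Quotient.mk (I ^ n • ⊤ : Ideal R) (r * s - 1) + 1 =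
          Ideal.Quotient.mk (I ^ n • ⊤ : Ideal R) r * Ideal.Quotient.mk (I ^ n • ⊤ : Ideal R) s := by
        rw [map_sub, map_one, sub_add_cancel, map_mul]
      rwa [h7] at h6
    rw [← hr]
    exact isUnit_of_mul_isUnit_left h5

theorem isUnit_of_isUnit_evalₐ_one (x : AdicCompletion I R)
    (h : IsUnit (AdicCompletion.evalₐ I 1 x)) : IsUnit x := by
  have hle : I ^ 1 ≤ (I ^ 1 • ⊤ : Ideal R) := fun a ha => (mem_smul_top_self _ _).mpr ha
  have h1 : IsUnit (x.val 1) := by
    have := h.map (Ideal.Quotient.factor hle)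
    rwa [AdicCompletion.factor_evalₐ_eq_eval] at this
  exact isUnit_of_forall_isUnit_val I x (isUnit_val_of_isUnit_val_one I x h1)

end Groth.Agent.H87
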