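import Groth.Agent.H87.LiftJ
import Groth.Agent.H87.ComplFlat
import Groth.Agent.H79.CIOpen
import Groth.Agent.H15.FlatLoc
import Groth.Prelude.Def_Pi1

/-!
# Ascent of the complete intersection property along adically formally smooth local homomorphisms
(helper87)

* `fs_of_dense_base`: adic formal smoothness over `R` passes to a base `R'` in which `R` is dense.
* `isCI_of_fs`: if `R → S` is a local homomorphism of Noetherian local rings, formally smooth for
  the `𝔪_S`-adic topology, and `R` is a complete intersection, then so is `S`.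
-/

set_option autoImplicit false
set_option linter.style.haveILetI false
set_option maxHeartbeats 400000

namespace Groth.Agent.H87.CIAscent

open IsLocalRing TensorProduct

universe u

theorem fs_of_dense_base {R R' B : Type u} [CommRing R] [CommRing R'] [CommRing B] [Algebra R R']
    [Algebra R' B] [Algebra R B] [IsScalarTower R R' B] (𝔪' : Ideal R') (𝔫 : Ideal B)
    (h1 : 𝔪'.map (algebraMap R' B) ≤ 𝔫)
    (h2 : ∀ (n : ℕ) (x : R'), ∃ r : R, x - algebraMap R R' r ∈ 𝔪' ^ n)
    (h : CAlgX.IsAdicFormallySmooth R B 𝔫) : CAlgX.IsAdicFormallySmooth R' B 𝔫 := by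
  intro C _ _ J hJ ψ hψ
  obtain ⟨k, hk⟩ := hψ
  letI : Algebra R C := ((algebraMap R' C).comp (algebraMap R R')).toAlgebra
  haveI : IsScalarTower R R' C := IsScalarTower.of_algebraMap_eq (fun _ => rfl)
  obtain ⟨χ, hχ⟩ := h C J hJ (ψ.restrictScalars R) ⟨k, hk⟩
  have hχψ : ∀ b : B, Ideal.Quotient.mk J (χ b) = ψ b := fun b => congr($hχ b)
  have hpow : ∀ y ∈ 𝔪' ^ k, algebraMap R' B y ∈ 𝔫 ^ k := by
    intro y hy
    have : algebraMap R' B y ∈ (𝔪' ^ k).map (algebraMap R' B) := Ideal.mem_map_of_mem _ hy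
    rw [Ideal.map_pow] at this
    exact Ideal.pow_right_mono h1 k this
  have hi : ∀ z ∈ 𝔫 ^ k, χ z ∈ J := by
    intro z hz
    rw [← Ideal.Quotient.eq_zero_iff_mem, hχψ, hk z hz]
  have hii : ∀ z ∈ 𝔫 ^ k * 𝔫 ^ k, χ z = 0 := by
    intro z hz
    refine Submodule.mul_induction_on hz (fun a ha b hb => ?_) (fun a b ha hb => ?_)
    · have : χ a * χ b ∈ J ^ 2 := by
        rw [pow_two]
        exact Ideal.mul_mem_mul (hi a ha) (hi b hb)
      rw [hJ, Ideal.mem_bot] at this
      rw [map_mul, this]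
    · rw [map_add, ha, hb, add_zero]
  have hiii : ∀ y ∈ 𝔪' ^ k, algebraMap R' C y ∈ J := by
    intro y hy
    rw [← Ideal.Quotient.eq_zero_iff_mem]
    have : Ideal.Quotient.mk J (algebraMap R' C y) = ψ (algebraMap R' B y) := by
      rw [ψ.commutes]
      rfl
    rw [this, hk _ (hpow y hy)]
  have hiv : ∀ y ∈ 𝔪' ^ k * 𝔪' ^ k, algebraMap R' C y = 0 := by
    intro y hy
    refine Submodule.mul_induction_on hy (fun a ha b hb => ?_) (fun a b ha hb => ?_)
    · have : algebraMap R' C a * algebraMap R' C b ∈ J ^ 2 := by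
        rw [pow_two]
        exact Ideal.mul_mem_mul (hiii a ha) (hiii b hb)
      rw [hJ, Ideal.mem_bot] at this
      rw [map_mul, this]
    · rw [map_add, ha, hb, add_zero]
  have hcomm : ∀ x : R', χ (algebraMap R' B x) = algebraMap R' C x := by
    intro x
    obtain ⟨r, hr⟩ := h2 (k + k) x
    rw [pow_add] at hr
    have e1 : x = algebraMap R R' r + (x - algebraMap R R' r) := by ring
    have e2 : algebraMap R' B (x - algebraMap R R' r) ∈ 𝔫 ^ k * 𝔫 ^ k := by
      have : algebraMap R' B (x - algebraMap R R' r) ∈ (𝔪' ^ k * 𝔪' ^ k).map (algebraMap R' B) :=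
        Ideal.mem_map_of_mem _ hr
      rw [Ideal.map_mul, Ideal.map_pow] at this
      exact Ideal.mul_mono (Ideal.pow_right_mono h1 k) (Ideal.pow_right_mono h1 k) this
    calc χ (algebraMap R' B x)
        = χ (algebraMap R' B (algebraMap R R' r)) + χ (algebraMap R' B (x - algebraMap R R' r)) := by
          rw [← map_add, ← map_add, ← e1]
      _ = χ (algebraMap R B r) + 0 := by
          rw [hii _ e2, ← IsScalarTower.algebraMap_apply R R' B]
      _ = algebraMap R' C (algebraMap R R' r) + algebraMap R' C (x - algebraMap R R' r) := by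
          rw [hiv _ hr, χ.commutes]
          rfl
      _ = algebraMap R' C x := by rw [← map_add, ← e1]
  refine ⟨{ χ.toRingHom with commutes' := hcomm }, ?_⟩
  apply AlgHom.ext
  intro b
  exact hχψ b

section Ascent

variable {R S : Type u} [CommRing R] [CommRing S] [IsLocalRing R] [IsLocalRing S]
  [IsNoetherianRing R] [IsNoetherianRing S] [Algebra R S] [IsLocalHom (algebraMap R S)]

theorem isCI_of_fs (h : CAlgX.IsAdicFormallySmooth R S (maximalIdeal S))
    (hR : Pi1.IsCompleteIntersection R) : Pi1.IsCompleteIntersection S := by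
  classical
  obtain ⟨T, instT, hT, rs, hrs, hreg, ⟨e⟩⟩ := hR
  obtain ⟨J, hJdef⟩ : ∃ J : Ideal T, J = Ideal.span {r | r ∈ rs} := ⟨_, rfl⟩
  rw [← hJdef] at e
  have hJle : J ≤ maximalIdeal T := by
    rw [hJdef]
    exact Ideal.span_le.2 (fun r hr => hrs r hr)
  haveI : Nontrivial (T ⧸ J) :=
    Ideal.Quotient.nontrivial_iff.2 (fun h =>
      (maximalIdeal.isMaximal _).ne_top (top_le_iff.1 (h ▸ hJle)))
  haveI : IsLocalRing (T ⧸ J) :=
    IsLocalRing.of_surjective' (Ideal.Quotient.mk J) Ideal.Quotient.mk_surjective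
  -- the completion of `S`
  have hfs1 : EGA41.IsFormallySmoothAdic R ⊥ (AdicCompletion (maximalIdeal S) S)
      (maximalIdeal (AdicCompletion (maximalIdeal S) S)) :=
    Groth.Agent.H87.LocalFS.fs_iff_completion.1 h
  have hfs2 : CAlgX.IsAdicFormallySmooth R (AdicCompletion (maximalIdeal S) S)
      (maximalIdeal (AdicCompletion (maximalIdeal S) S)) := (Groth.Agent.S4537.result _).2 hfs1
  have hle : (maximalIdeal R).map (algebraMap R S) ≤ maximalIdeal S :=
    Groth.Agent.H87.LocalFS.map_le_maximalIdeal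
  obtain ⟨g, hgdef⟩ : ∃ g : AdicCompletion (maximalIdeal R) R →+* AdicCompletion (maximalIdeal S) S,
      g = FSch.complMap (maximalIdeal R) (maximalIdeal S) (algebraMap R S) hle := ⟨_, rfl⟩
  have hg : ∀ r : R, g (algebraMap R (AdicCompletion (maximalIdeal R) R) r) =
      algebraMap S (AdicCompletion (maximalIdeal S) S) (algebraMap R S r) := by
    intro r
    rw [hgdef]
    exact Groth.Agent.H87.ComplFlat.complMap_algebraMap _ _ _ hle r
  haveI hgl : IsLocalHom g := by
    apply ((IsLocalRing.local_hom_TFAE g).out 0 2).mpr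
    rw [AdicCompletion.maximalIdeal_eq_map, Ideal.map_map, Ideal.map_le_iff_le_comap]
    intro r hr
    rw [Ideal.mem_comap, RingHom.comp_apply, hg, AdicCompletion.maximalIdeal_eq_map]
    exact Ideal.mem_map_of_mem _ (hle (Ideal.mem_map_of_mem _ hr))
  letI algTJ : Algebra (T ⧸ J) (AdicCompletion (maximalIdeal S) S) :=
    (g.comp e.symm.toRingHom).toAlgebra
  letI algR : Algebra R (T ⧸ J) :=
    (e.toRingHom.comp (algebraMap R (AdicCompletion (maximalIdeal R) R))).toAlgebra
  haveI tow1 : IsScalarTower R (T ⧸ J) (AdicCompletion (maximalIdeal S) S) :=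
    IsScalarTower.of_algebraMap_eq (fun r => by
      show algebraMap R (AdicCompletion (maximalIdeal S) S) r =
        g (e.symm (e (algebraMap R (AdicCompletion (maximalIdeal R) R) r)))
      rw [e.symm_apply_apply, hg]
      rfl)
  haveI hloc1 : IsLocalHom (algebraMap (T ⧸ J) (AdicCompletion (maximalIdeal S) S)) := by
    show IsLocalHom (g.comp e.symm.toRingHom)
    haveI : IsLocalHom e.symm.toRingHom :=
      ⟨fun a ha => by
        have := ha.map e.toRingHom
        simpa using this⟩
    exact RingHom.isLocalHom_comp _ _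
  letI algT : Algebra T (AdicCompletion (maximalIdeal S) S) :=
    ((algebraMap (T ⧸ J) (AdicCompletion (maximalIdeal S) S)).comp (Ideal.Quotient.mk J)).toAlgebra
  haveI tow2 : IsScalarTower T (T ⧸ J) (AdicCompletion (maximalIdeal S) S) :=
    IsScalarTower.of_algebraMap_eq (fun _ => rfl)
  -- formal smoothness over `T ⧸ J`
  have hfs3 : CAlgX.IsAdicFormallySmooth (T ⧸ J) (AdicCompletion (maximalIdeal S) S)
      (maximalIdeal (AdicCompletion (maximalIdeal S) S)) := by
    refine fs_of_dense_base (R := R) (maximalIdeal (T ⧸ J)) _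
      (((IsLocalRing.local_hom_TFAE _).out 0 2).mp hloc1) ?_ hfs2
    intro n x
    obtain ⟨b, hb⟩ := Groth.Agent.H87.LocalFS.exists_sub_mem_pow (maximalIdeal R) n (e.symm x)
    refine ⟨b, ?_⟩
    rw [← AdicCompletion.maximalIdeal_eq_map] at hb
    have h3 : e (e.symm x - algebraMap R (AdicCompletion (maximalIdeal R) R) b) ∈
        (maximalIdeal (AdicCompletion (maximalIdeal R) R) ^ n).map e.toRingHom :=
      Ideal.mem_map_of_mem e.toRingHom hb
    rw [Ideal.map_pow, map_sub, e.apply_symm_apply] at h3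
    refine Ideal.pow_right_mono ?_ n h3
    rw [Ideal.map_le_iff_le_comap]
    intro y hy
    exact Groth.Agent.H87.LocalFS.equiv_mem_maximalIdeal e hy
  have hfs4 : EGA41.IsFormallySmoothAdic (T ⧸ J) ⊥ (AdicCompletion (maximalIdeal S) S)
      (maximalIdeal (AdicCompletion (maximalIdeal S) S)) := (Groth.Agent.S4537.result _).1 hfs3
  -- the lift
  obtain ⟨T', _, _, _, hN', hC', hL', hF', hfs', ψ, hψ, hkψ⟩ :=
    Groth.Agent.H87.LiftJ.exists_liftJ (A := T) J (AdicCompletion (maximalIdeal S) S) hfs4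
  haveI := hN'
  haveI := hC'
  haveI := hL'
  haveI := hF'
  -- `T'` is regular
  have hκ : Function.Surjective (algebraMap T (ResidueField T)) := IsLocalRing.residue_surjective
  obtain ⟨B₀, _, _, _, _, hN₀, hC₀, hT₀, φ, hφ, hkφ⟩ :=
    Groth.Agent.H87.LiftJ.exists_fibre (A₀ := T) (R := T') (κ := ResidueField T) hκ
  haveI := hN₀
  haveI := hC₀
  haveI := hT₀
  have hP0 : CAlgX.IsAdicFormallySmooth (ResidueField T) B₀ (maximalIdeal B₀) :=
    Groth.Agent.H87.LiftJ.fs_fibre_of_fs hκ φ hφ hkφ hfs'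
  haveI hB₀reg : IsRegularLocalRing B₀ := Groth.Agent.Lead.GeomReg.regular_of_fs hP0
  have hFib : IsRegularLocalRing (EGA4.FibRing T T') := by
    have e1 : (T' ⧸ RingHom.ker φ.toRingHom) ≃+* B₀ :=
      RingHom.quotientKerEquivOfSurjective (f := φ.toRingHom) hφ
    have e2 : EGA4.FibRing T T' ≃+* (T' ⧸ RingHom.ker φ.toRingHom) :=
      Ideal.quotEquivOfEq hkφ.symm
    exact IsRegularLocalRing.of_ringEquiv (e2.trans e1).symm
  haveI hT'reg : IsRegularLocalRing T' := Groth.Agent.H15.FlatLoc.isRegularLocalRing_of_flat hT hFib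
  -- the regular sequence
  haveI : Module.FaithfullyFlat T T' := Module.FaithfullyFlat.of_flat_of_isLocalHom
  have hreg' : RingTheory.Sequence.IsRegular T' (rs.map (algebraMap T T')) :=
    RingTheory.Sequence.IsRegular.of_faithfullyFlat hreg
  have hmem' : ∀ r ∈ rs.map (algebraMap T T'), r ∈ maximalIdeal T' := by
    intro r hr
    obtain ⟨a, ha, rfl⟩ := List.mem_map.1 hr
    exact Groth.Agent.H87.LiftJ.map_le_max (Ideal.mem_map_of_mem _ (hrs a ha))
  have hspan : RingHom.ker ψ.toRingHom = Ideal.span {r | r ∈ rs.map (algebraMap T T')} := by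
    rw [hkψ, hJdef, Ideal.map_span]
    congr 1
    ext x
    simp only [Set.mem_image, Set.mem_ofPred_eq, List.mem_map]
  have e3 : (T' ⧸ RingHom.ker ψ.toRingHom) ≃+* AdicCompletion (maximalIdeal S) S :=
    RingHom.quotientKerEquivOfSurjective (f := ψ.toRingHom) hψ
  exact ⟨T', inferInstance, hT'reg, rs.map (algebraMap T T'), hmem', hreg',
    ⟨e3.symm.trans (Ideal.quotEquivOfEq hspan)⟩⟩

end Ascent

end Groth.Agent.H87.CIAscent
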