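import Mathlib

/-!
# Closed points of locally Noetherian schemes (helper87)

* `domain_case`, `no_chain`: in a Noetherian ring, if a prime `P` is an "open point" of `V(P)`
  (there is `f ∉ P` lying in all primes strictly containing `P`), then there is no chain
  `P < Q₁ < Q₂` of primes (Krull's principal ideal theorem + prime avoidance).
* `exists_specializes_isClosed`: every point of a locally Noetherian scheme specializes to a closed
  point (Stacks 02IL).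
-/

set_option autoImplicit false

universe u

open AlgebraicGeometry

namespace Groth.Agent.H87.ClosedPt

theorem domain_case {D : Type*} [CommRing D] [IsDomain D] [IsNoetherianRing D]
    (Q₁ Q₂ : Ideal D) [Q₁.IsPrime] [Q₂.IsPrime] (h0 : Q₁ ≠ ⊥) (h2 : Q₁ < Q₂) (f : D) (hf : f ≠ 0)
    (hP : ∀ P' : Ideal D, P'.IsPrime → P' ≠ ⊥ → f ∈ P') : False := by
  classical
  have hbot : (⊥ : Ideal D).IsPrime := Ideal.isPrime_bot
  have hQ2 : Q₂ ≠ ⊥ := fun h => by
    rw [h] at h2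
    exact not_lt_bot h2
  have hfQ2 : Ideal.span {f} ≤ Q₂ := by
    rw [Ideal.span_singleton_le_iff_mem]
    exact hP Q₂ inferInstance hQ2
  have hfin := Ideal.finite_minimalPrimes_of_isNoetherianRing D (Ideal.span {f})
  -- every prime minimal over (f) has height ≤ 1
  have hM1 : ∀ 𝔮 ∈ (Ideal.span {f}).minimalPrimes, 𝔮.height ≤ 1 := fun 𝔮 h𝔮 =>
    Ideal.height_le_one_of_isPrincipal_of_mem_minimalPrimes _ 𝔮 h𝔮
  have hcover : ∀ a ∈ Q₂, ∃ 𝔮 ∈ (Ideal.span {f}).minimalPrimes, a ∈ 𝔮 := by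
    intro a ha
    by_cases ha0 : a = 0
    · obtain ⟨𝔮, h𝔮, -⟩ := Ideal.exists_minimalPrimes_le hfQ2
      exact ⟨𝔮, h𝔮, ha0 ▸ 𝔮.zero_mem⟩
    · have haQ2 : Ideal.span {a} ≤ Q₂ := by
        rw [Ideal.span_singleton_le_iff_mem]
        exact ha
      obtain ⟨𝔮, h𝔮, h𝔮le⟩ := Ideal.exists_minimalPrimes_le haQ2
      haveI h𝔮p : 𝔮.IsPrime := h𝔮.1.1
      have ha𝔮 : a ∈ 𝔮 := h𝔮.1.2 (Ideal.mem_span_singleton_self a)
      have h𝔮0 : 𝔮 ≠ ⊥ := fun h => ha0 (by rw [h] at ha𝔮; exact ha𝔮)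
      have hf𝔮 : Ideal.span {f} ≤ 𝔮 := by
        rw [Ideal.span_singleton_le_iff_mem]
        exact hP 𝔮 h𝔮p h𝔮0
      obtain ⟨𝔮', h𝔮', h𝔮'le⟩ := Ideal.exists_minimalPrimes_le hf𝔮
      haveI h𝔮'p : 𝔮'.IsPrime := h𝔮'.1.1
      have hf𝔮' : f ∈ 𝔮' := h𝔮'.1.2 (Ideal.mem_span_singleton_self f)
      have h𝔮'0 : 𝔮' ≠ ⊥ := fun h => hf (by rw [h] at hf𝔮'; exact hf𝔮')
      have hht : 𝔮.height ≤ 1 :=
        Ideal.height_le_one_of_isPrincipal_of_mem_minimalPrimes _ 𝔮 h𝔮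
      have heq : 𝔮' = 𝔮 := by
        by_contra hne
        have hlt : 𝔮' < 𝔮 := lt_of_le_of_ne h𝔮'le hne
        have h1 : (⊥ : Ideal D).height + 1 ≤ 𝔮'.height :=
          Ideal.height_add_one_le_of_lt_of_isPrime (bot_lt_iff_ne_bot.mpr h𝔮'0)
        have h2' : 𝔮'.height + 1 ≤ 𝔮.height := Ideal.height_add_one_le_of_lt_of_isPrime hlt
        have h3 : (1 : ℕ∞) ≤ 𝔮'.height := le_trans (by simp) h1
        have h4 : (2 : ℕ∞) ≤ 𝔮.height := by
          calc (2 : ℕ∞) = 1 + 1 := by norm_num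
            _ ≤ 𝔮'.height + 1 := by gcongr
            _ ≤ 𝔮.height := h2'
        have : (2 : ℕ∞) ≤ 1 := h4.trans hht
        exact absurd this (by norm_num)
      exact ⟨𝔮', h𝔮', heq ▸ ha𝔮⟩
  have hsub : ((Q₂ : Ideal D) : Set D) ⊆ ⋃ i ∈ (↑hfin.toFinset : Set (Ideal D)), (id i : Ideal D) := by
    intro a ha
    obtain ⟨𝔮, h𝔮, ha𝔮⟩ := hcover a ha
    simp only [Set.mem_iUnion]
    exact ⟨𝔮, by simpa using h𝔮, ha𝔮⟩
  have hprime : ∀ i ∈ hfin.toFinset, i ≠ (⊥ : Ideal D) → i ≠ (⊥ : Ideal D) →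
      Ideal.IsPrime (id i : Ideal D) := by
    intro i hi _ _
    have : i ∈ (Ideal.span {f}).minimalPrimes := by simpa using hi
    exact this.1.1
  obtain ⟨𝔮, h𝔮mem, hQ𝔮⟩ := (Ideal.subset_union_prime (R := D) (s := hfin.toFinset)
    (f := fun i => (id i : Ideal D)) ⊥ ⊥ hprime).mp hsub
  have h𝔮 : 𝔮 ∈ (Ideal.span {f}).minimalPrimes := by simpa using h𝔮mem
  have hht := hM1 𝔮 h𝔮
  have h1 : (⊥ : Ideal D).height + 1 ≤ Q₁.height :=
    Ideal.height_add_one_le_of_lt_of_isPrime (bot_lt_iff_ne_bot.mpr h0)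
  have h2' : Q₁.height + 1 ≤ Q₂.height := Ideal.height_add_one_le_of_lt_of_isPrime h2
  have h3 : (1 : ℕ∞) ≤ Q₁.height := le_trans (by simp) h1
  have h4 : (2 : ℕ∞) ≤ Q₂.height := by
    calc (2 : ℕ∞) = 1 + 1 := by norm_num
      _ ≤ Q₁.height + 1 := by gcongr
      _ ≤ Q₂.height := h2'
  have h5 : Q₂.height ≤ 𝔮.height := Ideal.height_mono hQ𝔮
  have : (2 : ℕ∞) ≤ 1 := (h4.trans h5).trans hht
  exact absurd this (by norm_num)

theorem no_chain {S : Type*} [CommRing S] [IsNoetherianRing S] (P Q₁ Q₂ : Ideal S)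
    [P.IsPrime] [Q₁.IsPrime] [Q₂.IsPrime] (h1 : P < Q₁) (h2 : Q₁ < Q₂) (f : S) (hf : f ∉ P)
    (hP : ∀ P' : Ideal S, P'.IsPrime → P < P' → f ∈ P') : False := by
  have hsurj : Function.Surjective (Ideal.Quotient.mk P) := Ideal.Quotient.mk_surjective
  have hker : RingHom.ker (Ideal.Quotient.mk P) = P := Ideal.mk_ker
  haveI hQ1 : (Q₁.map (Ideal.Quotient.mk P)).IsPrime :=
    Ideal.map_isPrime_of_surjective hsurj (by rw [hker]; exact h1.le)
  haveI hQ2 : (Q₂.map (Ideal.Quotient.mk P)).IsPrime :=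
    Ideal.map_isPrime_of_surjective hsurj (by rw [hker]; exact (h1.trans h2).le)
  have hcm : ∀ Q : Ideal S, P ≤ Q → (Q.map (Ideal.Quotient.mk P)).comap (Ideal.Quotient.mk P) = Q := by
    intro Q hQ
    rw [Ideal.comap_map_of_surjective _ hsurj, ← RingHom.ker_eq_comap_bot, hker]
    exact sup_eq_left.mpr hQ
  refine domain_case (D := S ⧸ P) (Q₁.map (Ideal.Quotient.mk P)) (Q₂.map (Ideal.Quotient.mk P))
    ?_ ?_ (Ideal.Quotient.mk P f) ?_ ?_
  · intro h
    have := hcm Q₁ h1.le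
    rw [h, ← RingHom.ker_eq_comap_bot, hker] at this
    exact h1.ne this
  · refine lt_of_le_of_ne (Ideal.map_mono h2.le) fun h => ?_
    have := congrArg (Ideal.comap (Ideal.Quotient.mk P)) h
    rw [hcm Q₁ h1.le, hcm Q₂ (h1.trans h2).le] at this
    exact h2.ne this
  · rw [Ne, Ideal.Quotient.eq_zero_iff_mem]
    exact hf
  · intro P' hP' hP'0
    haveI := hP'
    have hle : P ≤ P'.comap (Ideal.Quotient.mk P) := by
      intro a ha
      rw [Ideal.mem_comap, Ideal.Quotient.eq_zero_iff_mem.mpr ha]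
      exact P'.zero_mem
    have hne : P ≠ P'.comap (Ideal.Quotient.mk P) := by
      intro h
      apply hP'0
      have e1 : P' = (P'.comap (Ideal.Quotient.mk P)).map (Ideal.Quotient.mk P) :=
        (Ideal.map_comap_of_surjective _ hsurj P').symm
      have e2 : (P'.comap (Ideal.Quotient.mk P)).map (Ideal.Quotient.mk P) =
          P.map (Ideal.Quotient.mk P) := congrArg (Ideal.map (Ideal.Quotient.mk P)) h.symm
      rw [e1, e2]
      exact Ideal.map_quotient_self P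
    have := hP _ (Ideal.comap_isPrime _ _) (lt_of_le_of_ne hle hne)
    exact this


/-- a point `x` which is closed in an open `U` of a locally Noetherian scheme has no chain of two proper
specializations. -/
theorem core (X : Scheme.{u}) [IsLocallyNoetherian X] (U : X.Opens) (x y₁ y₂ : X) (hxU : x ∈ U)
    (hcl : ∀ x' ∈ U, x ⤳ x' → x' = x) (h1 : x ⤳ y₁) (h2 : y₁ ⤳ y₂) (n1 : x ≠ y₁) (n2 : y₁ ≠ y₂) :
    False := by
  obtain ⟨W, hW, hy₂W, -⟩ := exists_isAffineOpen_mem_and_subset (X := X) (U := ⊤) (x := y₂) trivial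
  haveI : IsNoetherianRing Γ(X, W) := IsLocallyNoetherian.component_noetherian ⟨W, hW⟩
  have hy₁W : y₁ ∈ W := h2.mem_open W.isOpen hy₂W
  have hxW : x ∈ W := h1.mem_open W.isOpen hy₁W
  have hrange : Set.range hW.fromSpec = (W : Set X) := hW.range_fromSpec
  have hind : Topology.IsInducing hW.fromSpec := hW.fromSpec.isOpenEmbedding.isInducing
  have hinj : Function.Injective hW.fromSpec := hW.fromSpec.isOpenEmbedding.injective
  obtain ⟨P, rfl⟩ : x ∈ Set.range hW.fromSpec := by rw [hrange]; exact hxW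
  obtain ⟨Q₁, rfl⟩ : y₁ ∈ Set.range hW.fromSpec := by rw [hrange]; exact hy₁W
  obtain ⟨Q₂, rfl⟩ : y₂ ∈ Set.range hW.fromSpec := by rw [hrange]; exact hy₂W
  have hPQ₁ : P ⤳ Q₁ := hind.specializes_iff.mp h1
  have hQ₁Q₂ : Q₁ ⤳ Q₂ := hind.specializes_iff.mp h2
  have hopen : IsOpen (hW.fromSpec ⁻¹' (U : Set X)) := U.isOpen.preimage hW.fromSpec.continuous
  obtain ⟨v, ⟨f, rfl⟩, hPv, hvU⟩ :=
    (PrimeSpectrum.isTopologicalBasis_basic_opens (R := Γ(X, W))).exists_subset_of_mem_open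
      (a := P) (u := hW.fromSpec ⁻¹' (U : Set X)) hxU hopen
  have hP1 : (P : PrimeSpectrum Γ(X, W)).asIdeal < (Q₁ : PrimeSpectrum Γ(X, W)).asIdeal :=
    lt_of_le_of_ne ((PrimeSpectrum.le_iff_specializes P Q₁).mpr hPQ₁) fun h =>
      n1 (congrArg hW.fromSpec (PrimeSpectrum.ext h))
  have hP2 : (Q₁ : PrimeSpectrum Γ(X, W)).asIdeal < (Q₂ : PrimeSpectrum Γ(X, W)).asIdeal :=
    lt_of_le_of_ne ((PrimeSpectrum.le_iff_specializes Q₁ Q₂).mpr hQ₁Q₂) fun h =>
      n2 (congrArg hW.fromSpec (PrimeSpectrum.ext h))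
  haveI iP : (P : PrimeSpectrum Γ(X, W)).asIdeal.IsPrime := (P : PrimeSpectrum Γ(X, W)).2
  haveI iQ₁ : (Q₁ : PrimeSpectrum Γ(X, W)).asIdeal.IsPrime := (Q₁ : PrimeSpectrum Γ(X, W)).2
  haveI iQ₂ : (Q₂ : PrimeSpectrum Γ(X, W)).asIdeal.IsPrime := (Q₂ : PrimeSpectrum Γ(X, W)).2
  refine @no_chain _ _ _ (P : PrimeSpectrum Γ(X, W)).asIdeal (Q₁ : PrimeSpectrum Γ(X, W)).asIdeal
    (Q₂ : PrimeSpectrum Γ(X, W)).asIdeal iP iQ₁ iQ₂ hP1 hP2 f hPv ?_
  intro P' hP' hlt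
  by_contra hfP'
  let P'' : PrimeSpectrum Γ(X, W) := ⟨P', hP'⟩
  have hmem : P'' ∈ hW.fromSpec ⁻¹' (U : Set X) := hvU hfP'
  have hsp : (P : PrimeSpectrum Γ(X, W)) ⤳ P'' :=
    (PrimeSpectrum.le_iff_specializes P P'').mp hlt.le
  have := hcl (hW.fromSpec P'') hmem (hsp.map hW.fromSpec.continuous)
  have h3 : P'' = P := hinj this
  exact hlt.ne (congrArg PrimeSpectrum.asIdeal h3).symm

/-- **Stacks 02IL**: every point of a locally Noetherian scheme specializes to a closed point. -/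
theorem exists_specializes_isClosed (X : Scheme.{u}) [IsLocallyNoetherian X] (y : X) :
    ∃ z : X, y ⤳ z ∧ IsClosed ({z} : Set X) := by
  obtain ⟨U, hU, hyU, -⟩ := exists_isAffineOpen_mem_and_subset (X := X) (U := ⊤) (x := y) trivial
  have hrange : Set.range hU.fromSpec = (U : Set X) := hU.range_fromSpec
  have hind : Topology.IsInducing hU.fromSpec := hU.fromSpec.isOpenEmbedding.isInducing
  have hinj : Function.Injective hU.fromSpec := hU.fromSpec.isOpenEmbedding.injective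
  obtain ⟨py, rfl⟩ : y ∈ Set.range hU.fromSpec := by rw [hrange]; exact hyU
  obtain ⟨m, hm, hle⟩ := Ideal.exists_le_maximal (py : PrimeSpectrum Γ(X, U)).asIdeal
    (py : PrimeSpectrum Γ(X, U)).2.ne_top
  let M : PrimeSpectrum Γ(X, U) := ⟨m, hm.isPrime⟩
  have hyx : hU.fromSpec py ⤳ hU.fromSpec M :=
    ((PrimeSpectrum.le_iff_specializes py M).mp hle).map hU.fromSpec.continuous
  have hxU : hU.fromSpec M ∈ U := by
    have : hU.fromSpec M ∈ Set.range hU.fromSpec := ⟨M, rfl⟩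
    rw [hrange] at this
    exact this
  have hcl : ∀ x' ∈ U, hU.fromSpec M ⤳ x' → x' = hU.fromSpec M := by
    intro x' hx' hsp
    obtain ⟨P', rfl⟩ : x' ∈ Set.range hU.fromSpec := by rw [hrange]; exact hx'
    have h1 : M ⤳ P' := hind.specializes_iff.mp hsp
    have h2 : M.asIdeal ≤ (P' : PrimeSpectrum Γ(X, U)).asIdeal :=
      (PrimeSpectrum.le_iff_specializes M P').mpr h1
    have h3 : M.asIdeal = (P' : PrimeSpectrum Γ(X, U)).asIdeal :=
      hm.eq_of_le (P' : PrimeSpectrum Γ(X, U)).2.ne_top h2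
    exact congrArg hU.fromSpec (PrimeSpectrum.ext h3).symm
  by_cases hx : IsClosed ({hU.fromSpec M} : Set X)
  · exact ⟨_, hyx, hx⟩
  · have hne : closure ({hU.fromSpec M} : Set X) ≠ {hU.fromSpec M} := fun h =>
      hx (h ▸ isClosed_closure)
    obtain ⟨y₁, hy₁, hy₁ne⟩ : ∃ y₁ ∈ closure ({hU.fromSpec M} : Set X), y₁ ≠ hU.fromSpec M := by
      by_contra hcon
      push Not at hcon
      exact hne (Set.Subset.antisymm (fun a ha => hcon a ha) subset_closure)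
    have hxy₁ : hU.fromSpec M ⤳ y₁ := specializes_iff_mem_closure.mpr hy₁
    refine ⟨y₁, hyx.trans hxy₁, ?_⟩
    rw [← closure_eq_iff_isClosed]
    refine Set.Subset.antisymm (fun y₂ hy₂ => ?_) subset_closure
    by_contra hy₂ne
    have h2 : y₁ ⤳ y₂ := specializes_iff_mem_closure.mpr hy₂
    exact core X U (hU.fromSpec M) y₁ y₂ hxU hcl hxy₁ h2 (Ne.symm hy₁ne)
      (fun h => hy₂ne (by rw [← h]; rfl))

end Groth.Agent.H87.ClosedPt
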