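import Mathlib

/-!
# Coefficientwise membership in monomial-power ideals of `P[X₁,…,X_d]`
(provider lemma (CW) for helper10's S6824)
-/

set_option autoImplicit false
universe u
open MvPolynomial

namespace Groth.Agent.H87.CoeffAnn

variable {P : Type u} [CommRing P] {d : ℕ}

theorem pow_eq_monomial (π : Fin d → P) (j : Fin d) (E : ℕ) :
    (C (π j) * X j : MvPolynomial (Fin d) P) ^ E = monomial (Finsupp.single j E) (π j ^ E) := by
  rw [mul_pow, ← C_pow, C_mul_X_pow_eq_monomial]

/-- The coefficient ideal at exponent `α`. -/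
def K (π : Fin d → P) (E : ℕ) (I : Set (Fin d)) (α : Fin d →₀ ℕ) : Ideal P :=
  Ideal.span ((fun j => π j ^ E) '' {j | j ∈ I ∧ E ≤ α j})

theorem K_mono (π : Fin d → P) (E : ℕ) (I : Set (Fin d)) {α β : Fin d →₀ ℕ} (h : α ≤ β) :
    K π E I α ≤ K π E I β := by
  apply Ideal.span_mono
  apply Set.image_mono
  rintro j ⟨hj, hE⟩
  exact ⟨hj, hE.trans (h j)⟩

theorem coeff_mem_of_mem (π : Fin d → P) (E : ℕ) (I : Set (Fin d))
    (r : MvPolynomial (Fin d) P)
    (hr : r ∈ Ideal.span ((fun j => (C (π j) * X j : MvPolynomial (Fin d) P) ^ E) '' I)) :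
    ∀ α, coeff α r ∈ K π E I α := by
  classical
  induction hr using Submodule.span_induction with
  | mem x hx =>
    obtain ⟨j, hj, rfl⟩ := hx
    intro α
    show coeff α ((C (π j) * X j : MvPolynomial (Fin d) P) ^ E) ∈ _
    rw [pow_eq_monomial, coeff_monomial]
    split_ifs with h
    · apply Ideal.subset_span
      refine ⟨j, ⟨hj, ?_⟩, rfl⟩
      rw [← h, Finsupp.single_eq_same]
    · exact Ideal.zero_mem _
  | zero => intro α; rw [coeff_zero]; exact Ideal.zero_mem _
  | add x y _ _ hx hy => intro α; rw [coeff_add]; exact Ideal.add_mem _ (hx α) (hy α)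
  | smul q x _ hx =>
    intro α
    rw [smul_eq_mul, coeff_mul]
    refine Ideal.sum_mem _ fun p hp => ?_
    have hle : p.2 ≤ α := by
      have hp' := Finset.HasAntidiagonal.mem_antidiagonal.mp hp
      rw [← hp']
      exact le_add_self
    exact Ideal.mul_mem_left _ _ (K_mono π E I hle (hx p.2))

theorem monomial_mem (π : Fin d → P) (E : ℕ) (I : Set (Fin d)) (α : Fin d →₀ ℕ) (a : P)
    (ha : a ∈ K π E I α) :
    monomial α a ∈
      Ideal.span ((fun j => (C (π j) * X j : MvPolynomial (Fin d) P) ^ E) '' I) := by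
  classical
  unfold K at ha
  induction ha using Submodule.span_induction with
  | mem x hx =>
    obtain ⟨j, ⟨hj, hE⟩, rfl⟩ := hx
    have h1 : monomial α (π j ^ E) =
        monomial (α - Finsupp.single j E) (1 : P) *
          (C (π j) * X j : MvPolynomial (Fin d) P) ^ E := by
      have hexp : (α - Finsupp.single j E) + Finsupp.single j E = α := by
        ext k
        by_cases hk : k = j
        · subst hk
          simp only [Finsupp.coe_add, Finsupp.coe_tsub, Pi.add_apply, Pi.sub_apply,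
            Finsupp.single_eq_same]
          omega
        · simp only [Finsupp.coe_add, Finsupp.coe_tsub, Pi.add_apply, Pi.sub_apply,
            Finsupp.single_eq_of_ne hk]
          omega
      rw [pow_eq_monomial, monomial_mul, one_mul, hexp]
    rw [h1]
    exact Ideal.mul_mem_left _ _ (Ideal.subset_span ⟨j, hj, rfl⟩)
  | zero => rw [map_zero]; exact Ideal.zero_mem _
  | add x y _ _ hx hy => rw [map_add]; exact Ideal.add_mem _ hx hy
  | smul p x _ hx =>
    rw [smul_eq_mul, ← C_mul_monomial]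
    exact Ideal.mul_mem_left _ _ hx

theorem mem_of_coeff_mem (π : Fin d → P) (E : ℕ) (I : Set (Fin d))
    (r : MvPolynomial (Fin d) P) (hr : ∀ α, coeff α r ∈ K π E I α) :
    r ∈ Ideal.span ((fun j => (C (π j) * X j : MvPolynomial (Fin d) P) ^ E) '' I) := by
  rw [← support_sum_monomial_coeff r]
  exact Ideal.sum_mem _ fun α _ => monomial_mem π E I α _ (hr α)

theorem coeff_pow_mul (π : Fin d → P) (i : Fin d) (m : ℕ) (r : MvPolynomial (Fin d) P)
    (α : Fin d →₀ ℕ) :
    coeff α ((C (π i) * X i : MvPolynomial (Fin d) P) ^ m * r) =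
      if Finsupp.single i m ≤ α then π i ^ m * coeff (α - Finsupp.single i m) r else 0 := by
  classical
  rw [pow_eq_monomial, coeff_monomial_mul']

theorem single_le_iff' (i : Fin d) (m : ℕ) (α : Fin d →₀ ℕ) :
    Finsupp.single i m ≤ α ↔ m ≤ α i := by
  constructor
  · intro h
    have := h i
    rwa [Finsupp.single_eq_same] at this
  · intro h k
    by_cases hk : k = i
    · subst hk; rwa [Finsupp.single_eq_same]
    · rw [Finsupp.single_eq_of_ne hk]; exact Nat.zero_le _

theorem hR_mvPolynomial {P : Type u} [CommRing P] {d : ℕ} (π : Fin d → P) (c : ℕ) (hc : 0 < c)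
    (h : ∀ (i : Fin d) (W : Finset (Fin d)), (∀ j ∈ W, j < i) → ∀ y : P,
      (π i) ^ (c * 2) * y ∈ Ideal.span ((fun j => (π j) ^ (c * 8)) '' (W : Set (Fin d))) →
      (π i) ^ c * y ∈ Ideal.span ((fun j => (π j) ^ (c * 8)) '' (W : Set (Fin d)))) :
    ∀ i : Fin d, ∀ x : MvPolynomial (Fin d) P ⧸ Ideal.span (Set.range
        fun j : {j : Fin d // (j : ℕ) < (i : ℕ)} =>
          ((C (π (j : Fin d)) * X (j : Fin d) : MvPolynomial (Fin d) P) ^ c) ^ 8),
      Ideal.Quotient.mk _ ((C (π i) * X i : MvPolynomial (Fin d) P) ^ c) ^ 2 * x = 0 →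
      Ideal.Quotient.mk _ ((C (π i) * X i : MvPolynomial (Fin d) P) ^ c) * x = 0 := by
  classical
  intro i x hx
  -- rewrite the ideal
  have hJ : Ideal.span (Set.range fun j : {j : Fin d // (j : ℕ) < (i : ℕ)} =>
        ((C (π (j : Fin d)) * X (j : Fin d) : MvPolynomial (Fin d) P) ^ c) ^ 8) =
      Ideal.span ((fun j => (C (π j) * X j : MvPolynomial (Fin d) P) ^ (c * 8)) ''
        {j : Fin d | j < i}) := by
    congr 1
    ext z
    constructor
    · rintro ⟨⟨j, hj⟩, rfl⟩
      exact ⟨j, Fin.lt_def.mpr hj, (pow_mul _ _ _)⟩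
    · rintro ⟨j, hj, rfl⟩
      exact ⟨⟨j, Fin.lt_def.mp hj⟩, (pow_mul _ _ _).symm⟩
  obtain ⟨r, rfl⟩ := Ideal.Quotient.mk_surjective x
  rw [← map_pow, ← map_mul, Ideal.Quotient.eq_zero_iff_mem, hJ, ← pow_mul] at hx
  rw [← map_mul, Ideal.Quotient.eq_zero_iff_mem, hJ]
  have hcoef := coeff_mem_of_mem π (c * 8) {j : Fin d | j < i} _ hx
  -- the key coefficientwise statement
  have key : ∀ β : Fin d →₀ ℕ, π i ^ c * coeff β r ∈
      Ideal.span ((fun j => (π j) ^ (c * 8)) ''
        ((Finset.univ.filter fun j : Fin d => j < i ∧ c * 8 ≤ β j : Finset (Fin d)) :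
          Set (Fin d))) := by
    intro β
    apply h i _ (fun j hj => (Finset.mem_filter.mp hj).2.1)
    have h1 := hcoef (β + Finsupp.single i (c * 2))
    rw [coeff_pow_mul, if_pos ((single_le_iff' i _ _).mpr (by simp)),
      add_tsub_cancel_right] at h1
    refine Ideal.span_mono (Set.image_mono ?_) h1
    rintro j ⟨hj, hE⟩
    have hji : j ≠ i := ne_of_lt hj
    simp only [Finset.coe_filter, Finset.mem_univ, true_and, Set.mem_setOf_eq]
    refine ⟨hj, ?_⟩
    simpa [Finsupp.single_eq_of_ne hji] using hE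
  apply mem_of_coeff_mem
  intro α
  rw [coeff_pow_mul]
  split_ifs with hle
  · refine Ideal.span_mono (Set.image_mono ?_) (key (α - Finsupp.single i c))
    intro j hj
    simp only [Finset.coe_filter, Finset.mem_univ, true_and, Set.mem_setOf_eq] at hj
    obtain ⟨hj, hE⟩ := hj
    have hji : j ≠ i := ne_of_lt hj
    refine ⟨hj, ?_⟩
    simpa [Finsupp.single_eq_of_ne hji] using hE
  · exact Ideal.zero_mem _

end Groth.Agent.H87.CoeffAnn
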