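import Groth.Agent.H87.PSRegSeq
import Groth.Agent.H61.PowerSeriesComplete
import Groth.Agent.S5777

set_option autoImplicit false

namespace Groth.Agent.H87.PSFlat

open MvPowerSeries RingTheory.Sequence IsLocalRing Groth.Agent.H87.PSRegSeq

universe u

section Generic

variable {P Q : Type u} [CommRing P] [CommRing Q] [IsLocalRing P] [IsLocalRing Q]
  [IsNoetherianRing P] [IsNoetherianRing Q] [Algebra P Q] [IsLocalHom (algebraMap P Q)]

theorem flat_of_list (fs : List P) (h1 : ∀ f ∈ fs, f ∈ maximalIdeal P)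
    (h2 : IsWeaklyRegular P fs) (h3 : Ideal.ofList fs = maximalIdeal P)
    (h4 : IsWeaklyRegular Q (fs.map (algebraMap P Q))) : Module.Flat P Q := by
  refine (Groth.Agent.S5777.result P Q Q fs h1 h2).2
    ⟨?_, (isWeaklyRegular_map_algebraMap_iff Q Q fs).1 h4⟩
  haveI : (Ideal.ofList fs).IsMaximal := h3 ▸ inferInstance
  letI := Ideal.Quotient.field (Ideal.ofList fs)
  infer_instance

end Generic

variable {Λ S : Type u} [CommRing Λ] [CommRing S] [IsLocalRing Λ] [IsLocalRing S]
  [IsNoetherianRing Λ] [IsNoetherianRing S] [Algebra Λ S] [IsLocalHom (algebraMap Λ S)]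

theorem maximalIdeal_eq_of_isField (hΛ : IsField Λ) (m : ℕ) :
    Ideal.ofList (List.ofFn (X : Fin m → MvPowerSeries (Fin m) Λ)) =
      maximalIdeal (MvPowerSeries (Fin m) Λ) := by
  letI := hΛ.toField
  rw [ofList_ofFn_X]
  ext f
  rw [mem_lowIdeal_top, Groth.Agent.H61.PS.mem_maximalIdeal_iff, IsLocalRing.maximalIdeal_eq_bot,
    Ideal.mem_bot]

theorem maximalIdeal_eq_of_span (a : Λ) (ha : maximalIdeal Λ = Ideal.span {a}) (m : ℕ) :
    Ideal.ofList (List.ofFn (X : Fin m → MvPowerSeries (Fin m) Λ) ++ [C a]) =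
      maximalIdeal (MvPowerSeries (Fin m) Λ) := by
  rw [Ideal.ofList_append, ofList_ofFn_X, Ideal.ofList_singleton]
  ext f
  rw [Groth.Agent.H61.PS.mem_maximalIdeal_iff, ha, Ideal.mem_span_singleton']
  constructor
  · intro hf
    obtain ⟨g, hg, h, hh, rfl⟩ := Submodule.mem_sup.1 hf
    obtain ⟨c, rfl⟩ := Ideal.mem_span_singleton'.1 hh
    refine ⟨constantCoeff c, ?_⟩
    rw [map_add, mem_lowIdeal_top.1 hg, zero_add, map_mul, constantCoeff_C]
  · rintro ⟨b, hb⟩
    have : f = (f - C b * C a) + C b * C a := by ring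
    rw [this]
    refine Submodule.add_mem_sup ?_ (Ideal.mem_span_singleton'.2 ⟨C b, rfl⟩)
    rw [mem_lowIdeal_top, map_sub, map_mul, constantCoeff_C, constantCoeff_C, hb, sub_self]

variable (m : ℕ)

theorem flat_map
    (h : IsField Λ ∨ ∃ a : Λ, maximalIdeal Λ = Ideal.span {a} ∧ IsSMulRegular Λ a ∧
      IsSMulRegular S (algebraMap Λ S a)) :
    letI : Algebra (MvPowerSeries (Fin m) Λ) (MvPowerSeries (Fin m) S) :=
      (MvPowerSeries.map (algebraMap Λ S) : MvPowerSeries (Fin m) Λ →+* MvPowerSeries (Fin m) S).toAlgebra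
    Module.Flat (MvPowerSeries (Fin m) Λ) (MvPowerSeries (Fin m) S) := by
  letI : Algebra (MvPowerSeries (Fin m) Λ) (MvPowerSeries (Fin m) S) :=
    (MvPowerSeries.map (algebraMap Λ S) : MvPowerSeries (Fin m) Λ →+* MvPowerSeries (Fin m) S).toAlgebra
  have halg : ∀ f : MvPowerSeries (Fin m) Λ,
      algebraMap (MvPowerSeries (Fin m) Λ) (MvPowerSeries (Fin m) S) f =
        MvPowerSeries.map (algebraMap Λ S) f := fun f => rfl
  haveI : IsLocalHom (algebraMap (MvPowerSeries (Fin m) Λ) (MvPowerSeries (Fin m) S)) :=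
    MvPowerSeries.map.isLocalHom (algebraMap Λ S)
  have hmapX : (List.ofFn (X : Fin m → MvPowerSeries (Fin m) Λ)).map
      (algebraMap (MvPowerSeries (Fin m) Λ) (MvPowerSeries (Fin m) S)) =
      List.ofFn (X : Fin m → MvPowerSeries (Fin m) S) := by
    rw [List.map_ofFn]
    congr 1
    funext i
    simp only [Function.comp_apply, halg, map_X]
  have hXmem : ∀ f ∈ List.ofFn (X : Fin m → MvPowerSeries (Fin m) Λ),
      f ∈ maximalIdeal (MvPowerSeries (Fin m) Λ) := by
    intro f hf
    obtain ⟨i, rfl⟩ := List.mem_ofFn.1 hf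
    exact Groth.Agent.H61.PS.X_mem_maximalIdeal i
  rcases h with hΛ | ⟨a, ha, hra, hrs⟩
  · refine flat_of_list (List.ofFn X) hXmem isWeaklyRegular_X
      (maximalIdeal_eq_of_isField hΛ m) ?_
    rw [hmapX]
    exact isWeaklyRegular_X
  · refine flat_of_list (List.ofFn X ++ [C a]) ?_ (isWeaklyRegular_X_append a hra)
      (maximalIdeal_eq_of_span a ha m) ?_
    · intro f hf
      rcases List.mem_append.1 hf with hf | hf
      · exact hXmem f hf
      · rw [List.mem_singleton] at hf
        rw [hf, Groth.Agent.H61.PS.mem_maximalIdeal_iff, constantCoeff_C, ha]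
        exact Ideal.mem_span_singleton_self a
    · rw [List.map_append, hmapX, List.map_singleton, halg, map_C]
      exact isWeaklyRegular_X_append _ hrs

end Groth.Agent.H87.PSFlat
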