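import Groth.Agent.H87.PSSmooth
import Groth.Agent.S2456
import Groth.Agent.S0578
import Groth.Agent.S9444
import Mathlib

set_option autoImplicit false
set_option maxHeartbeats 400000

namespace Groth.Agent.H87.CohenSetup

open IsLocalRing MvPowerSeries Groth.Agent.H87.NilEval

universe u

theorem isLocalHom_C {R : Type*} [CommRing R] (σ : Type*) :
    IsLocalHom (C : R →+* MvPowerSeries σ R) :=
  ⟨fun a ha => by
    have := ha.map (constantCoeff (σ := σ) (R := R))
    rwa [constantCoeff_C] at this⟩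

theorem exists_pow_maximalIdeal_eq_bot (E : Type*) [CommRing E] [IsLocalRing E]
    [IsArtinianRing E] : ∃ M : ℕ, maximalIdeal E ^ M = ⊥ := by
  have h := IsArtinianRing.isNilpotent_jacobson_bot (R := E)
  rw [IsLocalRing.jacobson_eq_maximalIdeal ⊥ bot_ne_top] at h
  obtain ⟨M, hM⟩ := h
  exact ⟨M, hM⟩

theorem isNilpotent_of_mem_maximalIdeal {E : Type*} [CommRing E] [IsLocalRing E]
    [IsArtinianRing E] {x : E} (hx : x ∈ maximalIdeal E) : IsNilpotent x := by
  obtain ⟨M, hM⟩ := exists_pow_maximalIdeal_eq_bot E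
  refine ⟨M, ?_⟩
  have := Ideal.pow_mem_pow hx M
  rwa [hM, Ideal.mem_bot] at this

theorem ringLift {Λ' : Type u} [CommRing Λ'] [IsLocalRing Λ'] (hΛ' : CAlg.IsCohenRing Λ') (d : ℕ)
    (E : Type u) [CommRing E] [IsLocalRing E] [IsArtinianRing E] (J : Ideal E)
    [IsLocalRing (E ⧸ J)]
    (u : MvPowerSeries (Fin d) Λ' →+* E ⧸ J) (hu : IsLocalHom u) :
    ∃ w : MvPowerSeries (Fin d) Λ' →+* E, (Ideal.Quotient.mk J).comp w = u := by
  have hJ : J ≠ ⊤ := Ideal.Quotient.nontrivial_iff.1 inferInstance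
  obtain ⟨M, hM⟩ := exists_pow_maximalIdeal_eq_bot E
  haveI : IsAdicComplete (maximalIdeal E) E := isAdicComplete_of_pow_eq_bot _ M hM
  haveI : IsLocalHom (C : Λ' →+* MvPowerSeries (Fin d) Λ') := isLocalHom_C _
  haveI : IsLocalHom (u.comp (C : Λ' →+* MvPowerSeries (Fin d) Λ')) := RingHom.isLocalHom_comp _ _
  obtain ⟨v, -, hv⟩ := Groth.Agent.S2456.result (W := Λ') (C := E) (Or.inr hΛ') J hJ
    (u.comp (C : Λ' →+* MvPowerSeries (Fin d) Λ'))
  have hv' : ∀ a, Ideal.Quotient.mk J (v a) = u (C a) := fun a => RingHom.congr_fun hv a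
  have ht : ∀ i : Fin d, ∃ t : E, Ideal.Quotient.mk J t = u (X i) :=
    fun i => Ideal.Quotient.mk_surjective _
  choose t ht using ht
  have htm : ∀ i, t i ∈ maximalIdeal E := by
    intro i hunit
    have h1 : IsUnit (u (X i)) := by rw [← ht]; exact hunit.map _
    have h2 := isUnit_of_map_unit u _ h1
    exact Groth.Agent.H61.PS.X_mem_maximalIdeal (R := Λ') i h2
  letI : Algebra Λ' E := v.toAlgebra
  have hΛE : ∀ a : Λ', algebraMap Λ' E a = v a := fun a => rfl
  obtain ⟨g, M₁, hgX, hgM⟩ := exists_evalNil (A := Λ') t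
    (fun i => isNilpotent_of_mem_maximalIdeal (htm i))
  refine ⟨g.toRingHom, ?_⟩
  let h₁ : MvPowerSeries (Fin d) Λ' →ₐ[Λ'] E ⧸ J := (Ideal.Quotient.mkₐ Λ' J).comp g
  let h₂ : MvPowerSeries (Fin d) Λ' →ₐ[Λ'] E ⧸ J :=
    { toRingHom := u
      commutes' := fun a => by
        show u (algebraMap Λ' (MvPowerSeries (Fin d) Λ') a) = _
        rw [MvPowerSeries.algebraMap_apply, Algebra.algebraMap_self, RingHom.id_apply, ← hv']
        rfl }
  have huX : ∀ i, IsNilpotent (h₂ (X i)) := by
    intro i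
    apply isNilpotent_of_mem_maximalIdeal
    intro hunit
    exact Groth.Agent.H61.PS.X_mem_maximalIdeal (R := Λ') i (isUnit_of_map_unit u _ hunit)
  obtain ⟨M₂, hM₂⟩ := Groth.Agent.H87.PSSmooth.kills_of_nilpotent h₂ huX
  have h12 : h₁ = h₂ := by
    refine algHom_ext_of_kills h₁ h₂ (max M₁ M₂) (fun q hq => ?_) (fun q hq => ?_) (fun i => ?_)
    · show Ideal.Quotient.mk J (g q) = 0
      rw [hgM q (Ideal.pow_le_pow_right (le_max_left M₁ M₂) hq), map_zero]
    · exact hM₂ q (Ideal.pow_le_pow_right (le_max_right M₁ M₂) hq)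
    · show Ideal.Quotient.mk J (g (X i)) = u (X i)
      rw [hgX, ht]
  refine RingHom.ext fun q => ?_
  exact AlgHom.congr_fun h12 q

theorem map_surjective {R K : Type*} [CommRing R] [CommRing K] (r : R →+* K)
    (hr : Function.Surjective r) (σ : Type*) :
    Function.Surjective (MvPowerSeries.map r : MvPowerSeries σ R →+* MvPowerSeries σ K) := by
  intro g
  let f : MvPowerSeries σ R := fun n => Function.surjInv hr (coeff n g)
  have hf : ∀ n, coeff n f = Function.surjInv hr (coeff n g) := fun n => rfl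
  refine ⟨f, ?_⟩
  ext n
  rw [coeff_map, hf]
  exact Function.surjInv_eq hr _

theorem ker_map_eq_span {R K : Type*} [CommRing R] [CommRing K] (r : R →+* K) (a : R)
    (hr : RingHom.ker r = Ideal.span {a}) (σ : Type*) :
    RingHom.ker (MvPowerSeries.map r : MvPowerSeries σ R →+* MvPowerSeries σ K) =
      Ideal.span {(C a : MvPowerSeries σ R)} := by
  ext f
  rw [RingHom.mem_ker, Ideal.mem_span_singleton']
  constructor
  · intro hf
    have h1 : ∀ n, ∃ c : R, c * a = coeff n f := by
      intro n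
      have : coeff n f ∈ RingHom.ker r := by
        rw [RingHom.mem_ker, ← coeff_map, hf, map_zero]
      rwa [hr, Ideal.mem_span_singleton'] at this
    choose c hc using h1
    let g : MvPowerSeries σ R := fun n => c n
    have hg : ∀ n, coeff n g = c n := fun n => rfl
    refine ⟨g, ?_⟩
    ext n
    rw [mul_comm, coeff_C_mul, hg, mul_comm]
    exact hc n
  · rintro ⟨g, rfl⟩
    ext n
    rw [coeff_map, mul_comm, coeff_C_mul, map_mul, map_zero]
    have : a ∈ RingHom.ker r := by rw [hr]; exact Ideal.mem_span_singleton_self a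
    rw [RingHom.mem_ker.1 this, zero_mul]

theorem exists_cohen_cover (p : ℕ) [Fact p.Prime] {κ : Type u} [Field κ] [CharP κ p]
    (B₀ : Type u) [CommRing B₀] [IsRegularLocalRing B₀] [IsAdicComplete (maximalIdeal B₀) B₀]
    [Algebra κ B₀] :
    ∃ (Λ' : Type u) (_ : CommRing Λ') (_ : IsLocalRing Λ') (d : ℕ)
      (π : MvPowerSeries (Fin d) Λ' →+* B₀),
      CAlg.IsCohenRing Λ' ∧ maximalIdeal Λ' = Ideal.span {(p : Λ')} ∧ Function.Surjective π ∧
        RingHom.ker π = Ideal.span {(p : MvPowerSeries (Fin d) Λ')} := by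
  haveI : Nontrivial B₀ := inferInstance
  haveI : CharP (ResidueField B₀) p := by
    have hinj : Function.Injective ((residue B₀).comp (algebraMap κ B₀)) := RingHom.injective _
    exact (RingHom.charP_iff _ hinj p).1 inferInstance
  obtain ⟨d, ⟨e₀⟩⟩ := Groth.Agent.S9444.result B₀ κ
  obtain ⟨Λ', _, _, hΛ', ⟨e⟩⟩ := Groth.Agent.S0578.result p (ResidueField B₀)
  have hΛc := hΛ'
  obtain ⟨_, _, -, p', hp', hm⟩ := hΛ'
  let r : Λ' →+* ResidueField B₀ := e.toRingHom.comp (residue Λ')
  have hr : Function.Surjective r := e.surjective.comp residue_surjective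
  have hkr : RingHom.ker r = maximalIdeal Λ' := by
    ext x
    rw [RingHom.mem_ker]
    show e (residue Λ' x) = 0 ↔ _
    rw [map_eq_zero_iff e e.injective, residue_eq_zero_iff]
  have hpp : p' = p := by
    have h1 : (p' : Λ') ∈ RingHom.ker r := by
      rw [hkr, hm]; exact Ideal.mem_span_singleton_self _
    rw [RingHom.mem_ker, map_natCast, CharP.cast_eq_zero_iff (ResidueField B₀) p] at h1
    exact ((Nat.prime_dvd_prime_iff_eq (Fact.out : p.Prime) hp').1 h1).symm
  subst hpp
  refine ⟨Λ', inferInstance, inferInstance, d,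
    e₀.symm.toRingHom.comp (MvPowerSeries.map r), hΛc, hm, ?_, ?_⟩
  · exact e₀.symm.surjective.comp (map_surjective r hr _)
  · have h1 : RingHom.ker (e₀.symm.toRingHom.comp (MvPowerSeries.map r :
        MvPowerSeries (Fin d) Λ' →+* MvPowerSeries (Fin d) (ResidueField B₀))) =
        RingHom.ker (MvPowerSeries.map r :
          MvPowerSeries (Fin d) Λ' →+* MvPowerSeries (Fin d) (ResidueField B₀)) := by
      ext x
      rw [RingHom.mem_ker, RingHom.mem_ker, RingHom.comp_apply]
      exact map_eq_zero_iff _ e₀.symm.injective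
    rw [h1, ker_map_eq_span r (p' : Λ') (by rw [hkr, hm]), map_natCast]

end Groth.Agent.H87.CohenSetup
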