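import Groth.Agent.H87.FSTower
import Groth.Agent.S9316
import Mathlib

set_option autoImplicit false
set_option maxHeartbeats 400000

namespace Groth.Agent.H87.CohenSmooth

open IsLocalRing

universe u

theorem exists_derivation_of_smooth' {k A L : Type u} [Field k] [CommRing A] [Algebra k A]
    [CommRing L] [Algebra A L] [Algebra k L] [IsScalarTower k A L] (𝔫 : Ideal A)
    (h : CAlgX.IsAdicFormallySmooth k A 𝔫)
    (hL : ∃ j : ℕ, ∀ a ∈ 𝔫 ^ j, algebraMap A L a = 0) (d : Derivation ℤ k L) :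
    ∃ D' : Derivation ℤ A L, ∀ x, D' (algebraMap k A x) = d x := by
  letI : Algebra k (TrivSqZeroExt L L) := (Groth.Agent.H87.FSTower.mkHom d).toAlgebra
  have halg : ∀ x : k, algebraMap k (TrivSqZeroExt L L) x =
      TrivSqZeroExt.inl (algebraMap k L x) + TrivSqZeroExt.inr (d x) := fun x => rfl
  let π : TrivSqZeroExt L L →ₐ[k] L :=
    { toRingHom := (TrivSqZeroExt.fstHom L L L).toRingHom
      commutes' := fun x => by
        show TrivSqZeroExt.fst (algebraMap k (TrivSqZeroExt L L) x) = _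
        rw [halg]
        simp only [TrivSqZeroExt.fst_add, TrivSqZeroExt.fst_inl, TrivSqZeroExt.fst_inr,
          add_zero] }
  have hπ : ∀ z, π z = TrivSqZeroExt.fst z := fun z => rfl
  have hsurj : Function.Surjective π :=
    fun c => ⟨TrivSqZeroExt.inl c, by rw [hπ, TrivSqZeroExt.fst_inl]⟩
  have hker : RingHom.ker π ^ 2 = ⊥ := by
    rw [pow_two, eq_bot_iff, Ideal.mul_le]
    intro a ha b hb
    rw [RingHom.mem_ker, hπ] at ha hb
    rw [Ideal.mem_bot]
    apply TrivSqZeroExt.ext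
    · rw [TrivSqZeroExt.fst_mul, ha, zero_mul, TrivSqZeroExt.fst_zero]
    · rw [TrivSqZeroExt.snd_mul, ha, hb, zero_smul, MulOpposite.op_zero, zero_smul, add_zero,
        TrivSqZeroExt.snd_zero]
  obtain ⟨χ, hχ⟩ := Groth.Agent.H87.AdicJac.smooth_lift h π hsurj hker
    (IsScalarTower.toAlgHom k A L) hL
  have hfst : ∀ a, TrivSqZeroExt.fst (χ a) = algebraMap A L a := fun a => AlgHom.congr_fun hχ a
  let D₀ : A →+ L :=
    { toFun := fun a => TrivSqZeroExt.snd (χ a)
      map_zero' := by rw [map_zero, TrivSqZeroExt.snd_zero]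
      map_add' := fun a b => by rw [map_add, TrivSqZeroExt.snd_add] }
  refine ⟨Derivation.mk' D₀.toIntLinearMap (fun a b => ?_), fun x => ?_⟩
  · show TrivSqZeroExt.snd (χ (a * b)) =
      a • TrivSqZeroExt.snd (χ b) + b • TrivSqZeroExt.snd (χ a)
    rw [map_mul, TrivSqZeroExt.snd_mul, hfst, hfst, MulOpposite.smul_eq_mul_unop,
      MulOpposite.unop_op, smul_eq_mul, Algebra.smul_def a, Algebra.smul_def b]
    ring
  · show TrivSqZeroExt.snd (χ (algebraMap k A x)) = d x
    rw [χ.commutes, halg]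
    simp only [TrivSqZeroExt.snd_add, TrivSqZeroExt.snd_inl, TrivSqZeroExt.snd_inr, zero_add]

variable {Λ S κ B₀ : Type u} [CommRing Λ] [IsLocalRing Λ] [CommRing S] [IsLocalRing S]
  [IsNoetherianRing S] [Algebra Λ S] [IsLocalHom (algebraMap Λ S)]
  [Field κ] [CommRing B₀] [IsLocalRing B₀] [Algebra κ B₀]

theorem smooth_of_cohen (p : ℕ) (hp : maximalIdeal Λ = Ideal.span {(p : Λ)})
    (q : Λ →+* κ) (hq : Function.Surjective q)
    (π : S →+* B₀) (hπ : Function.Surjective π) (hker : RingHom.ker π = Ideal.span {(p : S)})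
    (hcomp : ∀ l, π (algebraMap Λ S l) = algebraMap κ B₀ (q l))
    (hB₀ : CAlgX.IsAdicFormallySmooth κ B₀ (maximalIdeal B₀))
    (hlift : ∀ (E : Type u) [CommRing E] [IsLocalRing E] [IsArtinianRing E] (J : Ideal E)
      [IsLocalRing (E ⧸ J)] (u : S →+* E ⧸ J), IsLocalHom u →
      ∃ w : S →+* E, (Ideal.Quotient.mk J).comp w = u) :
    CAlgX.IsAdicFormallySmooth Λ S (maximalIdeal S) := by
  rw [Groth.Agent.S9316.result]
  intro E _ _ _ _ _ J hJ hlen _ ψ _ _
  obtain ⟨w, hw⟩ := hlift E J ψ.toRingHom inferInstance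
  have hw' : ∀ s, Ideal.Quotient.mk J (w s) = ψ s := fun s => RingHom.congr_fun hw s
  -- the module `J`
  have hsimple : IsSimpleModule E J := Module.length_eq_one_iff.1 hlen
  obtain ⟨I, hI, ⟨θ₀⟩⟩ := isSimpleModule_iff_quot_maximal.1 hsimple
  obtain rfl : I = maximalIdeal E := IsLocalRing.eq_maximalIdeal hI
  let θ : ResidueField E ≃ₗ[E] J := θ₀.symm
  have hθsmul : ∀ (e : E) (x : ResidueField E), residue E e * x = e • x := fun e x => by
    rw [Algebra.smul_def, ResidueField.algebraMap_eq]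
  have hJJ : ∀ a b : E, a ∈ J → b ∈ J → a * b = 0 := by
    intro a b ha hb
    have : a * b ∈ J ^ 2 := by rw [pow_two]; exact Ideal.mul_mem_mul ha hb
    rwa [hJ, Ideal.mem_bot] at this
  have hJm : J ≤ maximalIdeal E := by
    intro a ha hu
    obtain ⟨b, hb⟩ := hu.exists_right_inv
    have h1 : a * a = 0 := hJJ a a ha ha
    have h2 : a = 0 := by
      calc a = a * (a * b) := by rw [hb, mul_one]
        _ = (a * a) * b := by ring
        _ = 0 := by rw [h1, zero_mul]
    rw [h2] at hu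
    exact not_isUnit_zero hu
  -- the difference
  have hdJ : ∀ l : Λ, w (algebraMap Λ S l) - algebraMap Λ E l ∈ J := by
    intro l
    rw [← Ideal.Quotient.eq, hw', ψ.commutes]
    rfl
  let dJ : Λ →+ J :=
    { toFun := fun l => ⟨w (algebraMap Λ S l) - algebraMap Λ E l, hdJ l⟩
      map_zero' := by
        apply Subtype.ext
        show w (algebraMap Λ S 0) - algebraMap Λ E 0 = 0
        rw [map_zero, map_zero, map_zero, sub_zero]
      map_add' := fun a b => by
        apply Subtype.ext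
        show w (algebraMap Λ S (a + b)) - algebraMap Λ E (a + b) =
          (w (algebraMap Λ S a) - algebraMap Λ E a) + (w (algebraMap Λ S b) - algebraMap Λ E b)
        rw [map_add, map_add, map_add]
        ring }
  have hdJ_val : ∀ l, (dJ l : E) = w (algebraMap Λ S l) - algebraMap Λ E l := fun l => rfl
  have hdJ_mul : ∀ a b : Λ, dJ (a * b) = algebraMap Λ E a • dJ b + algebraMap Λ E b • dJ a := by
    intro a b
    apply Subtype.ext
    rw [Submodule.coe_add, Submodule.coe_smul, Submodule.coe_smul, hdJ_val, hdJ_val, hdJ_val,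
      smul_eq_mul, smul_eq_mul, map_mul, map_mul, map_mul]
    have h0 := hJJ _ _ (hdJ a) (hdJ b)
    linear_combination h0
  -- the residue map on `S` and `B₀`
  let ρS : S →+* ResidueField E := (residue E).comp w
  have hρS : ∀ s, ρS s = residue E (w s) := fun s => rfl
  have hpE : residue E ((p : E)) = 0 := by
    rw [residue_eq_zero_iff]
    have h1 : (p : Λ) ∈ maximalIdeal Λ := by rw [hp]; exact Ideal.mem_span_singleton_self _
    have h2 : algebraMap Λ E (p : Λ) ∈ maximalIdeal E := fun hu =>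
      h1 (isUnit_of_map_unit (algebraMap Λ E) _ hu)
    rwa [map_natCast] at h2
  have hle : RingHom.ker π ≤ RingHom.ker ρS := by
    rw [hker, Ideal.span_le]
    intro x hx
    rw [Set.mem_singleton_iff] at hx
    rw [hx, SetLike.mem_coe, RingHom.mem_ker, hρS, map_natCast, hpE]
  let ρ₀ : B₀ →+* ResidueField E := RingHom.liftOfSurjective π hπ ⟨ρS, hle⟩
  have hρ₀ : ∀ s, ρ₀ (π s) = residue E (w s) := fun s =>
    RingHom.liftOfSurjective_comp_apply π hπ ⟨ρS, hle⟩ s
  letI : Algebra B₀ (ResidueField E) := ρ₀.toAlgebra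
  letI : Algebra κ (ResidueField E) := (ρ₀.comp (algebraMap κ B₀)).toAlgebra
  haveI : IsScalarTower κ B₀ (ResidueField E) := IsScalarTower.of_algebraMap_eq (fun _ => rfl)
  have hB₀L : ∀ b : B₀, algebraMap B₀ (ResidueField E) b = ρ₀ b := fun b => rfl
  have hκL : ∀ l : Λ, algebraMap κ (ResidueField E) (q l) = residue E (algebraMap Λ E l) := by
    intro l
    show ρ₀ (algebraMap κ B₀ (q l)) = _
    rw [← hcomp, hρ₀, ← sub_eq_zero, ← map_sub, residue_eq_zero_iff]
    exact hJm (hdJ l)
  -- the derivation on `Λ` with values in the residue field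
  let δΛ : Λ →+ ResidueField E := (θ.symm : J →ₗ[E] ResidueField E).toAddMonoidHom.comp dJ
  have hδΛ : ∀ l, δΛ l = θ.symm (dJ l) := fun l => rfl
  have hδΛ_mul : ∀ a b : Λ, δΛ (a * b) =
      residue E (algebraMap Λ E a) * δΛ b + residue E (algebraMap Λ E b) * δΛ a := by
    intro a b
    rw [hδΛ (a * b), hδΛ a, hδΛ b, hdJ_mul, map_add, map_smul, map_smul, hθsmul, hθsmul]
  have hδΛ_ker : ∀ l, q l = 0 → δΛ l = 0 := by
    intro l hl
    have hl' : l ∈ maximalIdeal Λ := by
      intro hu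
      have := hu.map q
      rw [hl] at this
      exact not_isUnit_zero this
    rw [hp, Ideal.mem_span_singleton'] at hl'
    obtain ⟨c, rfl⟩ := hl'
    have hdp : dJ (p : Λ) = 0 := by
      apply Subtype.ext
      rw [hdJ_val, map_natCast, map_natCast, map_natCast, sub_self]
      rfl
    rw [hδΛ_mul, hδΛ (p : Λ), hdp, map_zero, mul_zero, zero_add, map_natCast, hpE, zero_mul]
  let δ₀ : κ →+ ResidueField E :=
    AddMonoidHom.liftOfSurjective q.toAddMonoidHom hq ⟨δΛ, fun l hl => by
      rw [AddMonoidHom.mem_ker] at hl ⊢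
      exact hδΛ_ker l hl⟩
  have hδ₀ : ∀ l, δ₀ (q l) = δΛ l := fun l =>
    AddMonoidHom.liftOfRightInverse_comp_apply q.toAddMonoidHom _ _ _ l
  let δ : Derivation ℤ κ (ResidueField E) := Derivation.mk' δ₀.toIntLinearMap (fun x y => by
    obtain ⟨a, rfl⟩ := hq x
    obtain ⟨b, rfl⟩ := hq y
    show δ₀ (q a * q b) = q a • δ₀ (q b) + q b • δ₀ (q a)
    rw [← map_mul, hδ₀, hδ₀, hδ₀, hδΛ_mul, Algebra.smul_def, Algebra.smul_def, hκL, hκL])
  have hδ : ∀ x, δ x = δ₀ x := fun x => rfl
  have hL : ∃ j : ℕ, ∀ b ∈ maximalIdeal B₀ ^ j, algebraMap B₀ (ResidueField E) b = 0 := by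
    refine ⟨1, fun b hb => ?_⟩
    rw [pow_one] at hb
    obtain ⟨s, rfl⟩ := hπ b
    rw [hB₀L, hρ₀, residue_eq_zero_iff]
    intro hu
    have h1 : IsUnit (ψ s) := by rw [← hw']; exact hu.map _
    have h2 : IsUnit s := isUnit_of_map_unit ψ.toRingHom s h1
    exact hb (h2.map π)
  obtain ⟨D', hD'⟩ := exists_derivation_of_smooth' (maximalIdeal B₀) hB₀ hL δ
  -- the correction on `S`
  let DS : S →+ J :=
    (θ : ResidueField E →ₗ[E] J).toAddMonoidHom.comp
      ((D' : B₀ →ₗ[ℤ] ResidueField E).toAddMonoidHom.comp π.toAddMonoidHom)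
  have hDS : ∀ s, DS s = θ (D' (π s)) := fun s => rfl
  have hDS_mul : ∀ a b : S, (DS (a * b) : E) = w a * (DS b : E) + w b * (DS a : E) := by
    intro a b
    rw [hDS, map_mul, Derivation.leibniz, map_add, Algebra.smul_def, Algebra.smul_def, hB₀L,
      hB₀L, hρ₀, hρ₀, hθsmul, hθsmul, map_smul, map_smul, Submodule.coe_add, Submodule.coe_smul,
      Submodule.coe_smul, smul_eq_mul, smul_eq_mul, ← hDS, ← hDS]
  have hDS_alg : ∀ l : Λ, (DS (algebraMap Λ S l) : E) =
      w (algebraMap Λ S l) - algebraMap Λ E l := by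
    intro l
    rw [hDS, hcomp, hD', hδ, hδ₀, hδΛ, LinearEquiv.apply_symm_apply, hdJ_val]
  have hDS_one : (DS 1 : E) = 0 := by
    rw [hDS, map_one, Derivation.map_one_eq_zero, map_zero]
    rfl
  let χ : S →ₐ[Λ] E :=
    { toFun := fun s => w s - (DS s : E)
      map_one' := by rw [map_one, hDS_one, sub_zero]
      map_mul' := fun a b => by
        rw [map_mul, hDS_mul]
        have h0 := hJJ _ _ (DS a).2 (DS b).2
        linear_combination (-1 : E) * h0
      map_zero' := by rw [map_zero, map_zero, Submodule.coe_zero, sub_zero]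
      map_add' := fun a b => by
        rw [map_add, map_add, Submodule.coe_add]
        ring
      commutes' := fun l => by
        rw [hDS_alg]
        ring }
  refine ⟨χ, AlgHom.ext fun s => ?_⟩
  show Ideal.Quotient.mk J (w s - (DS s : E)) = ψ s
  rw [map_sub, hw', Ideal.Quotient.eq_zero_iff_mem.2 (DS s).2, sub_zero]

end Groth.Agent.H87.CohenSmooth
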