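import Groth.Agent.H87.LimSystem
import Mathlib.RingTheory.Kaehler.Basic
import Mathlib.RingTheory.AdicCompletion.Completeness
import Mathlib.LinearAlgebra.TensorProduct.Quotient

set_option autoImplicit false
set_option maxHeartbeats 400000

namespace Groth.Agent.H87.ComplFinite

open TensorProduct

section General

variable {B M : Type*} [CommRing B] [AddCommGroup M] [Module B M] (𝔫 : Ideal B)

theorem exists_gens_mod [Module.Finite B (M ⧸ (𝔫 • ⊤ : Submodule B M))] :
    ∃ (n : ℕ) (ω : Fin n → M), ∀ x : M,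
      x ∈ Submodule.span B (Set.range ω) ⊔ (𝔫 • ⊤ : Submodule B M) := by
  obtain ⟨n, s, hs⟩ := Module.Finite.exists_fin (R := B) (M := M ⧸ (𝔫 • ⊤ : Submodule B M))
  choose ω hω using fun j => Submodule.mkQ_surjective (𝔫 • ⊤ : Submodule B M) (s j)
  refine ⟨n, ω, fun x => ?_⟩
  have h1 : Submodule.mkQ (𝔫 • ⊤ : Submodule B M) x ∈ Submodule.span B (Set.range s) := by
    rw [hs]; exact Submodule.mem_top
  have h2 : Set.range s = (Submodule.mkQ (𝔫 • ⊤ : Submodule B M)) '' Set.range ω := by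
    rw [← Set.range_comp]; congr 1; funext j; exact (hω j).symm
  rw [h2, ← Submodule.map_span] at h1
  obtain ⟨y, hy, hxy⟩ := h1
  have h3 : x - y ∈ (𝔫 • ⊤ : Submodule B M) := (Submodule.Quotient.eq _).1 hxy.symm
  have := add_mem (Submodule.mem_sup_left hy) (Submodule.mem_sup_right h3)
  rwa [add_sub_cancel] at this

theorem finite_adicCompletion_of_finite_quotient (hfg : 𝔫.FG) [IsPrecomplete 𝔫 B]
    [Module.Finite B (M ⧸ (𝔫 • ⊤ : Submodule B M))] : Module.Finite B (AdicCompletion 𝔫 M) := by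
  classical
  obtain ⟨n, ω, hM⟩ := exists_gens_mod (M := M) 𝔫
  set ι := AdicCompletion.of 𝔫 M with hι
  set m : Fin n → AdicCompletion 𝔫 M := fun j => ι (ω j) with hm
  have hιM : ∀ x : M, ι x ∈ Submodule.span B (Set.range m) ⊔
      (𝔫 • ⊤ : Submodule B (AdicCompletion 𝔫 M)) := by
    intro x
    have h1 := Submodule.mem_map_of_mem (f := ι) (hM x)
    rw [Submodule.map_sup, Submodule.map_span, Submodule.map_smul''] at h1
    have e1 : (ι '' Set.range ω) = Set.range m := by
      rw [← Set.range_comp]; rfl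
    rw [e1] at h1
    obtain ⟨a, ha, b, hb, hab⟩ := Submodule.mem_sup.1 h1
    rw [← hab]
    exact add_mem (Submodule.mem_sup_left ha)
      (Submodule.mem_sup_right (Submodule.smul_mono le_rfl le_top hb))
  have hspan : Submodule.span B (Set.range m) ⊔
      (𝔫 • ⊤ : Submodule B (AdicCompletion 𝔫 M)) = ⊤ := by
    rw [eq_top_iff]
    intro x _
    obtain ⟨y, hy⟩ := Submodule.mkQ_surjective _ (AdicCompletion.eval 𝔫 M 1 x)
    have h1 : x - ι y ∈ (𝔫 ^ 1 • ⊤ : Submodule B (AdicCompletion 𝔫 M)) := by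
      rw [AdicCompletion.pow_smul_top_eq_ker_eval hfg, LinearMap.mem_ker, map_sub, hι,
        AdicCompletion.eval_of, hy, sub_self]
    rw [pow_one] at h1
    have := add_mem (Submodule.mem_sup_right h1) (hιM y)
    rwa [sub_add_cancel] at this
  have htop := Groth.Agent.H87.LimSystem.span_eq_top_of_hausdorff 𝔫 m hspan
  exact ⟨⟨Finset.univ.image m, by
    rw [Finset.coe_image, Finset.coe_univ, Set.image_univ]; exact htop⟩⟩

theorem fg_of_finite_cotangent [IsAdicComplete 𝔫 B] [Module.Finite B 𝔫.Cotangent] : 𝔫.FG := by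
  classical
  have hfin : Module.Finite B (↥𝔫 ⧸ (𝔫 • ⊤ : Submodule B ↥𝔫)) :=
    (inferInstance : Module.Finite B 𝔫.Cotangent)
  obtain ⟨n, ω, hM⟩ := exists_gens_mod (M := ↥𝔫) 𝔫
  have hH : IsHausdorff 𝔫 ↥𝔫 := by
    refine ⟨fun x hx => ?_⟩
    apply Subtype.ext
    refine IsHausdorff.haus (inferInstance : IsHausdorff 𝔫 B) (x : B) (fun k => ?_)
    have h1 := hx k
    rw [SModEq.zero] at h1 ⊢
    have h2 := Submodule.mem_map_of_mem (f := (Submodule.subtype 𝔫)) h1
    rw [Submodule.map_smul''] at h2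
    exact Submodule.smul_mono le_rfl le_top h2
  have hspan : Submodule.span B (Set.range ω) ⊔ (𝔫 • ⊤ : Submodule B ↥𝔫) = ⊤ :=
    eq_top_iff.2 fun x _ => hM x
  have htop := Groth.Agent.H87.LimSystem.span_eq_top_of_hausdorff 𝔫 ω hspan
  refine (Submodule.fg_top (𝔫 : Submodule B B)).1 ?_
  exact ⟨Finset.univ.image ω, by
    rw [Finset.coe_image, Finset.coe_univ, Set.image_univ]; exact htop⟩

end General

section Kaehler

variable {A B : Type*} [CommRing A] [CommRing B] [Algebra A B] (𝔫 : Ideal B)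

theorem finite_kaehler_quotient [Module.Finite B 𝔫.Cotangent]
    [Module.Finite (B ⧸ 𝔫) (Ω[(B ⧸ 𝔫)⁄A])] :
    Module.Finite B (Ω[B⁄A] ⧸ (𝔫 • ⊤ : Submodule B (Ω[B⁄A]))) := by
  have hsurj : Function.Surjective (algebraMap B (B ⧸ 𝔫)) := Ideal.Quotient.mk_surjective
  have hker : RingHom.ker (algebraMap B (B ⧸ 𝔫)) = 𝔫 := Ideal.mk_ker
  have hcot : Module.Finite B (RingHom.ker (algebraMap B (B ⧸ 𝔫))).Cotangent := by
    rw [hker]; infer_instance
  have hΩ₀ : Module.Finite B (Ω[(B ⧸ 𝔫)⁄A]) := Module.Finite.trans (B ⧸ 𝔫) _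
  have hT : Module.Finite B ((B ⧸ 𝔫) ⊗[B] Ω[B⁄A]) := by
    refine ⟨Submodule.fg_of_fg_map_of_fg_inf_ker
      ((KaehlerDifferential.mapBaseChange A B (B ⧸ 𝔫)).restrictScalars B) ?_ ?_⟩
    · rw [Submodule.map_top]
      have : LinearMap.range ((KaehlerDifferential.mapBaseChange A B (B ⧸ 𝔫)).restrictScalars B) =
          ⊤ := LinearMap.range_eq_top.2 (KaehlerDifferential.mapBaseChange_surjective A B _ hsurj)
      rw [this]; exact hΩ₀.1
    · rw [top_inf_eq]
      have h1 := KaehlerDifferential.range_kerCotangentToTensor A B (B ⧸ 𝔫) hsurj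
      have h2 : LinearMap.ker ((KaehlerDifferential.mapBaseChange A B (B ⧸ 𝔫)).restrictScalars B) =
          (LinearMap.ker (KaehlerDifferential.mapBaseChange A B (B ⧸ 𝔫))).restrictScalars B := rfl
      rw [h2, ← h1, LinearMap.range_eq_map]
      exact Submodule.FG.map _ hcot.1
  exact Module.Finite.equiv (TensorProduct.quotTensorEquivQuotSMul (Ω[B⁄A]) 𝔫)

end Kaehler

end Groth.Agent.H87.ComplFinite
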