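import Mathlib
import Groth.Agent.H23.CplQuot

/-!
# Local rings of a base change to the completion, modulo powers of the maximal ideal
(ring-level core for S7305)
-/

set_option autoImplicit false
universe u
open TensorProduct IsLocalRing

namespace Groth.Agent.H87.CplStalk

section PowSup
variable {R : Type*} [CommRing R]

theorem sup_pow_le (I K : Ideal R) (n : ℕ) : (I ⊔ K) ^ n ≤ I ^ n ⊔ K := by
  induction n with
  | zero => simp
  | succ n ih =>
    rw [pow_succ]
    calc (I ⊔ K) ^ n * (I ⊔ K) ≤ (I ^ n ⊔ K) * (I ⊔ K) := Ideal.mul_mono_left ih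
      _ = I ^ n * I ⊔ I ^ n * K ⊔ (K * I ⊔ K * K) := by
          rw [Ideal.sup_mul, Ideal.mul_sup, Ideal.mul_sup]
      _ ≤ I ^ (n + 1) ⊔ K := by
          rw [pow_succ]
          refine sup_le (sup_le le_sup_left ?_) (sup_le ?_ ?_)
          · exact le_trans Ideal.mul_le_right le_sup_right
          · exact le_trans Ideal.mul_le_left le_sup_right
          · exact le_trans Ideal.mul_le_right le_sup_right

end PowSup

section LQ

variable {B B' : Type u} [CommRing B] [CommRing B'] (β : B →+* B') (Q : Ideal B')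
  (J : Ideal B) (n : ℕ)

/-- `β x ∈ Qⁿ ⇒ x ∈ Pⁿ` when `B/J ≅ B'/JB'` and `J ≤ Pⁿ`, `P = β⁻¹ Q`. -/
theorem mem_pow_of_map_mem_pow
    (hJ : J ≤ (Q.comap β) ^ n)
    (hS1 : ∀ b' : B', ∃ b : B, b' - β b ∈ J.map β)
    (hI1 : ∀ b : B, β b ∈ J.map β → b ∈ J)
    (x : B) (hx : β x ∈ Q ^ n) : x ∈ (Q.comap β) ^ n := by
  have hJQ : J.map β ≤ Q ^ n := by
    calc J.map β ≤ ((Q.comap β) ^ n).map β := Ideal.map_mono hJ
      _ = ((Q.comap β).map β) ^ n := Ideal.map_pow _ _ _
      _ ≤ Q ^ n := Ideal.pow_right_mono Ideal.map_comap_le n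
  by_cases hn : n = 0
  · subst hn; simp
  have hJQ1 : J.map β ≤ Q := hJQ.trans (Ideal.pow_le_self hn)
  -- Q ≤ P.map β ⊔ J.map β
  have hQ : Q ≤ (Q.comap β).map β ⊔ J.map β := by
    intro q hq
    obtain ⟨b, hb⟩ := hS1 q
    have hbQ : β b ∈ Q := by
      have : β b = q - (q - β b) := by ring
      rw [this]
      exact Q.sub_mem hq (hJQ1 hb)
    have : q = β b + (q - β b) := by ring
    rw [this]
    exact Ideal.add_mem _ (Ideal.mem_sup_left (Ideal.mem_map_of_mem β hbQ))
      (Ideal.mem_sup_right hb)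
  have hQn : Q ^ n ≤ ((Q.comap β) ^ n).map β ⊔ J.map β := by
    calc Q ^ n ≤ ((Q.comap β).map β ⊔ J.map β) ^ n := Ideal.pow_right_mono hQ n
      _ ≤ ((Q.comap β).map β) ^ n ⊔ J.map β := sup_pow_le _ _ _
      _ = ((Q.comap β) ^ n).map β ⊔ J.map β := by rw [Ideal.map_pow]
  -- every element of `(P^n).map β ⊔ J.map β` is `β y + j'`
  have hform : ∀ z ∈ ((Q.comap β) ^ n).map β ⊔ J.map β,
      ∃ y ∈ (Q.comap β) ^ n, z - β y ∈ J.map β := by
    intro z hz
    obtain ⟨z1, hz1, z2, hz2, rfl⟩ := Submodule.mem_sup.mp hz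
    have h1 : ∃ y ∈ (Q.comap β) ^ n, z1 - β y ∈ J.map β := by
      refine Submodule.span_induction ?_ ?_ ?_ ?_ hz1
      · rintro _ ⟨y, hy, rfl⟩
        exact ⟨y, hy, by simp⟩
      · exact ⟨0, Ideal.zero_mem _, by simp⟩
      · rintro u v _ _ ⟨y1, hy1, h1⟩ ⟨y2, hy2, h2⟩
        refine ⟨y1 + y2, Ideal.add_mem _ hy1 hy2, ?_⟩
        have : u + v - β (y1 + y2) = (u - β y1) + (v - β y2) := by rw [map_add]; ring
        rw [this]
        exact Ideal.add_mem _ h1 h2
      · rintro c u _ ⟨y, hy, h1⟩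
        obtain ⟨c0, hc0⟩ := hS1 c
        refine ⟨c0 * y, Ideal.mul_mem_left _ _ hy, ?_⟩
        have : c • u - β (c0 * y) = c * (u - β y) + (c - β c0) * β y := by
          rw [map_mul, smul_eq_mul]; ring
        rw [this]
        exact Ideal.add_mem _ (Ideal.mul_mem_left _ _ h1) (Ideal.mul_mem_right _ _ hc0)
    obtain ⟨y, hy, h1⟩ := h1
    refine ⟨y, hy, ?_⟩
    have : z1 + z2 - β y = (z1 - β y) + z2 := by ring
    rw [this]
    exact Ideal.add_mem _ h1 hz2
  obtain ⟨y, hy, h1⟩ := hform (β x) (hQn hx)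
  have h2 : x - y ∈ J := hI1 _ (by rw [map_sub]; exact h1)
  have : x = y + (x - y) := by ring
  rw [this]
  exact Ideal.add_mem _ hy (hJ h2)

theorem maximalIdeal_pow_eq {R : Type u} [CommRing R] (P : Ideal R) [P.IsPrime] (n : ℕ) :
    maximalIdeal (Localization.AtPrime P) ^ n =
      (P ^ n).map (algebraMap R (Localization.AtPrime P)) := by
  rw [Ideal.map_pow, Localization.AtPrime.map_eq_maximalIdeal]

theorem local_surj [Q.IsPrime]
    (hJ : J ≤ (Q.comap β) ^ n) (hn : n ≠ 0)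
    (hS1 : ∀ b' : B', ∃ b : B, b' - β b ∈ J.map β)
    (y' : Localization.AtPrime Q) :
    ∃ x : Localization.AtPrime (Q.comap β),
      Localization.localRingHom (Q.comap β) Q β rfl x - y' ∈
        maximalIdeal (Localization.AtPrime Q) ^ n := by
  have hJQ : J.map β ≤ Q ^ n := by
    calc J.map β ≤ ((Q.comap β) ^ n).map β := Ideal.map_mono hJ
      _ = ((Q.comap β).map β) ^ n := Ideal.map_pow _ _ _
      _ ≤ Q ^ n := Ideal.pow_right_mono Ideal.map_comap_le n
  have hJQ1 : J.map β ≤ Q := hJQ.trans (Ideal.pow_le_self hn)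
  obtain ⟨⟨b', ⟨s', hs'⟩⟩, rfl⟩ := IsLocalization.mk'_surjective Q.primeCompl y'
  obtain ⟨b, hb⟩ := hS1 b'
  obtain ⟨s, hs⟩ := hS1 s'
  have hβs : β s ∉ Q := by
    intro h
    apply hs'
    have : s' = β s + (s' - β s) := by ring
    rw [this]
    exact Q.add_mem h (hJQ1 hs)
  have hsP : s ∈ (Q.comap β).primeCompl := hβs
  refine ⟨IsLocalization.mk' _ b ⟨s, hsP⟩, ?_⟩
  rw [Localization.localRingHom_mk', maximalIdeal_pow_eq,
    IsLocalization.mem_map_algebraMap_iff Q.primeCompl]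
  have hi : β b * s' - b' * β s ∈ Q ^ n := by
    have : β b * s' - b' * β s = β b * (s' - β s) - (b' - β b) * β s := by ring
    rw [this]
    exact Ideal.sub_mem _ (Ideal.mul_mem_left _ _ (hJQ hs)) (Ideal.mul_mem_right _ _ (hJQ hb))
  refine ⟨(⟨β b * s' - b' * β s, hi⟩, ⟨β s * s', Q.primeCompl.mul_mem hβs hs'⟩), ?_⟩
  simp only [map_mul, map_sub, sub_mul]
  congr 1
  · rw [← mul_assoc]
    congr 1
    exact IsLocalization.mk'_spec _ (β b) ⟨β s, hβs⟩
  · rw [mul_comm (algebraMap B' (Localization.AtPrime Q) (β s)), ← mul_assoc]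
    congr 1
    exact IsLocalization.mk'_spec _ b' ⟨s', hs'⟩

theorem local_inj [Q.IsPrime]
    (hJ : J ≤ (Q.comap β) ^ n) (hn : n ≠ 0)
    (hS1 : ∀ b' : B', ∃ b : B, b' - β b ∈ J.map β)
    (hI1 : ∀ b : B, β b ∈ J.map β → b ∈ J)
    (x : Localization.AtPrime (Q.comap β))
    (hx : Localization.localRingHom (Q.comap β) Q β rfl x ∈
      maximalIdeal (Localization.AtPrime Q) ^ n) :
    x ∈ maximalIdeal (Localization.AtPrime (Q.comap β)) ^ n := by
  have hJQ : J.map β ≤ Q ^ n := by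
    calc J.map β ≤ ((Q.comap β) ^ n).map β := Ideal.map_mono hJ
      _ = ((Q.comap β).map β) ^ n := Ideal.map_pow _ _ _
      _ ≤ Q ^ n := Ideal.pow_right_mono Ideal.map_comap_le n
  have hJQ1 : J.map β ≤ Q := hJQ.trans (Ideal.pow_le_self hn)
  obtain ⟨⟨b, ⟨s, hs⟩⟩, rfl⟩ := IsLocalization.mk'_surjective (Q.comap β).primeCompl x
  rw [Localization.localRingHom_mk', maximalIdeal_pow_eq] at hx
  -- algebraMap (β b) ∈ map
  have h1 : algebraMap B' (Localization.AtPrime Q) (β b) ∈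
      (Q ^ n).map (algebraMap B' (Localization.AtPrime Q)) := by
    have := Ideal.mul_mem_right (algebraMap B' (Localization.AtPrime Q) (β s)) _ hx
    rwa [IsLocalization.mk'_spec] at this
  rw [IsLocalization.mem_map_algebraMap_iff Q.primeCompl] at h1
  obtain ⟨⟨⟨i, hi⟩, ⟨t', ht'⟩⟩, h2⟩ := h1
  simp only at h2
  rw [← map_mul, IsLocalization.eq_iff_exists Q.primeCompl] at h2
  obtain ⟨⟨c, hc⟩, h3⟩ := h2
  simp only at h3
  -- t'' := c * t'
  have ht'' : c * t' ∉ Q := fun h => (‹Q.IsPrime›.mem_or_mem h).elim hc ht'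
  obtain ⟨t, ht⟩ := hS1 (c * t')
  have hβt : β t ∉ Q := by
    intro h
    apply ht''
    have : c * t' = β t + (c * t' - β t) := by ring
    rw [this]
    exact Q.add_mem h (hJQ1 ht)
  have htb : β (t * b) ∈ Q ^ n := by
    have : β (t * b) = c * i - (c * t' - β t) * β b := by
      rw [map_mul, ← h3]; ring
    rw [this]
    exact Ideal.sub_mem _ (Ideal.mul_mem_left _ _ hi) (Ideal.mul_mem_right _ _ (hJQ ht))
  have htbP := mem_pow_of_map_mem_pow β Q J n hJ hS1 hI1 (t * b) htb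
  rw [maximalIdeal_pow_eq, IsLocalization.mem_map_algebraMap_iff (Q.comap β).primeCompl]
  refine ⟨(⟨t * b, htbP⟩, ⟨t * s, (Q.comap β).primeCompl.mul_mem hβt hs⟩), ?_⟩
  simp only [map_mul]
  rw [mul_comm (algebraMap B (Localization.AtPrime (Q.comap β)) t), ← mul_assoc,
    IsLocalization.mk'_spec, mul_comm]

end LQ

section Tensor

variable {A : Type u} [CommRing A] (m : Ideal A) (B : Type u) [CommRing B] [Algebra A B] (n : ℕ)

/-- The ideal `mⁿ(Â ⊗ B)`, written as the extension of `mⁿB` along `b ↦ 1 ⊗ b`. -/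
noncomputable abbrev JT : Ideal (AdicCompletion m A ⊗[A] B) :=
  ((m ^ n).map (algebraMap A B)).map
    (Algebra.TensorProduct.includeRight : B →ₐ[A] AdicCompletion m A ⊗[A] B).toRingHom

theorem JT_eq : JT m B n = (m ^ n).map (algebraMap A (AdicCompletion m A ⊗[A] B)) := by
  unfold JT
  rw [Ideal.map_map]
  congr 1
  exact (Algebra.TensorProduct.includeRight : B →ₐ[A] AdicCompletion m A ⊗[A] B).comp_algebraMap

theorem tmul_mem_JT (u : AdicCompletion m A)
    (hu : u ∈ (m ^ n).map (algebraMap A (AdicCompletion m A))) (b : B) :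
    u ⊗ₜ[A] b ∈ JT m B n := by
  have h1 : u ⊗ₜ[A] b = (Algebra.TensorProduct.includeLeft :
      AdicCompletion m A →ₐ[A] AdicCompletion m A ⊗[A] B) u * ((1 : AdicCompletion m A) ⊗ₜ[A] b) := by
    simp
  rw [h1]
  apply Ideal.mul_mem_right
  rw [JT_eq]
  have h2 : ((m ^ n).map (algebraMap A (AdicCompletion m A))).map
      (Algebra.TensorProduct.includeLeft :
        AdicCompletion m A →ₐ[A] AdicCompletion m A ⊗[A] B).toRingHom =
      (m ^ n).map (algebraMap A (AdicCompletion m A ⊗[A] B)) := by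
    rw [Ideal.map_map]
    congr 1
  rw [← h2]
  exact Ideal.mem_map_of_mem _ hu

theorem tensor_S1 (hm : m.FG) (z : AdicCompletion m A ⊗[A] B) :
    ∃ b : B, z - (1 : AdicCompletion m A) ⊗ₜ[A] b ∈ JT m B n := by
  induction z using TensorProduct.induction_on with
  | zero => exact ⟨0, by simp⟩
  | tmul w b₀ =>
    obtain ⟨a₀, ha₀⟩ := Ideal.Quotient.mk_surjective (AdicCompletion.evalₐ m n w)
    have h1 : w - algebraMap A (AdicCompletion m A) a₀ ∈
        (m ^ n).map (algebraMap A (AdicCompletion m A)) := by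
      rw [← Groth.Agent.H23.CplQuot.ker_evalₐ_eq_map m hm n, RingHom.mem_ker]
      show AdicCompletion.evalₐ m n (w - algebraMap A (AdicCompletion m A) a₀) = 0
      rw [map_sub, AlgHom.commutes, ← ha₀]
      exact sub_self _
    refine ⟨a₀ • b₀, ?_⟩
    have h2 : w ⊗ₜ[A] b₀ - (1 : AdicCompletion m A) ⊗ₜ[A] (a₀ • b₀) =
        (w - algebraMap A (AdicCompletion m A) a₀) ⊗ₜ[A] b₀ := by
      rw [TensorProduct.sub_tmul, Algebra.algebraMap_eq_smul_one, TensorProduct.smul_tmul]
    rw [h2]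
    exact tmul_mem_JT m B n _ h1 b₀
  | add z₁ z₂ h₁ h₂ =>
    obtain ⟨b₁, hb₁⟩ := h₁
    obtain ⟨b₂, hb₂⟩ := h₂
    refine ⟨b₁ + b₂, ?_⟩
    have : z₁ + z₂ - (1 : AdicCompletion m A) ⊗ₜ[A] (b₁ + b₂) =
        (z₁ - (1 : AdicCompletion m A) ⊗ₜ[A] b₁) + (z₂ - (1 : AdicCompletion m A) ⊗ₜ[A] b₂) := by
      rw [TensorProduct.tmul_add]; ring
    rw [this]
    exact Ideal.add_mem _ hb₁ hb₂

theorem tensor_I1 (b : B) (hb : (1 : AdicCompletion m A) ⊗ₜ[A] b ∈ JT m B n) :
    b ∈ (m ^ n).map (algebraMap A B) := by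
  set J : Ideal B := (m ^ n).map (algebraMap A B) with hJ
  have hkill : ∀ a : A, a ∈ m ^ n →
      ((Ideal.Quotient.mkₐ A J).comp (Algebra.ofId A B)) a = 0 := by
    intro a ha
    show Ideal.Quotient.mk J (algebraMap A B a) = 0
    exact Ideal.Quotient.eq_zero_iff_mem.mpr (Ideal.mem_map_of_mem _ ha)
  let g₁ : AdicCompletion m A →ₐ[A] B ⧸ J :=
    (Ideal.Quotient.liftₐ (m ^ n) ((Ideal.Quotient.mkₐ A J).comp (Algebra.ofId A B)) hkill).comp
      (AdicCompletion.evalₐ m n)
  let ρ : AdicCompletion m A ⊗[A] B →ₐ[A] B ⧸ J :=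
    Algebra.TensorProduct.lift g₁ (Ideal.Quotient.mkₐ A J) (fun _ _ => Commute.all _ _)
  have hρ : ∀ b : B, ρ ((1 : AdicCompletion m A) ⊗ₜ[A] b) = Ideal.Quotient.mk J b := by
    intro b
    show Algebra.TensorProduct.lift g₁ (Ideal.Quotient.mkₐ A J) _ _ = _
    rw [Algebra.TensorProduct.lift_tmul, map_one, one_mul]
    rfl
  have hle : JT m B n ≤ RingHom.ker ρ.toRingHom := by
    unfold JT
    rw [Ideal.map_le_iff_le_comap]
    intro j hj
    rw [Ideal.mem_comap, RingHom.mem_ker]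
    show ρ ((1 : AdicCompletion m A) ⊗ₜ[A] j) = 0
    rw [hρ]
    exact Ideal.Quotient.eq_zero_iff_mem.mpr hj
  have h1 : ρ ((1 : AdicCompletion m A) ⊗ₜ[A] b) = 0 := hle hb
  rw [hρ] at h1
  exact Ideal.Quotient.eq_zero_iff_mem.mp h1

end Tensor

section Main

variable {A : Type u} [CommRing A] (m : Ideal A) {B B'' : Type u} [CommRing B] [CommRing B'']
  [Algebra A B]

/-- Ring-level core: local rings of `B` and of `B'' ≅ Â ⊗ B` agree modulo `n`-th powers of the
maximal ideals, at primes over `m`. -/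
theorem main_ring (hm : m.FG) (β : B →+* B'') (eR : AdicCompletion m A ⊗[A] B ≃+* B'')
    (he : ∀ b : B, eR ((1 : AdicCompletion m A) ⊗ₜ[A] b) = β b)
    (P : Ideal B) [P.IsPrime] (Q : Ideal B'') [Q.IsPrime] (hPQ : P = Q.comap β)
    (hmP : m.map (algebraMap A B) ≤ P) (n : ℕ) (hn : n ≠ 0) :
    (∀ y' : Localization.AtPrime Q, ∃ x : Localization.AtPrime P,
      Localization.localRingHom P Q β hPQ x - y' ∈ maximalIdeal (Localization.AtPrime Q) ^ n) ∧
    (∀ x : Localization.AtPrime P,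
      Localization.localRingHom P Q β hPQ x ∈ maximalIdeal (Localization.AtPrime Q) ^ n →
        x ∈ maximalIdeal (Localization.AtPrime P) ^ n) := by
  subst hPQ
  set J : Ideal B := (m ^ n).map (algebraMap A B) with hJdef
  have hJ : J ≤ (Q.comap β) ^ n := by
    rw [hJdef, Ideal.map_pow]
    exact Ideal.pow_right_mono hmP n
  have hβ : ∀ b : B, β b = eR ((Algebra.TensorProduct.includeRight :
      B →ₐ[A] AdicCompletion m A ⊗[A] B) b) := fun b => (he b).symm
  have hmap : (JT m B n).map eR.toRingHom = J.map β := by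
    unfold JT
    rw [Ideal.map_map]
    congr 1
    ext b
    exact he b
  have hS1 : ∀ b' : B'', ∃ b : B, b' - β b ∈ J.map β := by
    intro b'
    obtain ⟨b, hb⟩ := tensor_S1 m B n hm (eR.symm b')
    refine ⟨b, ?_⟩
    have h1 := Ideal.mem_map_of_mem eR.toRingHom hb
    rw [hmap] at h1
    have h2 : eR.toRingHom (eR.symm b' - (1 : AdicCompletion m A) ⊗ₜ[A] b) = b' - β b := by
      show eR (eR.symm b' - (1 : AdicCompletion m A) ⊗ₜ[A] b) = b' - β b
      rw [map_sub, RingEquiv.apply_symm_apply, he]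
    rwa [h2] at h1
  have hI1 : ∀ b : B, β b ∈ J.map β → b ∈ J := by
    intro b hb
    apply tensor_I1 m B n b
    have h1 := Ideal.mem_map_of_mem eR.symm.toRingHom hb
    have h2 : (J.map β).map eR.symm.toRingHom = JT m B n := by
      rw [← hmap, Ideal.map_map]
      have : eR.symm.toRingHom.comp eR.toRingHom = RingHom.id _ :=
        RingHom.ext fun z => eR.symm_apply_apply z
      rw [this, Ideal.map_id]
    rw [h2] at h1
    have h3 : eR.symm.toRingHom (β b) = (1 : AdicCompletion m A) ⊗ₜ[A] b := by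
      show eR.symm (β b) = _
      rw [← he, RingEquiv.symm_apply_apply]
    rwa [h3] at h1
  exact ⟨fun y' => local_surj β Q J n hJ hn hS1 y',
    fun x hx => local_inj β Q J n hJ hn hS1 hI1 x hx⟩

theorem bijective_quotientMap_of {L L' : Type u} [CommRing L] [CommRing L'] (I : Ideal L)
    (I' : Ideal L') (l : L →+* L') (h : I ≤ I'.comap l)
    (hS : ∀ y' : L', ∃ x : L, l x - y' ∈ I') (hI : ∀ x : L, l x ∈ I' → x ∈ I) :
    Function.Bijective (Ideal.quotientMap I' l h) := by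
  constructor
  · rw [injective_iff_map_eq_zero]
    intro x hx
    obtain ⟨x, rfl⟩ := Ideal.Quotient.mk_surjective x
    rw [Ideal.quotientMap_mk, Ideal.Quotient.eq_zero_iff_mem] at hx
    exact Ideal.Quotient.eq_zero_iff_mem.mpr (hI x hx)
  · intro y'
    obtain ⟨y', rfl⟩ := Ideal.Quotient.mk_surjective y'
    obtain ⟨x, hx⟩ := hS y'
    refine ⟨Ideal.Quotient.mk I x, ?_⟩
    rw [Ideal.quotientMap_mk, Ideal.Quotient.eq]
    exact hx

theorem mem_maximalIdeal_pow_iff_of_ringEquiv {L L₁ : Type u} [CommRing L] [CommRing L₁]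
    [IsLocalRing L] [IsLocalRing L₁] (e : L ≃+* L₁) (n : ℕ) (x : L) :
    e x ∈ maximalIdeal L₁ ^ n ↔ x ∈ maximalIdeal L ^ n := by
  have h1 : (maximalIdeal L).map e.toRingHom = maximalIdeal L₁ := by
    apply le_antisymm
    · rw [Ideal.map_le_iff_le_comap]
      intro y hy
      rw [Ideal.mem_comap, mem_maximalIdeal, mem_nonunits_iff] at *
      intro hu
      apply hy
      have := hu.map e.symm
      simpa using this
    · intro y hy
      have h2 : y = e.toRingHom (e.symm y) := (e.apply_symm_apply y).symm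
      rw [h2]
      apply Ideal.mem_map_of_mem
      rw [mem_maximalIdeal, mem_nonunits_iff] at *
      intro hu
      apply hy
      have := hu.map e
      simpa using this
  have h2 : (maximalIdeal L ^ n).map e.toRingHom = maximalIdeal L₁ ^ n := by
    rw [Ideal.map_pow, h1]
  rw [← h2]
  constructor
  · intro hx
    obtain ⟨z, hz, hzx⟩ := (Ideal.mem_map_iff_of_surjective e.toRingHom e.surjective).mp hx
    have : z = x := e.injective hzx
    rwa [← this]
  · intro hx
    exact Ideal.mem_map_of_mem e.toRingHom hx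

end Main

end Groth.Agent.H87.CplStalk
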