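import Mathlib
import Groth.Agent.H35.SeqComplete

/-!
Sequences `ℕ → M` as a module over the power series ring `R⟦X⟧` (convolution action), and the
"evaluation at `X = f`" quotient: for a module `M` which is `SeqComplete f`, the quotient of the
`R⟦X⟧`-module of sequences by `(X - f)` is additively isomorphic to `M`.  This equips (a copy of)
`M` with an `R⟦X⟧`-module structure in which `X` acts as `f`.   (helper87)
-/

set_option autoImplicit false
universe u v

open PowerSeries Finset

namespace Groth.Agent.H87.DCPSeq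

open Groth.Agent.H35

/-- Sequences in `M`, regarded as "power series with coefficients in `M`". -/
def PSeq (R : Type u) (M : Type v) : Type v := ℕ → M

section Module
variable {R : Type u} [CommRing R] {M : Type v} [AddCommGroup M] [Module R M]

instance : AddCommGroup (PSeq R M) := inferInstanceAs (AddCommGroup (ℕ → M))

@[ext] lemma PSeq.ext {m m' : PSeq R M} (h : ∀ n, m n = m' n) : m = m' := funext h

@[simp] lemma PSeq.add_apply (m m' : PSeq R M) (n : ℕ) : (m + m') n = m n + m' n := rfl
@[simp] lemma PSeq.zero_apply (n : ℕ) : (0 : PSeq R M) n = 0 := rfl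
@[simp] lemma PSeq.sub_apply (m m' : PSeq R M) (n : ℕ) : (m - m') n = m n - m' n := rfl
@[simp] lemma PSeq.neg_apply (m : PSeq R M) (n : ℕ) : (-m) n = -m n := rfl

noncomputable instance : SMul R⟦X⟧ (PSeq R M) :=
  ⟨fun a m n => ∑ p ∈ antidiagonal n, coeff p.1 a • m p.2⟩

lemma smul_apply (a : R⟦X⟧) (m : PSeq R M) (n : ℕ) :
    (a • m) n = ∑ p ∈ antidiagonal n, coeff p.1 a • m p.2 := rfl

noncomputable instance : Module R⟦X⟧ (PSeq R M) where
  one_smul m := by
    ext n
    rw [smul_apply, Finset.sum_eq_single (0, n)]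
    · simp
    · rintro ⟨i, j⟩ hij hne
      have hi : i ≠ 0 := by
        rintro rfl
        rw [HasAntidiagonal.mem_antidiagonal] at hij
        simp only [zero_add] at hij
        exact hne (by rw [hij])
      simp [coeff_one, hi]
    · intro h
      exact absurd (by simp) h
  mul_smul a b m := by
    ext n
    simp only [smul_apply, coeff_mul, Finset.sum_smul, Finset.smul_sum, Finset.sum_sigma', mul_smul]
    apply Finset.sum_nbij' (fun ⟨⟨_i, j⟩, ⟨k, l⟩⟩ ↦ ⟨(k, l + j), (l, j)⟩)
      (fun ⟨⟨i, _j⟩, ⟨k, l⟩⟩ ↦ ⟨(i + k, l), (i, k)⟩) <;> aesop (add simp [add_assoc])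
  smul_zero a := by
    ext n
    simp [smul_apply]
  smul_add a m m' := by
    ext n
    simp [smul_apply, smul_add, Finset.sum_add_distrib]
  add_smul a b m := by
    ext n
    simp [smul_apply, add_smul, Finset.sum_add_distrib]
  zero_smul m := by
    ext n
    simp [smul_apply]

lemma X_smul_zero (m : PSeq R M) : ((X : R⟦X⟧) • m) 0 = 0 := by
  rw [smul_apply]
  simp [coeff_X]

lemma X_smul_succ (m : PSeq R M) (n : ℕ) : ((X : R⟦X⟧) • m) (n + 1) = m n := by
  rw [smul_apply, Finset.sum_eq_single (1, n)]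
  · simp
  · rintro ⟨i, j⟩ hij hne
    have hi : i ≠ 1 := by
      rintro rfl
      rw [HasAntidiagonal.mem_antidiagonal] at hij
      have : j = n := by omega
      exact hne (by rw [this])
    simp [coeff_X, hi]
  · intro h
    exact absurd (by simp [add_comm]) h

lemma C_smul_apply (a : R) (m : PSeq R M) (n : ℕ) : ((C a : R⟦X⟧) • m) n = a • m n := by
  rw [smul_apply, Finset.sum_eq_single (0, n)]
  · simp
  · rintro ⟨i, j⟩ hij hne
    have hi : i ≠ 0 := by
      rintro rfl
      rw [HasAntidiagonal.mem_antidiagonal] at hij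
      simp only [zero_add] at hij
      exact hne (by rw [hij])
    simp [coeff_C, hi]
  · intro h
    exact absurd (by simp) h

end Module


section Quot
variable {R : Type u} [CommRing R] {M : Type v} [AddCommGroup M] [Module R M] (f : R)

lemma sub_smul_zero (d : PSeq R M) : ((X - C f : R⟦X⟧) • d) 0 = -(f • d 0) := by
  rw [sub_smul, PSeq.sub_apply, X_smul_zero, C_smul_apply, zero_sub]

lemma sub_smul_succ (d : PSeq R M) (n : ℕ) :
    ((X - C f : R⟦X⟧) • d) (n + 1) = d n - f • d (n + 1) := by
  rw [sub_smul, PSeq.sub_apply, X_smul_succ, C_smul_apply]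

variable (R M) in
/-- The submodule `(X - f) • PSeq`. -/
noncomputable def relSub : Submodule R⟦X⟧ (PSeq R M) :=
  LinearMap.range ((X - C f : R⟦X⟧) • (LinearMap.id : PSeq R M →ₗ[R⟦X⟧] PSeq R M))

lemma mem_relSub {c : PSeq R M} :
    c ∈ relSub R M f ↔ ∃ d : PSeq R M, (X - C f : R⟦X⟧) • d = c := by
  simp [relSub, LinearMap.mem_range]

variable (R M) in
/-- The quotient of sequences by `(X - f)`: an `R⟦X⟧`-module in which `X` acts as `f`. -/
abbrev EvQuot : Type v := PSeq R M ⧸ relSub R M f

/-- the sequence `(x, 0, 0, …)`. -/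
def cst (x : M) : PSeq R M := fun n => Nat.casesOn n x (fun _ => 0)

@[simp] lemma cst_zero (x : M) : (cst x : PSeq R M) 0 = x := rfl
@[simp] lemma cst_succ (x : M) (n : ℕ) : (cst x : PSeq R M) (n + 1) = 0 := rfl

lemma cst_add (x y : M) : (cst (x + y) : PSeq R M) = cst x + cst y := by
  ext n
  cases n <;> simp

lemma C_smul_cst (a : R) (x : M) : (C a : R⟦X⟧) • (cst x : PSeq R M) = cst (a • x) := by
  ext n
  rw [C_smul_apply]
  cases n <;> simp

/-- `M → EvQuot`. -/
noncomputable def toEvQuot : M →+ EvQuot R M f where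
  toFun x := Submodule.Quotient.mk (cst x)
  map_zero' := by
    have : (cst (0 : M) : PSeq R M) = 0 := by
      ext n
      cases n <;> simp
    rw [this, Submodule.Quotient.mk_zero]
  map_add' x y := by rw [cst_add, Submodule.Quotient.mk_add]

lemma toEvQuot_apply (x : M) : toEvQuot f x = Submodule.Quotient.mk (cst x) := rfl

lemma toEvQuot_injective (h : SeqComplete f M) : Function.Injective (toEvQuot (R := R) (M := M) f) := by
  rw [injective_iff_map_eq_zero]
  intro x hx
  rw [toEvQuot_apply, Submodule.Quotient.mk_eq_zero, mem_relSub] at hx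
  obtain ⟨d, hd⟩ := hx
  have hd0 : ∀ n, d n = 0 := by
    intro n
    refine h.eq_zero (m := d) (fun n => ?_) n
    have := congrFun hd (n + 1)
    rw [sub_smul_succ] at this
    simpa using this
  have := congrFun hd 0
  rw [sub_smul_zero, hd0 0, smul_zero, neg_zero] at this
  simpa using this.symm

lemma toEvQuot_surjective (h : SeqComplete f M) :
    Function.Surjective (toEvQuot (R := R) (M := M) f) := by
  intro q
  obtain ⟨c, rfl⟩ := Submodule.Quotient.mk_surjective _ q
  obtain ⟨m, hm, -⟩ := h c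
  refine ⟨m 0, ?_⟩
  rw [toEvQuot_apply]
  symm
  rw [Submodule.Quotient.eq, mem_relSub]
  refine ⟨fun n => m (n + 1), ?_⟩
  ext n
  cases n with
  | zero =>
    rw [sub_smul_zero, PSeq.sub_apply, cst_zero, ← hm 0]
    abel
  | succ n =>
    rw [sub_smul_succ, PSeq.sub_apply, cst_succ, sub_zero, ← hm (n + 1)]

/-- The additive equivalence `M ≃+ EvQuot`. -/
noncomputable def evEquiv (h : SeqComplete f M) : M ≃+ EvQuot R M f :=
  AddEquiv.ofBijective (toEvQuot f) ⟨toEvQuot_injective f h, toEvQuot_surjective f h⟩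

lemma evEquiv_apply (h : SeqComplete f M) (x : M) : evEquiv f h x = toEvQuot f x := rfl

lemma C_smul_evEquiv (h : SeqComplete f M) (a : R) (x : M) :
    (C a : R⟦X⟧) • evEquiv f h x = evEquiv f h (a • x) := by
  rw [evEquiv_apply, evEquiv_apply, toEvQuot_apply, toEvQuot_apply, ← Submodule.Quotient.mk_smul,
    C_smul_cst]

lemma X_smul_evQuot (q : EvQuot R M f) : (X : R⟦X⟧) • q = (C f : R⟦X⟧) • q := by
  obtain ⟨c, rfl⟩ := Submodule.Quotient.mk_surjective _ q
  rw [← Submodule.Quotient.mk_smul, ← Submodule.Quotient.mk_smul, Submodule.Quotient.eq, mem_relSub]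
  exact ⟨c, by rw [sub_smul]⟩

end Quot

section Ring
variable {R : Type u} [CommRing R]

lemma X_mem_jacobson : (X : R⟦X⟧) ∈ (⊥ : Ideal R⟦X⟧).jacobson := by
  rw [Ideal.mem_jacobson_bot]
  intro y
  rw [PowerSeries.isUnit_iff_constantCoeff]
  simp

lemma C_mem_jacobson {y : R} (hy : y ∈ (⊥ : Ideal R).jacobson) :
    (C y : R⟦X⟧) ∈ (⊥ : Ideal R⟦X⟧).jacobson := by
  rw [Ideal.mem_jacobson_bot] at hy ⊢
  intro s
  rw [PowerSeries.isUnit_iff_constantCoeff]
  simpa using hy (constantCoeff s)

lemma seqComplete_C {y : R} (hy : SeqComplete y R) : SeqComplete (C y : R⟦X⟧) R⟦X⟧ := by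
  have h1 : SeqComplete y R⟦X⟧ := SeqComplete.pi (N := fun _ : Unit →₀ ℕ => R) (fun _ => hy)
  exact (seqComplete_algebraMap_iff (B := R⟦X⟧) (M := R⟦X⟧) y).2 h1

lemma eq_zero_of_X (d : ℕ → R⟦X⟧) (hd : ∀ n, d n - (X : R⟦X⟧) • d (n + 1) = 0) (n : ℕ) :
    d n = 0 := by
  have h1 : ∀ k n, d n = (X : R⟦X⟧) ^ k * d (n + k) := by
    intro k
    induction k with
    | zero => intro n; simp
    | succ k ih =>
      intro n
      have h2 := sub_eq_zero.1 (hd (n + k))
      rw [ih n, h2, smul_eq_mul, ← mul_assoc, ← pow_succ, Nat.add_assoc]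
  ext j
  rw [h1 (j + 1) n, coeff_X_pow_mul', if_neg (by omega), map_zero]

lemma seqComplete_X : SeqComplete (X : R⟦X⟧) R⟦X⟧ := by
  intro c
  have key : ∀ n, (PowerSeries.mk fun j => ∑ k ∈ range (j + 1), coeff (j - k) (c (n + k))) -
      (X : R⟦X⟧) • (PowerSeries.mk fun j => ∑ k ∈ range (j + 1), coeff (j - k) (c (n + 1 + k))) =
        c n := by
    intro n
    ext j
    rw [smul_eq_mul, map_sub]
    cases j with
    | zero => simp
    | succ j =>
      rw [coeff_succ_X_mul, coeff_mk, coeff_mk, Finset.sum_range_succ']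
      have : ∀ k ∈ range (j + 1), coeff (j + 1 - (k + 1)) (c (n + (k + 1))) =
          coeff (j - k) (c (n + 1 + k)) := by
        intro k _
        rw [Nat.add_sub_add_right, Nat.add_assoc, Nat.add_comm 1 k]
      rw [Finset.sum_congr rfl this]
      simp
  refine ⟨fun n => PowerSeries.mk fun j => ∑ k ∈ range (j + 1), coeff (j - k) (c (n + k)),
    key, fun m' hm' => ?_⟩
  funext n
  have h0 := eq_zero_of_X (fun n => m' n -
    PowerSeries.mk fun j => ∑ k ∈ range (j + 1), coeff (j - k) (c (n + k))) (fun n => by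
      show m' n - _ - (X : R⟦X⟧) • (m' (n + 1) - _) = 0
      rw [smul_sub]
      have h3 := hm' n
      have h4 := key n
      linear_combination (exp := 1) h3 - h4) n
  exact sub_eq_zero.1 h0

end Ring

end Groth.Agent.H87.DCPSeq
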