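import Mathlib
import Groth.Agent.H35.SeqComplete
import Groth.Agent.H35.SeqPrecomplete
import Groth.Agent.H87.DCPSeq

/-!
A module `M` over a Noetherian ring `A` which is `SeqComplete` (= derived complete) for every
element of an ideal `I` and has `M/IM` finite is `I`-adically complete, and its completion is a
finite module over the completion of `A`.  (Stacks 09B8-type statement, elementary proof through an
`A⟦Y₁⟧⋯⟦Y_r⟧`-module structure.)   (helper87)
-/

set_option autoImplicit false
universe u v w

open PowerSeries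

namespace Groth.Agent.H87.DCFinite

open Groth.Agent.H35 Groth.Agent.H87.DCPSeq

/-- transport of `SeqComplete` along an additive equivalence intertwining two scalars (possibly over
different rings). -/
theorem seqComplete_transfer {A : Type u} {R : Type v} [CommRing A] [CommRing R]
    {M : Type w} {M' : Type*} [AddCommGroup M] [Module A M] [AddCommGroup M'] [Module R M']
    (a : A) (b : R) (e : M ≃+ M') (he : ∀ x, e (a • x) = b • e x) (h : SeqComplete a M) :
    SeqComplete b M' := by
  intro c
  obtain ⟨m, hm, hu⟩ := h (fun n => e.symm (c n))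
  refine ⟨fun n => e (m n), fun n => ?_, fun m' hm' => ?_⟩
  · show e (m n) - b • e (m (n + 1)) = c n
    rw [← he, ← map_sub, hm n, AddEquiv.apply_symm_apply]
  · funext n
    have h1 : (fun n => e.symm (m' n)) = m := hu _ (fun n => by
      show e.symm (m' n) - a • e.symm (m' (n + 1)) = e.symm (c n)
      apply e.injective
      rw [map_sub, he, AddEquiv.apply_symm_apply, AddEquiv.apply_symm_apply,
        AddEquiv.apply_symm_apply, hm' n])
    have h2 := congrFun h1 n
    show m' n = e (m n)
    rw [← h2, AddEquiv.apply_symm_apply]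

/-- Nakayama for several `SeqComplete` elements. -/
theorem subsingleton_of_span_smul_top {R : Type u} [CommRing R] :
    ∀ (s : Finset R) (Q : Type v) [AddCommGroup Q] [Module R Q],
      (∀ y ∈ s, SeqComplete y Q) →
      Ideal.span (s : Set R) • (⊤ : Submodule R Q) = ⊤ → Subsingleton Q := by
  classical
  intro s
  induction s using Finset.induction_on with
  | empty =>
    intro Q _ _ _ h
    rw [Finset.coe_empty, Ideal.span_empty, Submodule.bot_smul] at h
    refine ⟨fun x y => ?_⟩
    have hx : x ∈ (⊥ : Submodule R Q) := by rw [h]; exact Submodule.mem_top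
    have hy : y ∈ (⊥ : Submodule R Q) := by rw [h]; exact Submodule.mem_top
    rw [(Submodule.mem_bot R).1 hx, (Submodule.mem_bot R).1 hy]
  | insert a s has ih =>
    intro Q _ _ hQ h
    have hN : ∀ y ∈ s, SeqComplete y (Q ⧸ LinearMap.range (LinearMap.lsmul R Q a)) :=
      fun y hy => SeqComplete.coker (LinearMap.lsmul R Q a)
        (hQ y (Finset.mem_insert_of_mem hy)) (hQ y (Finset.mem_insert_of_mem hy))
    have hNtop : Ideal.span (s : Set R) •
        (⊤ : Submodule R (Q ⧸ LinearMap.range (LinearMap.lsmul R Q a))) = ⊤ := by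
      rw [eq_top_iff]
      rintro y -
      obtain ⟨x, rfl⟩ := Submodule.mkQ_surjective _ y
      have hx : x ∈ Ideal.span ((insert a s : Finset R) : Set R) • (⊤ : Submodule R Q) := by
        rw [h]; exact Submodule.mem_top
      rw [Finset.coe_insert, Ideal.span_insert, Submodule.sup_smul] at hx
      obtain ⟨x₁, hx₁, x₂, hx₂, rfl⟩ := Submodule.mem_sup.1 hx
      have h1 : x₁ ∈ LinearMap.range (LinearMap.lsmul R Q a) := by
        refine (Submodule.smul_le.2 ?_ : Ideal.span {a} • (⊤ : Submodule R Q) ≤ _) hx₁
        intro r hr n _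
        obtain ⟨b, rfl⟩ := Ideal.mem_span_singleton'.1 hr
        refine ⟨b • n, ?_⟩
        rw [LinearMap.lsmul_apply, ← mul_smul, mul_comm]
      have h2 : (LinearMap.range (LinearMap.lsmul R Q a)).mkQ x₂ ∈ Ideal.span (s : Set R) •
          (⊤ : Submodule R (Q ⧸ LinearMap.range (LinearMap.lsmul R Q a))) := by
        have h3 := Submodule.mem_map_of_mem (f := (LinearMap.range (LinearMap.lsmul R Q a)).mkQ) hx₂
        rw [Submodule.map_smul'', Submodule.map_top, Submodule.range_mkQ] at h3
        exact h3
      have e1 : (LinearMap.range (LinearMap.lsmul R Q a)).mkQ x₁ = 0 := by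
        rw [Submodule.mkQ_apply]
        exact (Submodule.Quotient.mk_eq_zero _).2 h1
      rw [map_add, e1, zero_add]
      exact h2
    have hNsub : Subsingleton (Q ⧸ LinearMap.range (LinearMap.lsmul R Q a)) :=
      ih _ hN hNtop
    have hrange : LinearMap.range (LinearMap.lsmul R Q a) = ⊤ :=
      Submodule.Quotient.subsingleton_iff.1 hNsub
    refine SeqComplete.subsingleton_of_smul_surjective (hQ a (Finset.mem_insert_self a s))
      (fun x => ?_)
    have hx : x ∈ LinearMap.range (LinearMap.lsmul R Q a) := by rw [hrange]; exact Submodule.mem_top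
    obtain ⟨y, hy⟩ := hx
    exact ⟨y, hy⟩

/-- A module which is `SeqComplete` for `g 0, …, g (r-1)` carries (up to additive isomorphism) a
module structure over a Noetherian ring `R` (an iterated power series ring) with elements `Y i` of
the Jacobson radical acting as `g i`, `R` itself being `SeqComplete` for every `Y i`. -/
theorem exists_structure : ∀ (r : ℕ) (A : Type u) [CommRing A] [IsNoetherianRing A] (M : Type u)
    [AddCommGroup M] [Module A M] (g : Fin r → A), (∀ i, SeqComplete (g i) M) →
    ∃ (R : Type u) (_ : CommRing R) (_ : IsNoetherianRing R) (M' : Type u) (_ : AddCommGroup M')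
      (_ : Module R M') (φ : A →+* R) (e : M ≃+ M') (Y : Fin r → R),
      (∀ (a : A) (m : M), e (a • m) = φ a • e m) ∧ (∀ (i : Fin r) (m' : M'), Y i • m' = φ (g i) • m') ∧
        (∀ i, Y i ∈ (⊥ : Ideal R).jacobson) ∧ (∀ i, SeqComplete (Y i) R) := by
  intro r
  induction r with
  | zero =>
    intro A _ _ M _ _ g _
    exact ⟨A, inferInstance, inferInstance, M, inferInstance, inferInstance, RingHom.id A,
      AddEquiv.refl M, g, fun a m => rfl, fun i => i.elim0, fun i => i.elim0, fun i => i.elim0⟩
  | succ r ih =>
    intro A _ _ M _ _ g hg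
    obtain ⟨R, iR, iN, M', iM1, iM2, φ, e, Y, he, hY, hJ, hS⟩ :=
      ih A M (fun i => g i.succ) (fun i => hg i.succ)
    have hf : SeqComplete (φ (g 0)) M' :=
      seqComplete_transfer (g 0) (φ (g 0)) e (fun x => he _ x) (hg 0)
    refine ⟨R⟦X⟧, inferInstance, inferInstance, EvQuot R M' (φ (g 0)), inferInstance,
      inferInstance, (C : R →+* R⟦X⟧).comp φ, e.trans (evEquiv (φ (g 0)) hf),
      Fin.cons X (fun i => C (Y i)), ?_, ?_, ?_, ?_⟩
    · intro a m
      show evEquiv (φ (g 0)) hf (e (a • m)) = (C (φ a) : R⟦X⟧) • evEquiv (φ (g 0)) hf (e m)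
      rw [he, C_smul_evEquiv]
    · intro i m''
      obtain ⟨x, rfl⟩ := (evEquiv (φ (g 0)) hf).surjective m''
      refine Fin.cases ?_ (fun j => ?_) i
      · show (X : R⟦X⟧) • _ = (C (φ (g 0)) : R⟦X⟧) • _
        exact X_smul_evQuot _ _
      · show (C (Y j) : R⟦X⟧) • _ = (C (φ (g j.succ)) : R⟦X⟧) • _
        rw [C_smul_evEquiv, C_smul_evEquiv, hY]
    · intro i
      refine Fin.cases ?_ (fun j => ?_) i
      · exact X_mem_jacobson
      · exact C_mem_jacobson (hJ j)
    · intro i
      refine Fin.cases ?_ (fun j => ?_) i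
      · exact seqComplete_X
      · exact seqComplete_C (hS j)


/-- generators of `M/IM` give a decomposition of every element of `M`. -/
theorem exists_decomp {A : Type u} [CommRing A] (I : Ideal A) (M : Type v) [AddCommGroup M]
    [Module A M] (hf : Module.Finite A (M ⧸ I • (⊤ : Submodule A M))) :
    ∃ (n : ℕ) (x : Fin n → M), ∀ m : M, ∃ (c : Fin n → A) (w : M),
      w ∈ I • (⊤ : Submodule A M) ∧ m = ∑ i, c i • x i + w := by
  obtain ⟨n, xb, hxb⟩ := Submodule.fg_iff_exists_fin_generating_family.1 (Module.finite_def.1 hf)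
  choose x hx using fun i => Submodule.mkQ_surjective (I • (⊤ : Submodule A M)) (xb i)
  refine ⟨n, x, fun m => ?_⟩
  have hm : (I • (⊤ : Submodule A M)).mkQ m ∈ Submodule.span A (Set.range xb) := by
    rw [hxb]; exact Submodule.mem_top
  obtain ⟨c, hc'⟩ := (Submodule.mem_span_range_iff_exists_fun A).1 hm
  refine ⟨c, m - ∑ i, c i • x i, ?_, by abel⟩
  have h1 : (I • (⊤ : Submodule A M)).mkQ (m - ∑ i, c i • x i) = 0 := by
    rw [map_sub, map_sum]
    simp only [map_smul, hx]
    rw [hc', sub_self]
  rwa [Submodule.mkQ_apply, Submodule.Quotient.mk_eq_zero] at h1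

theorem isHausdorff_of_seqComplete {A : Type u} [CommRing A] [IsNoetherianRing A] (I : Ideal A)
    (M : Type u) [AddCommGroup M] [Module A M] (hc : ∀ f ∈ I, SeqComplete f M)
    (hf : Module.Finite A (M ⧸ I • (⊤ : Submodule A M))) : IsHausdorff I M := by
  classical
  obtain ⟨r, g, hg⟩ := Submodule.fg_iff_exists_fin_generating_family.1 (IsNoetherian.noetherian I)
  have hgI : ∀ i, g i ∈ I := fun i => by rw [← hg]; exact Submodule.subset_span ⟨i, rfl⟩
  obtain ⟨R, iR, iN, M', iM1, iM2, φ, e, Y, he, hY, hJ, hS⟩ :=
    exists_structure r A M g (fun i => hc _ (hgI i))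
  -- `φ b • z ∈ 𝔞 • N` for `b ∈ I`
  have hφI : ∀ b ∈ I, ∀ (N : Submodule R M') (z : M'), z ∈ N →
      φ b • z ∈ Ideal.span (Set.range Y) • N := by
    intro b hb N z hz
    rw [← hg] at hb
    refine Submodule.span_induction (p := fun b _ => φ b • z ∈ Ideal.span (Set.range Y) • N)
      ?_ ?_ ?_ ?_ hb
    · rintro _ ⟨i, rfl⟩
      rw [← hY]
      exact Submodule.smul_mem_smul (Ideal.subset_span ⟨i, rfl⟩) hz
    · rw [map_zero, zero_smul]; exact Submodule.zero_mem _
    · intro x y _ _ hx hy
      rw [map_add, add_smul]; exact Submodule.add_mem _ hx hy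
    · intro a x _ hx
      rw [smul_eq_mul, map_mul, mul_smul]; exact Submodule.smul_mem _ _ hx
  have hpow : ∀ (k : ℕ) (m : M), m ∈ (I ^ k • ⊤ : Submodule A M) →
      e m ∈ ((Ideal.span (Set.range Y)) ^ k • ⊤ : Submodule R M') := by
    intro k
    induction k with
    | zero => intro m _; simp
    | succ k ih =>
      intro m hm
      rw [pow_succ', Submodule.mul_smul] at hm ⊢
      refine Submodule.smul_induction_on hm (fun b hb y hy => ?_) (fun x y hx hy => ?_)
      · rw [he]
        exact hφI b hb _ _ (ih y hy)
      · rw [map_add]; exact Submodule.add_mem _ hx hy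
  -- generators
  obtain ⟨n, x, hdec⟩ := exists_decomp I M hf
  have hM'S : ∀ i, SeqComplete (Y i) M' := fun i =>
    seqComplete_transfer (g i) (Y i) e (fun m => by rw [he, hY]) (hc _ (hgI i))
  have hQS : ∀ i, SeqComplete (Y i)
      (M' ⧸ LinearMap.range (Fintype.linearCombination R (fun i => e (x i)))) := fun i =>
    SeqComplete.coker (Fintype.linearCombination R (fun i => e (x i)))
      (SeqComplete.pi (fun _ => hS i)) (hM'S i)
  have hQtop : Ideal.span ((Finset.univ.image Y : Finset R) : Set R) •
      (⊤ : Submodule R (M' ⧸ LinearMap.range (Fintype.linearCombination R (fun i => e (x i))))) =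
        ⊤ := by
    rw [eq_top_iff]
    rintro q -
    obtain ⟨m', rfl⟩ := Submodule.mkQ_surjective _ q
    obtain ⟨m, rfl⟩ := e.surjective m'
    obtain ⟨c, w, hw, rfl⟩ := hdec m
    have h1 : e (∑ i, c i • x i) ∈
        LinearMap.range (Fintype.linearCombination R (fun i => e (x i))) := by
      refine ⟨fun i => φ (c i), ?_⟩
      rw [Fintype.linearCombination_apply, map_sum]
      exact Finset.sum_congr rfl (fun i _ => (he _ _).symm)
    have h2 : e w ∈ (Ideal.span (Set.range Y) • ⊤ : Submodule R M') := by
      have := hpow 1 w (by rwa [pow_one])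
      rwa [pow_one] at this
    have h3 := Submodule.mem_map_of_mem
      (f := (LinearMap.range (Fintype.linearCombination R (fun i => e (x i)))).mkQ) h2
    rw [Submodule.map_smul'', Submodule.map_top, Submodule.range_mkQ] at h3
    have e1 : (LinearMap.range (Fintype.linearCombination R (fun i => e (x i)))).mkQ
        (e (∑ i, c i • x i)) = 0 := by
      rw [Submodule.mkQ_apply]
      exact (Submodule.Quotient.mk_eq_zero _).2 h1
    rw [map_add, map_add, e1, zero_add]
    have hset : ((Finset.univ.image Y : Finset R) : Set R) = Set.range Y := by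
      ext y; simp
    rw [hset]
    exact h3
  have hQ0 : Subsingleton
      (M' ⧸ LinearMap.range (Fintype.linearCombination R (fun i => e (x i)))) :=
    subsingleton_of_span_smul_top (Finset.univ.image Y) _ (fun y hy => by
      obtain ⟨i, -, rfl⟩ := Finset.mem_image.1 hy
      exact hQS i) hQtop
  have hrange : LinearMap.range (Fintype.linearCombination R (fun i => e (x i))) = ⊤ :=
    Submodule.Quotient.subsingleton_iff.1 hQ0
  have hfin : Module.Finite R M' :=
    Module.Finite.of_surjective (Fintype.linearCombination R (fun i => e (x i)))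
      (LinearMap.range_eq_top.1 hrange)
  have hkrull := Ideal.iInf_pow_smul_eq_bot_of_le_jacobson (R := R) (M := M')
    (Ideal.span (Set.range Y)) (Ideal.span_le.2 (by rintro _ ⟨i, rfl⟩; exact hJ i))
  refine ⟨fun m hm => ?_⟩
  have h4 : e m ∈ (⨅ k : ℕ, (Ideal.span (Set.range Y)) ^ k • ⊤ : Submodule R M') := by
    rw [Submodule.mem_iInf]
    intro k
    exact hpow k m (by simpa [SModEq.zero] using hm k)
  rw [hkrull, Submodule.mem_bot] at h4
  exact (AddEquiv.map_eq_zero_iff e).1 h4

theorem isAdicComplete_of_seqComplete {A : Type u} [CommRing A] [IsNoetherianRing A] (I : Ideal A)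
    (M : Type u) [AddCommGroup M] [Module A M] (hc : ∀ f ∈ I, SeqComplete f M)
    (hf : Module.Finite A (M ⧸ I • (⊤ : Submodule A M))) : IsAdicComplete I M := by
  have h1 := isHausdorff_of_seqComplete I M hc hf
  have h2 : IsPrecomplete I M := isPrecomplete_of_fg I (IsNoetherian.noetherian I) hc
  exact { toIsHausdorff := h1, toIsPrecomplete := h2 }

theorem finite_adicCompletion {A : Type u} [CommRing A] [IsNoetherianRing A] (I : Ideal A)
    (M : Type u) [AddCommGroup M] [Module A M]
    (hf : Module.Finite A (M ⧸ I • (⊤ : Submodule A M))) :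
    Module.Finite (AdicCompletion I A) (AdicCompletion I M) := by
  obtain ⟨n, x, hdec⟩ := exists_decomp I M hf
  have hsurj : Function.Surjective
      ((I • (⊤ : Submodule A M)).mkQ ∘ₗ Fintype.linearCombination A x) := by
    intro q
    obtain ⟨m, rfl⟩ := Submodule.mkQ_surjective _ q
    obtain ⟨c, w, hw, rfl⟩ := hdec m
    refine ⟨c, ?_⟩
    rw [LinearMap.comp_apply, Fintype.linearCombination_apply, map_add]
    have : (I • (⊤ : Submodule A M)).mkQ w = 0 := by
      rw [Submodule.mkQ_apply]; exact (Submodule.Quotient.mk_eq_zero _).2 hw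
    rw [this, add_zero]
  have h1 := AdicCompletion.map_surjective_of_mkQ_comp_surjective (I := I) hsurj
  have h2 := AdicCompletion.ofTensorProduct_surjective_of_finite I (Fin n → A)
  exact Module.Finite.of_surjective
    ((AdicCompletion.map I (Fintype.linearCombination A x)).comp
      (AdicCompletion.ofTensorProduct I (Fin n → A))) (h1.comp h2)

end Groth.Agent.H87.DCFinite
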