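import Groth.Agent.H87.Decaying
import Mathlib.RingTheory.Filtration

set_option autoImplicit false
universe u v w

namespace Groth.Agent.H87

open W4c5adicflatcompl

variable {A : Type u} [CommRing A] (I : Ideal A) {M : Type w} [AddCommGroup M] [Module A M]

theorem iInf_pow_smul_top_eq_bot [IsNoetherianRing A] [IsAdicComplete I A] [Module.Finite A M] :
    (⨅ i : ℕ, I ^ i • ⊤ : Submodule A M) = ⊥ :=
  Ideal.iInf_pow_smul_eq_bot_of_le_jacobson I (IsAdicComplete.le_jacobson_bot I)

/-- A nonzero element has a maximal `n` with `x ∈ I ^ n • ⊤` (when the `I`-adic topology is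
separated). -/
theorem exists_max_pow_of_iInf_eq_bot (h : (⨅ i : ℕ, I ^ i • ⊤ : Submodule A M) = ⊥)
    (x : M) (hx : x ≠ 0) :
    ∃ n : ℕ, x ∈ (I ^ n • ⊤ : Submodule A M) ∧ ∀ m : ℕ, x ∈ (I ^ m • ⊤ : Submodule A M) → m ≤ n := by
  classical
  have hex : ∃ n : ℕ, x ∉ (I ^ n • ⊤ : Submodule A M) := by
    by_contra hcon
    push Not at hcon
    apply hx
    have : x ∈ (⨅ i : ℕ, I ^ i • ⊤ : Submodule A M) := (Submodule.mem_iInf _).2 hcon
    rwa [h, Submodule.mem_bot] at this
  have h0 : Nat.find hex ≠ 0 := by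
    intro h0
    have := Nat.find_spec hex
    rw [h0] at this
    apply this
    simp
  refine ⟨Nat.find hex - 1, ?_, ?_⟩
  · have := Nat.find_min hex (m := Nat.find hex - 1) (by omega)
    simpa using this
  · intro m hm
    by_contra hlt
    have hle : Nat.find hex ≤ m := by omega
    exact Nat.find_spec hex (Submodule.pow_smul_top_le I M hle hm)

theorem exists_lift_mem_pow_of_iInf_eq_bot {M'' : Type*} [AddCommGroup M''] [Module A M'']
    (h : (⨅ i : ℕ, I ^ i • ⊤ : Submodule A M'') = ⊥)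
    (φ : M →ₗ[A] M'') (hφ : Function.Surjective φ) (y : M'') :
    ∃ x : M, φ x = y ∧ ∀ n : ℕ, y ∈ (I ^ n • ⊤ : Submodule A M'') → x ∈ (I ^ n • ⊤ : Submodule A M) := by
  by_cases hy : y = 0
  · exact ⟨0, by simp [hy], fun n _ => Submodule.zero_mem _⟩
  · obtain ⟨n, hn, hmax⟩ := exists_max_pow_of_iInf_eq_bot I h y hy
    have hmap : Submodule.map φ (I ^ n • ⊤ : Submodule A M) = (I ^ n • ⊤ : Submodule A M'') := by
      rw [Submodule.map_smul'', Submodule.map_top, LinearMap.range_eq_top.2 hφ]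
    rw [← hmap] at hn
    obtain ⟨x, hx, hxy⟩ := hn
    exact ⟨x, hxy, fun m hm => Submodule.pow_smul_top_le I M (hmax m hm) hx⟩

end Groth.Agent.H87
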