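import Groth.Agent.H87.DecayingNoeth
import Groth.Agent.H87.DecayingSum
import Mathlib.LinearAlgebra.TensorProduct.Pi
import Mathlib.LinearAlgebra.Finsupp.LinearCombination
import Mathlib.RingTheory.Noetherian.Basic

set_option autoImplicit false
universe u v w

namespace Groth.Agent.H87

open W4c5adicflatcompl TensorProduct

variable {A : Type u} [CommRing A] (I : Ideal A) (Z : Type v) (M : Type w)
  [AddCommGroup M] [Module A M]

/-- the comparison map `M ⊗ dec(Z, A) → (Z → M)` -/
noncomputable def tensorToFun : M ⊗[A] (decaying I Z A) →ₗ[A] (Z → M) :=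
  (TensorProduct.piScalarRightHom A A M Z) ∘ₗ ((decaying I Z A).subtype.lTensor M)

variable {I Z M}

@[simp] theorem tensorToFun_tmul (x : M) (g : decaying I Z A) :
    tensorToFun I Z M (x ⊗ₜ g) = fun z => (g : Z → A) z • x := by
  simp [tensorToFun, TensorProduct.piScalarRightHom_tmul]

/-- Artin–Rees: decaying in a submodule vs in the ambient finite module. -/
theorem decaying_submodule_of_decaying [IsNoetherianRing A] [Module.Finite A M]
    (N : Submodule A M) (f : Z → N) (hf : (fun z => (f z : M)) ∈ decaying I Z M) :
    f ∈ decaying I Z N := by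
  intro n
  obtain ⟨k, hk⟩ := Ideal.exists_pow_inf_eq_pow_smul I N
  refine (hf (n + k)).subset ?_
  intro z hz h
  apply hz
  have h1 : (f z : M) ∈ (I ^ (n + k) • ⊤ ⊓ N : Submodule A M) := ⟨h, (f z).2⟩
  rw [hk (n + k) (Nat.le_add_left k n), Nat.add_sub_cancel] at h1
  rw [Submodule.mem_smul_top_iff]
  exact Submodule.smul_mono le_rfl inf_le_right h1

/-- lifting decaying functions along a surjection from a finite module (universe polymorphic) -/
theorem exists_decaying_lift [IsNoetherianRing A] [IsAdicComplete I A] {M' : Type*}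
    [AddCommGroup M'] [Module A M'] [Module.Finite A M'] (φ : M' →ₗ[A] M)
    (hφ : Function.Surjective φ) (g : Z → M) (hg : g ∈ decaying I Z M) :
    ∃ f : Z → M', f ∈ decaying I Z M' ∧ ∀ z, φ (f z) = g z := by
  have : Module.Finite A M := Module.Finite.of_surjective φ hφ
  have h := iInf_pow_smul_top_eq_bot I (M := M)
  choose f hf1 hf2 using fun z => exists_lift_mem_pow_of_iInf_eq_bot I h φ hφ (g z)
  refine ⟨f, fun n => (hg n).subset ?_, hf1⟩
  intro z hz hgz
  exact hz (hf2 z n hgz)

/-- coordinates of a decaying function to `Fin q → A` are decaying -/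
theorem decaying_coord {q : ℕ} {F : Z → (Fin q → A)} (hF : F ∈ decaying I Z (Fin q → A))
    (j : Fin q) : (fun z => F z j) ∈ decaying I Z A := by
  intro n
  refine (hF n).subset ?_
  intro z hz h
  exact hz (map_mem_smul_top (I ^ n) (LinearMap.proj j : (Fin q → A) →ₗ[A] A) h)

/-- a function to `Fin q → A` with decaying coordinates is decaying -/
theorem decaying_of_coord {q : ℕ} {F : Z → (Fin q → A)}
    (hF : ∀ j, (fun z => F z j) ∈ decaying I Z A) : F ∈ decaying I Z (Fin q → A) := by
  classical
  intro n
  refine (Set.finite_iUnion (fun j => hF j n)).subset ?_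
  intro z hz
  by_contra hcon
  simp only [Set.mem_iUnion, Set.mem_ofPred_eq, not_exists, not_not] at hcon
  apply hz
  have : F z = ∑ j, (F z j) • (Pi.single j (1 : A) : Fin q → A) := by
    funext i
    simp [Finset.sum_apply, Pi.single_apply]
  rw [this]
  exact Submodule.sum_mem _ (fun j _ => smul_mem_of_mem_smul_top I (hcon j) _)

section main

variable [IsNoetherianRing A] [IsAdicComplete I A] [Module.Finite A M]
variable {q : ℕ} (gen : Fin q → M) (hgen : Submodule.span A (Set.range gen) = ⊤)

include hgen

omit [IsNoetherianRing A] [IsAdicComplete I A] [Module.Finite A M] in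
theorem exists_tensor_form (t : M ⊗[A] (decaying I Z A)) :
    ∃ G : Fin q → decaying I Z A, t = ∑ j, gen j ⊗ₜ G j := by
  have hsurj : Function.Surjective (Fintype.linearCombination A gen) := by
    rw [← LinearMap.range_eq_top, Fintype.range_linearCombination, hgen]
  induction t using TensorProduct.induction_on with
  | zero => exact ⟨0, by simp⟩
  | tmul x g =>
    obtain ⟨c, rfl⟩ := hsurj x
    refine ⟨fun j => c j • g, ?_⟩
    rw [Fintype.linearCombination_apply, TensorProduct.sum_tmul]
    refine Finset.sum_congr rfl (fun j _ => ?_)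
    rw [TensorProduct.smul_tmul]
  | add t t' ht ht' =>
    obtain ⟨G, rfl⟩ := ht
    obtain ⟨G', rfl⟩ := ht'
    exact ⟨fun j => G j + G' j, by simp [TensorProduct.tmul_add, Finset.sum_add_distrib]⟩

omit [IsNoetherianRing A] [IsAdicComplete I A] [Module.Finite A M] hgen in
theorem tensorToFun_sum (G : Fin q → decaying I Z A) :
    tensorToFun I Z M (∑ j, gen j ⊗ₜ G j) = fun z => ∑ j, (G j : Z → A) z • gen j := by
  rw [map_sum]
  funext z
  simp [Finset.sum_apply]

theorem tensorToFun_injective : Function.Injective (tensorToFun I Z M) := by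
  classical
  rw [injective_iff_map_eq_zero]
  intro t ht
  obtain ⟨G, rfl⟩ := exists_tensor_form gen hgen t
  rw [tensorToFun_sum] at ht
  set π : (Fin q → A) →ₗ[A] M := Fintype.linearCombination A gen with hπ
  -- the function to the kernel
  have hker : ∀ z, (fun j => (G j : Z → A) z) ∈ LinearMap.ker π := by
    intro z
    rw [LinearMap.mem_ker, hπ, Fintype.linearCombination_apply]
    exact congrFun ht z
  set K := LinearMap.ker π with hK
  set Gfun : Z → K := fun z => ⟨fun j => (G j : Z → A) z, hker z⟩ with hGfun
  have hGdec : Gfun ∈ decaying I Z K := by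
    apply decaying_submodule_of_decaying
    exact decaying_of_coord (fun j => (G j).2)
  -- generators of the kernel
  have : Module.Finite A K := Module.IsNoetherian.finite A K
  obtain ⟨p, r, hr⟩ := Module.Finite.exists_fin (R := A) (M := K)
  have hρ : Function.Surjective (Fintype.linearCombination A r) := by
    rw [← LinearMap.range_eq_top, Fintype.range_linearCombination, hr]
  obtain ⟨H, hHdec, hH⟩ := exists_decaying_lift (Fintype.linearCombination A r) hρ Gfun hGdec
  -- coordinates
  have hGj : ∀ j, G j = ∑ l, ((r l : Fin q → A) j) •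
      (⟨fun z => H z l, decaying_coord hHdec l⟩ : decaying I Z A) := by
    intro j
    apply Subtype.ext
    funext z
    have h1 := congrArg (fun k : K => (k : Fin q → A) j) (hH z)
    simp only [Fintype.linearCombination_apply, hGfun] at h1
    rw [Submodule.coe_sum, Finset.sum_apply]
    simp only [Submodule.coe_smul, Pi.smul_apply, smul_eq_mul]
    rw [← h1]
    simp [Submodule.coe_sum, Finset.sum_apply, mul_comm]
  have hzero : ∀ l, ∑ j, ((r l : Fin q → A) j) • gen j = 0 := by
    intro l
    have h2 : π (r l : Fin q → A) = 0 := LinearMap.mem_ker.1 (r l).2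
    rw [hπ, Fintype.linearCombination_apply] at h2
    exact h2
  calc ∑ j, gen j ⊗ₜ[A] G j
      = ∑ j, ∑ l, (((r l : Fin q → A) j) • gen j) ⊗ₜ[A]
          (⟨fun z => H z l, decaying_coord hHdec l⟩ : decaying I Z A) := by
        refine Finset.sum_congr rfl (fun j _ => ?_)
        conv_lhs => rw [hGj j]
        rw [TensorProduct.tmul_sum]
        refine Finset.sum_congr rfl (fun l _ => ?_)
        rw [TensorProduct.smul_tmul]
    _ = ∑ l, (∑ j, ((r l : Fin q → A) j) • gen j) ⊗ₜ[A]
          (⟨fun z => H z l, decaying_coord hHdec l⟩ : decaying I Z A) := by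
        rw [Finset.sum_comm]
        refine Finset.sum_congr rfl (fun l _ => ?_)
        rw [TensorProduct.sum_tmul]
    _ = 0 := by simp [hzero]

theorem range_tensorToFun : LinearMap.range (tensorToFun I Z M) = decaying I Z M := by
  apply le_antisymm
  · rintro _ ⟨t, rfl⟩
    obtain ⟨G, rfl⟩ := exists_tensor_form gen hgen t
    rw [tensorToFun_sum]
    have : (fun z => ∑ j, (G j : Z → A) z • gen j) = ∑ j, fun z => (G j : Z → A) z • gen j := by
      funext z; simp [Finset.sum_apply]
    rw [this]
    refine Submodule.sum_mem _ (fun j _ => ?_)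
    intro n
    refine ((G j).2 n).subset ?_
    intro z hz h
    exact hz (smul_mem_of_mem_smul_top I h (gen j))
  · intro f hf
    have hsurj : Function.Surjective (Fintype.linearCombination A gen) := by
      rw [← LinearMap.range_eq_top, Fintype.range_linearCombination, hgen]
    obtain ⟨F, hFdec, hF⟩ := exists_decaying_lift (Fintype.linearCombination A gen) hsurj f hf
    refine ⟨∑ j, gen j ⊗ₜ (⟨fun z => F z j, decaying_coord hFdec j⟩ : decaying I Z A), ?_⟩
    rw [tensorToFun_sum]
    funext z
    rw [← hF z, Fintype.linearCombination_apply]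

end main

end Groth.Agent.H87
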