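import Mathlib

/-!
# Extending spaces of derivations along finite field extensions (Cartier-type inequality)

`k ⊆ E ⊆ K` fields, `K/E` finite, `W` a finite-dimensional `K`-space of `k`-derivations `E → K`.
Then the `K`-space of `k`-derivations `K → K` whose restriction to `E` lies in `W` has dimension at
least `dim W`.  Derivations on a simple extension are built through dual numbers.
-/

namespace Groth.Agent.H87.DerExt

open Polynomial TrivSqZeroExt Module

universe u

section Dual

variable {k E K : Type*} [Field k] [CommRing E] [Field K] [Algebra k E] [Algebra k K] [Algebra E K]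
  [IsScalarTower k E K]

/-- `a ↦ (a, D a)` into the dual numbers. -/
noncomputable def toDual (D : Derivation k E K) : E →+* TrivSqZeroExt K K where
  toFun a := inl (algebraMap E K a) + inr (D a)
  map_one' := by simp
  map_mul' a b := by
    refine TrivSqZeroExt.ext ?_ ?_
    · simp only [fst_add, fst_inl, fst_inr, add_zero, fst_mul, map_mul]
    · simp only [snd_add, snd_inl, snd_inr, zero_add, snd_mul, fst_add, fst_inl, fst_inr, add_zero,
        Derivation.leibniz, smul_eq_mul, MulOpposite.smul_eq_mul_unop, MulOpposite.unop_op,
        Algebra.smul_def]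
      ring
  map_zero' := by simp
  map_add' a b := by
    refine TrivSqZeroExt.ext ?_ ?_
    · simp only [fst_add, fst_inl, fst_inr, add_zero, map_add]
    · simp only [snd_add, snd_inl, snd_inr, zero_add, map_add]

@[simp] theorem fst_toDual (D : Derivation k E K) (a : E) : (toDual D a).fst = algebraMap E K a := by
  show (inl (algebraMap E K a) + inr (D a) : TrivSqZeroExt K K).fst = _
  simp only [fst_add, fst_inl, fst_inr, add_zero]

@[simp] theorem snd_toDual (D : Derivation k E K) (a : E) : (toDual D a).snd = D a := by
  show (inl (algebraMap E K a) + inr (D a) : TrivSqZeroExt K K).snd = _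
  simp only [snd_add, snd_inl, snd_inr, zero_add]

/-- `f ↦ f^D(x) = ∑ D(f_i) x^i`. -/
noncomputable def polyD (D : Derivation k E K) (x : K) (g : E[X]) : K :=
  g.sum fun i a => D a * x ^ i

theorem polyD_add (D : Derivation k E K) (x : K) (g h : E[X]) :
    polyD D x (g + h) = polyD D x g + polyD D x h := by
  unfold polyD
  rw [Polynomial.sum_add_index]
  · intro i; simp
  · intro i a b; simp [add_mul]

theorem polyD_monomial (D : Derivation k E K) (x : K) (n : ℕ) (a : E) :
    polyD D x (monomial n a) = D a * x ^ n := by
  unfold polyD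
  rw [Polynomial.sum_monomial_index]
  simp

theorem polyD_add_left (D D' : Derivation k E K) (x : K) (g : E[X]) :
    polyD (D + D') x g = polyD D x g + polyD D' x g := by
  unfold polyD
  simp only [Polynomial.sum_def, Derivation.add_apply, add_mul, Finset.sum_add_distrib]

theorem polyD_smul_left (c : K) (D : Derivation k E K) (x : K) (g : E[X]) :
    polyD (c • D) x g = c * polyD D x g := by
  unfold polyD
  simp only [Polynomial.sum_def, Derivation.smul_apply, smul_eq_mul, Finset.mul_sum, mul_assoc]

theorem eval₂_toDual (D : Derivation k E K) (x y : K) (g : E[X]) :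
    g.eval₂ (toDual D) (inl x + inr y) =
      inl (aeval x g) + inr (polyD D x g + aeval x (derivative g) * y) := by
  induction g using Polynomial.induction_on' with
  | add p q hp hq =>
    rw [eval₂_add, hp, hq, polyD_add, derivative_add, map_add, map_add]
    ext
    · simp
    · simp
      ring
  | monomial n a =>
    rw [eval₂_monomial, polyD_monomial, derivative_monomial, aeval_monomial, aeval_monomial]
    ext
    · simp
    · simp only [snd_mul, fst_toDual, snd_pow, fst_add, fst_inl, fst_inr, add_zero, snd_add,
        snd_inl, snd_inr, zero_add, snd_toDual, fst_pow, smul_eq_mul, MulOpposite.smul_eq_mul_unop,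
        MulOpposite.unop_op, map_mul, map_natCast, nsmul_eq_mul, Nat.pred_eq_sub_one]
      ring

end Dual

section Hom

variable {k F K : Type*} [Field k] [CommRing F] [Field K] [Algebra k F] [Algebra k K] [Algebra F K]
  [IsScalarTower k F K]

/-- A ring hom into the dual numbers lifting the structure map gives a derivation. -/
noncomputable def derivOfHom (ψ : F →+* TrivSqZeroExt K K)
    (h1 : ∀ b, (ψ b).fst = algebraMap F K b)
    (h2 : ∀ c : k, (ψ (algebraMap k F c)).snd = 0) : Derivation k F K where
  toFun b := (ψ b).snd
  map_add' a b := by simp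
  map_smul' c b := by
    show (ψ (c • b)).snd = c • (ψ b).snd
    simp only [Algebra.smul_def, map_mul, snd_mul, h1, h2, smul_zero, add_zero,
      ← IsScalarTower.algebraMap_apply, smul_eq_mul]
  map_one_eq_zero' := by simp
  leibniz' a b := by
    show (ψ (a * b)).snd = a • (ψ b).snd + b • (ψ a).snd
    simp only [map_mul, snd_mul, h1, MulOpposite.smul_eq_mul_unop, MulOpposite.unop_op,
      Algebra.smul_def, smul_eq_mul]
    rw [show (algebraMap K K) ((algebraMap F K) a) = algebraMap F K a from rfl]
    ring

@[simp] theorem derivOfHom_apply (ψ : F →+* TrivSqZeroExt K K)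
    (h1 : ∀ b, (ψ b).fst = algebraMap F K b)
    (h2 : ∀ c : k, (ψ (algebraMap k F c)).snd = 0) (b : F) :
    derivOfHom ψ h1 h2 b = (ψ b).snd := rfl

end Hom

section Step

variable {k E F K : Type*} [Field k] [Field E] [Field F] [Field K] [Algebra k E] [Algebra k F]
  [Algebra k K] [Algebra E F] [Algebra E K] [Algebra F K] [IsScalarTower k E F]
  [IsScalarTower k E K] [IsScalarTower k F K] [IsScalarTower E F K]

/-- Existence of an extension of `D` to a simple extension `F = E[x₀]` with prescribed value at
`x₀`, under the compatibility condition. -/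
theorem exists_extension (x₀ : F) (hx₀ : IsIntegral E x₀) (hadj : Algebra.adjoin E {x₀} = ⊤)
    (D : Derivation k E K) (y : K)
    (h : polyD D (algebraMap F K x₀) (minpoly E x₀) +
      aeval (algebraMap F K x₀) (derivative (minpoly E x₀)) * y = 0) :
    ∃ D' : Derivation k F K, (∀ a, D' (algebraMap E F a) = D a) ∧ D' x₀ = y := by
  set x := algebraMap F K x₀ with hx
  let φ : E[X] →+* TrivSqZeroExt K K := eval₂RingHom (toDual D) (inl x + inr y)
  have hφ : ∀ g : E[X], φ g = inl (algebraMap F K (aeval x₀ g)) +
      inr (polyD D x g + aeval x (derivative g) * y) := by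
    intro g
    show g.eval₂ (toDual D) (inl x + inr y) = _
    rw [eval₂_toDual, hx, aeval_algebraMap_apply]
  have hsurj : Function.Surjective ((aeval x₀ : E[X] →ₐ[E] F) : E[X] →+* F) := by
    intro b
    have hb : b ∈ Algebra.adjoin E {x₀} := by rw [hadj]; trivial
    rw [Algebra.adjoin_singleton_eq_range_aeval] at hb
    obtain ⟨g, hg⟩ := hb
    exact ⟨g, hg⟩
  have hker : RingHom.ker ((aeval x₀ : E[X] →ₐ[E] F) : E[X] →+* F) ≤ RingHom.ker φ := by
    intro g hg
    rw [RingHom.mem_ker] at hg ⊢
    have hg' : aeval x₀ g = 0 := hg
    obtain ⟨q, rfl⟩ := minpoly.dvd E x₀ hg'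
    rw [map_mul]
    have : φ (minpoly E x₀) = 0 := by
      rw [hφ, minpoly.aeval, map_zero, h]
      simp
    rw [this, zero_mul]
  let ψ : F →+* TrivSqZeroExt K K :=
    RingHom.liftOfSurjective ((aeval x₀ : E[X] →ₐ[E] F) : E[X] →+* F) hsurj ⟨φ, hker⟩
  have hψ : ∀ g : E[X], ψ (aeval x₀ g) = φ g := fun g =>
    RingHom.liftOfSurjective_comp_apply _ hsurj ⟨φ, hker⟩ g
  have h1 : ∀ b, (ψ b).fst = algebraMap F K b := by
    intro b
    obtain ⟨g, rfl⟩ := hsurj b
    show (ψ (aeval x₀ g)).fst = _
    rw [hψ, hφ]
    simp
  have hE : ∀ a : E, ψ (algebraMap E F a) = toDual D a := by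
    intro a
    have : algebraMap E F a = aeval x₀ (C a) := by simp
    rw [this, hψ]
    show (C a).eval₂ (toDual D) (inl x + inr y) = _
    rw [eval₂_C]
  have h2 : ∀ c : k, (ψ (algebraMap k F c)).snd = 0 := by
    intro c
    rw [IsScalarTower.algebraMap_apply k E F, hE, snd_toDual, Derivation.map_algebraMap]
  refine ⟨derivOfHom ψ h1 h2, fun a => ?_, ?_⟩
  · rw [derivOfHom_apply, hE, snd_toDual]
  · have : x₀ = aeval x₀ (X : E[X]) := by simp
    rw [derivOfHom_apply]
    conv_lhs => rw [this]
    rw [hψ, hφ]
    simp [polyD, Polynomial.sum_X_index]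

/-- A derivation on `F = E[x₀]` vanishing on `E` and at `x₀` is zero. -/
theorem eq_zero_of_restrict (x₀ : F) (hadj : Algebra.adjoin E {x₀} = ⊤)
    (D' : Derivation k F K) (h0 : ∀ a, D' (algebraMap E F a) = 0) (hx : D' x₀ = 0) : D' = 0 := by
  let S : Subalgebra E F :=
    { carrier := {b | D' b = 0}
      mul_mem' := by
        intro a b ha hb
        simp only [Set.mem_ofPred_eq] at ha hb ⊢
        rw [Derivation.leibniz, ha, hb]
        simp
      one_mem' := by simp
      add_mem' := by
        intro a b ha hb
        simp only [Set.mem_ofPred_eq] at ha hb ⊢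
        rw [map_add, ha, hb, add_zero]
      zero_mem' := by simp
      algebraMap_mem' := h0 }
  have hS : Algebra.adjoin E {x₀} ≤ S := Algebra.adjoin_le (by
    intro b hb
    rw [Set.mem_singleton_iff] at hb
    subst hb
    exact hx)
  rw [hadj] at hS
  ext b
  exact hS (show b ∈ (⊤ : Subalgebra E F) from trivial)

/-- Restriction of derivations from `F` to `E`, as a `K`-linear map. -/
noncomputable def resLin : Derivation k F K →ₗ[K] Derivation k E K where
  toFun d := d.compAlgebraMap E
  map_add' _ _ := rfl
  map_smul' _ _ := rfl

@[simp] theorem resLin_apply (d : Derivation k F K) (a : E) :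
    (resLin (E := E) d) a = d (algebraMap E F a) := rfl

end Step

section LinAlg

variable {K V V' : Type*} [Field K] [AddCommGroup V] [Module K V] [AddCommGroup V'] [Module K V']

theorem finrank_comap_ge (res : V' →ₗ[K] V) (ev : V' →ₗ[K] K) (θ : V →ₗ[K] K) (lam : K)
    (W : Submodule K V) [FiniteDimensional K W]
    (hinj : ∀ v', res v' = 0 → ev v' = 0 → v' = 0)
    (hex : ∀ D ∈ W, ∀ y : K, θ D + lam * y = 0 → ∃ v', res v' = D ∧ ev v' = y) :
    FiniteDimensional K (W.comap res) ∧ finrank K W ≤ finrank K (W.comap res) := by
  classical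
  -- the injection `W.comap res → W × K`
  let j : (W.comap res) →ₗ[K] (W × K) :=
    { toFun := fun v => (⟨res v.1, v.2⟩, ev v.1)
      map_add' := by
        intro a b
        ext <;> simp
      map_smul' := by
        intro c a
        ext <;> simp }
  have hj : Function.Injective j := by
    rw [← LinearMap.ker_eq_bot, LinearMap.ker_eq_bot']
    intro v hv
    have h1 : res v.1 = 0 := by
      have := congrArg (fun p : W × K => (p.1 : V)) hv
      simpa [j] using this
    have h2 : ev v.1 = 0 := by
      have := congrArg (fun p : W × K => p.2) hv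
      simpa [j] using this
    exact Subtype.ext (hinj v.1 h1 h2)
  have hfd : FiniteDimensional K (W.comap res) := FiniteDimensional.of_injective j hj
  refine ⟨hfd, ?_⟩
  let Θ : (W × K) →ₗ[K] K :=
    (θ.comp W.subtype).coprod (LinearMap.mul K K lam)
  have hΘ : ∀ p : W × K, Θ p = θ p.1 + lam * p.2 := by
    intro p
    simp [Θ]
  have hle : LinearMap.ker Θ ≤ LinearMap.range j := by
    intro p hp
    rw [LinearMap.mem_ker, hΘ] at hp
    obtain ⟨v', hv1, hv2⟩ := hex p.1 p.1.2 p.2 hp
    refine ⟨⟨v', ?_⟩, ?_⟩
    · rw [Submodule.mem_comap, hv1]; exact p.1.2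
    · ext
      · simp [j, hv1]
      · simp [j, hv2]
  have h3 := LinearMap.finrank_range_add_finrank_ker Θ
  have h4 : finrank K (LinearMap.range Θ) ≤ 1 := by
    have := Submodule.finrank_le (LinearMap.range Θ)
    simpa using this
  have h5 : finrank K (W × K) = finrank K W + 1 := by
    rw [Module.finrank_prod, Module.finrank_self]
  have h6 : finrank K (LinearMap.ker Θ) ≤ finrank K (LinearMap.range j) :=
    Submodule.finrank_mono hle
  have h7 : finrank K (LinearMap.range j) = finrank K (W.comap res) :=
    LinearMap.finrank_range_of_inj hj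
  omega

end LinAlg

section StepDim

variable {k E F K : Type*} [Field k] [Field E] [Field F] [Field K] [Algebra k E] [Algebra k F]
  [Algebra k K] [Algebra E F] [Algebra E K] [Algebra F K] [IsScalarTower k E F]
  [IsScalarTower k E K] [IsScalarTower k F K] [IsScalarTower E F K]

theorem step (x₀ : F) (hx₀ : IsIntegral E x₀) (hadj : Algebra.adjoin E {x₀} = ⊤)
    (W : Submodule K (Derivation k E K)) [FiniteDimensional K W] :
    FiniteDimensional K (W.comap (resLin (k := k) (E := E) (F := F) (K := K))) ∧
      finrank K W ≤ finrank K (W.comap (resLin (k := k) (E := E) (F := F) (K := K))) := by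
  set x := algebraMap F K x₀ with hx
  let ev : Derivation k F K →ₗ[K] K :=
    { toFun := fun d => d x₀
      map_add' := fun _ _ => rfl
      map_smul' := fun _ _ => rfl }
  let θ : Derivation k E K →ₗ[K] K :=
    { toFun := fun D => polyD D x (minpoly E x₀)
      map_add' := fun D D' => polyD_add_left D D' x _
      map_smul' := fun c D => by
        simp only [RingHom.id_apply, smul_eq_mul]
        exact polyD_smul_left c D x _ }
  refine finrank_comap_ge resLin ev θ (aeval x (derivative (minpoly E x₀))) W ?_ ?_
  · intro d h1 h2
    refine eq_zero_of_restrict (E := E) x₀ hadj d (fun a => ?_) h2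
    have := congrArg (fun D : Derivation k E K => D a) h1
    simpa using this
  · intro D _ y hy
    obtain ⟨D', hD'1, hD'2⟩ := exists_extension x₀ hx₀ hadj D y hy
    refine ⟨D', ?_, hD'2⟩
    ext a
    exact hD'1 a

end StepDim

section Main

variable (k : Type*) [Field k]

theorem exists_extension_space : ∀ (d : ℕ) (E K : Type u) [Field E] [Field K] [Algebra k E]
    [Algebra k K] [Algebra E K] [IsScalarTower k E K] [FiniteDimensional E K],
    finrank E K = d → ∀ (W : Submodule K (Derivation k E K)) [FiniteDimensional K W],
    ∃ W' : Submodule K (Derivation k K K), FiniteDimensional K W' ∧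
      finrank K W ≤ finrank K W' ∧ ∀ D' ∈ W', D'.compAlgebraMap E ∈ W := by
  intro d
  induction d using Nat.strong_induction_on with
  | _ d ih =>
    intro E K _ _ _ _ _ _ _ hd W _
    by_cases hsurj : Function.Surjective (algebraMap E K)
    · -- `K = E[0]`
      have hadj : Algebra.adjoin E {(0 : K)} = ⊤ := by
        rw [eq_top_iff]
        intro b _
        obtain ⟨a, rfl⟩ := hsurj b
        exact Subalgebra.algebraMap_mem _ a
      obtain ⟨h1, h2⟩ := step (k := k) (E := E) (F := K) (K := K) (0 : K) isIntegral_zero hadj W
      exact ⟨_, h1, h2, fun D' hD' => hD'⟩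
    · -- pick `x ∉ E`
      have : ∃ x : K, x ∉ Set.range (algebraMap E K) := by
        by_contra hcon
        push Not at hcon
        exact hsurj hcon
      obtain ⟨x, hx⟩ := this
      have hint : IsIntegral E x := IsIntegral.of_finite E x
      let F := IntermediateField.adjoin E {x}
      let x₀ : F := IntermediateField.AdjoinSimple.gen E x
      haveI : IsScalarTower k F K := IsScalarTower.of_algebraMap_eq (fun c => rfl)
      haveI : IsScalarTower k E F := IsScalarTower.of_algebraMap_eq
        (fun c => Subtype.ext (IsScalarTower.algebraMap_apply k E K c))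
      have hadj : Algebra.adjoin E {x₀} = ⊤ :=
        (IntermediateField.adjoin.powerBasis hint).adjoin_gen_eq_top
      have hx₀ : IsIntegral E x₀ := IsIntegral.of_finite E x₀
      obtain ⟨h1, h2⟩ := step (k := k) (E := E) (F := F) (K := K) x₀ hx₀ hadj W
      have hlt : finrank F K < d := by
        have hmul : finrank E F * finrank F K = finrank E K := Module.finrank_mul_finrank E F K
        have hne : finrank E F ≠ 1 := by
          intro h1'
          have := (IntermediateField.finrank_adjoin_simple_eq_one_iff (F := E) (α := x)).mp h1'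
          rw [IntermediateField.mem_bot] at this
          exact hx this
        have hpos : 0 < finrank E F := Module.finrank_pos
        have hpos' : 0 < finrank F K := Module.finrank_pos
        rw [hd] at hmul
        have hge2 : 2 ≤ finrank E F := by omega
        have h2' : 2 * finrank F K ≤ finrank E F * finrank F K := Nat.mul_le_mul_right _ hge2
        omega
      obtain ⟨W', hW'1, hW'2, hW'3⟩ := ih (finrank F K) hlt F K rfl
        (W.comap (resLin (k := k) (E := E) (F := F) (K := K)))
      refine ⟨W', hW'1, h2.trans hW'2, fun D' hD' => ?_⟩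
      have := hW'3 D' hD'
      rw [Submodule.mem_comap] at this
      have heq : D'.compAlgebraMap E = resLin (k := k) (E := E) (F := F) (K := K)
          (D'.compAlgebraMap F) := by
        ext a
        rfl
      rw [heq]
      exact this

end Main

end Groth.Agent.H87.DerExt
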