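import Mathlib

/-!
# Derivation tools for Stacks 07E? (differential bases and flatness over polynomial rings)

* `exists_proj_derivation`: for a local ring `R` containing a field `k0` over which the residue field
  is formally smooth, the projection `R → 𝔪/𝔪²` along a section of `R/𝔪² → κ` is a derivation.
* `exists_derivation_dual`: derivations `R → κ` dual to a family of elements of `𝔪` with linearly
  independent classes in the cotangent space.
-/

set_option autoImplicit false
universe u

open IsLocalRing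

namespace Groth.Agent.H87.DiffBasis

theorem exists_proj_derivation {R k0 : Type u} [CommRing R] [IsLocalRing R] [Field k0] [Algebra k0 R]
    [Algebra.FormallySmooth k0 (ResidueField R)] :
    ∃ D : R →+ (maximalIdeal R).Cotangent, (∀ a b, D (a * b) = a • D b + b • D a) ∧
      ∀ (x : R) (hx : x ∈ maximalIdeal R), D x = (maximalIdeal R).toCotangent ⟨x, hx⟩ := by
  classical
  set m := maximalIdeal R with hm
  let ρ : (R ⧸ m ^ 2) →ₐ[k0] ResidueField R :=
    Ideal.Quotient.liftₐ (m ^ 2) (IsScalarTower.toAlgHom k0 R (ResidueField R)) (fun a ha => by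
      have : a ∈ m := Ideal.pow_le_self two_ne_zero ha
      exact (IsLocalRing.residue_eq_zero_iff a).mpr this)
  have hρmk : ∀ a : R, ρ (Ideal.Quotient.mk (m ^ 2) a) = residue R a := fun a => rfl
  have hsurj : Function.Surjective ρ := by
    intro z
    obtain ⟨a, rfl⟩ := IsLocalRing.residue_surjective z
    exact ⟨Ideal.Quotient.mk _ a, hρmk a⟩
  have hker : ∀ q, ρ q = 0 → q ∈ m.cotangentIdeal := by
    intro q hq
    obtain ⟨a, rfl⟩ := Ideal.Quotient.mk_surjective q
    rw [hρmk, IsLocalRing.residue_eq_zero_iff] at hq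
    exact Ideal.mk_mem_cotangentIdeal.mpr hq
  have hnil : IsNilpotent (RingHom.ker (ρ : (R ⧸ m ^ 2) →+* ResidueField R)) := by
    refine ⟨2, ?_⟩
    rw [Ideal.zero_eq_bot, eq_bot_iff, ← m.cotangentIdeal_square]
    exact Ideal.pow_right_mono (fun q hq => hker q hq) 2
  let g : ResidueField R →ₐ[k0] (R ⧸ m ^ 2) :=
    Algebra.FormallySmooth.liftOfSurjective (AlgHom.id k0 _) ρ hsurj hnil
  have hg : ∀ z, ρ (g z) = z := fun z =>
    Algebra.FormallySmooth.liftOfSurjective_apply (AlgHom.id k0 _) ρ hsurj hnil z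
  let t : R → (R ⧸ m ^ 2) := fun a => Ideal.Quotient.mk (m ^ 2) a - g (residue R a)
  have ht : ∀ a, t a ∈ m.cotangentIdeal := fun a => hker _ (by
    simp only [t, map_sub, hρmk, hg, sub_self])
  have htt : ∀ a b, t a * t b = 0 := by
    intro a b
    have h2 : m.cotangentIdeal * m.cotangentIdeal = ⊥ := by
      rw [← pow_two]; exact m.cotangentIdeal_square
    have := Ideal.mul_mem_mul (ht a) (ht b)
    rwa [h2] at this
  let D : R →+ m.Cotangent := AddMonoidHom.mk' (fun a => m.cotangentEquivIdeal.symm ⟨t a, ht a⟩)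
    (fun a b => by
      rw [← map_add]
      congr 1
      apply Subtype.ext
      simp only [t, map_add, Submodule.coe_add]
      ring)
  refine ⟨D, fun a b => ?_, fun x hx => ?_⟩
  · change m.cotangentEquivIdeal.symm ⟨t (a * b), ht _⟩ =
      a • m.cotangentEquivIdeal.symm ⟨t b, ht b⟩ + b • m.cotangentEquivIdeal.symm ⟨t a, ht a⟩
    rw [← map_smul, ← map_smul, ← map_add]
    congr 1
    apply Subtype.ext
    have h0 := htt a b
    simp only [t] at h0 ⊢
    simp only [Submodule.coe_add, Submodule.coe_smul_of_tower, Algebra.smul_def,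
      Ideal.Quotient.algebraMap_eq, map_mul]
    linear_combination (-1 : R ⧸ m ^ 2) * h0
  · change m.cotangentEquivIdeal.symm ⟨t x, ht x⟩ = _
    have h1 : t x = Ideal.Quotient.mk (m ^ 2) x := by
      simp only [t]
      rw [(IsLocalRing.residue_eq_zero_iff x).mpr hx, map_zero, sub_zero]
    refine Eq.trans ?_ (Ideal.cotangentEquivIdeal_symm_apply m x hx)
    congr 1
    exact Subtype.ext h1

theorem exists_derivation_dual {R k0 : Type u} [CommRing R] [IsLocalRing R] [Field k0] [Algebra k0 R]
    [Algebra.FormallySmooth k0 (ResidueField R)] {ι : Type*} [DecidableEq ι] (x : ι → R)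
    (hx : ∀ j, x j ∈ maximalIdeal R)
    (hLI : LinearIndependent (ResidueField R)
      (fun j => (maximalIdeal R).toCotangent ⟨x j, hx j⟩)) (i : ι) :
    ∃ E : R →+ ResidueField R, (∀ a b, E (a * b) = residue R a * E b + residue R b * E a) ∧
      ∀ j, E (x j) = if j = i then 1 else 0 := by
  obtain ⟨D, hD, hDx⟩ := exists_proj_derivation (R := R) (k0 := k0)
  -- the dual functional
  let f : Submodule.span (ResidueField R)
      (Set.range (fun j => (maximalIdeal R).toCotangent ⟨x j, hx j⟩)) →ₗ[ResidueField R]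
      ResidueField R := (Finsupp.lapply i).comp hLI.repr
  obtain ⟨ℓ, hℓ⟩ := LinearMap.exists_extend f
  have hℓx : ∀ j, ℓ ((maximalIdeal R).toCotangent ⟨x j, hx j⟩) = if j = i then 1 else 0 := by
    intro j
    have h1 : ℓ ((maximalIdeal R).toCotangent ⟨x j, hx j⟩) =
        f ⟨(maximalIdeal R).toCotangent ⟨x j, hx j⟩, Submodule.subset_span ⟨j, rfl⟩⟩ := by
      rw [← hℓ]; rfl
    rw [h1]
    change (hLI.repr ⟨_, _⟩) i = _
    rw [hLI.repr_eq_single j _ rfl, Finsupp.single_apply]
  refine ⟨(ℓ : _ →+ ResidueField R).comp D, fun a b => ?_, fun j => ?_⟩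
  · change ℓ (D (a * b)) = _ * ℓ (D b) + _ * ℓ (D a)
    rw [hD, map_add, ← algebraMap_smul (ResidueField R) a (D b),
      ← algebraMap_smul (ResidueField R) b (D a), map_smul, map_smul, smul_eq_mul, smul_eq_mul]
    rfl
  · change ℓ (D (x j)) = _
    rw [hDx _ (hx j), hℓx]


open TensorProduct in
/-- If `Ω_{k/ℤ} ⊗ K → Ω_{A/ℤ} ⊗ K` is injective, every derivation `k → K` extends to `A`. -/
theorem exists_extend_derivation {k A : Type u} [Field k] [CommRing A] [IsLocalRing A] [Algebra k A]
    (hinj : Function.Injective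
      ((KaehlerDifferential.mapBaseChange ℤ k A).lTensor (ResidueField A)))
    (δ : k →+ ResidueField A)
    (hδ : ∀ a b, δ (a * b) = algebraMap k (ResidueField A) a * δ b +
      algebraMap k (ResidueField A) b * δ a) :
    ∃ E : A →+ ResidueField A, (∀ a b, E (a * b) = residue A a * E b + residue A b * E a) ∧
      ∀ a : k, E (algebraMap k A a) = δ a := by
  classical
  let K := ResidueField A
  let δ' : Derivation ℤ k K := Derivation.mk' δ.toIntLinearMap (fun a b => by
    change δ (a * b) = a • δ b + b • δ a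
    rw [hδ, Algebra.smul_def, Algebra.smul_def])
  let ℓ : Ω[k⁄ℤ] →ₗ[k] K := δ'.liftKaehlerDifferential
  have hℓ : ∀ a, ℓ (KaehlerDifferential.D ℤ k a) = δ a := fun a =>
    Derivation.liftKaehlerDifferential_comp_D δ' a
  let ℓ' : A ⊗[k] Ω[k⁄ℤ] →ₗ[A] K :=
    TensorProduct.AlgebraTensorModule.lift (LinearMap.toSpanSingleton A (Ω[k⁄ℤ] →ₗ[k] K) ℓ)
  have hℓ' : ∀ b ω, ℓ' (b ⊗ₜ ω) = b • ℓ ω := fun b ω => by
    simp [ℓ']
  let lam : K ⊗[A] (A ⊗[k] Ω[k⁄ℤ]) →ₗ[K] K :=
    TensorProduct.AlgebraTensorModule.lift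
      (LinearMap.toSpanSingleton K ((A ⊗[k] Ω[k⁄ℤ]) →ₗ[A] K) ℓ')
  have hlam : ∀ c z, lam (c ⊗ₜ z) = c • ℓ' z := fun c z => by
    simp [lam]
  let αK : K ⊗[A] (A ⊗[k] Ω[k⁄ℤ]) →ₗ[K] K ⊗[A] Ω[A⁄ℤ] :=
    TensorProduct.AlgebraTensorModule.lTensor K K (KaehlerDifferential.mapBaseChange ℤ k A)
  have hαK : Function.Injective αK := hinj
  obtain ⟨gg, hgg⟩ := LinearMap.exists_leftInverse_of_injective αK (LinearMap.ker_eq_bot.mpr hαK)
  let Lam : K ⊗[A] Ω[A⁄ℤ] →ₗ[K] K := lam.comp gg
  have hLam : ∀ u, Lam (αK u) = lam u := fun u => by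
    change lam (gg (αK u)) = lam u
    have := LinearMap.congr_fun hgg u
    simp only [LinearMap.comp_apply, LinearMap.id_apply] at this
    rw [this]
  let E : A →+ K := AddMonoidHom.mk' (fun a => Lam ((1 : K) ⊗ₜ[A] KaehlerDifferential.D ℤ A a))
    (fun a b => by rw [map_add, TensorProduct.tmul_add, map_add])
  refine ⟨E, fun a b => ?_, fun a => ?_⟩
  · change Lam ((1 : K) ⊗ₜ[A] KaehlerDifferential.D ℤ A (a * b)) =
      residue A a * Lam ((1 : K) ⊗ₜ[A] KaehlerDifferential.D ℤ A b) +
      residue A b * Lam ((1 : K) ⊗ₜ[A] KaehlerDifferential.D ℤ A a)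
    rw [Derivation.leibniz, TensorProduct.tmul_add, TensorProduct.tmul_smul,
      TensorProduct.tmul_smul, map_add,
      ← algebraMap_smul K a ((1 : K) ⊗ₜ[A] KaehlerDifferential.D ℤ A b),
      ← algebraMap_smul K b ((1 : K) ⊗ₜ[A] KaehlerDifferential.D ℤ A a), map_smul, map_smul,
      smul_eq_mul, smul_eq_mul]
    rfl
  · change Lam ((1 : K) ⊗ₜ[A] KaehlerDifferential.D ℤ A (algebraMap k A a)) = δ a
    have h1 : αK ((1 : K) ⊗ₜ[A] ((1 : A) ⊗ₜ[k] KaehlerDifferential.D ℤ k a)) =
        (1 : K) ⊗ₜ[A] KaehlerDifferential.D ℤ A (algebraMap k A a) := by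
      change (1 : K) ⊗ₜ[A] (KaehlerDifferential.mapBaseChange ℤ k A
        ((1 : A) ⊗ₜ[k] KaehlerDifferential.D ℤ k a)) = _
      rw [KaehlerDifferential.mapBaseChange_tmul, one_smul, KaehlerDifferential.map_D]
    rw [← h1, hLam, hlam, hℓ', hℓ, one_smul, one_smul]

open MvPolynomial in
/-- A derivation of a polynomial ring which kills constants is determined by the partial
derivatives. -/
theorem deriv_eq_sum {k K : Type*} [CommRing k] [CommRing K] {m : ℕ}
    (ρ : MvPolynomial (Fin m) k →+* K) (G : MvPolynomial (Fin m) k →+ K)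
    (hG : ∀ a b, G (a * b) = ρ a * G b + ρ b * G a) (hC : ∀ a, G (C a) = 0)
    (x : MvPolynomial (Fin m) k) : G x = ∑ i, ρ (pderiv i x) * G (X i) := by
  induction x using MvPolynomial.induction_on with
  | C a => simp [hC]
  | add p q hp hq =>
    rw [map_add, hp, hq, ← Finset.sum_add_distrib]
    refine Finset.sum_congr rfl fun i _ => ?_
    rw [map_add, map_add, add_mul]
  | mul_X p j hp =>
    rw [hG, hp]
    have h1 : ∀ i, ρ (pderiv i (p * X j)) * G (X i) =
        ρ (X j) * (ρ (pderiv i p) * G (X i)) + (if i = j then ρ p * G (X j) else 0) := by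
      intro i
      rw [Derivation.leibniz, pderiv_X, smul_eq_mul, smul_eq_mul, map_add, map_mul, map_mul]
      by_cases hij : i = j
      · subst hij
        simp only [Pi.single_eq_same, map_one, mul_one, if_true]
        ring
      · rw [Pi.single_eq_of_ne (Ne.symm hij), if_neg hij, map_zero, mul_zero]
        ring
    rw [Finset.sum_congr rfl (fun i _ => h1 i), Finset.sum_add_distrib, ← Finset.mul_sum,
      Finset.sum_ite_eq' Finset.univ j, if_pos (Finset.mem_univ j)]
    ring


open MvPolynomial in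
/-- If the `dy_i` are linearly independent in `Ω_{F/k}` then the prime `𝔭 = ker(k[y] → F)` is
stable under the partial derivatives. -/
theorem pderiv_mem {k A : Type u} [Field k] [CommRing A] [IsLocalRing A] [Algebra k A]
    (F : IntermediateField k (ResidueField A)) {m : ℕ} (φ : MvPolynomial (Fin m) k →ₐ[k] A)
    (hφ : ∀ i : Fin m, residue A (φ (X i)) ∈ F)
    (hLI : LinearIndependent F
      (fun i : Fin m => KaehlerDifferential.D k F ⟨residue A (φ (X i)), hφ i⟩))
    (x : MvPolynomial (Fin m) k) (hx : residue A (φ x) = 0) (i : Fin m) :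
    residue A (φ (pderiv i x)) = 0 := by
  classical
  let ψ : MvPolynomial (Fin m) k →ₐ[k] F :=
    MvPolynomial.aeval (fun i => (⟨residue A (φ (X i)), hφ i⟩ : F))
  have hψ : ∀ y, ((ψ y : F) : ResidueField A) = residue A (φ y) := by
    intro y
    have : F.val.comp ψ = (IsScalarTower.toAlgHom k A (ResidueField A)).comp φ := by
      apply MvPolynomial.algHom_ext
      intro j
      simp [ψ]
    exact AlgHom.congr_fun this y
  have hψ0 : ∀ y, residue A (φ y) = 0 → ψ y = 0 := by
    intro y hy
    apply Subtype.ext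
    rw [hψ, hy]; rfl
  have key : ∀ y : MvPolynomial (Fin m) k, KaehlerDifferential.D k F (ψ y) =
      ∑ l, ψ (pderiv l y) • KaehlerDifferential.D k F (ψ (X l)) := by
    intro y
    induction y using MvPolynomial.induction_on with
    | C a =>
      have hC : (C a : MvPolynomial (Fin m) k) = algebraMap k _ a := rfl
      rw [hC, AlgHom.commutes, Derivation.map_algebraMap]
      simp
    | add p q hp hq =>
      rw [map_add, map_add, hp, hq, ← Finset.sum_add_distrib]
      refine Finset.sum_congr rfl fun l _ => ?_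
      rw [map_add, map_add, add_smul]
    | mul_X p j hp =>
      rw [map_mul, Derivation.leibniz, hp]
      have h1 : ∀ l, ψ (pderiv l (p * X j)) • KaehlerDifferential.D k F (ψ (X l)) =
          ψ (X j) • (ψ (pderiv l p) • KaehlerDifferential.D k F (ψ (X l))) +
            (if l = j then ψ p • KaehlerDifferential.D k F (ψ (X j)) else 0) := by
        intro l
        rw [Derivation.leibniz, pderiv_X, smul_eq_mul, smul_eq_mul, map_add, map_mul, map_mul]
        by_cases hlj : l = j
        · subst hlj
          simp only [Pi.single_eq_same, map_one, mul_one, if_true]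
          rw [add_smul, mul_smul, add_comm]
        · rw [Pi.single_eq_of_ne (Ne.symm hlj), if_neg hlj, map_zero, mul_zero, zero_add,
            add_zero, mul_smul]
      rw [Finset.sum_congr rfl (fun l _ => h1 l), Finset.sum_add_distrib, ← Finset.smul_sum,
        Finset.sum_ite_eq' Finset.univ j, if_pos (Finset.mem_univ j), add_comm]
  have h2 := key x
  rw [hψ0 x hx, map_zero] at h2
  have h3 := Fintype.linearIndependent_iff.mp hLI (fun l => ψ (pderiv l x)) (by
    rw [h2]
    refine Finset.sum_congr rfl fun l _ => ?_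
    simp [ψ])
  rw [← hψ, h3 i]; rfl


/-- a derivation into the residue field kills `𝔪²`. -/
theorem deriv_eq_zero_of_mem_sq {A : Type*} [CommRing A] [IsLocalRing A]
    (E : A →+ ResidueField A) (hE : ∀ a b, E (a * b) = residue A a * E b + residue A b * E a)
    {z : A} (hz : z ∈ maximalIdeal A ^ 2) : E z = 0 := by
  rw [pow_two] at hz
  refine Submodule.mul_induction_on hz (fun a ha b hb => ?_) (fun a b ha hb => ?_)
  · rw [hE, (residue_eq_zero_iff a).mpr ha, (residue_eq_zero_iff b).mpr hb, zero_mul, zero_mul,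
      add_zero]
  · rw [map_add, ha, hb, add_zero]

open MvPolynomial in
/-- The key step of Stacks 07E?: images of elements of `𝔪₀` with independent classes stay
independent in `𝔪/𝔪²`, when `A` is formally smooth over `k` and the `dy_i` are a differential basis. -/
theorem linearIndependent_cotangent {k A A₀ : Type u} [Field k] [CommRing A] [IsLocalRing A]
    [Algebra k A] [CommRing A₀]
    (F : IntermediateField k (ResidueField A)) {m : ℕ} (φ : MvPolynomial (Fin m) k →ₐ[k] A)
    (hφ : ∀ i : Fin m, residue A (φ (X i)) ∈ F)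
    (hLI : LinearIndependent F
      (fun i : Fin m => KaehlerDifferential.D k F ⟨residue A (φ (X i)), hφ i⟩))
    (hinj : Function.Injective
      ((KaehlerDifferential.mapBaseChange ℤ k A).lTensor (ResidueField A)))
    (ι₀ : MvPolynomial (Fin m) k →+* A₀) (φ' : A₀ →+* A) (hcomp : ∀ a, φ' (ι₀ a) = φ a)
    {d : ℕ} (x : Fin d → A₀)
    (hloc : ∀ j, ∃ s a, residue A (φ s) ≠ 0 ∧ residue A (φ a) = 0 ∧ ι₀ s * x j = ι₀ a)
    (E : Fin d → (A₀ →+ ResidueField A))
    (hE : ∀ i a b, E i (a * b) = residue A (φ' a) * E i b + residue A (φ' b) * E i a)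
    (hEx : ∀ i j, E i (x j) = if j = i then 1 else 0)
    (hxA : ∀ j, φ' (x j) ∈ maximalIdeal A) :
    LinearIndependent (ResidueField A)
      (fun j => (maximalIdeal A).toCotangent ⟨φ' (x j), hxA j⟩) := by
  classical
  have hstep : ∀ i, ∃ Et : A →+ ResidueField A,
      (∀ a b, Et (a * b) = residue A a * Et b + residue A b * Et a) ∧
      ∀ j, Et (φ' (x j)) = if j = i then 1 else 0 := by
    intro i
    let δ : k →+ ResidueField A :=
      (E i).comp ((ι₀.comp (C : k →+* MvPolynomial (Fin m) k)) : k →+ A₀)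
    have hresC : ∀ a : k, residue A (φ' (ι₀ (C a))) = algebraMap k (ResidueField A) a := by
      intro a
      rw [hcomp]
      have hC : (C a : MvPolynomial (Fin m) k) = algebraMap k _ a := rfl
      rw [hC, AlgHom.commutes]
      rfl
    have hδ : ∀ a b, δ (a * b) = algebraMap k (ResidueField A) a * δ b +
        algebraMap k (ResidueField A) b * δ a := by
      intro a b
      change E i (ι₀ (C (a * b))) = _ * E i (ι₀ (C b)) + _ * E i (ι₀ (C a))
      rw [map_mul C, map_mul ι₀, hE, hresC, hresC]
    obtain ⟨Et, hEt, hEtk⟩ := exists_extend_derivation hinj δ hδ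
    refine ⟨Et, hEt, fun j => ?_⟩
    -- on `P`
    let G : MvPolynomial (Fin m) k →+ ResidueField A :=
      Et.comp (φ : _ →+ A) - (E i).comp (ι₀ : _ →+ A₀)
    have hGdef : ∀ a, G a = Et (φ a) - E i (ι₀ a) := fun a => rfl
    have hG : ∀ a b, G (a * b) = ((residue A).comp (φ : _ →+* A)) a * G b +
        ((residue A).comp (φ : _ →+* A)) b * G a := by
      intro a b
      rw [hGdef, hGdef, hGdef, map_mul φ, map_mul ι₀, hEt, hE, hcomp, hcomp]
      simp only [RingHom.comp_apply, RingHom.coe_coe]
      ring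
    have hGC : ∀ a, G (C a) = 0 := by
      intro a
      rw [hGdef]
      have hC : (C a : MvPolynomial (Fin m) k) = algebraMap k _ a := rfl
      have : φ (C a) = algebraMap k A a := by rw [hC, AlgHom.commutes]
      rw [this, hEtk]
      exact sub_self _
    have hGp : ∀ a, residue A (φ a) = 0 → Et (φ a) = E i (ι₀ a) := by
      intro a ha
      have h1 := deriv_eq_sum _ G hG hGC a
      rw [Finset.sum_eq_zero (fun l _ => by
        rw [RingHom.comp_apply]
        change residue A (φ (pderiv l a)) * _ = 0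
        rw [pderiv_mem F φ hφ hLI a ha l, zero_mul]), hGdef, sub_eq_zero] at h1
      exact h1
    obtain ⟨s, a, hs, ha, hsa⟩ := hloc j
    have h2 : Et (φ' (ι₀ s * x j)) = E i (ι₀ s * x j) := by
      rw [hsa, hcomp, hGp a ha]
    rw [map_mul φ', hEt, hE, (residue_eq_zero_iff _).mpr (hxA j), zero_mul, add_zero, hcomp,
      zero_mul, add_zero] at h2
    have h3 := mul_left_cancel₀ hs h2
    rw [h3, hEx]
  choose Et hEt hEtx using hstep
  rw [Fintype.linearIndependent_iff]
  intro c hc i
  have hlift : ∀ j, ∃ a : A, residue A a = c j := fun j => residue_surjective (c j)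
  choose a ha using hlift
  have h1 : ∑ j, c j • (maximalIdeal A).toCotangent ⟨φ' (x j), hxA j⟩ =
      (maximalIdeal A).toCotangent (∑ j, a j • (⟨φ' (x j), hxA j⟩ : maximalIdeal A)) := by
    rw [map_sum]
    refine Finset.sum_congr rfl fun j _ => ?_
    rw [map_smul, ← ha j]
    exact (algebraMap_smul (ResidueField A) (a j) _)
  rw [h1, Ideal.toCotangent_eq_zero] at hc
  have h2 := deriv_eq_zero_of_mem_sq (Et i) (hEt i) hc
  have h3 : ((∑ j, a j • (⟨φ' (x j), hxA j⟩ : maximalIdeal A) : maximalIdeal A) : A) =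
      ∑ j, a j * φ' (x j) := by
    rw [Submodule.coe_sum]
    refine Finset.sum_congr rfl fun j _ => ?_
    rw [Submodule.coe_smul, smul_eq_mul]
  rw [h3, map_sum] at h2
  rw [Finset.sum_congr rfl (fun j _ => by
    rw [hEt i, hEtx i j, (residue_eq_zero_iff _).mpr (hxA j), zero_mul, add_zero, ha j])] at h2
  simpa using h2


/-- a regular system of parameters with independent classes -/
theorem exists_rsp (R : Type u) [CommRing R] [IsRegularLocalRing R] :
    ∃ (d : ℕ) (x : Fin d → R) (hx : ∀ j, x j ∈ maximalIdeal R), ringKrullDim R = d ∧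
      Ideal.span (Set.range x) = maximalIdeal R ∧
      LinearIndependent (ResidueField R) (fun j => (maximalIdeal R).toCotangent ⟨x j, hx j⟩) := by
  classical
  have hd := (IsRegularLocalRing.iff_finrank_cotangentSpace R).mp inferInstance
  let b := Module.finBasis (ResidueField R) (CotangentSpace R)
  have hy : ∀ j, ∃ y : maximalIdeal R, (maximalIdeal R).toCotangent y = b j := fun j =>
    Ideal.toCotangent_surjective _ (b j)
  choose y hy using hy
  refine ⟨_, fun j => (y j : R), fun j => (y j).2, hd.symm, ?_, ?_⟩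
  · have h1 : Submodule.span (ResidueField R) ((maximalIdeal R).toCotangent '' Set.range y) = ⊤ := by
      rw [← Set.range_comp]
      have : ((maximalIdeal R).toCotangent ∘ y) = b := funext hy
      rw [this]
      exact b.span_eq
    rw [CotangentSpace.span_image_eq_top_iff] at h1
    have h2 := congrArg (Submodule.map (maximalIdeal R).subtype) h1
    rw [Submodule.map_span, Submodule.map_top, Submodule.range_subtype, ← Set.range_comp] at h2
    exact h2
  · have : (fun j => (maximalIdeal R).toCotangent ⟨(y j : R), (y j).2⟩) = b := funext hy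
    rw [this]
    exact b.linearIndependent

end Groth.Agent.H87.DiffBasis
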