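import Mathlib
import Groth.Agent.H15.AdicVal
import Groth.Agent.S9622
import Groth.Agent.S2477
import Groth.Agent.H87.PowEval
import Groth.Agent.H87.EqCohen
import Groth.Agent.H54.IntegralDim

/-!
# Noether normalisation over the base field for complete local domains

`B` complete Noetherian local domain, a `k`-algebra with residue field finite over `k`, `dim B = n`.
Then there is an injective finite `k`-algebra map `k⟦T₁..Tₙ⟧ → B`.
-/

set_option autoImplicit false
set_option maxHeartbeats 400000

namespace Groth.Agent.H87.GenRankA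

open IsLocalRing

universe u

theorem exists_ps (k B : Type u) [Field k] [CommRing B] [IsDomain B] [IsLocalRing B]
    [IsNoetherianRing B] [Algebra k B] [IsAdicComplete (maximalIdeal B) B]
    [Module.Finite k (ResidueField B)] (n : ℕ) (hn : ringKrullDim B = n) :
    ∃ F : MvPowerSeries (Fin n) k →ₐ[k] B, Function.Injective F ∧ F.toRingHom.Finite := by
  classical
  obtain ⟨s, hs_min, hs_card⟩ :=
    Ideal.exists_finset_card_eq_height_of_isNoetherianRing (maximalIdeal B)
  have hcard : s.card = n := by
    have h1 : ((s.card : ℕ∞) : WithBot ℕ∞) = ringKrullDim B := by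
      rw [← IsLocalRing.maximalIdeal_height_eq_ringKrullDim, ← hs_card]
    rw [hn] at h1
    exact_mod_cast h1
  let e : Fin n ≃ s := (finCongr hcard.symm).trans s.equivFin.symm
  let t : Fin n → B := fun i => (e i : B)
  have hrange : Set.range t = (s : Set B) := by
    ext b
    constructor
    · rintro ⟨i, rfl⟩
      exact (e i).2
    · intro hb
      exact ⟨e.symm ⟨b, hb⟩, by simp [t]⟩
  set J : Ideal B := Ideal.span (s : Set B) with hJ
  have hJm : J ≤ maximalIdeal B := hs_min.1.2
  have ht : ∀ i, t i ∈ maximalIdeal B := fun i => hJm (Ideal.subset_span (e i).2)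
  obtain ⟨F, -, hFX⟩ := Groth.Agent.H87.PowEval.exists_mvEvalₐ (R := k) (k := k)
    (maximalIdeal B) (Algebra.ofId k B) t ht
  let P := MvPowerSeries (Fin n) k
  have hck : IsAdicComplete (maximalIdeal k) k := by
    rw [IsLocalRing.maximalIdeal_eq_bot]; infer_instance
  have hPc : IsAdicComplete (maximalIdeal P) P := Groth.Agent.H61.PS.isAdicComplete
  have hmap : (maximalIdeal P).map F.toRingHom = J := by
    rw [Groth.Agent.S2477.maximalIdeal_eq, Ideal.map_span, ← Set.range_comp, hJ, ← hrange]
    congr 1
    ext b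
    simp [hFX]
  -- finiteness
  have hfin : F.toRingHom.Finite := by
    letI : Algebra P B := F.toRingHom.toAlgebra
    haveI : IsScalarTower k P B := IsScalarTower.of_algebraMap_eq (fun c => (F.commutes c).symm)
    have hJtop : J ≠ ⊤ := fun h => (IsLocalRing.maximalIdeal.isMaximal B).ne_top
      (top_le_iff.mp (h ▸ hJm))
    haveI : Nontrivial (B ⧸ J) := Ideal.Quotient.nontrivial_iff.mpr hJtop
    haveI : IsLocalRing (B ⧸ J) :=
      IsLocalRing.of_surjective' (Ideal.Quotient.mk J) Ideal.Quotient.mk_surjective
    have hdim : Ring.KrullDimLE 0 (B ⧸ J) := by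
      rw [Ring.krullDimLE_zero_iff]
      intro q hq
      have h1 : (q.comap (Ideal.Quotient.mk J)).IsPrime := Ideal.comap_isPrime _ _
      have h2 : J ≤ q.comap (Ideal.Quotient.mk J) := by
        intro z hz
        rw [Ideal.mem_comap, Ideal.Quotient.eq_zero_iff_mem.mpr hz]
        exact Ideal.zero_mem _
      have h3 : q.comap (Ideal.Quotient.mk J) = maximalIdeal B :=
        le_antisymm (IsLocalRing.le_maximalIdeal h1.ne_top)
          (hs_min.2 ⟨h1, h2⟩ (IsLocalRing.le_maximalIdeal h1.ne_top))
      have h4 : q = (maximalIdeal B).map (Ideal.Quotient.mk J) := by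
        rw [← h3, Ideal.map_comap_of_surjective _ Ideal.Quotient.mk_surjective]
      rw [h4]
      exact Ideal.IsMaximal.map_of_surjective_of_ker_le Ideal.Quotient.mk_surjective
        (by rw [Ideal.mk_ker]; exact hJm)
    haveI hart : IsArtinianRing (B ⧸ J) := isArtinianRing_iff_krullDimLE_zero.mpr hdim
    -- residue field of `B ⧸ J` is finite over `k`
    haveI : IsLocalHom (Ideal.Quotient.mk J) :=
      IsLocalHom.of_surjective _ Ideal.Quotient.mk_surjective
    have hres : Module.Finite k ((B ⧸ J) ⧸ maximalIdeal (B ⧸ J)) := by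
      let g : B →ₐ[k] ((B ⧸ J) ⧸ maximalIdeal (B ⧸ J)) :=
        (Ideal.Quotient.mkₐ k (maximalIdeal (B ⧸ J))).comp (Ideal.Quotient.mkₐ k J)
      have hg : ∀ a ∈ maximalIdeal B, g a = 0 := by
        intro a ha
        show Ideal.Quotient.mk (maximalIdeal (B ⧸ J)) (Ideal.Quotient.mk J a) = 0
        rw [Ideal.Quotient.eq_zero_iff_mem]
        exact _root_.map_nonunit (Ideal.Quotient.mk J) a ha
      let g' : ResidueField B →ₐ[k] ((B ⧸ J) ⧸ maximalIdeal (B ⧸ J)) :=
        Ideal.Quotient.liftₐ (maximalIdeal B) g hg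
      have hg' : Function.Surjective g' := by
        intro z
        obtain ⟨w, rfl⟩ := Ideal.Quotient.mk_surjective z
        obtain ⟨b, rfl⟩ := Ideal.Quotient.mk_surjective w
        exact ⟨IsLocalRing.residue B b, rfl⟩
      exact Module.Finite.of_surjective g'.toLinearMap hg'
    have hfinJ : Module.Finite k (B ⧸ J) := Groth.Agent.S9622.finite_of_finite_quotient hres
    -- hence finite over `P`
    have hHaus : IsHausdorff ((maximalIdeal P).map (algebraMap P B)) B :=
      IsHausdorff.of_isLocalRing _ _ (by
        show (maximalIdeal P).map F.toRingHom ≠ ⊤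
        rw [hmap]; exact hJtop)
    haveI hHaus' : IsHausdorff (maximalIdeal P) B := IsHausdorff.map_algebraMap_iff.mp hHaus
    have h9 : (maximalIdeal P • ⊤ : Submodule P B) = Submodule.restrictScalars P J := by
      rw [Ideal.smul_top_eq_map]
      congr 1
    have hq : Module.Finite P (B ⧸ (maximalIdeal P • ⊤ : Submodule P B)) := by
      rw [h9]
      haveI : Module.Finite P (B ⧸ J) := Module.Finite.of_restrictScalars_finite k P (B ⧸ J)
      exact Module.Finite.equiv (Submodule.Quotient.restrictScalarsEquiv P J).symm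
    have := Groth.Agent.H15.AdicVal.finite_of_finite_quotient (maximalIdeal P) (M := B) hq
    exact this
  refine ⟨F, ?_, hfin⟩
  -- injectivity by dimension
  by_contra hinj
  have hker : RingHom.ker F.toRingHom ≠ ⊥ :=
    fun h => hinj ((RingHom.injective_iff_ker_eq_bot F.toRingHom).2 h)
  obtain ⟨r, hr, hr0⟩ := Submodule.exists_mem_ne_zero_of_ne_bot hker
  have h1 := ringKrullDim_succ_le_of_surjective (Ideal.Quotient.mk (RingHom.ker F.toRingHom))
    Ideal.Quotient.mk_surjective (mem_nonZeroDivisors_of_ne_zero hr0)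
    (Ideal.Quotient.eq_zero_iff_mem.mpr hr)
  have hint : (RingHom.kerLift F.toRingHom).IsIntegral := by
    refine RingHom.IsIntegral.tower_top (Ideal.Quotient.mk (RingHom.ker F.toRingHom))
      (RingHom.kerLift F.toRingHom) ?_
    have h5 : (RingHom.kerLift F.toRingHom).comp (Ideal.Quotient.mk (RingHom.ker F.toRingHom)) =
        F.toRingHom := by
      ext z; rfl
    rw [h5]
    exact hfin.to_isIntegral
  have h2 : ringKrullDim B = ringKrullDim (MvPowerSeries (Fin n) k ⧸ RingHom.ker F.toRingHom) :=
    Groth.Agent.H54.ringKrullDim_eq_of_ringHom_isIntegral_of_injective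
      (RingHom.kerLift F.toRingHom) hint (RingHom.kerLift_injective F.toRingHom)
  rw [← h2, hn, Groth.Agent.H61.Obs.ps_dim_eq] at h1
  have h3 : (n + 1 : ℕ) ≤ n := by exact_mod_cast h1
  omega

end Groth.Agent.H87.GenRankA
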