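import Mathlib
import Groth.Agent.H87.GenRankA
import Groth.Agent.H87.DerExt

/-!
# Independent bounded derivations on a complete local domain

`B` complete Noetherian local domain over a field `k` with residue field finite over `k`,
`n = dim B`, `K = Frac B`.  There are `n` `k`-derivations `B → K` with values in a finitely
generated `B`-submodule of `K` whose value vectors span `Kⁿ`.
-/

set_option autoImplicit false
set_option maxHeartbeats 800000

namespace Groth.Agent.H87.GenRankB

open IsLocalRing

universe u

section Loc

variable {k A K : Type*} [Field k] [CommRing A] [Algebra k A] [CommRing K]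
  [Algebra k K] [Algebra A K] [IsScalarTower k A K]

/-- Derivations extend to localizations (no characteristic assumption). -/
theorem exists_extension' (M : Submonoid A) [IsLocalization M K] (D : Derivation k A A) :
    ∃ DK : Derivation k K K, ∀ a, DK (algebraMap A K a) = algebraMap A K (D a) := by
  let ℓ : Ω[A⁄k] →ₗ[A] K := (Algebra.linearMap A K).comp D.liftKaehlerDifferential
  have hu : ∀ s : M, IsUnit (algebraMap A (Module.End A K) s) := by
    intro s
    have hs : IsUnit (algebraMap A K s) := IsLocalization.map_units K s
    rw [Module.End.isUnit_iff]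
    constructor
    · intro y z hyz
      exact hs.mul_left_cancel (by simpa [Algebra.smul_def] using hyz)
    · intro y
      obtain ⟨w, hw⟩ := hs.exists_right_inv
      refine ⟨w * y, ?_⟩
      simp [Algebra.smul_def, ← mul_assoc, hw]
  let ℓK : Ω[K⁄k] →ₗ[A] K := IsLocalizedModule.lift M (KaehlerDifferential.map k k A K) ℓ hu
  let ℓK' : Ω[K⁄k] →ₗ[K] K := ℓK.extendScalarsOfIsLocalization M K
  refine ⟨ℓK'.compDer (KaehlerDifferential.D k K), fun a => ?_⟩
  have : ℓK (KaehlerDifferential.map k k A K (KaehlerDifferential.D k A a)) =
      ℓ (KaehlerDifferential.D k A a) :=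
    IsLocalizedModule.lift_apply M (KaehlerDifferential.map k k A K) ℓ hu _
  rw [KaehlerDifferential.map_D] at this
  show ℓK' (KaehlerDifferential.D k K (algebraMap A K a)) = _
  have h2 : ℓK' (KaehlerDifferential.D k K (algebraMap A K a)) =
      ℓK (KaehlerDifferential.D k K (algebraMap A K a)) := rfl
  rw [h2, this]
  simp [ℓ]

end Loc

theorem der_sum_apply {R A M ι : Type*} [CommSemiring R] [CommSemiring A] [AddCommMonoid M]
    [Algebra R A] [Module A M] [Module R M] (s : Finset ι) (f : ι → Derivation R A M) (x : A) :
    (∑ i ∈ s, f i) x = ∑ i ∈ s, f i x := by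
  classical
  induction s using Finset.induction_on with
  | empty => simp
  | insert a s ha ih => rw [Finset.sum_insert ha, Finset.sum_insert ha, Derivation.add_apply, ih]

theorem exists_derivations (k B K : Type u) [Field k] [CommRing B] [IsDomain B] [IsLocalRing B]
    [IsNoetherianRing B] [Algebra k B] [IsAdicComplete (maximalIdeal B) B]
    [Module.Finite k (ResidueField B)] (n : ℕ) (hn : ringKrullDim B = n) [Field K] [Algebra B K]
    [IsFractionRing B K] [Algebra k K] [IsScalarTower k B K] :
    ∃ (D : Fin n → Derivation k B K) (L : Submodule B K), L.FG ∧ (∀ j b, D j b ∈ L) ∧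
      Submodule.span K (Set.range fun b : B => (fun j => D j b)) = ⊤ := by
  classical
  obtain ⟨F, hFinj, hFfin⟩ := Groth.Agent.H87.GenRankA.exists_ps k B n hn
  let P := MvPowerSeries (Fin n) k
  letI algPB : Algebra P B := F.toRingHom.toAlgebra
  haveI : IsScalarTower k P B := IsScalarTower.of_algebraMap_eq (fun c => (F.commutes c).symm)
  haveI : Module.Finite P B := hFfin
  haveI : IsDomain P := NoZeroDivisors.to_isDomain _
  letI algPK : Algebra P K := ((algebraMap B K).comp (algebraMap P B)).toAlgebra
  haveI : IsScalarTower P B K := IsScalarTower.of_algebraMap_eq (fun _ => rfl)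
  have hPKinj : Function.Injective (algebraMap P K) :=
    (IsFractionRing.injective B K).comp hFinj
  haveI : FaithfulSMul P K := (faithfulSMul_iff_algebraMap_injective P K).mpr hPKinj
  let K₀ := FractionRing P
  letI algK₀K : Algebra K₀ K := FractionRing.liftAlgebra P K
  haveI : IsScalarTower P K₀ K := FractionRing.isScalarTower_liftAlgebra P K
  haveI : IsScalarTower k P K := IsScalarTower.of_algebraMap_eq (fun c => by
    show algebraMap k K c = algebraMap B K (algebraMap P B (algebraMap k P c))
    rw [← IsScalarTower.algebraMap_apply k P B, ← IsScalarTower.algebraMap_apply k B K])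
  haveI : IsScalarTower k K₀ K := IsScalarTower.of_algebraMap_eq (fun c => by
    rw [IsScalarTower.algebraMap_apply k P K₀, ← IsScalarTower.algebraMap_apply P K₀ K,
      ← IsScalarTower.algebraMap_apply k P K])
  -- finite dimensionality
  haveI : Algebra.IsIntegral P B := Algebra.IsIntegral.of_finite P B
  haveI halg : Algebra.IsAlgebraic K₀ K := isAlgebraic_of_isFractionRing P B K₀ K
  obtain ⟨r, y, hy⟩ := Module.Finite.exists_fin (R := P) (M := B)
  have hBmem : ∀ b : B, algebraMap B K b ∈
      IntermediateField.adjoin K₀ (Set.range fun l => algebraMap B K (y l)) := by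
    intro b
    have hb : b ∈ Submodule.span P (Set.range y) := by rw [hy]; trivial
    obtain ⟨c, rfl⟩ := (Submodule.mem_span_range_iff_exists_fun P).mp hb
    rw [map_sum]
    refine sum_mem fun l _ => ?_
    rw [Algebra.smul_def, map_mul]
    refine mul_mem ?_ (IntermediateField.subset_adjoin _ _ ⟨l, rfl⟩)
    rw [← IsScalarTower.algebraMap_apply P B K, IsScalarTower.algebraMap_apply P K₀ K]
    exact IntermediateField.algebraMap_mem _ _
  have htop : IntermediateField.adjoin K₀ (Set.range fun l => algebraMap B K (y l)) = ⊤ := by
    rw [eq_top_iff]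
    intro z _
    obtain ⟨b, c, hc, rfl⟩ := IsFractionRing.div_surjective (A := B) z
    exact div_mem (hBmem b) (hBmem c)
  haveI hfd : FiniteDimensional K₀ K := by
    haveI : FiniteDimensional K₀
        (IntermediateField.adjoin K₀ (Set.range fun l => algebraMap B K (y l))) :=
      IntermediateField.finiteDimensional_adjoin (fun x _ => (halg.isAlgebraic x).isIntegral)
    rw [htop] at this
    exact Module.Finite.equiv (IntermediateField.topEquiv (F := K₀) (E := K)).toLinearEquiv
  -- the partial derivatives
  have hD₀ : ∀ i : Fin n, ∃ DK : Derivation k K₀ K₀, ∀ a,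
      DK (algebraMap P K₀ a) = algebraMap P K₀ (MvPowerSeries.pderiv k i a) := fun i =>
    exists_extension' (k := k) (A := P) (K := K₀) (nonZeroDivisors P) (MvPowerSeries.pderiv k i)
  choose D₀ hD₀ using hD₀
  let δ : Fin n → Derivation k K₀ K := fun i => (Algebra.linearMap K₀ K).compDer (D₀ i)
  have hδ : ∀ i (a : P), δ i (algebraMap P K₀ a) = algebraMap P K (MvPowerSeries.pderiv k i a) := by
    intro i a
    show algebraMap K₀ K (D₀ i (algebraMap P K₀ a)) = _
    rw [hD₀, ← IsScalarTower.algebraMap_apply]
  have hδX : ∀ i j, δ i (algebraMap P K₀ (MvPowerSeries.X j)) = if j = i then 1 else 0 := by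
    intro i j
    rw [hδ]
    split_ifs with h
    · subst h; simp
    · rw [MvPowerSeries.pderiv_X_of_ne h, map_zero]
  have hδli : LinearIndependent K δ := by
    rw [Fintype.linearIndependent_iff]
    intro g hg j
    have := congrArg (fun d : Derivation k K₀ K => d (algebraMap P K₀ (MvPowerSeries.X j))) hg
    simp only [der_sum_apply, Derivation.smul_apply, hδX,
      smul_eq_mul, mul_ite, mul_one, mul_zero, Finset.sum_ite_eq, Finset.mem_univ, if_true,
      Derivation.coe_zero, Pi.zero_apply] at this
    exact this
  let W : Submodule K (Derivation k K₀ K) := Submodule.span K (Set.range δ)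
  have hWfin : FiniteDimensional K W := FiniteDimensional.span_of_finite K (Set.finite_range δ)
  have hWrank : Module.finrank K W = n := by
    rw [finrank_span_eq_card hδli, Fintype.card_fin]
  obtain ⟨W', hW'fd, hW'le, hW'res⟩ :=
    Groth.Agent.H87.DerExt.exists_extension_space k (Module.finrank K₀ K) K₀ K rfl W
  rw [hWrank] at hW'le
  -- choose `n` independent elements of `W'`
  let bW := Module.finBasis K W'
  let D' : Fin n → Derivation k K K := fun j => (bW (Fin.castLE hW'le j) : Derivation k K K)
  have hD'li : LinearIndependent K D' := by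
    have h1 : LinearIndependent K (fun j : Fin n => bW (Fin.castLE hW'le j)) :=
      bW.linearIndependent.comp _ (Fin.castLE_injective hW'le)
    exact h1.map' W'.subtype (Submodule.ker_subtype W')
  have hD'mem : ∀ j, D' j ∈ W' := fun j => (bW (Fin.castLE hW'le j)).2
  have hc : ∀ j, ∃ c : Fin n → K, (D' j).compAlgebraMap K₀ = ∑ i, c i • δ i := by
    intro j
    have := hW'res (D' j) (hD'mem j)
    obtain ⟨c, hc⟩ := (Submodule.mem_span_range_iff_exists_fun K).mp this
    exact ⟨c, hc.symm⟩
  choose c hc using hc
  let D : Fin n → Derivation k B K := fun j => (D' j).compAlgebraMap B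
  -- values on the image of `P`
  have hDP : ∀ j (p : P), D j (algebraMap P B p) =
      ∑ i, c j i * algebraMap B K (algebraMap P B (MvPowerSeries.pderiv k i p)) := by
    intro j p
    have h1 : D j (algebraMap P B p) = ((D' j).compAlgebraMap K₀) (algebraMap P K₀ p) := by
      show D' j (algebraMap B K (algebraMap P B p)) = D' j (algebraMap K₀ K (algebraMap P K₀ p))
      rw [← IsScalarTower.algebraMap_apply P B K, ← IsScalarTower.algebraMap_apply P K₀ K]
    rw [h1, hc]
    simp only [der_sum_apply, Derivation.smul_apply, hδ, smul_eq_mul]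
    rfl
  -- bounded values
  let gens : Set K := (Set.range fun jl : Fin n × Fin r => D jl.1 (y jl.2)) ∪
    (Set.range fun ji : Fin n × Fin n => c ji.1 ji.2)
  let L : Submodule B K := Submodule.span B gens
  have hLfg : L.FG := Submodule.fg_span ((Set.finite_range _).union (Set.finite_range _))
  have hDL : ∀ j b, D j b ∈ L := by
    intro j b
    have hb : b ∈ Submodule.span P (Set.range y) := by rw [hy]; trivial
    obtain ⟨a, rfl⟩ := (Submodule.mem_span_range_iff_exists_fun P).mp hb
    rw [map_sum]
    refine sum_mem fun l _ => ?_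
    rw [Algebra.smul_def, Derivation.leibniz]
    refine add_mem (Submodule.smul_mem _ _ (Submodule.subset_span (Or.inl ⟨(j, l), rfl⟩))) ?_
    rw [hDP, Finset.smul_sum]
    refine sum_mem fun i _ => ?_
    have : y l • (c j i * algebraMap B K (algebraMap P B (MvPowerSeries.pderiv k i (a l)))) =
        (y l * algebraMap P B (MvPowerSeries.pderiv k i (a l))) • c j i := by
      simp only [Algebra.smul_def, map_mul]
      ring
    rw [this]
    exact Submodule.smul_mem _ _ (Submodule.subset_span (Or.inr ⟨(j, i), rfl⟩))
  refine ⟨D, L, hLfg, hDL, ?_⟩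
  -- spanning
  by_contra hne
  have hlt : Submodule.span K (Set.range fun b : B => (fun j => D j b)) < ⊤ := lt_top_iff_ne_top.mpr hne
  obtain ⟨f, hf0, hfker⟩ := Submodule.exists_le_ker_of_lt_top _ hlt
  let cc : Fin n → K := fun j => f (Pi.single j 1)
  have hfv : ∀ v : Fin n → K, f v = ∑ j, v j * cc j := by
    intro v
    conv_lhs => rw [← Finset.univ_sum_single v]
    rw [map_sum]
    refine Finset.sum_congr rfl fun j _ => ?_
    have : (Pi.single j (v j) : Fin n → K) = v j • Pi.single j 1 := by
      rw [← Pi.single_smul, smul_eq_mul, mul_one]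
    rw [this, map_smul, smul_eq_mul]
  have hzeroB : ∀ b : B, (∑ j, cc j • D' j) (algebraMap B K b) = 0 := by
    intro b
    have h1 : (fun j => D j b) ∈ LinearMap.ker f := hfker (Submodule.subset_span ⟨b, rfl⟩)
    rw [LinearMap.mem_ker, hfv] at h1
    simp only [der_sum_apply, Derivation.smul_apply, smul_eq_mul]
    rw [← h1]
    refine Finset.sum_congr rfl fun j _ => ?_
    rw [mul_comm]
    rfl
  have hzero : (∑ j, cc j • D' j) = 0 := by
    ext z
    obtain ⟨b, s, hs, rfl⟩ := IsFractionRing.div_surjective (A := B) z
    have hs0 : algebraMap B K s ≠ 0 := by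
      intro h0
      have := (IsFractionRing.injective B K) (h0.trans (map_zero _).symm)
      exact (nonZeroDivisors.ne_zero hs) this
    have h2 : algebraMap B K b = (algebraMap B K b / algebraMap B K s) * algebraMap B K s := by
      field_simp
    have h3 := hzeroB b
    rw [h2, Derivation.leibniz, hzeroB s, smul_zero, zero_add, smul_eq_mul] at h3
    rcases mul_eq_zero.mp h3 with h4 | h4
    · exact absurd h4 hs0
    · simpa using h4
  have hcc : ∀ j, cc j = 0 := Fintype.linearIndependent_iff.mp hD'li cc hzero
  apply hf0
  refine LinearMap.ext fun v => ?_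
  rw [hfv]
  simp [hcc]

end Groth.Agent.H87.GenRankB
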