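import Mathlib

/-!
# The "units trick" for derivation-like maps (helper87)

`greedy`: `A` local ring, `res : A →+* κ` to a field, `δ : A → V` additive with
`δ (a b) = res a • δ b + res b • δ a`, image spanning the finite dimensional `V`, and some `z ∈ 𝔪_A` with
`res z ≠ 0`.  Then for any `x : Fin (dim V) → A` with `res (x i) ≠ 0` there are units `u i` of `A` such that
the `δ (u i * x i)` span `V` (EGA 0_IV 22-type argument).
-/

set_option autoImplicit false

open IsLocalRing Module

namespace Groth.Agent.H87.UnitsTrick

variable {A κ V : Type*} [CommRing A] [IsLocalRing A] [Field κ] [AddCommGroup V] [Module κ V]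
  (res : A →+* κ) (δ : A → V)

theorem span_max (hmul : ∀ a b, δ (a * b) = res a • δ b + res b • δ a)
    (hspan : Submodule.span κ (Set.range δ) = ⊤)
    (z : A) (hz : z ∈ maximalIdeal A) (hz' : res z ≠ 0) :
    Submodule.span κ (δ '' (maximalIdeal A : Set A)) = ⊤ := by
  rw [eq_top_iff, ← hspan, Submodule.span_le]
  rintro _ ⟨a, rfl⟩
  have h1 := hmul a z
  have h2 : δ a = (res z)⁻¹ • (δ (a * z) - res a • δ z) := by
    rw [h1, add_sub_cancel_left, smul_smul, inv_mul_cancel₀ hz', one_smul]
  rw [h2]
  refine Submodule.smul_mem _ _ (Submodule.sub_mem _ ?_ (Submodule.smul_mem _ _ ?_))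
  · exact Submodule.subset_span ⟨a * z, Ideal.mul_mem_left _ _ hz, rfl⟩
  · exact Submodule.subset_span ⟨z, hz, rfl⟩

theorem exists_notMem (hmul : ∀ a b, δ (a * b) = res a • δ b + res b • δ a)
    (hspan : Submodule.span κ (Set.range δ) = ⊤)
    (z : A) (hz : z ∈ maximalIdeal A) (hz' : res z ≠ 0)
    (W : Submodule κ V) (hW : W ≠ ⊤) (x : A) (hx : res x ≠ 0) :
    ∃ c ∈ maximalIdeal A, δ (c * x) ∉ W := by
  by_contra hcon
  push Not at hcon
  apply hW
  rw [eq_top_iff, ← span_max res δ hmul hspan z hz hz', Submodule.span_le]
  rintro _ ⟨c, hc, rfl⟩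
  have h1 : δ (c * z * x) ∈ W := hcon (c * z) (Ideal.mul_mem_left _ _ hz)
  have h2 : δ (z * x) ∈ W := hcon z hz
  rw [mul_assoc, hmul c (z * x)] at h1
  have h3 : res (z * x) • δ c ∈ W := by
    have := W.sub_mem h1 (W.smul_mem (res c) h2)
    rwa [add_sub_cancel_left] at this
  have h4 : res (z * x) ≠ 0 := by
    rw [map_mul]
    exact mul_ne_zero hz' hx
  have := W.smul_mem (res (z * x))⁻¹ h3
  rwa [smul_smul, inv_mul_cancel₀ h4, one_smul] at this

theorem greedy [FiniteDimensional κ V]
    (hadd : ∀ a b, δ (a + b) = δ a + δ b)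
    (hmul : ∀ a b, δ (a * b) = res a • δ b + res b • δ a)
    (hspan : Submodule.span κ (Set.range δ) = ⊤)
    (z : A) (hz : z ∈ maximalIdeal A) (hz' : res z ≠ 0)
    (M : ℕ) (hM : Module.finrank κ V = M) (x : Fin M → A) (hx : ∀ i, res (x i) ≠ 0) :
    ∃ u : Fin M → Aˣ, Submodule.span κ (Set.range fun i => δ ((u i : A) * x i)) = ⊤ := by
  classical
  have key : ∀ n : ℕ, n ≤ M → ∃ u : Fin M → Aˣ,
      n ≤ Module.finrank κ ↥(Submodule.span κ (Set.range fun i => δ ((u i : A) * x i))) := by
    intro n
    induction n with
    | zero => exact fun _ => ⟨fun _ => 1, Nat.zero_le _⟩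
    | succ n ih =>
      intro hn
      obtain ⟨u, hu⟩ := ih (Nat.le_of_succ_le hn)
      by_cases hlt : n + 1 ≤ Module.finrank κ
          ↥(Submodule.span κ (Set.range fun i => δ ((u i : A) * x i)))
      · exact ⟨u, hlt⟩
      · have heq : Module.finrank κ
            ↥(Submodule.span κ (Set.range fun i => δ ((u i : A) * x i))) = n := by omega
        set v : Fin M → V := fun i => δ ((u i : A) * x i) with hv
        have hnotLI : ¬ LinearIndependent κ v := by
          intro hLI
          have := finrank_span_eq_card hLI
          rw [Fintype.card_fin] at this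
          omega
        rw [linearIndependent_iff_notMem_span] at hnotLI
        push Not at hnotLI
        obtain ⟨i₀, hi₀⟩ := hnotLI
        set W : Submodule κ V := Submodule.span κ (v '' (Set.univ \ {i₀})) with hWdef
        have hWeq : Submodule.span κ (Set.range v) = W := by
          refine le_antisymm ?_ (Submodule.span_mono (Set.image_subset_range _ _))
          rw [Submodule.span_le]
          rintro _ ⟨i, rfl⟩
          by_cases hi : i = i₀
          · rw [hi]; exact hi₀
          · exact Submodule.subset_span ⟨i, ⟨Set.mem_univ _, hi⟩, rfl⟩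
        have hWfin : Module.finrank κ ↥W = n := by rw [← hWeq]; exact heq
        have hWtop : W ≠ ⊤ := by
          intro h
          rw [h, finrank_top, hM] at hWfin
          omega
        obtain ⟨c, hc, hcW⟩ := exists_notMem res δ hmul hspan z hz hz' W hWtop (x i₀) (hx i₀)
        have hunit : IsUnit ((u i₀ : A) + c) := by
          rw [← IsLocalRing.notMem_maximalIdeal]
          intro hmem
          have : (u i₀ : A) ∈ maximalIdeal A := by
            have := Ideal.sub_mem _ hmem hc
            rwa [add_sub_cancel_right] at this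
          exact (IsLocalRing.notMem_maximalIdeal.mpr (u i₀).isUnit) this
        set u' : Fin M → Aˣ := Function.update u i₀ hunit.unit with hu'
        set v' : Fin M → V := fun i => δ ((u' i : A) * x i) with hv'
        have hv'ne : ∀ i, i ≠ i₀ → v' i = v i := by
          intro i hi
          simp only [hv', hv, hu', Function.update_of_ne hi]
        have hv'i₀ : v' i₀ = v i₀ + δ (c * x i₀) := by
          simp only [hv', hv, hu', Function.update_self, IsUnit.unit_spec]
          rw [add_mul, hadd]
        have hv'notW : v' i₀ ∉ W := by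
          rw [hv'i₀]
          intro h
          apply hcW
          have := W.sub_mem h hi₀
          rwa [add_sub_cancel_left] at this
        have hWle : W ≤ Submodule.span κ (Set.range v') := by
          rw [hWdef, Submodule.span_le]
          rintro _ ⟨i, ⟨-, hi⟩, rfl⟩
          rw [← hv'ne i hi]
          exact Submodule.subset_span ⟨i, rfl⟩
        have hWlt : W < Submodule.span κ (Set.range v') := by
          refine lt_of_le_of_ne hWle fun h => hv'notW ?_
          rw [h]
          exact Submodule.subset_span ⟨i₀, rfl⟩
        have := Submodule.finrank_lt_finrank_of_lt hWlt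
        refine ⟨u', ?_⟩
        change n + 1 ≤ Module.finrank κ ↥(Submodule.span κ (Set.range v'))
        omega
  obtain ⟨u, hu⟩ := key M le_rfl
  refine ⟨u, Submodule.eq_top_of_finrank_eq ?_⟩
  have hle := Submodule.finrank_le (Submodule.span κ (Set.range fun i => δ ((u i : A) * x i)))
  omega

end Groth.Agent.H87.UnitsTrick
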