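import Mathlib
import Groth.Agent.H87.GenRankB
import Groth.Agent.H87.ComplExact
import Groth.Agent.H61.CRingLib
import Groth.Agent.S5080

/-!
# Generic rank of completed differentials (EGA 0_IV 21.9.2)

`A` complete Noetherian local `k`-algebra with residue field finite over `k`, `q` a prime, `n = dim A/q`,
`K = Frac (A/q)`.  There is an `A`-linear map `Φ : Ω̂_{A/k} → Kⁿ` whose image spans `Kⁿ`.
Consequently `Ω̂_p` needs at least `n` generators for every prime `p ⊇ q`.
-/

set_option autoImplicit false
set_option maxHeartbeats 800000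

namespace Groth.Agent.H87.GenRankC

open IsLocalRing TensorProduct

universe u

section Quot

variable (k A : Type u) [Field k] [CommRing A] [IsLocalRing A] [Algebra k A]

theorem finite_residueField_quotient [Module.Finite k (ResidueField A)] (J : Ideal A)
    [IsLocalRing (A ⧸ J)] : Module.Finite k (ResidueField (A ⧸ J)) := by
  haveI : IsLocalHom (Ideal.Quotient.mk J) :=
    IsLocalHom.of_surjective _ Ideal.Quotient.mk_surjective
  let g : A →ₐ[k] ((A ⧸ J) ⧸ maximalIdeal (A ⧸ J)) :=
    (Ideal.Quotient.mkₐ k (maximalIdeal (A ⧸ J))).comp (Ideal.Quotient.mkₐ k J)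
  have hg : ∀ a ∈ maximalIdeal A, g a = 0 := by
    intro a ha
    show Ideal.Quotient.mk (maximalIdeal (A ⧸ J)) (Ideal.Quotient.mk J a) = 0
    rw [Ideal.Quotient.eq_zero_iff_mem]
    exact _root_.map_nonunit (Ideal.Quotient.mk J) a ha
  let g' : ResidueField A →ₐ[k] ((A ⧸ J) ⧸ maximalIdeal (A ⧸ J)) :=
    Ideal.Quotient.liftₐ (maximalIdeal A) g hg
  have hg' : Function.Surjective g' := by
    intro z
    obtain ⟨w, rfl⟩ := Ideal.Quotient.mk_surjective z
    obtain ⟨b, rfl⟩ := Ideal.Quotient.mk_surjective w
    exact ⟨IsLocalRing.residue A b, rfl⟩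
  exact Module.Finite.of_surjective g'.toLinearMap hg'

end Quot

section Phi

variable (k A : Type u) [Field k] [CommRing A] [IsLocalRing A] [IsNoetherianRing A] [Algebra k A]
  [IsAdicComplete (maximalIdeal A) A] [Module.Finite k (ResidueField A)]

theorem exists_Phi (q : Ideal A) [q.IsPrime] (n : ℕ) (hn : ringKrullDim (A ⧸ q) = n)
    (K : Type u) [Field K] [Algebra A K] [Algebra (A ⧸ q) K] [IsScalarTower A (A ⧸ q) K]
    [IsFractionRing (A ⧸ q) K] :
    ∃ Φ : AdicCompletion (maximalIdeal A) (Ω[A⁄k]) →ₗ[A] (Fin n → K),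
      Submodule.span K (Set.range Φ) = ⊤ := by
  classical
  let B := A ⧸ q
  haveI : Nontrivial B := Ideal.Quotient.nontrivial_iff.mpr (Ideal.IsPrime.ne_top ‹_›)
  haveI : IsLocalRing B :=
    IsLocalRing.of_surjective' (Ideal.Quotient.mk q) Ideal.Quotient.mk_surjective
  haveI : IsAdicComplete (maximalIdeal B) B := Groth.Agent.H61.isAdicComplete_quotient q
  haveI : Module.Finite k (ResidueField B) := finite_residueField_quotient k A q
  letI : Algebra k K := ((algebraMap B K).comp (algebraMap k B)).toAlgebra
  haveI : IsScalarTower k B K := IsScalarTower.of_algebraMap_eq (fun _ => rfl)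
  haveI : IsScalarTower k A K := IsScalarTower.of_algebraMap_eq (fun c => by
    show algebraMap B K (algebraMap k B c) = algebraMap A K (algebraMap k A c)
    rw [IsScalarTower.algebraMap_apply A B K, ← IsScalarTower.algebraMap_apply k A B])
  obtain ⟨D, L, hLfg, hDL, hspan⟩ :=
    Groth.Agent.H87.GenRankB.exists_derivations k B K n hn
  let DA : Fin n → Derivation k A K := fun j => (D j).compAlgebraMap A
  have hDA : ∀ j (a : A), DA j a = D j (algebraMap A B a) := fun j a => rfl
  let LA : Submodule A K := L.restrictScalars A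
  have hLAfg : LA.FG := by
    obtain ⟨S, hS⟩ := hLfg
    refine ⟨S, ?_⟩
    show Submodule.span A ↑S = Submodule.restrictScalars A L
    rw [← hS]
    exact (Submodule.restrictScalars_span A B Ideal.Quotient.mk_surjective (S : Set K)).symm
  haveI : Module.Finite A LA := Module.Finite.of_fg hLAfg
  have hmem : ∀ j (ω : Ω[A⁄k]), (DA j).liftKaehlerDifferential ω ∈ LA := by
    intro j ω
    have hω : ω ∈ Submodule.span A (Set.range (KaehlerDifferential.D k A)) := by
      rw [KaehlerDifferential.span_range_derivation]; trivial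
    induction hω using Submodule.span_induction with
    | mem x hx =>
      obtain ⟨a, rfl⟩ := hx
      rw [Derivation.liftKaehlerDifferential_comp_D]
      exact hDL j _
    | zero => rw [map_zero]; exact zero_mem _
    | add x y _ _ hx hy => rw [map_add]; exact add_mem hx hy
    | smul a x _ hx => rw [map_smul]; exact Submodule.smul_mem _ _ hx
  let N := Fin n → LA
  let Φ₀ : Ω[A⁄k] →ₗ[A] N :=
    LinearMap.pi fun j => ((DA j).liftKaehlerDifferential).codRestrict LA (hmem j)
  haveI : IsAdicComplete (maximalIdeal A) N :=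
    Groth.Agent.H87.ComplExact.isAdicComplete_of_finite (maximalIdeal A) N
  let incl : N →ₗ[A] (Fin n → K) := LinearMap.pi fun j => LA.subtype.comp (LinearMap.proj j)
  let Φ : AdicCompletion (maximalIdeal A) (Ω[A⁄k]) →ₗ[A] (Fin n → K) :=
    incl.comp ((AdicCompletion.ofLinearEquiv (maximalIdeal A) N).symm.toLinearMap.comp
      ((AdicCompletion.map (maximalIdeal A) Φ₀).restrictScalars A))
  have hΦ : ∀ a : A, Φ (AdicCompletion.of (maximalIdeal A) (Ω[A⁄k]) (KaehlerDifferential.D k A a)) =
      fun j => D j (algebraMap A B a) := by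
    intro a
    show incl ((AdicCompletion.ofLinearEquiv (maximalIdeal A) N).symm
      (AdicCompletion.map (maximalIdeal A) Φ₀ (AdicCompletion.of _ _ _))) = _
    rw [AdicCompletion.map_of, AdicCompletion.ofLinearEquiv_symm_of]
    ext j
    show ((DA j).liftKaehlerDifferential (KaehlerDifferential.D k A a) : K) = _
    rw [Derivation.liftKaehlerDifferential_comp_D]
    rfl
  refine ⟨Φ, ?_⟩
  rw [eq_top_iff, ← hspan]
  refine Submodule.span_mono ?_
  rintro _ ⟨b, rfl⟩
  obtain ⟨a, rfl⟩ := Ideal.Quotient.mk_surjective b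
  exact ⟨_, hΦ a⟩

end Phi

section G

variable {A : Type*} [CommRing A] {M : Type*} [AddCommGroup M] [Module A M]

/-- If `Φ : M → Kⁿ` has spanning image and `M_p` is generated by `r` elements, then `n ≤ r`. -/
theorem le_card_of_span_localized (p : Ideal A) [p.IsPrime] {K : Type*} [Field K] [Algebra A K]
    (hK : ∀ s ∈ p.primeCompl, algebraMap A K s ≠ 0) (n : ℕ) (Φ : M →ₗ[A] (Fin n → K))
    (hΦ : Submodule.span K (Set.range Φ) = ⊤) {r : ℕ}
    (g : Fin r → LocalizedModule p.primeCompl M)
    (hg : Submodule.span (Localization.AtPrime p) (Set.range g) = ⊤) : n ≤ r := by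
  classical
  have hu : ∀ s : p.primeCompl, IsUnit (algebraMap A (Module.End A (Fin n → K)) s) := by
    intro s
    have hs : algebraMap A K s ≠ 0 := hK s s.2
    rw [Module.End.isUnit_iff]
    constructor
    · intro v w hvw
      have h1 : algebraMap A K s • v = algebraMap A K s • w := by
        simpa [algebraMap_smul] using hvw
      exact smul_right_injective _ hs h1
    · intro v
      refine ⟨(algebraMap A K s)⁻¹ • v, ?_⟩
      show (s : A) • ((algebraMap A K s)⁻¹ • v) = v
      rw [← algebraMap_smul K (s : A), smul_smul, mul_inv_cancel₀ hs, one_smul]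
  let Ψ : LocalizedModule p.primeCompl M →ₗ[A] (Fin n → K) :=
    IsLocalizedModule.lift p.primeCompl (LocalizedModule.mkLinearMap p.primeCompl M) Φ hu
  have hΨ : ∀ m, Ψ (LocalizedModule.mkLinearMap p.primeCompl M m) = Φ m :=
    IsLocalizedModule.lift_apply p.primeCompl (LocalizedModule.mkLinearMap p.primeCompl M) Φ hu
  set T : Submodule K (Fin n → K) := Submodule.span K (Set.range (Ψ ∘ g)) with hT
  have key : ∀ x ∈ Submodule.span (Localization.AtPrime p) (Set.range g), Ψ x ∈ T := by
    intro x hx
    induction hx using Submodule.span_induction with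
    | mem x hx =>
      obtain ⟨i, rfl⟩ := hx
      exact Submodule.subset_span ⟨i, rfl⟩
    | zero => rw [map_zero]; exact zero_mem _
    | add x y _ _ hx hy => rw [map_add]; exact add_mem hx hy
    | smul z x _ hx =>
      obtain ⟨a, t, rfl⟩ := IsLocalization.exists_mk'_eq p.primeCompl z
      have h1 : (t : A) • (IsLocalization.mk' (Localization.AtPrime p) a t • x) = a • x := by
        rw [← algebraMap_smul (Localization.AtPrime p) (t : A), smul_smul,
          IsLocalization.mk'_spec', algebraMap_smul]
      have h2 : (t : A) • Ψ (IsLocalization.mk' (Localization.AtPrime p) a t • x) = a • Ψ x := by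
        rw [← map_smul, h1, map_smul]
      have ht : algebraMap A K t ≠ 0 := hK t t.2
      have h3 : Ψ (IsLocalization.mk' (Localization.AtPrime p) a t • x) =
          ((algebraMap A K t)⁻¹ * algebraMap A K a) • Ψ x := by
        rw [mul_smul, algebraMap_smul K a, ← h2, ← algebraMap_smul K (t : A), smul_smul,
          inv_mul_cancel₀ ht, one_smul]
      rw [h3]
      exact Submodule.smul_mem _ _ hx
  have hle : Submodule.span K (Set.range Φ) ≤ T := by
    rw [Submodule.span_le]
    rintro _ ⟨m, rfl⟩
    rw [← hΨ]
    exact key _ (by rw [hg]; trivial)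
  rw [hΦ, top_le_iff] at hle
  have h1 : Module.finrank K T = n := by
    rw [hle, finrank_top, Module.finrank_fin_fun]
  have h2 : Module.finrank K T ≤ r := by
    have := finrank_range_le_card (R := K) (Ψ ∘ g)
    simpa [Set.finrank, hT] using this
  omega

end G

end Groth.Agent.H87.GenRankC
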