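import Mathlib
import Groth.Agent.H87.GenRankA

/-!
# More auxiliary lemmas for EGA 0_IV 21.9: finite maps from power series rings, systems of
parameters avoiding a prime, unramifiedness at a prime, clearing denominators.
-/

set_option autoImplicit false
set_option maxHeartbeats 800000

namespace Groth.Agent.H87.GenRankF

open IsLocalRing

universe u

section FinitePS

variable (k B : Type u) [Field k] [CommRing B] [IsLocalRing B] [IsNoetherianRing B] [Algebra k B]
  [IsAdicComplete (maximalIdeal B) B] [Module.Finite k (ResidueField B)]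

/-- If `t₁,…,t_m ∈ 𝔪_B` generate an `𝔪_B`-primary ideal, then `k⟦T₁..T_m⟧ → B`, `Tᵢ ↦ tᵢ`
is finite. -/
theorem exists_finite_ps (m : ℕ) (t : Fin m → B) (ht : ∀ i, t i ∈ maximalIdeal B)
    (hprim : ∀ P : Ideal B, P.IsPrime → Ideal.span (Set.range t) ≤ P → P = maximalIdeal B) :
    ∃ F : MvPowerSeries (Fin m) k →ₐ[k] B, (∀ i, F (MvPowerSeries.X i) = t i) ∧
      F.toRingHom.Finite := by
  classical
  set J : Ideal B := Ideal.span (Set.range t) with hJ
  have hJm : J ≤ maximalIdeal B := by
    rw [hJ, Ideal.span_le]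
    rintro _ ⟨i, rfl⟩
    exact ht i
  obtain ⟨F, -, hFX⟩ := Groth.Agent.H87.PowEval.exists_mvEvalₐ (R := k) (k := k)
    (maximalIdeal B) (Algebra.ofId k B) t ht
  let P := MvPowerSeries (Fin m) k
  have hck : IsAdicComplete (maximalIdeal k) k := by
    rw [IsLocalRing.maximalIdeal_eq_bot]; infer_instance
  have hPc : IsAdicComplete (maximalIdeal P) P := Groth.Agent.H61.PS.isAdicComplete
  have hmap : (maximalIdeal P).map F.toRingHom = J := by
    rw [Groth.Agent.S2477.maximalIdeal_eq, Ideal.map_span, ← Set.range_comp, hJ]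
    congr 1
    ext b
    simp [hFX]
  refine ⟨F, hFX, ?_⟩
  letI : Algebra P B := F.toRingHom.toAlgebra
  haveI : IsScalarTower k P B := IsScalarTower.of_algebraMap_eq (fun c => (F.commutes c).symm)
  have hJtop : J ≠ ⊤ := fun h => (IsLocalRing.maximalIdeal.isMaximal B).ne_top
    (top_le_iff.mp (h ▸ hJm))
  haveI : Nontrivial (B ⧸ J) := Ideal.Quotient.nontrivial_iff.mpr hJtop
  haveI : IsLocalRing (B ⧸ J) :=
    IsLocalRing.of_surjective' (Ideal.Quotient.mk J) Ideal.Quotient.mk_surjective
  have hdim : Ring.KrullDimLE 0 (B ⧸ J) := by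
    rw [Ring.krullDimLE_zero_iff]
    intro q hq
    have h1 : (q.comap (Ideal.Quotient.mk J)).IsPrime := Ideal.comap_isPrime _ _
    have h2 : J ≤ q.comap (Ideal.Quotient.mk J) := by
      intro z hz
      rw [Ideal.mem_comap, Ideal.Quotient.eq_zero_iff_mem.mpr hz]
      exact Ideal.zero_mem _
    have h3 : q.comap (Ideal.Quotient.mk J) = maximalIdeal B := hprim _ h1 h2
    have h4 : q = (maximalIdeal B).map (Ideal.Quotient.mk J) := by
      rw [← h3, Ideal.map_comap_of_surjective _ Ideal.Quotient.mk_surjective]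
    rw [h4]
    exact Ideal.IsMaximal.map_of_surjective_of_ker_le Ideal.Quotient.mk_surjective
      (by rw [Ideal.mk_ker]; exact hJm)
  haveI hart : IsArtinianRing (B ⧸ J) := isArtinianRing_iff_krullDimLE_zero.mpr hdim
  haveI : IsLocalHom (Ideal.Quotient.mk J) :=
    IsLocalHom.of_surjective _ Ideal.Quotient.mk_surjective
  have hres : Module.Finite k ((B ⧸ J) ⧸ maximalIdeal (B ⧸ J)) := by
    let g : B →ₐ[k] ((B ⧸ J) ⧸ maximalIdeal (B ⧸ J)) :=
      (Ideal.Quotient.mkₐ k (maximalIdeal (B ⧸ J))).comp (Ideal.Quotient.mkₐ k J)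
    have hg : ∀ a ∈ maximalIdeal B, g a = 0 := by
      intro a ha
      show Ideal.Quotient.mk (maximalIdeal (B ⧸ J)) (Ideal.Quotient.mk J a) = 0
      rw [Ideal.Quotient.eq_zero_iff_mem]
      exact _root_.map_nonunit (Ideal.Quotient.mk J) a ha
    let g' : ResidueField B →ₐ[k] ((B ⧸ J) ⧸ maximalIdeal (B ⧸ J)) :=
      Ideal.Quotient.liftₐ (maximalIdeal B) g hg
    have hg' : Function.Surjective g' := by
      intro z
      obtain ⟨w, rfl⟩ := Ideal.Quotient.mk_surjective z
      obtain ⟨b, rfl⟩ := Ideal.Quotient.mk_surjective w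
      exact ⟨IsLocalRing.residue B b, rfl⟩
    exact Module.Finite.of_surjective g'.toLinearMap hg'
  have hfinJ : Module.Finite k (B ⧸ J) := Groth.Agent.S9622.finite_of_finite_quotient hres
  have hHaus : IsHausdorff ((maximalIdeal P).map (algebraMap P B)) B :=
    IsHausdorff.of_isLocalRing _ _ (by
      show (maximalIdeal P).map F.toRingHom ≠ ⊤
      rw [hmap]; exact hJtop)
  haveI hHaus' : IsHausdorff (maximalIdeal P) B := IsHausdorff.map_algebraMap_iff.mp hHaus
  have h9 : (maximalIdeal P • ⊤ : Submodule P B) = Submodule.restrictScalars P J := by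
    rw [Ideal.smul_top_eq_map]
    congr 1
  have hq : Module.Finite P (B ⧸ (maximalIdeal P • ⊤ : Submodule P B)) := by
    rw [h9]
    haveI : Module.Finite P (B ⧸ J) := Module.Finite.of_restrictScalars_finite k P (B ⧸ J)
    exact Module.Finite.equiv (Submodule.Quotient.restrictScalarsEquiv P J).symm
  have := Groth.Agent.H15.AdicVal.finite_of_finite_quotient (maximalIdeal P) (M := B) hq
  exact this

omit [IsNoetherianRing B] [IsAdicComplete (maximalIdeal B) B] [Module.Finite k (ResidueField B)] in
/-- a `k`-algebra map from a power series ring sending the variables into `𝔪_B` is local. -/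
theorem isLocalHom_of_X_mem (m : ℕ) (F : MvPowerSeries (Fin m) k →ₐ[k] B)
    (hF : ∀ i, F (MvPowerSeries.X i) ∈ maximalIdeal B) : IsLocalHom F.toRingHom := by
  refine ⟨fun f hf => ?_⟩
  by_contra hnu
  have h1 : f ∈ maximalIdeal (MvPowerSeries (Fin m) k) := hnu
  rw [Groth.Agent.S2477.maximalIdeal_eq] at h1
  have h2 : F.toRingHom f ∈ (Ideal.span (Set.range
      (MvPowerSeries.X : Fin m → MvPowerSeries (Fin m) k))).map F.toRingHom :=
    Ideal.mem_map_of_mem _ h1
  rw [Ideal.map_span, ← Set.range_comp] at h2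
  have h3 : Ideal.span (Set.range (F.toRingHom ∘ (MvPowerSeries.X : Fin m → _))) ≤
      maximalIdeal B := by
    rw [Ideal.span_le]
    rintro _ ⟨i, rfl⟩
    exact hF i
  exact (h3 h2) hf

end FinitePS

section Sop

variable (A : Type*) [CommRing A] [IsLocalRing A] [IsNoetherianRing A]

/-- a system of parameters avoiding a given non-maximal prime. -/
theorem exists_sop_notMem (p : Ideal A) [p.IsPrime] (hp : p ≠ maximalIdeal A) (n : ℕ)
    (hn : ringKrullDim A = n) :
    ∃ x : Fin n → A, (∀ i, x i ∈ maximalIdeal A ∧ x i ∉ p) ∧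
      ∀ P : Ideal A, P.IsPrime → Ideal.span (Set.range x) ≤ P → P = maximalIdeal A := by
  classical
  obtain ⟨s, hs_min, hs_card⟩ :=
    Ideal.exists_finset_card_eq_height_of_isNoetherianRing (maximalIdeal A)
  have hcard : s.card = n := by
    have h1 : ((s.card : ℕ∞) : WithBot ℕ∞) = ringKrullDim A := by
      rw [← IsLocalRing.maximalIdeal_height_eq_ringKrullDim, ← hs_card]
    rw [hn] at h1
    exact_mod_cast h1
  let e : Fin n ≃ s := (finCongr hcard.symm).trans s.equivFin.symm
  let y : Fin n → A := fun i => (e i : A)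
  have hrange : Set.range y = (s : Set A) := by
    ext b
    constructor
    · rintro ⟨i, rfl⟩
      exact (e i).2
    · intro hb
      exact ⟨e.symm ⟨b, hb⟩, by simp [y]⟩
  set J : Ideal A := Ideal.span (s : Set A) with hJ
  have hJm : J ≤ maximalIdeal A := hs_min.1.2
  have hrad : maximalIdeal A ≤ J.radical := by
    rw [Ideal.radical_eq_sInf]
    refine le_sInf ?_
    rintro P ⟨hJP, hP⟩
    exact hs_min.2 ⟨hP, hJP⟩ (IsLocalRing.le_maximalIdeal hP.ne_top)
  obtain ⟨N, hN⟩ := Ideal.exists_pow_le_of_le_radical_of_fg hrad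
    (maximalIdeal A).fg_of_isNoetherianRing
  obtain ⟨w, hwm, hwp⟩ : ∃ w ∈ maximalIdeal A, w ∉ p := by
    by_contra h
    push Not at h
    exact hp (le_antisymm (IsLocalRing.le_maximalIdeal (Ideal.IsPrime.ne_top ‹_›)) h)
  let x : Fin n → A := fun i => if y i ∈ p then y i + w ^ (N + 1) else y i
  have hym : ∀ i, y i ∈ maximalIdeal A := fun i => hJm (Ideal.subset_span (e i).2)
  have hx_pos : ∀ i, y i ∈ p → x i = y i + w ^ (N + 1) := fun i h => if_pos h
  have hx_neg : ∀ i, y i ∉ p → x i = y i := fun i h => if_neg h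
  have hxm : ∀ i, x i ∈ maximalIdeal A := by
    intro i
    by_cases hyi : y i ∈ p
    · rw [hx_pos i hyi]
      exact add_mem (hym i) (Ideal.pow_mem_of_mem _ hwm _ (Nat.succ_pos N))
    · rw [hx_neg i hyi]
      exact hym i
  have hxp : ∀ i, x i ∉ p := by
    intro i
    by_cases hyi : y i ∈ p
    · rw [hx_pos i hyi]
      intro h
      have h1 : w ^ (N + 1) ∈ p := by
        have := sub_mem h hyi
        rwa [add_sub_cancel_left] at this
      exact hwp (Ideal.IsPrime.mem_of_pow_mem ‹_› _ h1)
    · rw [hx_neg i hyi]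
      exact hyi
  have hJle : J ≤ Ideal.span (Set.range x) := by
    refine Submodule.le_of_le_smul_of_le_jacobson_bot (I := maximalIdeal A)
      (IsNoetherian.noetherian J) (IsLocalRing.maximalIdeal_le_jacobson ⊥) ?_
    rw [hJ, Ideal.span_le]
    intro b hb
    obtain ⟨i, rfl⟩ : ∃ i, y i = b := by
      rw [← hrange] at hb; exact hb
    by_cases hyi : y i ∈ p
    · have h1 : y i = x i - w ^ (N + 1) := by
        rw [hx_pos i hyi, add_sub_cancel_right]
      rw [SetLike.mem_coe, h1]
      refine sub_mem (Submodule.mem_sup_left (Ideal.subset_span ⟨i, rfl⟩))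
        (Submodule.mem_sup_right ?_)
      rw [pow_succ', ← smul_eq_mul]
      exact Submodule.smul_mem_smul hwm (hN (Ideal.pow_mem_pow hwm N))
    · have h1 : y i = x i := (hx_neg i hyi).symm
      rw [SetLike.mem_coe, h1]
      exact Submodule.mem_sup_left (Ideal.subset_span ⟨i, rfl⟩)
  refine ⟨x, fun i => ⟨hxm i, hxp i⟩, fun P hP hle => ?_⟩
  exact le_antisymm (IsLocalRing.le_maximalIdeal hP.ne_top)
    (hs_min.2 ⟨hP, hJle.trans hle⟩ (IsLocalRing.le_maximalIdeal hP.ne_top))

end Sop

section Unram

variable {R A : Type*} [CommRing R] [CommRing A] [Algebra R A]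

theorem isUnramifiedAt_iff (p : Ideal A) [p.IsPrime] :
    Algebra.IsUnramifiedAt R p ↔ ∀ y : Ω[A⁄R], ∃ r : A, r ∉ p ∧ r • y = 0 := by
  have h1 : Algebra.IsUnramifiedAt R p ↔
      (⟨p, inferInstance⟩ : PrimeSpectrum A) ∈ Algebra.unramifiedLocus R A := Iff.rfl
  rw [h1, Algebra.unramifiedLocus_eq_compl_support, Set.mem_compl_iff,
    Module.notMem_support_iff']

end Unram

section Clear

variable {A M : Type*} [CommRing A] [AddCommGroup M] [Module A M]

/-- clearing denominators in a span over the localization. -/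
theorem exists_smul_mem_span (p : Ideal A) [p.IsPrime] (S : Set M) (x : M)
    (hx : LocalizedModule.mkLinearMap p.primeCompl M x ∈
      Submodule.span (Localization.AtPrime p) (LocalizedModule.mkLinearMap p.primeCompl M '' S)) :
    ∃ s : A, s ∉ p ∧ s • x ∈ Submodule.span A S := by
  rw [← Submodule.localized'_span (Localization.AtPrime p) p.primeCompl
    (LocalizedModule.mkLinearMap p.primeCompl M)] at hx
  obtain ⟨m, hm, s, hms⟩ := hx
  rw [IsLocalizedModule.mk'_eq_iff, Submonoid.smul_def, ← map_smul] at hms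
  obtain ⟨t, ht⟩ := (IsLocalizedModule.eq_iff_exists p.primeCompl _).mp hms
  refine ⟨(t * s : p.primeCompl), (t * s).2, ?_⟩
  have h1 : ((t * s : p.primeCompl) : A) • x = t • ((s : A) • x) := by
    rw [Submonoid.coe_mul, mul_smul]; rfl
  rw [h1, ← ht, Submonoid.smul_def]
  exact Submodule.smul_mem _ _ hm

/-- elements of the form `m/1` with `m ∈ span S` lie in the span of `S/1`. -/
theorem mk_mem_span (p : Ideal A) [p.IsPrime] (S : Set M) (x : M) (hx : x ∈ Submodule.span A S) :
    LocalizedModule.mkLinearMap p.primeCompl M x ∈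
      Submodule.span (Localization.AtPrime p) (LocalizedModule.mkLinearMap p.primeCompl M '' S) := by
  induction hx using Submodule.span_induction with
  | mem y hy => exact Submodule.subset_span ⟨y, hy, rfl⟩
  | zero => rw [map_zero]; exact Submodule.zero_mem _
  | add y z _ _ hy hz => rw [map_add]; exact Submodule.add_mem _ hy hz
  | smul r y _ hy =>
    rw [map_smul, ← algebraMap_smul (Localization.AtPrime p) r]
    exact Submodule.smul_mem _ _ hy

/-- if `s • x` (with `s ∉ p`) lies in `span S` then `x/1` lies in the span of `S/1`. -/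
theorem mk_mem_span_of_smul (p : Ideal A) [p.IsPrime] (S : Set M) (x : M) (s : A) (hs : s ∉ p)
    (hx : s • x ∈ Submodule.span A S) :
    LocalizedModule.mkLinearMap p.primeCompl M x ∈
      Submodule.span (Localization.AtPrime p) (LocalizedModule.mkLinearMap p.primeCompl M '' S) := by
  have h1 := mk_mem_span p S _ hx
  have h2 : LocalizedModule.mkLinearMap p.primeCompl M x =
      Localization.mk (1 : A) (⟨s, hs⟩ : p.primeCompl) •
        LocalizedModule.mkLinearMap p.primeCompl M (s • x) := by
    rw [LocalizedModule.mkLinearMap_apply, LocalizedModule.mkLinearMap_apply,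
      LocalizedModule.mk_smul_mk, one_smul, mul_one]
    exact (LocalizedModule.mk_cancel (⟨s, hs⟩ : p.primeCompl) x).symm
  rw [h2]
  exact Submodule.smul_mem _ _ h1

/-- generators of `M_p` from `∀ x, ∃ s ∉ p, s • x ∈ span S`. -/
theorem span_localized_eq_top (p : Ideal A) [p.IsPrime] (S : Set M)
    (h : ∀ x : M, ∃ s : A, s ∉ p ∧ s • x ∈ Submodule.span A S) :
    Submodule.span (Localization.AtPrime p) (LocalizedModule.mkLinearMap p.primeCompl M '' S) = ⊤ := by
  rw [eq_top_iff]
  rintro x -
  induction x using LocalizedModule.induction_on with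
  | h m t =>
    have h1 : LocalizedModule.mk m t =
        Localization.mk (1 : A) t • LocalizedModule.mkLinearMap p.primeCompl M m := by
      rw [LocalizedModule.mkLinearMap_apply, LocalizedModule.mk_smul_mk, one_smul, mul_one]
    rw [h1]
    obtain ⟨s, hs, hsm⟩ := h m
    exact Submodule.smul_mem _ _ (mk_mem_span_of_smul p S m s hs hsm)

end Clear

end Groth.Agent.H87.GenRankF
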