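import Mathlib
import Groth.Agent.H44.PSGeomRed
import Groth.Agent.H71.RegularLoc
import Groth.Prelude.Def_Found

/-!
# `k⟦T₁..Tₙ⟧` is geometrically regular over `k`
-/

set_option autoImplicit false
set_option maxHeartbeats 800000

namespace Groth.Agent.H87.GenRankG

open TensorProduct

universe u

section psi

variable (k E : Type u) [Field k] [Field E] [Algebra k E] (σ : Type)

theorem psi_surjective [FiniteDimensional k E] :
    Function.Surjective (Groth.Agent.H44.PSGeomRed.psi k E σ) := by
  classical
  intro g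
  let b := Module.finBasis k E
  let gi : Fin (Module.finrank k E) → MvPowerSeries σ k := fun i α =>
    b.repr (MvPowerSeries.coeff α g) i
  refine ⟨∑ i, gi i ⊗ₜ[k] b i, ?_⟩
  refine MvPowerSeries.ext fun α => ?_
  rw [map_sum, map_sum]
  simp only [Groth.Agent.H44.PSGeomRed.coeff_psi_tmul]
  have h1 : ∀ i, MvPowerSeries.coeff α (gi i) = b.repr (MvPowerSeries.coeff α g) i := fun i => rfl
  simp only [h1]
  exact b.sum_repr _

noncomputable def psiEquiv [FiniteDimensional k E] :
    MvPowerSeries σ k ⊗[k] E ≃ₐ[k] MvPowerSeries σ E :=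
  AlgEquiv.ofBijective (Groth.Agent.H44.PSGeomRed.psi k E σ)
    ⟨Groth.Agent.H44.PSGeomRed.psi_injective k E σ, psi_surjective k E σ⟩

end psi

theorem isGeometricallyRegular_mvPowerSeries (k : Type u) [Field k] (n : ℕ) :
    CAlg.IsGeometricallyRegular k (MvPowerSeries (Fin n) k) := by
  intro k' _ _ hfin
  haveI : FiniteDimensional k k' := hfin
  haveI : IsRegularRing k' := inferInstance
  haveI : IsRegularRing (MvPowerSeries (Fin n) k') :=
    Groth.Agent.H71.RL.mvPowerSeries_isRegularRing k' n
  exact IsRegularRing.of_ringEquiv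
    ((psiEquiv k k' (Fin n)).symm.toRingEquiv.trans
      (Algebra.TensorProduct.comm k (MvPowerSeries (Fin n) k) k').toRingEquiv)

end Groth.Agent.H87.GenRankG
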