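import Mathlib
import Groth.Agent.H87.GenRankG
import Groth.Agent.H70.UnramUnibranch
import Groth.Agent.H70.NormalFibre
import Groth.Agent.H47.EtaleNormal
import Groth.Agent.H48.StalkLocal2
import Groth.Agent.H63.SmoothRegular2
import Groth.Agent.H44.GeomRegLoc
import Groth.Agent.S9829
import Groth.Agent.H54.IntegralDim
import Groth.Agent.H61.ObsDimMain

/-!
# Unramified at `p` + top-dimensional component ⇒ étale at `p` (over `k⟦T₁..Tₙ⟧`), and consequences
-/

set_option autoImplicit false
set_option maxHeartbeats 800000

namespace Groth.Agent.H87.GenRankH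

open IsLocalRing TensorProduct

universe u

section Free

variable {A : Type*} [CommRing A] {M : Type*} [AddCommGroup M] [Module A M]

/-- in a localization which is a domain, a minimal prime below `p` dies. -/
theorem algebraMap_eq_zero_of_mem_minimalPrime (p q : Ideal A) [p.IsPrime]
    [IsDomain (Localization.AtPrime p)] (hq : q ∈ minimalPrimes A) (hqp : q ≤ p) (a : A)
    (ha : a ∈ q) : algebraMap A (Localization.AtPrime p) a = 0 := by
  set N := RingHom.ker (algebraMap A (Localization.AtPrime p)) with hN
  haveI : N.IsPrime := RingHom.ker_isPrime _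
  have hNq : N ≤ q := by
    intro x hx
    rw [hN, RingHom.mem_ker, IsLocalization.map_eq_zero_iff p.primeCompl] at hx
    obtain ⟨s, hs⟩ := hx
    have h1 : (s : A) * x ∈ q := by rw [hs]; exact zero_mem _
    exact (hq.1.1.mem_or_mem h1).resolve_left (fun h => s.2 (hqp h))
  have h2 : q ≤ N := hq.2 ⟨inferInstance, bot_le⟩ hNq
  exact h2 ha

/-- `n` generators of `M_p` are linearly independent when `M` maps onto a spanning subset of `Kⁿ`
for a field `K` into which `A_p` embeds. -/
theorem linearIndependent_of_span_localized (p : Ideal A) [p.IsPrime] {K : Type*} [Field K]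
    [Algebra A K] (hK : ∀ s ∈ p.primeCompl, algebraMap A K s ≠ 0)
    (hker : ∀ a : A, algebraMap A K a = 0 → algebraMap A (Localization.AtPrime p) a = 0)
    (n : ℕ) (Φ : M →ₗ[A] (Fin n → K)) (hΦ : Submodule.span K (Set.range Φ) = ⊤)
    (g : Fin n → LocalizedModule p.primeCompl M)
    (hg : Submodule.span (Localization.AtPrime p) (Set.range g) = ⊤) :
    LinearIndependent (Localization.AtPrime p) g := by
  classical
  let ι : Localization.AtPrime p →+* K :=
    IsLocalization.lift (M := p.primeCompl) (g := algebraMap A K)
      (fun s => (hK s s.2).isUnit)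
  letI : Algebra (Localization.AtPrime p) K := ι.toAlgebra
  haveI : IsScalarTower A (Localization.AtPrime p) K :=
    IsScalarTower.of_algebraMap_eq (fun a => (IsLocalization.lift_eq _ a).symm)
  have hu : ∀ s : p.primeCompl, IsUnit (algebraMap A (Module.End A (Fin n → K)) s) := by
    intro s
    have hs : algebraMap A K s ≠ 0 := hK s s.2
    rw [Module.End.isUnit_iff]
    constructor
    · intro v w hvw
      have h1 : algebraMap A K s • v = algebraMap A K s • w := by
        simpa [algebraMap_smul] using hvw
      exact smul_right_injective _ hs h1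
    · intro v
      refine ⟨(algebraMap A K s)⁻¹ • v, ?_⟩
      show (s : A) • ((algebraMap A K s)⁻¹ • v) = v
      rw [← algebraMap_smul K (s : A), smul_smul, mul_inv_cancel₀ hs, one_smul]
  let Ψ : LocalizedModule p.primeCompl M →ₗ[A] (Fin n → K) :=
    IsLocalizedModule.lift p.primeCompl (LocalizedModule.mkLinearMap p.primeCompl M) Φ hu
  have hΨ : ∀ m, Ψ (LocalizedModule.mkLinearMap p.primeCompl M m) = Φ m :=
    IsLocalizedModule.lift_apply p.primeCompl (LocalizedModule.mkLinearMap p.primeCompl M) Φ hu
  let Ψ' : LocalizedModule p.primeCompl M →ₗ[Localization.AtPrime p] (Fin n → K) :=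
    Ψ.extendScalarsOfIsLocalization p.primeCompl (Localization.AtPrime p)
  have hΨ' : ∀ x, Ψ' x = Ψ x := fun x => rfl
  set T : Submodule K (Fin n → K) := Submodule.span K (Set.range (Ψ' ∘ g)) with hT
  have key : ∀ x ∈ Submodule.span (Localization.AtPrime p) (Set.range g), Ψ' x ∈ T := by
    intro x hx
    induction hx using Submodule.span_induction with
    | mem x hx =>
      obtain ⟨i, rfl⟩ := hx
      exact Submodule.subset_span ⟨i, rfl⟩
    | zero => rw [map_zero]; exact zero_mem _
    | add x y _ _ hx hy => rw [map_add]; exact add_mem hx hy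
    | smul z x _ hx =>
      rw [map_smul, ← algebraMap_smul K z]
      exact Submodule.smul_mem _ _ hx
  have hle : Submodule.span K (Set.range Φ) ≤ T := by
    rw [Submodule.span_le]
    rintro _ ⟨m, rfl⟩
    rw [← hΨ, ← hΨ']
    exact key _ (by rw [hg]; trivial)
  rw [hΦ] at hle
  have hli : LinearIndependent K (Ψ' ∘ g) :=
    linearIndependent_of_top_le_span_of_card_eq_finrank hle
      (by rw [Fintype.card_fin, Module.finrank_fin_fun])
  rw [Fintype.linearIndependent_iff]
  intro c hc i
  have h1 : ∑ j, algebraMap (Localization.AtPrime p) K (c j) • (Ψ' ∘ g) j = 0 := by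
    have := congrArg Ψ' hc
    rw [map_sum, map_zero] at this
    rw [← this]
    refine Finset.sum_congr rfl fun j _ => ?_
    rw [map_smul, algebraMap_smul]
    rfl
  have h2 := Fintype.linearIndependent_iff.mp hli _ h1 i
  -- `ι (c i) = 0 ⇒ c i = 0`
  obtain ⟨a, t, hat⟩ := IsLocalization.exists_mk'_eq p.primeCompl (c i)
  have h3 : c i * algebraMap A (Localization.AtPrime p) t = algebraMap A (Localization.AtPrime p) a := by
    rw [← hat, IsLocalization.mk'_spec]
  have h4 : algebraMap A K a = 0 := by
    rw [IsScalarTower.algebraMap_apply A (Localization.AtPrime p) K, ← h3, map_mul, h2, zero_mul]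
  have h5 := hker a h4
  rw [h5] at h3
  have htu : IsUnit (algebraMap A (Localization.AtPrime p) t) :=
    IsLocalization.map_units (Localization.AtPrime p) t
  exact (htu.mul_left_eq_zero).mp h3

end Free

section Etale

variable (k : Type u) [Field k] (n : ℕ) (A : Type u) [CommRing A]
  [Algebra (MvPowerSeries (Fin n) k) A] [Module.Finite (MvPowerSeries (Fin n) k) A]

/-- finite over `k⟦T₁..Tₙ⟧` and a quotient domain of dimension `n` ⇒ the quotient map is injective. -/
theorem injective_algebraMap_quotient (q : Ideal A) [q.IsPrime]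
    (hdim : ringKrullDim (A ⧸ q) = n) :
    Function.Injective (algebraMap (MvPowerSeries (Fin n) k) (A ⧸ q)) := by
  haveI := Groth.Agent.H61.Obs.ps_isRegularLocalRing (k := k) n
  haveI : IsDomain (MvPowerSeries (Fin n) k) := NoZeroDivisors.to_isDomain _
  set f := algebraMap (MvPowerSeries (Fin n) k) (A ⧸ q) with hf
  by_contra hinj
  have hker : RingHom.ker f ≠ ⊥ :=
    fun h => hinj ((RingHom.injective_iff_ker_eq_bot f).2 h)
  obtain ⟨r, hr, hr0⟩ := Submodule.exists_mem_ne_zero_of_ne_bot hker
  have h1 := ringKrullDim_succ_le_of_surjective (Ideal.Quotient.mk (RingHom.ker f))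
    Ideal.Quotient.mk_surjective (mem_nonZeroDivisors_of_ne_zero hr0)
    (Ideal.Quotient.eq_zero_iff_mem.mpr hr)
  have hfint : f.IsIntegral := algebraMap_isIntegral_iff.mpr inferInstance
  have hint : (RingHom.kerLift f).IsIntegral := by
    refine RingHom.IsIntegral.tower_top (Ideal.Quotient.mk (RingHom.ker f))
      (RingHom.kerLift f) ?_
    have h5 : (RingHom.kerLift f).comp (Ideal.Quotient.mk (RingHom.ker f)) = f := by
      ext z; rfl
    rw [h5]
    exact hfint
  have h2 : ringKrullDim (A ⧸ q) = ringKrullDim (MvPowerSeries (Fin n) k ⧸ RingHom.ker f) :=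
    Groth.Agent.H54.ringKrullDim_eq_of_ringHom_isIntegral_of_injective
      (RingHom.kerLift f) hint (RingHom.kerLift_injective f)
  rw [← h2, hdim, Groth.Agent.H61.Obs.ps_dim_eq] at h1
  have h3 : (n + 1 : ℕ) ≤ n := by exact_mod_cast h1
  omega

/-- **EGA 0_IV 21.9/22**: finite over `k⟦T₁..Tₙ⟧`, unramified at `p`, and `p` contains a prime `q`
with `dim A/q = n`: then `A` is étale over the power series ring at `p`. -/
theorem isEtaleAt_of_unramified (p : Ideal A) [p.IsPrime]
    (hunr : Algebra.IsUnramifiedAt (MvPowerSeries (Fin n) k) p)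
    (q : Ideal A) [q.IsPrime] (hqp : q ≤ p) (hdim : ringKrullDim (A ⧸ q) = n) :
    Algebra.IsEtaleAt (MvPowerSeries (Fin n) k) p := by
  classical
  haveI hreg := Groth.Agent.H61.Obs.ps_isRegularLocalRing (k := k) n
  haveI : IsNoetherianRing (MvPowerSeries (Fin n) k) := inferInstance
  haveI : IsDomain (MvPowerSeries (Fin n) k) := NoZeroDivisors.to_isDomain _
  haveI : IsIntegrallyClosed (MvPowerSeries (Fin n) k) := Groth.Agent.S9829.result _
  have hinjq := injective_algebraMap_quotient k n A q hdim
  let r : Ideal (MvPowerSeries (Fin n) k) := p.under (MvPowerSeries (Fin n) k)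
  haveI : r.IsPrime := Ideal.IsPrime.under _ p
  haveI : p.LiesOver r := Ideal.over_under p
  letI := Localization.AtPrime.algebraOfLiesOver r p
  have hinj : Function.Injective
      (algebraMap (Localization.AtPrime r) (Localization.AtPrime p)) := by
    rw [injective_iff_map_eq_zero]
    intro x hx
    obtain ⟨a, s, rfl⟩ := IsLocalization.exists_mk'_eq r.primeCompl x
    rw [Localization.AtPrime.IsLiesOverAlgebra.algebraMap_eq, Localization.localRingHom_mk',
      IsLocalization.mk'_eq_zero_iff] at hx
    obtain ⟨t, ht⟩ := hx
    have h1 : Ideal.Quotient.mk q (t : A) *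
        algebraMap (MvPowerSeries (Fin n) k) (A ⧸ q) a = 0 := by
      have : algebraMap (MvPowerSeries (Fin n) k) (A ⧸ q) a =
          Ideal.Quotient.mk q (algebraMap (MvPowerSeries (Fin n) k) A a) := rfl
      rw [this, ← map_mul, ht, map_zero]
    have h2 : Ideal.Quotient.mk q (t : A) ≠ 0 := by
      rw [Ne, Ideal.Quotient.eq_zero_iff_mem]
      exact fun h => t.2 (hqp h)
    have h3 : algebraMap (MvPowerSeries (Fin n) k) (A ⧸ q) a = 0 :=
      (mul_eq_zero.mp h1).resolve_left h2
    have h4 : a = 0 := hinjq (by rw [h3, map_zero])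
    rw [h4, IsLocalization.mk'_zero]
  haveI : Algebra.FormallyUnramified (MvPowerSeries (Fin n) k) (Localization.AtPrime p) := hunr
  haveI : Algebra.EssFiniteType (MvPowerSeries (Fin n) k) (Localization.AtPrime p) :=
    .comp (MvPowerSeries (Fin n) k) A (Localization.AtPrime p)
  haveI : Algebra.EssFiniteType (Localization.AtPrime r) (Localization.AtPrime p) :=
    .of_comp (MvPowerSeries (Fin n) k) _ _
  haveI : Algebra.FormallyUnramified (Localization.AtPrime r) (Localization.AtPrime p) :=
    .of_restrictScalars (MvPowerSeries (Fin n) k) _ _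
  haveI : IsLocalHom (algebraMap (Localization.AtPrime r) (Localization.AtPrime p)) := by
    rw [Localization.AtPrime.IsLiesOverAlgebra.algebraMap_eq]; infer_instance
  haveI : IsIntegrallyClosed (Localization.AtPrime r) :=
    isIntegrallyClosed_of_isLocalization (Localization.AtPrime r) r.primeCompl
      r.primeCompl_le_nonZeroDivisors
  have hflat : Module.Flat (Localization.AtPrime r) (Localization.AtPrime p) :=
    Groth.Agent.H70.UnramUnibranch.flat_of_unramified_of_injective _ _
      (Groth.Agent.H70.NormalFibre.isGeomUnibranch_of_isIntegrallyClosed _) hinj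
  haveI : Algebra.FiniteType (MvPowerSeries (Fin n) k) A := inferInstance
  haveI : Algebra.FinitePresentation (MvPowerSeries (Fin n) k) A :=
    Algebra.FinitePresentation.of_finiteType.mp inferInstance
  exact (Groth.Agent.H48.isEtaleAt_iff_flat_unramified (MvPowerSeries (Fin n) k) A r p).mpr
    ⟨hflat, hunr⟩

end Etale

section Normal

variable (k : Type u) [Field k] (R A : Type u) [CommRing R] [IsDomain R] [IsIntegrallyClosed R]
  [CommRing A] [Algebra R A] [Algebra.FinitePresentation R A] [Algebra k R] [Algebra k A]
  [IsScalarTower k R A]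

/-- étale at `p` over a normal domain: `A_p` is a domain, and geometrically regular over `k`
when the base is. -/
theorem atPrime_of_isEtaleAt (p : Ideal A) [p.IsPrime] [Algebra.IsEtaleAt R p] :
    IsDomain (Localization.AtPrime p) ∧
      (CAlg.IsGeometricallyRegular k R → CAlg.IsGeometricallyRegular k (Localization.AtPrime p)) := by
  classical
  obtain ⟨g, hg, hEt⟩ := Algebra.exists_etale_of_isEtaleAt (R := R) p
  have hdisj : Disjoint (Submonoid.powers g : Set A) p := by
    rw [Set.disjoint_left]
    rintro _ ⟨m, rfl⟩ hm
    exact hg (Ideal.IsPrime.mem_of_pow_mem ‹_› m hm)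
  set q' : Ideal (Localization.Away g) := p.map (algebraMap A (Localization.Away g)) with hq'
  haveI hq'prime : q'.IsPrime :=
    IsLocalization.isPrime_of_isPrime_disjoint (Submonoid.powers g) _ p ‹_› hdisj
  have hcomap : q'.comap (algebraMap A (Localization.Away g)) = p :=
    IsLocalization.comap_map_of_isPrime_disjoint (Submonoid.powers g) _ ‹_› hdisj
  haveI h1 : IsLocalization.AtPrime (Localization.AtPrime q')
      (q'.comap (algebraMap A (Localization.Away g))) :=
    IsLocalization.isLocalization_isLocalization_atPrime_isLocalization (Submonoid.powers g)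
      (Localization.AtPrime q') q'
  haveI h2 : IsLocalization.AtPrime (Localization.AtPrime q') p := by
    have := h1
    simp only [hcomap] at this
    exact this
  obtain ⟨hdom, -⟩ := Groth.Agent.H47.EtaleNormal.isDomain_isIntegrallyClosed_atPrime R
    (Localization.Away g) q' (Localization.AtPrime q')
  let e : Localization.AtPrime p ≃ₐ[A] Localization.AtPrime q' :=
    IsLocalization.algEquiv p.primeCompl _ _
  refine ⟨e.toRingEquiv.toMulEquiv.isDomain_iff.mpr hdom, fun hR => ?_⟩
  haveI : Algebra.Smooth R (Localization.Away g) := inferInstance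
  have hS : CAlg.IsGeometricallyRegular k (Localization.Away g) :=
    Groth.Agent.H63.SmoothRegular.isGeometricallyRegular_of_smooth k R (Localization.Away g) hR
  have hT : CAlg.IsGeometricallyRegular k (Localization.AtPrime q') :=
    Groth.Agent.H44.GeomRegLoc.isGeometricallyRegular_of_isLocalization k (Localization.Away g)
      q'.primeCompl (Localization.AtPrime q') hS
  intro k' _ _ hfin
  haveI : IsRegularRing (k' ⊗[k] Localization.AtPrime q') := hT k' hfin
  haveI : IsScalarTower k A (Localization.AtPrime q') :=
    IsScalarTower.of_algebraMap_eq (fun x => by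
      rw [IsScalarTower.algebraMap_apply k (Localization.Away g) (Localization.AtPrime q'),
        IsScalarTower.algebraMap_apply k A (Localization.Away g),
        ← IsScalarTower.algebraMap_apply A (Localization.Away g) (Localization.AtPrime q')])
  exact IsRegularRing.of_ringEquiv
    (Algebra.TensorProduct.congr (AlgEquiv.refl (R := k) (A₁ := k'))
      (e.restrictScalars k)).symm.toRingEquiv

end Normal

end Groth.Agent.H87.GenRankH
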