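import Mathlib
import Groth.Prelude.Def_Found
import Groth.Agent.H44.FracKaehler2
import Groth.Agent.H44.GeomRegLoc
import Groth.Agent.H44.PSKaehlerFin
import Groth.Agent.S4540
import Groth.Agent.S4537
import Groth.Agent.H14.FreeQuot
import Groth.Agent.Lead.GeomReg
import Groth.Agent.H23.RegularLocal
import Groth.Agent.H87.GenRankF
import Groth.Agent.H87.GenRankC
import Groth.Agent.H87.GenRankH
import Groth.Agent.H87.ComplExact

/-!
# EGA 0_IV 22.7.3 (d) ⇒ (b), characteristic `p > 0` with `[k : k^p] < ∞`

`A` complete Noetherian local `k`-algebra with residue field finite over `k`, `P` a prime with `A_P`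
geometrically regular over `k`: then `(Ω̂_{A/k})_P` is free of rank `dim A/q` (`q ⊆ P` minimal).
-/

set_option autoImplicit false
set_option maxHeartbeats 400000
set_option linter.style.haveILetI false

universe u

open IsLocalRing TensorProduct KaehlerDifferential

namespace Groth.Agent.H87.DiffRegP

section Frac

variable {A : Type u} [CommRing A]

/-- If `A_P` is a domain and `q ⊆ P` is a minimal prime, then `Frac (A_P)` is the fraction field
of `A/q`. -/
theorem exists_isFractionRing (P q : Ideal A) [P.IsPrime] [q.IsPrime]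
    [IsDomain (Localization.AtPrime P)] (hq : q ∈ minimalPrimes A) (hqP : q ≤ P) :
    ∃ (_ : Algebra (A ⧸ q) (FractionRing (Localization.AtPrime P))),
      IsScalarTower A (A ⧸ q) (FractionRing (Localization.AtPrime P)) ∧
        IsFractionRing (A ⧸ q) (FractionRing (Localization.AtPrime P)) := by
  classical
  set B := Localization.AtPrime P
  set L := FractionRing B
  have hker : ∀ a ∈ q, algebraMap A L a = 0 := by
    intro a ha
    rw [IsScalarTower.algebraMap_apply A B L,
      Groth.Agent.H87.GenRankH.algebraMap_eq_zero_of_mem_minimalPrime P q hq hqP a ha, map_zero]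
  let φ : A ⧸ q →+* L := Ideal.Quotient.lift q (algebraMap A L) hker
  letI alg : Algebra (A ⧸ q) L := φ.toAlgebra
  have htower : IsScalarTower A (A ⧸ q) L :=
    IsScalarTower.of_algebraMap_eq (fun a => (Ideal.Quotient.lift_mk q (algebraMap A L) hker).symm)
  have hφ : ∀ a : A, algebraMap (A ⧸ q) L (Ideal.Quotient.mk q a) = algebraMap A L a := fun a =>
    Ideal.Quotient.lift_mk q (algebraMap A L) hker
  have hinjBL : Function.Injective (algebraMap B L) := IsFractionRing.injective B L
  have hinj : Function.Injective (algebraMap (A ⧸ q) L) := by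
    rw [injective_iff_map_eq_zero]
    intro x hx
    obtain ⟨a, rfl⟩ := Ideal.Quotient.mk_surjective x
    rw [hφ, IsScalarTower.algebraMap_apply A B L] at hx
    have h1 : algebraMap A B a = 0 := hinjBL (by rw [hx, map_zero])
    rw [IsLocalization.map_eq_zero_iff P.primeCompl] at h1
    obtain ⟨s, hs⟩ := h1
    have h2 : (s : A) * a ∈ q := by rw [hs]; exact zero_mem _
    rw [Ideal.Quotient.eq_zero_iff_mem]
    exact (Ideal.IsPrime.mem_or_mem inferInstance h2).resolve_left (fun h => s.2 (hqP h))
  haveI : FaithfulSMul (A ⧸ q) L := (faithfulSMul_iff_algebraMap_injective _ _).mpr hinj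
  refine ⟨alg, htower, IsFractionRing.of_field (A ⧸ q) L ?_⟩
  intro z
  obtain ⟨b₁, b₂, hb₂, rfl⟩ := IsFractionRing.div_surjective (A := B) z
  obtain ⟨a₁, s₁, rfl⟩ := IsLocalization.exists_mk'_eq P.primeCompl b₁
  obtain ⟨a₂, s₂, rfl⟩ := IsLocalization.exists_mk'_eq P.primeCompl b₂
  refine ⟨Ideal.Quotient.mk q (a₁ * s₂), Ideal.Quotient.mk q (a₂ * s₁), ?_⟩
  rw [hφ, hφ, IsScalarTower.algebraMap_apply A B L, IsScalarTower.algebraMap_apply A B L]
  have hs₁ : algebraMap B L (algebraMap A B s₁) ≠ 0 := by
    intro h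
    have := hinjBL (h.trans (map_zero _).symm)
    exact (IsLocalization.map_units B s₁).ne_zero this
  have hs₂ : algebraMap B L (algebraMap A B s₂) ≠ 0 := by
    intro h
    have := hinjBL (h.trans (map_zero _).symm)
    exact (IsLocalization.map_units B s₂).ne_zero this
  have hb₂' : algebraMap B L (IsLocalization.mk' B a₂ s₂) ≠ 0 := by
    intro h
    have := hinjBL (h.trans (map_zero _).symm)
    exact (nonZeroDivisors.ne_zero hb₂) this
  have e1 : algebraMap A B a₁ = IsLocalization.mk' B a₁ s₁ * algebraMap A B s₁ :=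
    (IsLocalization.mk'_spec B a₁ s₁).symm
  have e2 : algebraMap A B a₂ = IsLocalization.mk' B a₂ s₂ * algebraMap A B s₂ :=
    (IsLocalization.mk'_spec B a₂ s₂).symm
  have h1 : algebraMap B L (algebraMap A B (a₁ * s₂)) =
      algebraMap B L (IsLocalization.mk' B a₁ s₁) * algebraMap B L (algebraMap A B s₁) *
        algebraMap B L (algebraMap A B s₂) := by
    rw [map_mul (algebraMap A B), e1, map_mul, map_mul]
  have h2 : algebraMap B L (algebraMap A B (a₂ * s₁)) =
      algebraMap B L (IsLocalization.mk' B a₂ s₂) * algebraMap B L (algebraMap A B s₂) *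
        algebraMap B L (algebraMap A B s₁) := by
    rw [map_mul (algebraMap A B), e2, map_mul, map_mul]
  rw [h1, h2, div_eq_div_iff hb₂' (mul_ne_zero (mul_ne_zero hb₂' hs₂) hs₁)]
  ring

end Frac

section Imperfection

/-- The imperfection module of a formally smooth (separable) field extension vanishes. -/
theorem finrank_ker_mapBaseChange_eq_zero (k L : Type u) [Field k] [Field L] [Algebra k L]
    [Algebra.FormallySmooth k L] :
    Module.finrank L (LinearMap.ker (KaehlerDifferential.mapBaseChange ℤ k L)) = 0 := by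
  have hker : LinearMap.ker (KaehlerDifferential.mapBaseChange ℤ k L) = ⊥ := by
    have hex := Algebra.H1Cotangent.exact_δ_mapBaseChange ℤ k L
    rw [LinearMap.exact_iff] at hex
    rw [hex, LinearMap.range_eq_bot]
    ext x
    rw [Subsingleton.elim x 0, map_zero, LinearMap.zero_apply]
  rw [hker]
  exact finrank_bot L _

end Imperfection

section Main

variable (p : ℕ) [Fact p.Prime] (k A : Type u) [Field k] [CharP k p] [CommRing A] [IsLocalRing A]
  [IsNoetherianRing A] [Algebra k A] [IsAdicComplete (maximalIdeal A) A]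
  [Module.Finite k (ResidueField A)]

/-- `Ω_{A/k}` is a finite `A`-module when `[k : k^p] < ∞`. -/
theorem finite_kaehler (hk : (frobenius k p).Finite) : Module.Finite A Ω[A⁄k] := by
  classical
  obtain ⟨s, hs⟩ := (maximalIdeal A).fg_of_isNoetherianRing
  let m := s.card
  let e : Fin m ≃ s := s.equivFin.symm
  let t : Fin m → A := fun i => (e i : A)
  have hrange : Set.range t = (s : Set A) := by
    ext b
    constructor
    · rintro ⟨i, rfl⟩
      exact (e i).2
    · intro hb
      exact ⟨e.symm ⟨b, hb⟩, by simp [t]⟩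
  have hspan : Ideal.span (Set.range t) = maximalIdeal A := by rw [hrange]; exact hs
  obtain ⟨F, -, hFfin⟩ := Groth.Agent.H87.GenRankF.exists_finite_ps k A m t
    (fun i => hspan ▸ Ideal.subset_span ⟨i, rfl⟩)
    (fun Q hQ hle => by
      rw [hspan] at hle
      exact ((maximalIdeal.isMaximal A).eq_of_le hQ.ne_top hle).symm)
  letI : Algebra (MvPowerSeries (Fin m) k) A := F.toRingHom.toAlgebra
  haveI : IsScalarTower k (MvPowerSeries (Fin m) k) A :=
    IsScalarTower.of_algebraMap_eq (fun c => (F.commutes c).symm)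
  haveI : Module.Finite (MvPowerSeries (Fin m) k) A := hFfin
  haveI := Groth.Agent.H44.PSKaehlerFin.finite_kp p hk
  haveI := Groth.Agent.H44.PSKaehlerFin.finite_kaehler p m (k := k)
  exact Groth.Agent.H44.PSKaehlerFin.finite_kaehler_of_finite k (MvPowerSeries (Fin m) k) A

/-- **EGA 0_IV 22.7.3 (d) ⇒ (b)** in characteristic `p > 0` with `[k : k^p] < ∞`. -/
theorem free_of_geomRegular (hk : (frobenius k p).Finite) (P : Ideal A) [P.IsPrime]
    (hP : CAlg.IsGeometricallyRegular k (Localization.AtPrime P))
    (q : Ideal A) (hq : q ∈ minimalPrimes A) (hqP : q ≤ P) (n : ℕ)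
    (hn : ringKrullDim (A ⧸ q) = n) :
    Module.Free (Localization.AtPrime P)
        (LocalizedModule P.primeCompl (AdicCompletion (maximalIdeal A) (Ω[A⁄k]))) ∧
      Module.finrank (Localization.AtPrime P)
        (LocalizedModule P.primeCompl (AdicCompletion (maximalIdeal A) (Ω[A⁄k]))) = n := by
  classical
  haveI : q.IsPrime := hq.1.1
  set B := Localization.AtPrime P with hB
  haveI hΩfin := finite_kaehler p k A hk
  haveI : IsAdicComplete (maximalIdeal A) Ω[A⁄k] :=
    Groth.Agent.H87.ComplExact.isAdicComplete_of_finite _ _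
  let e₁ : Ω[A⁄k] ≃ₗ[A] AdicCompletion (maximalIdeal A) Ω[A⁄k] :=
    AdicCompletion.ofLinearEquiv (maximalIdeal A) Ω[A⁄k]
  let e : LocalizedModule P.primeCompl (AdicCompletion (maximalIdeal A) Ω[A⁄k]) ≃ₗ[B] Ω[B⁄k] :=
    IsLocalizedModule.mapEquiv P.primeCompl (LocalizedModule.mkLinearMap P.primeCompl _)
      (KaehlerDifferential.map k k A B) B e₁.symm
  haveI : IsNoetherianRing B := IsLocalization.isNoetherianRing P.primeCompl B inferInstance
  have hfs : CAlgX.IsAdicFormallySmooth k B (maximalIdeal B) :=
    Groth.Agent.H44.GeomRegLoc.geomRegular_iff_fs_local.mp hP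
  haveI hreg : IsRegularLocalRing B := Groth.Agent.Lead.GeomReg.regular_of_fs hfs
  haveI : IsDomain B := Groth.Agent.H23.isDomain_of_isRegularLocalRing B
  haveI : Module.Finite B Ω[B⁄k] :=
    Module.Finite.of_isLocalizedModule P.primeCompl (KaehlerDifferential.map k k A B)
  have hFSA : EGA41.IsFormallySmoothAdic k (maximalIdeal k) B (maximalIdeal B) := by
    rw [IsLocalRing.maximalIdeal_eq_bot]
    exact (Groth.Agent.S4537.result _).mp hfs
  haveI hfree : Module.Free B Ω[B⁄k] := by
    apply Groth.Agent.H14.FreeQuot.free_of_forall_projective_quotient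
    intro j
    have h1 := Groth.Agent.S4540.result hFSA (maximalIdeal B ^ (j + 1))
      (Ideal.pow_le_self (Nat.succ_ne_zero j)) ⟨j + 1, le_rfl⟩
    infer_instance
  -- the rank, computed at the generic point
  set L := FractionRing B with hL
  obtain ⟨alg, htower, hfrac⟩ := exists_isFractionRing P q hq hqP
  letI := alg
  haveI := htower
  haveI := hfrac
  haveI : IsScalarTower k (A ⧸ q) L := IsScalarTower.of_algebraMap_eq (fun c => by
    rw [IsScalarTower.algebraMap_apply k A (A ⧸ q), ← IsScalarTower.algebraMap_apply A (A ⧸ q) L,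
      ← IsScalarTower.algebraMap_apply k A L])
  haveI : Nontrivial (A ⧸ q) := Ideal.Quotient.nontrivial_iff.mpr (Ideal.IsPrime.ne_top ‹_›)
  haveI : IsLocalRing (A ⧸ q) :=
    IsLocalRing.of_surjective' (Ideal.Quotient.mk q) Ideal.Quotient.mk_surjective
  haveI : IsAdicComplete (maximalIdeal (A ⧸ q)) (A ⧸ q) := Groth.Agent.H61.isAdicComplete_quotient q
  haveI : Module.Finite k (ResidueField (A ⧸ q)) :=
    Groth.Agent.H87.GenRankC.finite_residueField_quotient k A q
  have h44 := (Groth.Agent.H44.FracKaehler2.finrank_eq p k (A ⧸ q) L hk n hn).1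
  have hgrL : CAlg.IsGeometricallyRegular k L :=
    Groth.Agent.H44.GeomRegLoc.isGeometricallyRegular_of_isLocalization k B (nonZeroDivisors B) L hP
  have hfsL : CAlgX.IsAdicFormallySmooth k L (maximalIdeal L) :=
    Groth.Agent.H44.GeomRegLoc.geomRegular_iff_fs_local.mp hgrL
  haveI : Algebra.FormallySmooth k L := by
    refine Algebra.FormallySmooth.of_comp_surjective (fun C _ _ I hI f => ?_)
    obtain ⟨g, hg⟩ := hfsL C I hI f ⟨1, fun x hx => by
      rw [pow_one, IsLocalRing.maximalIdeal_eq_bot] at hx
      rw [Ideal.mem_bot.mp hx, map_zero]⟩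
    exact ⟨g, hg⟩
  have h0 := finrank_ker_mapBaseChange_eq_zero k L
  rw [h0, add_zero] at h44
  haveI : Algebra.FormallyEtale B L :=
    Algebra.FormallyEtale.of_isLocalization (nonZeroDivisors B)
  let eΩ := KaehlerDifferential.tensorKaehlerEquivOfFormallyEtale k B L
  have hrank : Module.finrank B Ω[B⁄k] = n := by
    rw [← h44, ← eΩ.finrank_eq, Module.finrank_baseChange]
  refine ⟨Module.Free.of_equiv e.symm, ?_⟩
  rw [e.finrank_eq, hrank]

end Main

end Groth.Agent.H87.DiffRegP
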