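import Mathlib
import Groth.Agent.H87.GenRankC
import Groth.Agent.H87.ComplFinite
import Groth.Agent.S2477

/-!
# Auxiliary lemmas for EGA 0_IV 21.9 (finite algebras over power series rings)
-/

set_option autoImplicit false
set_option maxHeartbeats 800000

namespace Groth.Agent.H87.GenRankE

open IsLocalRing TensorProduct

universe u

section Phi

variable (k A : Type u) [Field k] [CommRing A] [IsLocalRing A] [IsNoetherianRing A] [Algebra k A]
  [IsAdicComplete (maximalIdeal A) A]

/-- finitely many derivations into a field, with values in a finite submodule, extend to the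
completed differentials. -/
theorem exists_Phi_of_derivations (K : Type u) [Field K] [Algebra A K] [Algebra k K]
    [IsScalarTower k A K] (n : ℕ) (D : Fin n → Derivation k A K) (L : Submodule A K) (hLfg : L.FG)
    (hDL : ∀ j a, D j a ∈ L) :
    ∃ Φ : AdicCompletion (maximalIdeal A) (Ω[A⁄k]) →ₗ[A] (Fin n → K),
      ∀ a : A, Φ (AdicCompletion.of (maximalIdeal A) (Ω[A⁄k]) (KaehlerDifferential.D k A a)) =
        fun j => D j a := by
  classical
  haveI : Module.Finite A L := Module.Finite.of_fg hLfg
  have hmem : ∀ j (ω : Ω[A⁄k]), (D j).liftKaehlerDifferential ω ∈ L := by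
    intro j ω
    have hω : ω ∈ Submodule.span A (Set.range (KaehlerDifferential.D k A)) := by
      rw [KaehlerDifferential.span_range_derivation]; trivial
    induction hω using Submodule.span_induction with
    | mem x hx =>
      obtain ⟨a, rfl⟩ := hx
      rw [Derivation.liftKaehlerDifferential_comp_D]
      exact hDL j _
    | zero => rw [map_zero]; exact zero_mem _
    | add x y _ _ hx hy => rw [map_add]; exact add_mem hx hy
    | smul a x _ hx => rw [map_smul]; exact Submodule.smul_mem _ _ hx
  let N := Fin n → L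
  let Φ₀ : Ω[A⁄k] →ₗ[A] N :=
    LinearMap.pi fun j => ((D j).liftKaehlerDifferential).codRestrict L (hmem j)
  haveI : IsAdicComplete (maximalIdeal A) N :=
    Groth.Agent.H87.ComplExact.isAdicComplete_of_finite (maximalIdeal A) N
  let incl : N →ₗ[A] (Fin n → K) := LinearMap.pi fun j => L.subtype.comp (LinearMap.proj j)
  let Φ : AdicCompletion (maximalIdeal A) (Ω[A⁄k]) →ₗ[A] (Fin n → K) :=
    incl.comp ((AdicCompletion.ofLinearEquiv (maximalIdeal A) N).symm.toLinearMap.comp
      ((AdicCompletion.map (maximalIdeal A) Φ₀).restrictScalars A))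
  refine ⟨Φ, ?_⟩
  intro a
  show incl ((AdicCompletion.ofLinearEquiv (maximalIdeal A) N).symm
    (AdicCompletion.map (maximalIdeal A) Φ₀ (AdicCompletion.of _ _ _))) = _
  rw [AdicCompletion.map_of, AdicCompletion.ofLinearEquiv_symm_of]
  ext j
  show ((D j).liftKaehlerDifferential (KaehlerDifferential.D k A a) : K) = _
  rw [Derivation.liftKaehlerDifferential_comp_D]

end Phi

section Span

variable {B M : Type*} [CommRing B] [AddCommGroup M] [Module B M] (𝔫 : Ideal B)

/-- If `M = span ω + 𝔫 M`, the images of the `ω j` generate the completion `M̂`. -/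
theorem span_of_eq_top (hfg : 𝔫.FG) [IsPrecomplete 𝔫 B] {Z : Type*} [Fintype Z] (ω : Z → M)
    (hM : ∀ x : M, x ∈ Submodule.span B (Set.range ω) ⊔ (𝔫 • ⊤ : Submodule B M)) :
    Submodule.span B (Set.range fun j => AdicCompletion.of 𝔫 M (ω j)) = ⊤ := by
  classical
  set ι := AdicCompletion.of 𝔫 M with hι
  set m : Z → AdicCompletion 𝔫 M := fun j => ι (ω j) with hm
  have hιM : ∀ x : M, ι x ∈ Submodule.span B (Set.range m) ⊔
      (𝔫 • ⊤ : Submodule B (AdicCompletion 𝔫 M)) := by
    intro x
    have h1 := Submodule.mem_map_of_mem (f := ι) (hM x)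
    rw [Submodule.map_sup, Submodule.map_span, Submodule.map_smul''] at h1
    have e1 : (ι '' Set.range ω) = Set.range m := by
      rw [← Set.range_comp]; rfl
    rw [e1] at h1
    obtain ⟨a, ha, b, hb, hab⟩ := Submodule.mem_sup.1 h1
    rw [← hab]
    exact add_mem (Submodule.mem_sup_left ha)
      (Submodule.mem_sup_right (Submodule.smul_mono le_rfl le_top hb))
  have hspan : Submodule.span B (Set.range m) ⊔
      (𝔫 • ⊤ : Submodule B (AdicCompletion 𝔫 M)) = ⊤ := by
    rw [eq_top_iff]
    intro x _
    obtain ⟨y, hy⟩ := Submodule.mkQ_surjective _ (AdicCompletion.eval 𝔫 M 1 x)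
    have h1 : x - ι y ∈ (𝔫 ^ 1 • ⊤ : Submodule B (AdicCompletion 𝔫 M)) := by
      rw [AdicCompletion.pow_smul_top_eq_ker_eval hfg, LinearMap.mem_ker, map_sub, hι,
        AdicCompletion.eval_of, hy, sub_self]
    rw [pow_one] at h1
    have := add_mem (Submodule.mem_sup_right h1) (hιM y)
    rwa [sub_add_cancel] at this
  exact Groth.Agent.H87.LimSystem.span_eq_top_of_hausdorff 𝔫 m hspan

end Span

section PS

variable (k : Type u) [Field k] (r : ℕ) (A : Type u) [CommRing A] [IsLocalRing A]
  [Algebra (MvPowerSeries (Fin r) k) A] [Algebra k A] [IsScalarTower k (MvPowerSeries (Fin r) k) A]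

/-- the residue map kills the non-constant part. -/
theorem residue_algebraMap [IsLocalHom (algebraMap (MvPowerSeries (Fin r) k) A)]
    (f : MvPowerSeries (Fin r) k) :
    residue A (algebraMap (MvPowerSeries (Fin r) k) A f) =
      algebraMap k (ResidueField A) (MvPowerSeries.constantCoeff f) := by
  have hg : f - MvPowerSeries.C (MvPowerSeries.constantCoeff f) ∈
      maximalIdeal (MvPowerSeries (Fin r) k) := by
    rw [Groth.Agent.H61.PS.mem_maximalIdeal_iff, map_sub, MvPowerSeries.constantCoeff_C, sub_self]
    exact zero_mem _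
  have h1 : algebraMap (MvPowerSeries (Fin r) k) A
      (f - MvPowerSeries.C (MvPowerSeries.constantCoeff f)) ∈ maximalIdeal A := by
    rw [mem_maximalIdeal, mem_nonunits_iff]
    intro hu
    exact hg (isUnit_of_map_unit (algebraMap (MvPowerSeries (Fin r) k) A) _ hu)
  have h2 : residue A (algebraMap (MvPowerSeries (Fin r) k) A
      (f - MvPowerSeries.C (MvPowerSeries.constantCoeff f))) = 0 := by
    rw [residue_eq_zero_iff]; exact h1
  rw [map_sub, map_sub, sub_eq_zero] at h2
  rw [h2]
  have h3 : (MvPowerSeries.C (MvPowerSeries.constantCoeff f) : MvPowerSeries (Fin r) k) =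
      algebraMap k (MvPowerSeries (Fin r) k) (MvPowerSeries.constantCoeff f) := by
    rw [MvPowerSeries.algebraMap_apply]; rfl
  rw [h3, ← IsScalarTower.algebraMap_apply k (MvPowerSeries (Fin r) k) A,
    IsScalarTower.algebraMap_apply k A (ResidueField A)]
  rfl

theorem finite_residueField [IsLocalHom (algebraMap (MvPowerSeries (Fin r) k) A)]
    [Module.Finite (MvPowerSeries (Fin r) k) A] : Module.Finite k (ResidueField A) := by
  classical
  obtain ⟨s, e, he⟩ := Module.Finite.exists_fin (R := MvPowerSeries (Fin r) k) (M := A)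
  have key : ∀ a : A, residue A a ∈ Submodule.span k (Set.range fun i => residue A (e i)) := by
    intro a
    have ha : a ∈ Submodule.span (MvPowerSeries (Fin r) k) (Set.range e) := by rw [he]; trivial
    induction ha using Submodule.span_induction with
    | mem x hx =>
      obtain ⟨i, rfl⟩ := hx
      exact Submodule.subset_span ⟨i, rfl⟩
    | zero => rw [map_zero]; exact zero_mem _
    | add x y _ _ hx hy => rw [map_add]; exact add_mem hx hy
    | smul f x _ hx =>
      rw [Algebra.smul_def, map_mul, residue_algebraMap k r A f, ← Algebra.smul_def]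
      exact Submodule.smul_mem _ _ hx
  refine ⟨⟨Finset.univ.image fun i => residue A (e i), ?_⟩⟩
  rw [Finset.coe_image, Finset.coe_univ, Set.image_univ, eq_top_iff]
  rintro x -
  obtain ⟨a, rfl⟩ := residue_surjective x
  exact key a

end PS

end Groth.Agent.H87.GenRankE
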