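import Mathlib
import Groth.Prelude.Def_Found
import Groth.Agent.H24.CatenaryOrder
import Groth.Agent.H87.GenRankA
import Groth.Agent.H87.GenRankC
import Groth.Agent.H87.GenRankF
import Groth.Agent.H87.GenRankH
import Groth.Agent.H87.PSUniq
import Groth.Agent.H87.PowEval
import Groth.Agent.H87.ComplExact
import Groth.Agent.S5080
import Groth.Agent.S4557
import Groth.Agent.S9829
import Groth.Agent.H61.ObsDimMain

/-!
# EGA 0_IV 22.7.3 (d) ⇒ (b), characteristic zero

`A` complete Noetherian local `k`-algebra (`char k = 0`) with residue field finite over `k`, `P` a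
prime with `A_P` regular: `(Ω̂_{A/k})_P` is generated by `dim A_P + dim A/P` elements.
-/

set_option autoImplicit false
set_option maxHeartbeats 400000
set_option linter.style.haveILetI false

universe u

open IsLocalRing TensorProduct KaehlerDifferential Polynomial

namespace Groth.Agent.H87.DiffRegZ

section General

variable {k A N : Type*} [CommRing k] [CommRing A] [Algebra k A] [AddCommGroup N] [Module A N]
  [Module k N]

/-- derivations are continuous for adic topologies. -/
theorem deriv_pow_mem (D : Derivation k A N) (I : Ideal A) :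
    ∀ (n : ℕ) (x : A), x ∈ I ^ (n + 1) → D x ∈ (I ^ n • ⊤ : Submodule A N)
  | 0, x, _ => by rw [pow_zero, Ideal.one_eq_top, Submodule.top_smul]; trivial
  | n + 1, x, hx => by
    rw [pow_succ] at hx
    refine Submodule.mul_induction_on hx (fun y hy z hz => ?_) (fun y z hy hz => ?_)
    · rw [D.leibniz]
      refine add_mem ?_ ?_
      · exact Submodule.smul_mem_smul hy Submodule.mem_top
      · have h1 := deriv_pow_mem D I n y hy
        have h2 : z • D y ∈ (I • (I ^ n • ⊤ : Submodule A N) : Submodule A N) :=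
          Submodule.smul_mem_smul hz h1
        rwa [← Submodule.mul_smul, ← pow_succ'] at h2
    · rw [map_add]; exact add_mem hy hz

/-- Leibniz rule for polynomial expressions whose coefficients are killed by `D`. -/
theorem deriv_eval_map {R' : Type*} [CommRing R'] (D : Derivation k A N) (θ : R' →+* A)
    (hθ : ∀ r, D (θ r) = 0) (a : A) (Q : R'[X]) :
    D ((Q.map θ).eval a) = ((derivative Q).map θ).eval a • D a := by
  induction Q using Polynomial.induction_on' with
  | add p q hp hq =>
    rw [Polynomial.map_add, eval_add, map_add, hp, hq, derivative_add, Polynomial.map_add, eval_add,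
      add_smul]
  | monomial n c =>
    rw [map_monomial, eval_monomial, D.leibniz, hθ, smul_zero, add_zero, D.leibniz_pow,
      derivative_monomial, map_monomial, eval_monomial, map_mul, map_natCast, mul_smul, mul_smul,
      Nat.cast_smul_eq_nsmul]

end General

section Pad

/-- pad a finite generating family to a family indexed by `Fin n`. -/
theorem exists_fin_of_card_le {R X ι : Type*} [Semiring R] [AddCommMonoid X] [Module R X]
    [Fintype ι] (g : ι → X) (hg : Submodule.span R (Set.range g) = ⊤) (n : ℕ)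
    (hn : Fintype.card ι ≤ n) : ∃ g' : Fin n → X, Submodule.span R (Set.range g') = ⊤ := by
  classical
  let e : ι ≃ Fin (Fintype.card ι) := Fintype.equivFin ι
  refine ⟨fun i => if h : i.1 < Fintype.card ι then g (e.symm ⟨i.1, h⟩) else 0, ?_⟩
  rw [eq_top_iff, ← hg]
  refine Submodule.span_mono ?_
  rintro _ ⟨x, rfl⟩
  refine ⟨⟨(e x).1, lt_of_lt_of_le (e x).2 hn⟩, ?_⟩
  simp only [(e x).2, dif_pos, Fin.eta, Equiv.symm_apply_apply]

end Pad

section Dim

variable {A : Type u} [CommRing A]

/-- `dim A_P + dim A/P ≤ dim A/q` for a minimal prime `q ⊆ P` when `A_P` is a domain. -/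
theorem dim_add_dim_le (P q : Ideal A) [P.IsPrime] [q.IsPrime]
    [IsDomain (Localization.AtPrime P)] (hq : q ∈ minimalPrimes A) (hqP : q ≤ P) :
    ringKrullDim (Localization.AtPrime P) + ringKrullDim (A ⧸ P) ≤ ringKrullDim (A ⧸ q) := by
  classical
  set B := Localization.AtPrime P
  have hker : ∀ a ∈ q, algebraMap A B a = 0 := fun a ha =>
    Groth.Agent.H87.GenRankH.algebraMap_eq_zero_of_mem_minimalPrime P q hq hqP a ha
  letI : Algebra (A ⧸ q) B := (Ideal.Quotient.lift q (algebraMap A B) hker).toAlgebra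
  let P' : Ideal (A ⧸ q) := P.map (Ideal.Quotient.mk q)
  haveI : P'.IsPrime :=
    Ideal.map_isPrime_of_surjective Ideal.Quotient.mk_surjective (by rwa [Ideal.mk_ker])
  have hloc : IsLocalization (P.primeCompl.map (Ideal.Quotient.mk q)) B :=
    IsLocalization.of_surjective P.primeCompl B (Ideal.Quotient.mk q) Ideal.Quotient.mk_surjective
      (RingHom.id B) Function.surjective_id
      (by
        ext a
        simp only [RingHom.id_comp, RingHom.comp_apply]
        exact (Ideal.Quotient.lift_mk q (algebraMap A B) hker).symm)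
      (by
        intro x hx
        rw [RingHom.mem_ker, RingHom.id_apply] at hx
        rw [hx]; exact zero_mem _)
  have hsub : P.primeCompl.map (Ideal.Quotient.mk q) = P'.primeCompl := by
    ext x
    constructor
    · rintro ⟨a, ha, rfl⟩ hmem
      have h1 : a ∈ P := by
        have h2 := (Ideal.mem_map_iff_of_surjective (Ideal.Quotient.mk q)
          Ideal.Quotient.mk_surjective).mp hmem
        obtain ⟨b, hb, hba⟩ := h2
        have h3 : b - a ∈ q := by
          rw [← Ideal.Quotient.eq_zero_iff_mem, map_sub, hba, sub_self]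
        have h4 : a = b - (b - a) := by ring
        rw [h4]
        exact P.sub_mem hb (hqP h3)
      exact ha h1
    · intro hx
      obtain ⟨a, rfl⟩ := Ideal.Quotient.mk_surjective x
      exact ⟨a, fun ha => hx (Ideal.mem_map_of_mem _ ha), rfl⟩
  haveI : IsLocalization.AtPrime B P' := by
    show IsLocalization P'.primeCompl B
    rw [← hsub]; exact hloc
  have h1 : ringKrullDim B = P'.height := IsLocalization.AtPrime.ringKrullDim_eq_height P' B
  have h2 := Groth.Agent.H24.height_add_ringKrullDim_quotient_le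
    (⟨P', inferInstance⟩ : PrimeSpectrum (A ⧸ q))
  have e : ((A ⧸ q) ⧸ P') ≃+* A ⧸ P := DoubleQuot.quotQuotEquivQuotOfLE hqP
  rw [h1, ← ringKrullDim_eq_of_ringEquiv e]
  exact h2

end Dim

section Sep

/-- in characteristic zero, integral elements over an integrally closed domain are roots of
polynomials which are separable over the fraction field. -/
theorem exists_separable {R C : Type*} [CommRing R] [IsDomain R] [IsIntegrallyClosed R]
    [CharZero R] [CommRing C] [IsDomain C] [Algebra R C] [Algebra.IsIntegral R C]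
    (hinj : Function.Injective (algebraMap R C)) (c : C) :
    ∃ Q : R[X], aeval c Q = 0 ∧ (Q.map (algebraMap R (FractionRing R))).Separable := by
  haveI : FaithfulSMul R C := (faithfulSMul_iff_algebraMap_injective R C).mpr hinj
  haveI : CharZero (FractionRing R) :=
    charZero_of_injective_algebraMap (IsFractionRing.injective R (FractionRing R))
  have hc : IsIntegral R c := Algebra.IsIntegral.isIntegral c
  refine ⟨minpoly R c, minpoly.aeval R c, ?_⟩
  exact (((minpoly.monic hc).irreducible_iff_irreducible_map_fraction_map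
    (K := FractionRing R)).1 (minpoly.irreducible hc)).separable

end Sep

section Nak

variable {A M : Type*} [CommRing A] [AddCommGroup M] [Module A M]

/-- Nakayama form of `GenRankF.span_localized_eq_top`. -/
theorem span_localized_eq_top_of_sup (p : Ideal A) [p.IsPrime] [Module.Finite A M] (S : Set M)
    (h : ∀ x : M, ∃ s : A, s ∉ p ∧ s • x ∈ Submodule.span A S ⊔ (p • ⊤ : Submodule A M)) :
    Submodule.span (Localization.AtPrime p) (LocalizedModule.mkLinearMap p.primeCompl M '' S) = ⊤ := by
  classical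
  set B := Localization.AtPrime p
  set W := Submodule.span B (LocalizedModule.mkLinearMap p.primeCompl M '' S) with hW
  haveI : Module.Finite B (LocalizedModule p.primeCompl M) :=
    Module.Finite.of_isLocalizedModule p.primeCompl (LocalizedModule.mkLinearMap p.primeCompl M)
  rw [eq_top_iff]
  refine Submodule.le_of_le_smul_of_le_jacobson_bot Module.Finite.fg_top
    (IsLocalRing.maximalIdeal_le_jacobson ⊥) ?_
  rintro x -
  induction x using LocalizedModule.induction_on with
  | h m t =>
    have h1 : LocalizedModule.mk m t =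
        Localization.mk (1 : A) t • LocalizedModule.mkLinearMap p.primeCompl M m := by
      rw [LocalizedModule.mkLinearMap_apply, LocalizedModule.mk_smul_mk, one_smul, mul_one]
    rw [h1]
    refine Submodule.smul_mem _ _ ?_
    obtain ⟨s, hs, hsm⟩ := h m
    have h2 : LocalizedModule.mkLinearMap p.primeCompl M m =
        Localization.mk (1 : A) (⟨s, hs⟩ : p.primeCompl) •
          LocalizedModule.mkLinearMap p.primeCompl M (s • m) := by
      rw [LocalizedModule.mkLinearMap_apply, LocalizedModule.mkLinearMap_apply,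
        LocalizedModule.mk_smul_mk, one_smul, mul_one]
      exact (LocalizedModule.mk_cancel (⟨s, hs⟩ : p.primeCompl) m).symm
    rw [h2]
    refine Submodule.smul_mem _ _ ?_
    obtain ⟨g, hg, y, hy, hgy⟩ := Submodule.mem_sup.1 hsm
    rw [← hgy, map_add]
    refine add_mem (Submodule.mem_sup_left (Groth.Agent.H87.GenRankF.mk_mem_span p S g hg))
      (Submodule.mem_sup_right ?_)
    refine Submodule.smul_induction_on hy (fun r hr z _ => ?_) (fun y z hy hz => ?_)
    · rw [map_smul, ← algebraMap_smul B r]
      refine Submodule.smul_mem_smul ?_ Submodule.mem_top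
      exact (IsLocalization.AtPrime.to_map_mem_maximal_iff B p r).mpr hr
    · rw [map_add]; exact add_mem hy hz

end Nak

section Main

variable (k A : Type u) [Field k] [CharZero k] [CommRing A] [IsLocalRing A] [IsNoetherianRing A]
  [Algebra k A] [IsAdicComplete (maximalIdeal A) A] [Module.Finite k (ResidueField A)]

/-- In characteristic zero, if `A_P` is regular then `(Ω̂_{A/k})_P` is generated by
`dim A_P + dim A/P` elements. -/
theorem exists_gens (P : Ideal A) [P.IsPrime] [IsRegularLocalRing (Localization.AtPrime P)]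
    (h d : ℕ) (hh : ringKrullDim (Localization.AtPrime P) = h) (hd : ringKrullDim (A ⧸ P) = d) :
    ∃ (ι : Type u) (_ : Fintype ι) (g : ι → LocalizedModule P.primeCompl
        (AdicCompletion (maximalIdeal A) (Ω[A⁄k]))),
      Fintype.card ι = h + d ∧ Submodule.span (Localization.AtPrime P) (Set.range g) = ⊤ := by
  classical
  set B := Localization.AtPrime P with hB
  set 𝔪 := maximalIdeal A with h𝔪
  set M := AdicCompletion 𝔪 (Ω[A⁄k]) with hM
  haveI hfinΩ : Module.Finite A M := Groth.Agent.S5080.finite_Ωh k A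
  let dh : A → M := fun a => AdicCompletion.of 𝔪 (Ω[A⁄k]) (KaehlerDifferential.D k A a)
  have hone : (1 : A) ∉ P := (Ideal.ne_top_iff_one P).mp (Ideal.IsPrime.ne_top inferInstance)
  -- generators of the maximal ideal of `B` coming from `P`
  obtain ⟨s, hscard, hsspan⟩ := Submodule.FG.exists_span_finset_card_eq_spanFinrank
    (p := (maximalIdeal B : Submodule B B)) (maximalIdeal B).fg_of_isNoetherianRing
  have hsh : s.card = h := by
    have h1 := (inferInstance : IsRegularLocalRing B).spanFinrank_maximalIdeal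
    rw [hh] at h1
    rw [hscard]
    exact_mod_cast h1
  have hex : ∀ b : s, ∃ a : A, a ∈ P ∧ ∃ t : P.primeCompl,
      (b : B) * algebraMap A B t = algebraMap A B a := by
    intro b
    obtain ⟨a, t, hat⟩ := IsLocalization.exists_mk'_eq P.primeCompl (b : B)
    refine ⟨a, ?_, t, ?_⟩
    · have hb : (b : B) ∈ maximalIdeal B := by
        rw [← hsspan]; exact Submodule.subset_span b.2
      rw [← hat, IsLocalization.AtPrime.mk'_mem_maximal_iff B P] at hb
      exact hb
    · rw [← hat, IsLocalization.mk'_spec]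
  choose a haP t hat using hex
  -- Noether normalisation of `A ⧸ P`
  haveI : Nontrivial (A ⧸ P) := Ideal.Quotient.nontrivial_iff.mpr (Ideal.IsPrime.ne_top ‹_›)
  haveI : IsLocalRing (A ⧸ P) :=
    IsLocalRing.of_surjective' (Ideal.Quotient.mk P) Ideal.Quotient.mk_surjective
  haveI : IsAdicComplete (maximalIdeal (A ⧸ P)) (A ⧸ P) := Groth.Agent.H61.isAdicComplete_quotient P
  haveI : Module.Finite k (ResidueField (A ⧸ P)) :=
    Groth.Agent.H87.GenRankC.finite_residueField_quotient k A P
  haveI : IsLocalHom (Ideal.Quotient.mk P) :=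
    IsLocalHom.of_surjective _ Ideal.Quotient.mk_surjective
  obtain ⟨F, hFinj, hFfin⟩ := Groth.Agent.H87.GenRankA.exists_ps k (A ⧸ P) d hd
  have hlift : ∀ j : Fin d, ∃ c : A, Ideal.Quotient.mk P c = F (MvPowerSeries.X j) :=
    fun j => Ideal.Quotient.mk_surjective _
  choose c hc using hlift
  have hcm : ∀ j, c j ∈ 𝔪 := by
    intro j
    by_contra hu
    have hunit : IsUnit (c j) := by
      rwa [h𝔪, mem_maximalIdeal, mem_nonunits_iff, not_not] at hu
    have h1 : IsUnit (F.toRingHom (MvPowerSeries.X j)) := by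
      show IsUnit (F (MvPowerSeries.X j))
      rw [← hc j]; exact hunit.map _
    haveI : IsLocalHom F.toRingHom :=
      RingHom.IsIntegral.isLocalHom hFfin.to_isIntegral hFinj
    have h2 : IsUnit (MvPowerSeries.X j : MvPowerSeries (Fin d) k) :=
      isUnit_of_map_unit F.toRingHom _ h1
    rw [MvPowerSeries.isUnit_iff_constantCoeff, MvPowerSeries.constantCoeff_X] at h2
    exact not_isUnit_zero h2
  obtain ⟨θ, hθC, hθX⟩ := Groth.Agent.H87.PowEval.exists_mvEvalₐ (R := k) (k := k) 𝔪
    (Algebra.ofId k A) c hcm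
  have hθF' : (Ideal.Quotient.mk P).comp θ.toRingHom = F.toRingHom := by
    refine Groth.Agent.H87.PSUniq.eq_of_C_X (maximalIdeal (A ⧸ P)) _ _ (fun r => ?_) (fun j => ?_)
      (fun j => ?_)
    · show Ideal.Quotient.mk P (θ (MvPowerSeries.C r)) = F (MvPowerSeries.C r)
      rw [hθC]
      have h1 : (MvPowerSeries.C r : MvPowerSeries (Fin d) k) =
          algebraMap k (MvPowerSeries (Fin d) k) r := by
        rw [MvPowerSeries.algebraMap_apply]; rfl
      rw [h1, F.commutes]
      rfl
    · show Ideal.Quotient.mk P (θ (MvPowerSeries.X j)) = F (MvPowerSeries.X j)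
      rw [hθX, hc]
    · show Ideal.Quotient.mk P (θ (MvPowerSeries.X j)) ∈ maximalIdeal (A ⧸ P)
      rw [hθX]
      exact _root_.map_nonunit (Ideal.Quotient.mk P) (c j) (hcm j)
  have hθF : ∀ r, Ideal.Quotient.mk P (θ r) = F r := fun r => congrFun (congrArg DFunLike.coe hθF') r
  -- the generating family
  let gen : s ⊕ Fin d → M := Sum.elim (fun b => dh (a b)) (fun j => dh (c j))
  refine ⟨s ⊕ Fin d, inferInstance, fun x => LocalizedModule.mkLinearMap P.primeCompl M (gen x), ?_, ?_⟩
  · rw [Fintype.card_sum, Fintype.card_coe, Fintype.card_fin, hsh]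
  set Y : Submodule A M := Submodule.span A (Set.range gen) ⊔ (P • ⊤ : Submodule A M) with hY
  suffices key : ∀ x : M, ∃ s' : A, s' ∉ P ∧ s' • x ∈ Y by
    have := span_localized_eq_top_of_sup P (Set.range gen) key
    rwa [← Set.range_comp] at this
  -- the saturation of `Y`
  let T : Submodule A M :=
    { carrier := {x | ∃ s' : A, s' ∉ P ∧ s' • x ∈ Y}
      zero_mem' := ⟨1, hone, by rw [smul_zero]; exact zero_mem _⟩
      add_mem' := by
        rintro x y ⟨s₁, hs₁, hx⟩ ⟨s₂, hs₂, hy⟩
        refine ⟨s₁ * s₂, fun hmem => (Ideal.IsPrime.mem_or_mem inferInstance hmem).elim hs₁ hs₂, ?_⟩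
        rw [smul_add]
        refine add_mem ?_ ?_
        · rw [mul_comm, mul_smul]; exact Y.smul_mem _ hx
        · rw [mul_smul]; exact Y.smul_mem _ hy
      smul_mem' := by
        rintro r x ⟨s₁, hs₁, hx⟩
        exact ⟨s₁, hs₁, by rw [smul_comm]; exact Y.smul_mem _ hx⟩ }
  have hTmem : ∀ x : M, x ∈ T ↔ ∃ s' : A, s' ∉ P ∧ s' • x ∈ Y := fun x => Iff.rfl
  have hYT : Y ≤ T := fun x hx => (hTmem x).mpr ⟨1, hone, by rwa [one_smul]⟩
  suffices hT : T = ⊤ by
    intro x
    exact (hTmem x).mp (hT ▸ Submodule.mem_top)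
  let D : Derivation k A (M ⧸ T) :=
    (T.mkQ.comp (AdicCompletion.of 𝔪 (Ω[A⁄k]))).compDer (KaehlerDifferential.D k A)
  have hD : ∀ x, D x = T.mkQ (dh x) := fun x => rfl
  have hF1 : ∀ x ∈ P, ∀ n : M ⧸ T, x • n = 0 := by
    intro x hx n
    obtain ⟨m, rfl⟩ := T.mkQ_surjective n
    rw [← map_smul, Submodule.mkQ_apply, Submodule.Quotient.mk_eq_zero]
    exact hYT (Submodule.mem_sup_right (Submodule.smul_mem_smul hx Submodule.mem_top))
  have hF2 : ∀ s' : A, s' ∉ P → ∀ n : M ⧸ T, s' • n = 0 → n = 0 := by
    intro s' hs' n hn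
    obtain ⟨m, rfl⟩ := T.mkQ_surjective n
    rw [← map_smul, Submodule.mkQ_apply, Submodule.Quotient.mk_eq_zero] at hn
    obtain ⟨s'', hs'', h2⟩ := (hTmem _).mp hn
    rw [Submodule.mkQ_apply, Submodule.Quotient.mk_eq_zero]
    refine (hTmem m).mpr ⟨s'' * s', fun hmem =>
      (Ideal.IsPrime.mem_or_mem inferInstance hmem).elim hs'' hs', ?_⟩
    rwa [mul_smul]
  have hgenT : ∀ x, gen x ∈ T := fun x =>
    hYT (Submodule.mem_sup_left (Submodule.subset_span ⟨x, rfl⟩))
  have hDa : ∀ b, D (a b) = 0 := fun b => by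
    rw [hD, Submodule.mkQ_apply, Submodule.Quotient.mk_eq_zero]
    exact hgenT (Sum.inl b)
  have hDc : ∀ j, D (c j) = 0 := fun j => by
    rw [hD, Submodule.mkQ_apply, Submodule.Quotient.mk_eq_zero]
    exact hgenT (Sum.inr j)
  -- Step A: `D` kills `P`
  set Ia : Ideal A := Ideal.span (Set.range a) with hIa
  have hIaP : Ia ≤ P := by
    rw [hIa, Ideal.span_le]
    rintro _ ⟨b, rfl⟩
    exact haP b
  have hDI : ∀ y ∈ Ia, D y = 0 := by
    intro y hy
    induction hy using Submodule.span_induction with
    | mem y hy =>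
      obtain ⟨b, rfl⟩ := hy
      exact hDa b
    | zero => exact map_zero _
    | add y z _ _ hy hz => rw [map_add, hy, hz, add_zero]
    | smul r y hy ih =>
      rw [smul_eq_mul, D.leibniz, ih, smul_zero, zero_add]
      exact hF1 y (hIaP hy) _
  have hDP : ∀ x ∈ P, D x = 0 := by
    intro x hx
    have hx' : algebraMap A B x ∈ maximalIdeal B :=
      (IsLocalization.AtPrime.to_map_mem_maximal_iff B P x).mpr hx
    rw [← hsspan] at hx'
    have hle : Submodule.span B (s : Set B) ≤ Ideal.map (algebraMap A B) Ia := by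
      rw [Submodule.span_le]
      intro b hb
      have h1 := hat ⟨b, hb⟩
      have hu : IsUnit (algebraMap A B (t ⟨b, hb⟩)) := IsLocalization.map_units B (t ⟨b, hb⟩)
      have h2 : b = algebraMap A B (a ⟨b, hb⟩) * ↑hu.unit⁻¹ := by
        rw [← h1, mul_assoc, IsUnit.mul_val_inv, mul_one]
      rw [h2]
      exact Ideal.mul_mem_right _ _ (Ideal.mem_map_of_mem _ (Ideal.subset_span ⟨_, rfl⟩))
    obtain ⟨⟨y, m'⟩, hym⟩ := (IsLocalization.mem_map_algebraMap_iff P.primeCompl B).mp (hle hx')
    have h3 : algebraMap A B (x * m' - y) = 0 := by rw [map_sub, map_mul, hym, sub_self]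
    obtain ⟨m'', hm''⟩ := (IsLocalization.map_eq_zero_iff P.primeCompl B _).mp h3
    have h4 : ((m'' : A) * m') * x ∈ Ia := by
      have : (m'' : A) * m' * x = m'' * y := by linear_combination hm''
      rw [this]
      exact Ia.mul_mem_left _ y.2
    have h5 := hDI _ h4
    rw [D.leibniz, hF1 x hx, add_zero] at h5
    exact hF2 _ (fun hmem => (Ideal.IsPrime.mem_or_mem inferInstance hmem).elim m''.2 m'.2) _ h5
  -- Step B: `D` kills the image of the power series ring
  haveI : IsHausdorff 𝔪 (M ⧸ T) :=
    (Groth.Agent.H87.ComplExact.isAdicComplete_of_finite 𝔪 (M ⧸ T)).toIsHausdorff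
  have hpoly : ∀ f : MvPolynomial (Fin d) k, D (θ (f : MvPowerSeries (Fin d) k)) = 0 := by
    intro f
    induction f using MvPolynomial.induction_on with
    | C r =>
      rw [MvPolynomial.coe_C, hθC]
      exact D.map_algebraMap r
    | add f g hf hg => rw [MvPolynomial.coe_add, map_add, map_add, hf, hg, add_zero]
    | mul_X f j hf =>
      rw [MvPolynomial.coe_mul, MvPolynomial.coe_X, map_mul, D.leibniz, hf, hθX, hDc, smul_zero,
        smul_zero, add_zero]
  have hpow : ∀ (N : ℕ) (g : MvPowerSeries (Fin d) k),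
      g ∈ (Ideal.span (Set.range (MvPowerSeries.X : Fin d → MvPowerSeries (Fin d) k))) ^ N →
      θ g ∈ 𝔪 ^ N := by
    intro N g hg
    have h1 : (Ideal.span (Set.range (MvPowerSeries.X : Fin d → MvPowerSeries (Fin d) k))).map
        θ.toRingHom ≤ 𝔪 := by
      rw [Ideal.map_span, Ideal.span_le]
      rintro _ ⟨_, ⟨j, rfl⟩, rfl⟩
      show θ (MvPowerSeries.X j) ∈ 𝔪
      rw [hθX]; exact hcm j
    have h2 := Ideal.mem_map_of_mem θ.toRingHom hg
    rw [Ideal.map_pow] at h2
    exact Ideal.pow_right_mono h1 N h2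
  have hDθ : ∀ r : MvPowerSeries (Fin d) k, D (θ r) = 0 := by
    intro r
    apply IsHausdorff.haus' (I := 𝔪)
    intro N
    rw [SModEq.zero]
    have h1 := Groth.Agent.H61.PS.sub_truncTotal_mem (N + 1) r
    have h2 := hpow (N + 1) _ h1
    have h3 := deriv_pow_mem D 𝔪 N _ h2
    rwa [map_sub, map_sub, hpoly, sub_zero] at h3
  -- Step C: separability
  letI algF : Algebra (MvPowerSeries (Fin d) k) (A ⧸ P) := F.toRingHom.toAlgebra
  have hFinj' : Function.Injective (algebraMap (MvPowerSeries (Fin d) k) (A ⧸ P)) := hFinj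
  haveI hreg := Groth.Agent.H61.Obs.ps_isRegularLocalRing (k := k) d
  haveI : IsDomain (MvPowerSeries (Fin d) k) := NoZeroDivisors.to_isDomain _
  haveI : IsIntegrallyClosed (MvPowerSeries (Fin d) k) := Groth.Agent.S9829.result _
  haveI : CharZero (MvPowerSeries (Fin d) k) :=
    charZero_of_injective_algebraMap (algebraMap k (MvPowerSeries (Fin d) k)).injective
  haveI : Module.Finite (MvPowerSeries (Fin d) k) (A ⧸ P) := hFfin
  haveI : Algebra.IsIntegral (MvPowerSeries (Fin d) k) (A ⧸ P) := Algebra.IsIntegral.of_finite _ _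
  have hrel : ∀ (G : (MvPowerSeries (Fin d) k)[X]) (x : A),
      Ideal.Quotient.mk P ((G.map θ.toRingHom).eval x) = aeval (Ideal.Quotient.mk P x) G := by
    intro G x
    rw [aeval_def, eval_map, hom_eval₂]
    congr 1
  have hDall : ∀ x : A, D x = 0 := by
    intro x
    obtain ⟨Q, hQ0, hQsep⟩ := exists_separable (R := MvPowerSeries (Fin d) k) (C := A ⧸ P)
      hFinj' (Ideal.Quotient.mk P x)
    have hne := Groth.Agent.S4557.aeval_derivative_ne_zero hFinj' (Ideal.Quotient.mk P x) Q hQ0 hQsep
    have h0 : (Q.map θ.toRingHom).eval x ∈ P := by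
      rw [← Ideal.Quotient.eq_zero_iff_mem, hrel, hQ0]
    have h1 := deriv_eval_map D θ.toRingHom hDθ x Q
    rw [hDP _ h0] at h1
    have hn : ((derivative Q).map θ.toRingHom).eval x ∉ P := by
      rw [← Ideal.Quotient.eq_zero_iff_mem, hrel]
      exact hne
    exact hF2 _ hn _ h1.symm
  rw [eq_top_iff, ← Groth.Agent.S5080.span_of_D k A, Submodule.span_le]
  rintro _ ⟨x, rfl⟩
  have h1 := hDall x
  rwa [hD, Submodule.mkQ_apply, Submodule.Quotient.mk_eq_zero] at h1

end Main

end Groth.Agent.H87.DiffRegZ
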