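import Mathlib
import Groth.Prelude.Def_Found
import Groth.Agent.H87.DiffRegP
import Groth.Agent.H87.DiffRegZ
import Groth.Agent.H15.CohenNorm

/-!
# EGA 0_IV 22.7.3 (d) ⇒ (b): geometric regularity of `A_P` gives freeness of `(Ω̂_{A/k})_P`
when `[k : k^p] < ∞` (`p` the characteristic exponent).
-/

set_option autoImplicit false
set_option maxHeartbeats 400000
set_option linter.style.haveILetI false

universe u

open IsLocalRing TensorProduct KaehlerDifferential

namespace Groth.Agent.H87.DiffRegMain

section Main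

variable (k A : Type u) [Field k] [CommRing A] [IsLocalRing A] [IsNoetherianRing A]
  [Algebra k A] [IsAdicComplete (maximalIdeal A) A] [Module.Finite k (ResidueField A)]

/-- `n` generators of `(Ω̂_{A/k})_P` form a basis when `A_P` is a domain and `n = dim A/q`. -/
theorem free_of_gens (P : Ideal A) [P.IsPrime] [IsDomain (Localization.AtPrime P)]
    (q : Ideal A) (hq : q ∈ minimalPrimes A) (hqP : q ≤ P) (n : ℕ)
    (hn : ringKrullDim (A ⧸ q) = n)
    (g : Fin n → LocalizedModule P.primeCompl (AdicCompletion (maximalIdeal A) (Ω[A⁄k])))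
    (hg : Submodule.span (Localization.AtPrime P) (Set.range g) = ⊤) :
    Module.Free (Localization.AtPrime P)
        (LocalizedModule P.primeCompl (AdicCompletion (maximalIdeal A) (Ω[A⁄k]))) ∧
      Module.finrank (Localization.AtPrime P)
        (LocalizedModule P.primeCompl (AdicCompletion (maximalIdeal A) (Ω[A⁄k]))) = n := by
  classical
  haveI : q.IsPrime := hq.1.1
  haveI : IsScalarTower A (A ⧸ q) (FractionRing (A ⧸ q)) := inferInstance
  obtain ⟨Φ, hΦ⟩ := Groth.Agent.H87.GenRankC.exists_Phi k A q n hn (FractionRing (A ⧸ q))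
  have hKq : ∀ s : A, algebraMap A (FractionRing (A ⧸ q)) s = 0 → s ∈ q := by
    intro s h0
    have h1 : algebraMap (A ⧸ q) (FractionRing (A ⧸ q)) (Ideal.Quotient.mk q s) = 0 := by
      rw [← h0, IsScalarTower.algebraMap_apply A (A ⧸ q) (FractionRing (A ⧸ q))]
      rfl
    have h2 : Ideal.Quotient.mk q s = 0 :=
      (IsFractionRing.injective (A ⧸ q) (FractionRing (A ⧸ q))) (by rw [h1, map_zero])
    rwa [Ideal.Quotient.eq_zero_iff_mem] at h2
  have hK : ∀ s ∈ P.primeCompl, algebraMap A (FractionRing (A ⧸ q)) s ≠ 0 :=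
    fun s hs h0 => hs (hqP (hKq s h0))
  have hker : ∀ a : A, algebraMap A (FractionRing (A ⧸ q)) a = 0 →
      algebraMap A (Localization.AtPrime P) a = 0 := fun a ha =>
    Groth.Agent.H87.GenRankH.algebraMap_eq_zero_of_mem_minimalPrime P q hq hqP a (hKq a ha)
  have hli := Groth.Agent.H87.GenRankH.linearIndependent_of_span_localized P hK hker n Φ hΦ g hg
  let Bs : Module.Basis (Fin n) (Localization.AtPrime P) (LocalizedModule P.primeCompl
      (AdicCompletion (maximalIdeal A) (Ω[A⁄k]))) := Module.Basis.mk hli hg.ge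
  refine ⟨Module.Free.of_basis Bs, ?_⟩
  rw [Module.finrank_eq_card_basis Bs, Fintype.card_fin]

/-- characteristic zero case. -/
theorem free_of_geomRegular_charZero [CharZero k] (P : Ideal A) [P.IsPrime]
    (hP : CAlg.IsGeometricallyRegular k (Localization.AtPrime P))
    (q : Ideal A) (hq : q ∈ minimalPrimes A) (hqP : q ≤ P) (n : ℕ)
    (hn : ringKrullDim (A ⧸ q) = n) :
    Module.Free (Localization.AtPrime P)
        (LocalizedModule P.primeCompl (AdicCompletion (maximalIdeal A) (Ω[A⁄k]))) ∧
      Module.finrank (Localization.AtPrime P)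
        (LocalizedModule P.primeCompl (AdicCompletion (maximalIdeal A) (Ω[A⁄k]))) = n := by
  classical
  haveI : q.IsPrime := hq.1.1
  set B := Localization.AtPrime P with hB
  haveI : IsNoetherianRing B := IsLocalization.isNoetherianRing P.primeCompl B inferInstance
  have hfs : CAlgX.IsAdicFormallySmooth k B (maximalIdeal B) :=
    Groth.Agent.H44.GeomRegLoc.geomRegular_iff_fs_local.mp hP
  haveI hreg : IsRegularLocalRing B := Groth.Agent.Lead.GeomReg.regular_of_fs hfs
  haveI : IsDomain B := Groth.Agent.H23.isDomain_of_isRegularLocalRing B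
  have hh : ringKrullDim B = ((maximalIdeal B).spanFinrank : ℕ) :=
    hreg.spanFinrank_maximalIdeal.symm
  haveI : Nontrivial (A ⧸ P) := Ideal.Quotient.nontrivial_iff.mpr (Ideal.IsPrime.ne_top ‹_›)
  haveI : IsLocalRing (A ⧸ P) :=
    IsLocalRing.of_surjective' (Ideal.Quotient.mk P) Ideal.Quotient.mk_surjective
  obtain ⟨d, hd⟩ := Groth.Agent.H15.CohenNorm.exists_nat_ringKrullDim (A ⧸ P)
  have hd' : ringKrullDim (A ⧸ P) = (d : WithBot ℕ∞) := by rw [hd]; rfl
  obtain ⟨ι, _, g, hcard, hg⟩ :=
    Groth.Agent.H87.DiffRegZ.exists_gens k A P (maximalIdeal B).spanFinrank d hh hd'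
  have hle := Groth.Agent.H87.DiffRegZ.dim_add_dim_le P q hq hqP
  rw [hh, hd', hn] at hle
  have hle' : (maximalIdeal B).spanFinrank + d ≤ n := by exact_mod_cast hle
  obtain ⟨g', hg'⟩ := Groth.Agent.H87.DiffRegZ.exists_fin_of_card_le g hg n (hcard ▸ hle')
  exact free_of_gens k A P q hq hqP n hn g' hg'

/-- **EGA 0_IV 22.7.3 (d) ⇒ (b).** -/
theorem free_of_geomRegular (p : ℕ) [ExpChar k p] (hk : (frobenius k p).Finite)
    (P : Ideal A) [P.IsPrime]
    (hP : CAlg.IsGeometricallyRegular k (Localization.AtPrime P))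
    (q : Ideal A) (hq : q ∈ minimalPrimes A) (hqP : q ≤ P) (n : ℕ)
    (hn : ringKrullDim (A ⧸ q) = n) :
    Module.Free (Localization.AtPrime P)
        (LocalizedModule P.primeCompl (AdicCompletion (maximalIdeal A) (Ω[A⁄k]))) ∧
      Module.finrank (Localization.AtPrime P)
        (LocalizedModule P.primeCompl (AdicCompletion (maximalIdeal A) (Ω[A⁄k]))) = n := by
  cases ‹ExpChar k p› with
  | zero => exact free_of_geomRegular_charZero k A P hP q hq hqP n hn
  | prime hp =>
    haveI : Fact p.Prime := ⟨hp⟩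
    exact Groth.Agent.H87.DiffRegP.free_of_geomRegular p k A hk P hP q hq hqP n hn

end Main

end Groth.Agent.H87.DiffRegMain
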