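import Mathlib.Algebra.Homology.DerivedCategory.Ext.ExactSequences
import Mathlib.CategoryTheory.Preadditive.Biproducts

set_option autoImplicit false
universe w v u

namespace Groth.Agent.H87

open CategoryTheory Limits Abelian

variable {C : Type u} [Category.{v} C] [Abelian C] [HasExt.{w} C]

theorem subsingleton_ext_of_iso_right {A X X' : C} (e : X ≅ X') (p : ℕ)
    (h : Subsingleton (Ext A X' p)) : Subsingleton (Ext A X p) := by
  refine ⟨fun x y => ?_⟩
  have h1 : x.comp (Ext.mk₀ e.hom) (add_zero p) = y.comp (Ext.mk₀ e.hom) (add_zero p) :=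
    Subsingleton.elim _ _
  have h2 := congrArg (fun z => z.comp (Ext.mk₀ e.inv) (add_zero p)) h1
  simpa [Ext.comp_assoc_of_second_deg_zero, Ext.mk₀_comp_mk₀] using h2

theorem subsingleton_ext_of_iso_left {A X X' : C} (e : X ≅ X') (p : ℕ)
    (h : Subsingleton (Ext X' A p)) : Subsingleton (Ext X A p) := by
  refine ⟨fun x y => ?_⟩
  have h1 : (Ext.mk₀ e.inv).comp x (zero_add p) = (Ext.mk₀ e.inv).comp y (zero_add p) :=
    Subsingleton.elim _ _
  have h2 := congrArg (fun z => (Ext.mk₀ e.hom).comp z (zero_add p)) h1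
  simpa [← Ext.comp_assoc_of_second_deg_zero, Ext.mk₀_comp_mk₀] using h2

theorem subsingleton_ext_sigma_right (A : C) {J : Type} [Fintype J] (B : J → C) [HasCoproduct B]
    (p : ℕ) (h : ∀ j, Subsingleton (Ext A (B j) p)) : Subsingleton (Ext A (∐ B) p) := by
  classical
  let c : Bicone B := Bicone.ofColimitCocone (colimit.isColimit (Discrete.functor B))
  have hc : c.IsBilimit := biconeIsBilimitOfColimitCoconeOfIsColimit _
  haveI := h
  exact (Ext.addEquivBiproduct A hc p).toEquiv.subsingleton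

theorem subsingleton_ext_sigma_left (A : C) {J : Type} [Fintype J] (B : J → C) [HasCoproduct B]
    (p : ℕ) (h : ∀ j, Subsingleton (Ext (B j) A p)) : Subsingleton (Ext (∐ B) A p) := by
  classical
  let c : Bicone B := Bicone.ofColimitCocone (colimit.isColimit (Discrete.functor B))
  have hc : c.IsBilimit := biconeIsBilimitOfColimitCoconeOfIsColimit _
  haveI := h
  exact (Ext.biproductAddEquiv hc A p).toEquiv.subsingleton

variable {S : ShortComplex C} (hS : S.ShortExact)

include hS in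
theorem subsingleton_ext_X₃_right (A : C) (p : ℕ) (h1 : Subsingleton (Ext A S.X₁ (p + 1)))
    (h2 : Subsingleton (Ext A S.X₂ p)) : Subsingleton (Ext A S.X₃ p) := by
  have hz : ∀ x₃ : Ext A S.X₃ p, x₃ = 0 := by
    intro x₃
    obtain ⟨x₂, hx₂⟩ := Ext.covariant_sequence_exact₃ A hS x₃ rfl (Subsingleton.elim _ _)
    rw [← hx₂, Subsingleton.elim x₂ 0, Ext.zero_comp]
  exact ⟨fun x y => by rw [hz x, hz y]⟩

include hS in
theorem subsingleton_ext_X₃_left_succ (A : C) (n : ℕ) (h1 : Subsingleton (Ext S.X₁ A n))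
    (h2 : Subsingleton (Ext S.X₂ A (1 + n))) : Subsingleton (Ext S.X₃ A (1 + n)) := by
  have hz : ∀ x₃ : Ext S.X₃ A (1 + n), x₃ = 0 := by
    intro x₃
    obtain ⟨x₁, hx₁⟩ := Ext.contravariant_sequence_exact₃ hS A x₃ (Subsingleton.elim _ _) rfl
    rw [← hx₁, Subsingleton.elim x₁ 0, Ext.comp_zero]
  exact ⟨fun x y => by rw [hz x, hz y]⟩

include hS in
theorem subsingleton_ext_X₃_left_zero (A : C) (h2 : Subsingleton (Ext S.X₂ A 0)) :
    Subsingleton (Ext S.X₃ A 0) := by
  haveI := hS.epi_g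
  refine ⟨fun x y => ?_⟩
  exact Ext.precomp_mk₀_injective_of_epi A S.g (Subsingleton.elim _ _)

end Groth.Agent.H87
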