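import Mathlib

/-!
# (FA) for S14816: a field algebraic over `𝔽_p` is a filtered colimit of finite fields
-/

set_option autoImplicit false

universe u

open CategoryTheory CategoryTheory.Limits AlgebraicGeometry

namespace Groth.Agent.H87.FO_FA

section

variable (p : ℕ) [Fact p.Prime] (k : Type u) [Field k] [CharP k p]

/-- The fixed field of the `m`-th iterate of Frobenius. -/
noncomputable def fixedField (m : ℕ) : Subfield k :=
  RingHom.eqLocusField (iterateFrobenius k p m) (RingHom.id k)

variable {p k}

lemma mem_fixedField {m : ℕ} {x : k} : x ∈ fixedField p k m ↔ x ^ p ^ m = x := by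
  rw [fixedField, RingHom.mem_eqLocusField, iterateFrobenius_def, RingHom.id_apply]

lemma fixedField_mono_of_dvd {a b : ℕ} (h : a ∣ b) : fixedField p k a ≤ fixedField p k b := by
  obtain ⟨c, rfl⟩ := h
  intro x hx
  rw [mem_fixedField] at hx ⊢
  induction c with
  | zero => simp
  | succ c ih => rw [Nat.mul_succ, pow_add, pow_mul, ih, hx]

lemma finite_fixedField {m : ℕ} (hm : m ≠ 0) : Finite (fixedField p k m) := by
  have hne : (Polynomial.X ^ p ^ m - Polynomial.X : Polynomial k) ≠ 0 :=
    FiniteField.X_pow_card_pow_sub_X_ne_zero k hm (Fact.out : p.Prime).one_lt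
  have hfin : Set.Finite {x : k | x ^ p ^ m = x} := by
    refine (Polynomial.finite_setOfPred_isRoot hne).subset ?_
    intro x hx
    simp only [Set.mem_ofPred_eq] at hx ⊢
    simp [Polynomial.IsRoot, hx]
  have : Set.Finite (fixedField p k m : Set k) :=
    hfin.subset (fun x hx => mem_fixedField.mp hx)
  exact this.to_subtype

variable (p k)

/-- The system of finite subfields indexed by `ULift ℕ`. -/
noncomputable def sys : ULift.{u} ℕ ⥤ CommRingCat.{u} where
  obj n := CommRingCat.of (fixedField p k n.down.factorial)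
  map {n m} f := CommRingCat.ofHom (Subfield.inclusion
    (fixedField_mono_of_dvd (Nat.factorial_dvd_factorial (ULift.down_le.mpr (leOfHom f)))))
  map_id n := by ext; rfl
  map_comp f g := by ext; rfl

/-- The cocone to `k`. -/
noncomputable def ι : sys p k ⟶ (Functor.const (ULift.{u} ℕ)).obj (CommRingCat.of k) where
  app n := CommRingCat.ofHom (fixedField p k n.down.factorial).subtype
  naturality n m f := by ext; rfl

end

/-- **(FA)** -/
theorem exists_finite_field_system (p : ℕ) [Fact p.Prime] (k : Type u) [Field k] [CharP k p]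
    (halg : ∀ x : k, ∃ n : ℕ, 0 < n ∧ x ^ (p ^ n) = x) :
    ∃ (J : Type u) (_ : SmallCategory J) (_ : IsFiltered J) (R : J ⥤ CommRingCat.{u})
      (ι : R ⟶ (Functor.const J).obj (CommRingCat.of k)),
      Nonempty (IsColimit (Cocone.mk (CommRingCat.of k) ι)) ∧
      ∀ n : J, IsField (R.obj n) ∧ Finite (R.obj n) := by
  refine ⟨ULift.{u} ℕ, inferInstance, inferInstance, sys p k, ι p k, ⟨?_⟩, fun n => ⟨?_, ?_⟩⟩
  · haveI : ReflectsColimit (sys p k) (forget CommRingCat.{u}) :=
      reflectsColimit_of_reflectsIsomorphisms _ _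
    apply isColimitOfReflects (forget CommRingCat.{u})
    apply Types.FilteredColimit.isColimitOf'
    · intro x
      obtain ⟨n, hn, hx⟩ := halg x
      refine ⟨⟨n⟩, ⟨x, ?_⟩, rfl⟩
      exact fixedField_mono_of_dvd (Nat.dvd_factorial hn le_rfl) (mem_fixedField.mpr hx)
    · intro i x y h
      refine ⟨i, 𝟙 i, ?_⟩
      have : x = y := Subtype.ext h
      rw [this]
  · exact (Subfield.toField _).toIsField
  · exact finite_fixedField (Nat.factorial_ne_zero _)

end Groth.Agent.H87.FO_FA
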