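import Mathlib
import Groth.Agent.H24.LimPullback

/-!
# (MD) for S14816: an endomorphism and a section of a base change to the limit descend to a stage
-/

set_option autoImplicit false
set_option linter.style.haveILetI false

universe u

open CategoryTheory CategoryTheory.Limits AlgebraicGeometry

namespace Groth.Agent.H87.FO_MD

open Groth.Agent.H24

theorem compactSpace_pb {S X₀ T : Scheme.{u}} (f₀ : X₀ ⟶ S) (h : T ⟶ S) [QuasiCompact f₀]
    [CompactSpace T] : CompactSpace ↥(pullback f₀ h) :=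
  QuasiCompact.compactSpace_of_compactSpace (pullback.snd f₀ h)

theorem quasiSeparatedSpace_pb {S X₀ T : Scheme.{u}} (f₀ : X₀ ⟶ S) (h : T ⟶ S)
    [QuasiSeparated f₀] [QuasiSeparatedSpace T] : QuasiSeparatedSpace ↥(pullback f₀ h) :=
  quasiSeparatedSpace_of_quasiSeparated (pullback.snd f₀ h)

/-- **(MD)** -/
theorem exists_stage_endo_section {I : Type u} [SmallCategory I] [IsCofiltered I]
    (D : I ⥤ Scheme.{u}) (c : Cone D) (hc : IsLimit c)
    [∀ (i j : I) (f : i ⟶ j), IsAffineHom (D.map f)] [∀ i, CompactSpace (D.obj i)]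
    [∀ i, QuasiSeparatedSpace (D.obj i)] (i₀ : I)
    {X₀ : Scheme.{u}} (f₀ : X₀ ⟶ D.obj i₀) [LocallyOfFinitePresentation f₀] [QuasiCompact f₀]
    [QuasiSeparated f₀]
    {X : Scheme.{u}} (g : X ⟶ c.pt) (q : X ⟶ X₀) (hX : IsPullback q g f₀ (c.π.app i₀))
    (r : X ⟶ X) (hr : r ≫ g = g) (a : c.pt ⟶ X) (ha : a ≫ g = 𝟙 _) :
    ∃ (j : I) (φ : j ⟶ i₀) (rj : pullback f₀ (D.map φ) ⟶ pullback f₀ (D.map φ))
      (aj : D.obj j ⟶ pullback f₀ (D.map φ)),
      rj ≫ pullback.snd f₀ (D.map φ) = pullback.snd f₀ (D.map φ) ∧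
      aj ≫ pullback.snd f₀ (D.map φ) = 𝟙 _ ∧
      r ≫ pullback.lift q (g ≫ c.π.app j) (by rw [hX.w, Category.assoc, c.w]) =
        pullback.lift q (g ≫ c.π.app j) (by rw [hX.w, Category.assoc, c.w]) ≫ rj ∧
      a ≫ pullback.lift q (g ≫ c.π.app j) (by rw [hX.w, Category.assoc, c.w]) =
        c.π.app j ≫ aj := by
  haveI hAff : ∀ {a b : I} (f : a ⟶ b), IsAffineHom (D.map f) := fun f => inferInstance
  -- the pulled-back system
  let E := pbDiagram D (𝟙 i₀) f₀
  let cE := pbCone D (𝟙 i₀) f₀ c q g hX.w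
  have hcE : IsLimit cE := isLimitPbCone D (𝟙 i₀) f₀ c hc q g hX
  let tE : E ⟶ (Functor.const (Over i₀)).obj (D.obj i₀) :=
    { app := fun j => pullback.fst f₀ (D.map (j.hom ≫ 𝟙 i₀)) ≫ f₀
      naturality := fun j k u => by
        have := pbMap_fst D (𝟙 i₀) f₀ u
        simp only [Functor.const_obj_obj, Functor.const_obj_map, Category.comp_id]
        exact (Category.assoc _ _ _).symm.trans (congrArg (· ≫ f₀) this) }
  haveI : ∀ j : Over i₀, CompactSpace (E.obj j) := fun j =>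
    compactSpace_pb f₀ (D.map (j.hom ≫ 𝟙 i₀))
  haveI : ∀ j : Over i₀, QuasiSeparatedSpace (E.obj j) := fun j =>
    quasiSeparatedSpace_pb f₀ (D.map (j.hom ≫ 𝟙 i₀))
  haveI : ∀ {j k : Over i₀} (u : j ⟶ k), IsAffineHom (E.map u) := fun u => by
    show IsAffineHom ((pbDiagram D (𝟙 i₀) f₀).map u)
    infer_instance
  obtain ⟨j, ρ, hρ1, hρ2⟩ := Scheme.exists_π_app_comp_eq_of_locallyOfFinitePresentation
    E tE f₀ cE hcE (r ≫ q) (by
      ext j
      show pbLift D (𝟙 i₀) f₀ c q g hX.w j ≫ pullback.fst f₀ (D.map (j.hom ≫ 𝟙 i₀)) ≫ f₀ =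
        (r ≫ q) ≫ f₀
      rw [← Category.assoc, pbLift_fst, Category.assoc, hX.w, ← Category.assoc, hr])
  -- the original system, reindexed by `Over i₀`
  let D' : Over i₀ ⥤ Scheme.{u} := Over.forget i₀ ⋙ D
  let c' : Cone D' := c.whisker (Over.forget i₀)
  have hc' : IsLimit c' := (Functor.Initial.isLimitWhiskerEquiv (Over.forget i₀) c).symm hc
  let t' : D' ⟶ (Functor.const (Over i₀)).obj (D.obj i₀) :=
    { app := fun j => D.map j.hom
      naturality := fun j k u => by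
        simp only [Functor.const_obj_obj, Functor.const_obj_map, Category.comp_id]
        show D.map u.left ≫ D.map k.hom = D.map j.hom
        rw [← D.map_comp, Over.w] }
  haveI : ∀ j : Over i₀, CompactSpace (D'.obj j) := fun j =>
    (inferInstance : CompactSpace (D.obj j.left))
  haveI : ∀ j : Over i₀, QuasiSeparatedSpace (D'.obj j) := fun j =>
    (inferInstance : QuasiSeparatedSpace (D.obj j.left))
  haveI : ∀ {j k : Over i₀} (u : j ⟶ k), IsAffineHom (D'.map u) := fun u =>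
    (inferInstance : IsAffineHom (D.map u.left))
  obtain ⟨j', α, hα1, hα2⟩ := Scheme.exists_π_app_comp_eq_of_locallyOfFinitePresentation
    D' t' f₀ c' hc' (a ≫ q) (by
      ext j
      show c.π.app j.left ≫ D.map j.hom = (a ≫ q) ≫ f₀
      rw [c.w, Category.assoc, hX.w, ← Category.assoc, ha, Category.id_comp])
  -- restate with explicit types
  obtain ⟨ρ', hρ1', hρ2'⟩ : ∃ ρ' : pullback f₀ (D.map (j.hom ≫ 𝟙 i₀)) ⟶ X₀,
      pbLift D (𝟙 i₀) f₀ c q g hX.w j ≫ ρ' = r ≫ q ∧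
      ρ' ≫ f₀ = pullback.fst f₀ (D.map (j.hom ≫ 𝟙 i₀)) ≫ f₀ := ⟨ρ, hρ1, hρ2⟩
  obtain ⟨α', hα1', hα2'⟩ : ∃ α' : D.obj j'.left ⟶ X₀,
      c.π.app j'.left ≫ α' = a ≫ q ∧ α' ≫ f₀ = D.map j'.hom := ⟨α, hα1, hα2⟩
  -- a common stage
  let k : Over i₀ := IsCofiltered.min j j'
  let uu : k ⟶ j := IsCofiltered.minToLeft j j'
  let vv : k ⟶ j' := IsCofiltered.minToRight j j'
  obtain ⟨ρk, hρk1, hρk2⟩ : ∃ ρk : pullback f₀ (D.map (k.hom ≫ 𝟙 i₀)) ⟶ X₀,
      pbLift D (𝟙 i₀) f₀ c q g hX.w k ≫ ρk = r ≫ q ∧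
      ρk ≫ f₀ = pullback.fst f₀ (D.map (k.hom ≫ 𝟙 i₀)) ≫ f₀ := by
    refine ⟨pbMap D (𝟙 i₀) f₀ uu ≫ ρ', ?_, ?_⟩
    · rw [← Category.assoc, pbLift_pbMap, hρ1']
    · rw [Category.assoc, hρ2', ← Category.assoc, pbMap_fst]
  obtain ⟨αk, hαk1, hαk2⟩ : ∃ αk : D.obj k.left ⟶ X₀,
      c.π.app k.left ≫ αk = a ≫ q ∧ αk ≫ f₀ = D.map k.hom := by
    refine ⟨D.map vv.left ≫ α', ?_, ?_⟩
    · rw [← Category.assoc, c.w, hα1']
    · rw [Category.assoc, hα2', ← D.map_comp, Over.w]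
  refine ⟨k.left, k.hom ≫ 𝟙 i₀,
    pullback.lift ρk (pullback.snd f₀ (D.map (k.hom ≫ 𝟙 i₀))) (by rw [hρk2, pullback.condition]),
    pullback.lift αk (𝟙 _) (by rw [hαk2, Category.id_comp, Category.comp_id]),
    pullback.lift_snd _ _ _, pullback.lift_snd _ _ _, ?_, ?_⟩
  · apply pullback.hom_ext
    · rw [Category.assoc, pullback.lift_fst, Category.assoc, pullback.lift_fst]
      exact hρk1.symm
    · rw [Category.assoc, pullback.lift_snd, Category.assoc, pullback.lift_snd, pullback.lift_snd,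
        ← Category.assoc, hr]
  · apply pullback.hom_ext
    · rw [Category.assoc, pullback.lift_fst, Category.assoc, pullback.lift_fst]
      exact hαk1.symm
    · rw [Category.assoc, pullback.lift_snd, Category.assoc, pullback.lift_snd, Category.comp_id,
        ← Category.assoc, ha, Category.id_comp]

end Groth.Agent.H87.FO_MD
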