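import Mathlib
import Groth.Agent.H87.FSTower
import Groth.Agent.H61.ObsDimMain
import Groth.Agent.S2471
import Groth.Agent.S2462

set_option autoImplicit false
set_option maxHeartbeats 400000
universe u
open IsLocalRing TensorProduct
open scoped KaehlerDifferential

namespace Groth.Agent.H87.FSExist

theorem lTensor_injective_iff_of_equiv {A : Type*} [CommRing A] {L K M N : Type*}
    [AddCommGroup L] [Module A L] [AddCommGroup K] [Module A K] [AddCommGroup M] [Module A M]
    [AddCommGroup N] [Module A N] (e : L ≃ₗ[A] K) (f : M →ₗ[A] N) :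
    Function.Injective (f.lTensor L) ↔ Function.Injective (f.lTensor K) := by
  have h1 : (f.lTensor K) ∘ₗ (e.rTensor M).toLinearMap =
      (e.rTensor N).toLinearMap ∘ₗ (f.lTensor L) := by
    ext l x
    simp
  have h2 : ∀ z, f.lTensor K (e.rTensor M z) = e.rTensor N (f.lTensor L z) :=
    fun z => LinearMap.congr_fun h1 z
  constructor
  · intro h a b hab
    obtain ⟨a', rfl⟩ := (e.rTensor M).surjective a
    obtain ⟨b', rfl⟩ := (e.rTensor M).surjective b
    rw [h2, h2] at hab
    rw [h ((e.rTensor N).injective hab)]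
  · intro h a b hab
    apply (e.rTensor M).injective
    apply h
    rw [h2, h2, hab]

theorem injective_of_forall_exists_derivation' {k A K : Type u} [Field k] [CommRing A]
    [Field K] [Algebra k A] [Algebra A K] [Algebra k K] [IsScalarTower k A K]
    (hext : ∀ d : Derivation ℤ k K,
      ∃ D' : Derivation ℤ A K, ∀ x, D' (algebraMap k A x) = d x) :
    Function.Injective ((KaehlerDifferential.mapBaseChange ℤ k A).lTensor K) := by
  have hcoe : ⇑((KaehlerDifferential.mapBaseChange ℤ k A).lTensor K) =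
      ⇑((KaehlerDifferential.mapBaseChange ℤ k A).baseChange K) :=
    (LinearMap.baseChange_eq_ltensor (A := K) _).symm
  rw [hcoe, ← LinearMap.dualMap_surjective_iff]
  intro φ
  let cb := TensorProduct.AlgebraTensorModule.cancelBaseChange k A K K (Ω[k⁄ℤ])
  let φ₁ : Ω[k⁄ℤ] →ₗ[k] K :=
    ((φ ∘ₗ cb.symm.toLinearMap).restrictScalars k) ∘ₗ (TensorProduct.mk k K (Ω[k⁄ℤ]) 1)
  obtain ⟨D', hD'⟩ := hext (φ₁.compDer (KaehlerDifferential.D ℤ k))
  refine ⟨LinearMap.liftBaseChange K D'.liftKaehlerDifferential, ?_⟩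
  have hcomp : ∀ g₁ g₂ : K ⊗[k] Ω[k⁄ℤ] →ₗ[K] K,
      (∀ x : k, g₁ (1 ⊗ₜ KaehlerDifferential.D ℤ k x) = g₂ (1 ⊗ₜ KaehlerDifferential.D ℤ k x)) →
      g₁ = g₂ := by
    intro g₁ g₂ hg
    apply TensorProduct.AlgebraTensorModule.ext
    intro c ω
    have h1 : c ⊗ₜ[k] ω = c • ((1 : K) ⊗ₜ[k] ω) := by
      rw [TensorProduct.smul_tmul', smul_eq_mul, mul_one]
    rw [h1, map_smul, map_smul]
    congr 1
    have key : (g₁.restrictScalars k) ∘ₗ (TensorProduct.mk k K (Ω[k⁄ℤ]) 1) =
        (g₂.restrictScalars k) ∘ₗ (TensorProduct.mk k K (Ω[k⁄ℤ]) 1) := by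
      apply Derivation.liftKaehlerDifferential_unique
      ext x
      exact hg x
    exact LinearMap.congr_fun key ω
  have h2 := hcomp
    (((KaehlerDifferential.mapBaseChange ℤ k A).baseChange K).dualMap
      (LinearMap.liftBaseChange K D'.liftKaehlerDifferential) ∘ₗ
        cb.symm.toLinearMap) (φ ∘ₗ cb.symm.toLinearMap) (fun x => by
      rw [LinearMap.comp_apply, LinearMap.comp_apply, LinearEquiv.coe_coe,
        TensorProduct.AlgebraTensorModule.cancelBaseChange_symm_tmul, LinearMap.dualMap_apply,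
        LinearMap.baseChange_tmul, KaehlerDifferential.mapBaseChange_tmul, one_smul,
        KaehlerDifferential.map_D, LinearMap.liftBaseChange_tmul, one_smul,
        Derivation.liftKaehlerDifferential_comp_D, hD']
      rfl)
  apply LinearMap.ext
  intro ξ
  have h3 := LinearMap.congr_fun h2 (cb ξ)
  rw [LinearMap.comp_apply, LinearMap.comp_apply, LinearEquiv.coe_coe,
    LinearEquiv.symm_apply_apply] at h3
  exact h3

theorem exists_residueEquiv {k P K : Type u} [Field k] [CommRing P] [IsLocalRing P] [Field K]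
    [Algebra k P] [Algebra P K] [Algebra k K] [IsScalarTower k P K]
    (hsurj : Function.Surjective (algebraMap P K)) :
    ∃ ε : ResidueField P ≃ₐ[k] K, ∀ a, ε (residue P a) = algebraMap P K a := by
  have hker : RingHom.ker (algebraMap P K) = maximalIdeal P :=
    IsLocalRing.eq_maximalIdeal (RingHom.ker_isMaximal_of_surjective _ hsurj)
  have _ : IsLocalHom (algebraMap P K) := ⟨fun a ha => by
    have h1 : a ∉ maximalIdeal P := by
      rw [← hker, RingHom.mem_ker]
      exact ha.ne_zero
    exact IsLocalRing.notMem_maximalIdeal.1 h1⟩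
  have hlift : ∀ a, ResidueField.lift (algebraMap P K) (residue P a) = algebraMap P K a :=
    fun a => ResidueField.lift_residue_apply _ a
  let ε₀ : ResidueField P →ₐ[k] K :=
    { ResidueField.lift (algebraMap P K) with
      commutes' := fun x => by
        show ResidueField.lift (algebraMap P K) (algebraMap k (ResidueField P) x) = _
        rw [IsScalarTower.algebraMap_apply k P (ResidueField P), ResidueField.algebraMap_eq, hlift,
          ← IsScalarTower.algebraMap_apply] }
  have hε₀ : ∀ a, ε₀ (residue P a) = algebraMap P K a := hlift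
  refine ⟨AlgEquiv.ofBijective ε₀ ⟨ε₀.toRingHom.injective, fun c => ?_⟩, hε₀⟩
  obtain ⟨a, rfl⟩ := hsurj c
  exact ⟨residue P a, hε₀ a⟩

theorem smooth_of_forall_exists_derivation {k P K : Type u} [Field k] [CommRing P]
    [IsLocalRing P] [IsNoetherianRing P] [Field K] [Algebra k P] [Algebra P K] [Algebra k K]
    [IsScalarTower k P K] (hsurj : Function.Surjective (algebraMap P K))
    (hreg : IsRegularLocalRing P)
    (hext : ∀ d : Derivation ℤ k K,
      ∃ D' : Derivation ℤ P K, ∀ x, D' (algebraMap k P x) = d x) :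
    CAlgX.IsAdicFormallySmooth k P (maximalIdeal P) := by
  rw [Groth.Agent.S2471.result]
  refine ⟨hreg, ?_⟩
  obtain ⟨ε, hε⟩ := exists_residueEquiv (k := k) hsurj
  let eP : ResidueField P ≃ₗ[P] K :=
    { ε.toRingEquiv.toAddEquiv with
      map_smul' := fun a l => by
        show ε (a • l) = a • ε l
        rw [Algebra.smul_def, map_mul, ResidueField.algebraMap_eq, hε, Algebra.smul_def] }
  exact (lTensor_injective_iff_of_equiv eP _).2 (injective_of_forall_exists_derivation' hext)

theorem exists_complement_functionals {K V W : Type*} [Field K] [AddCommGroup V] [Module K V]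
    [AddCommGroup W] [Module K W] (f : V →ₗ[K] W) (hfin : Module.Finite K (LinearMap.ker f))
    (n : ℕ) (hn : Module.finrank K (LinearMap.ker f) ≤ n) :
    ∃ θ' : V →ₗ[K] (Fin n → K), ∀ l : V →ₗ[K] K,
      ∃ (μ : W →ₗ[K] K) (cs : (Fin n → K) →ₗ[K] K), l = μ ∘ₗ f + cs ∘ₗ θ' := by
  classical
  obtain ⟨θ, hθ⟩ : ∃ θ : LinearMap.ker f →ₗ[K] (Fin n → K), Function.Injective θ :=
    (_root_.finrank_le_iff_exists_linearMap).1 (by rw [Module.finrank_fin_fun]; exact hn)
  obtain ⟨θ', hθ'⟩ := LinearMap.exists_extend θ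
  have hθ'' : ∀ ξ : LinearMap.ker f, θ' (ξ : V) = θ ξ := fun ξ => LinearMap.congr_fun hθ' ξ
  refine ⟨θ', fun l => ?_⟩
  obtain ⟨ρ, hρ⟩ := LinearMap.exists_leftInverse_of_injective θ (LinearMap.ker_eq_bot.2 hθ)
  obtain ⟨cs, hcsd⟩ : ∃ cs : (Fin n → K) →ₗ[K] K, cs =
      (l ∘ₗ (LinearMap.ker f).subtype) ∘ₗ ρ := ⟨_, rfl⟩
  have hcs' : ∀ ξ : LinearMap.ker f, cs (θ ξ) = l (ξ : V) := by
    intro ξ
    have h1 : ρ (θ ξ) = ξ := LinearMap.congr_fun hρ ξ
    rw [hcsd, LinearMap.comp_apply, h1]
    rfl
  have hμ₀ : (l - cs ∘ₗ θ') ∈ (LinearMap.ker f).dualAnnihilator := by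
    rw [Submodule.mem_dualAnnihilator]
    intro ξ hξ
    have h1 := hcs' ⟨ξ, hξ⟩
    rw [← hθ''] at h1
    rw [LinearMap.sub_apply, LinearMap.comp_apply, h1, sub_self]
  rw [← LinearMap.range_dualMap_eq_dualAnnihilator_ker] at hμ₀
  obtain ⟨μ, hμ⟩ := hμ₀
  refine ⟨μ, cs, ?_⟩
  have h2 : μ ∘ₗ f = l - cs ∘ₗ θ' := hμ
  rw [h2, sub_add_cancel]

theorem exists_derivations {k K : Type u} [Field k] [Field K] [Algebra k K]
    (hfin : Module.Finite K (EGA41.imperfection ℤ k K)) (n : ℕ)
    (hn : Module.finrank K (EGA41.imperfection ℤ k K) ≤ n) :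
    ∃ D : Fin n → Derivation ℤ k K, ∀ d : Derivation ℤ k K,
      ∃ (δ : Derivation ℤ K K) (c : Fin n → K),
        ∀ x, d x = δ (algebraMap k K x) + ∑ i, c i * D i x := by
  classical
  obtain ⟨θ', hθ'⟩ := exists_complement_functionals (KaehlerDifferential.mapBaseChange ℤ k K)
    hfin n hn
  refine ⟨fun i => (((LinearMap.proj i ∘ₗ θ').restrictScalars k) ∘ₗ
    (TensorProduct.mk k K (Ω[k⁄ℤ]) 1)).compDer (KaehlerDifferential.D ℤ k), fun d => ?_⟩
  obtain ⟨μ, cs, hl⟩ := hθ' (LinearMap.liftBaseChange K d.liftKaehlerDifferential)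
  refine ⟨μ.compDer (KaehlerDifferential.D ℤ K),
    fun i => cs (fun j => if i = j then 1 else 0), fun x => ?_⟩
  have h1 := LinearMap.congr_fun hl ((1 : K) ⊗ₜ[k] KaehlerDifferential.D ℤ k x)
  rw [LinearMap.liftBaseChange_tmul, one_smul, Derivation.liftKaehlerDifferential_comp_D,
    LinearMap.add_apply, LinearMap.comp_apply, LinearMap.comp_apply,
    KaehlerDifferential.mapBaseChange_tmul, one_smul, KaehlerDifferential.map_D,
    LinearMap.pi_apply_eq_sum_univ cs] at h1
  rw [h1]
  congr 1
  refine Finset.sum_congr rfl fun i _ => ?_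
  rw [smul_eq_mul, mul_comm]
  rfl

open MvPowerSeries in
theorem exists_ringHom_ps {k K : Type u} [Field k] [Field K] [Algebra k K] (n : ℕ)
    (D : Fin n → Derivation ℤ k K) :
    ∃ φ : k →+* MvPowerSeries (Fin n) K, ∀ x,
      φ x - (C (algebraMap k K x) + ∑ i, C (D i x) * X i) ∈
        maximalIdeal (MvPowerSeries (Fin n) K) ^ 2 := by
  classical
  have _ : IsAdicComplete (maximalIdeal K) K := Groth.Agent.H61.Obs.field_isAdicComplete K
  obtain ⟨s, hs⟩ : ∃ s : k → MvPowerSeries (Fin n) K,
      ∀ x, s x = C (algebraMap k K x) + ∑ i, C (D i x) * X i := ⟨_, fun _ => rfl⟩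
  have hmem : ∀ x, ∑ i, C (D i x) * (X i : MvPowerSeries (Fin n) K) ∈
      maximalIdeal (MvPowerSeries (Fin n) K) := fun x =>
    Ideal.sum_mem _ fun i _ => Ideal.mul_mem_left _ _ (Groth.Agent.H61.PS.X_mem_maximalIdeal i)
  have hmul : ∀ x y, s (x * y) - s x * s y ∈ maximalIdeal (MvPowerSeries (Fin n) K) ^ 2 := by
    intro x y
    have h1 : ∑ i, C (D i (x * y)) * (X i : MvPowerSeries (Fin n) K) =
        C (algebraMap k K x) * ∑ i, C (D i y) * X i +
          C (algebraMap k K y) * ∑ i, C (D i x) * X i := by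
      rw [Finset.mul_sum, Finset.mul_sum, ← Finset.sum_add_distrib]
      refine Finset.sum_congr rfl fun i _ => ?_
      rw [(D i).leibniz, Algebra.smul_def, Algebra.smul_def, map_add, map_mul, map_mul]
      ring
    have h2 : s (x * y) - s x * s y =
        -((∑ i, C (D i x) * (X i : MvPowerSeries (Fin n) K)) * ∑ i, C (D i y) * X i) := by
      rw [hs, hs, hs, h1, map_mul, map_mul]
      ring
    rw [h2, pow_two]
    exact neg_mem (Ideal.mul_mem_mul (hmem x) (hmem y))
  have hbot : ∀ c : (⊥ : Subfield k), s (c : k) = C (algebraMap k K (c : k)) := by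
    intro c
    rw [hs]
    have h1 : ∀ i, D i (c : k) = 0 :=
      fun i => Groth.Agent.H44.CoeffField.derivation_bot_eq_zero (D i) c.2
    simp only [h1, map_zero, zero_mul, Finset.sum_const_zero, add_zero]
  let u : k →ₐ[(⊥ : Subfield k)] MvPowerSeries (Fin n) K ⧸
      maximalIdeal (MvPowerSeries (Fin n) K) ^ 2 :=
    { toFun := fun x => Ideal.Quotient.mk _ (s x)
      map_one' := by
        have h1 : s 1 = 1 := by
          rw [hs]
          simp only [map_one, Derivation.map_one_eq_zero, map_zero, zero_mul,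
            Finset.sum_const_zero, add_zero]
        rw [h1, map_one]
      map_mul' := fun x y => by
        rw [← map_mul, Ideal.Quotient.eq]
        exact hmul x y
      map_zero' := by
        have h1 : s 0 = 0 := by
          rw [hs]
          simp only [map_zero, zero_mul, Finset.sum_const_zero, add_zero]
        rw [h1, map_zero]
      map_add' := fun x y => by
        rw [← map_add]
        congr 1
        rw [hs, hs, hs]
        simp only [map_add, add_mul, Finset.sum_add_distrib]
        ring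
      commutes' := fun c => by
        show Ideal.Quotient.mk _ (s (c : k)) = _
        rw [hbot, ← Ideal.Quotient.mk_algebraMap, MvPowerSeries.algebraMap_apply]
        rfl }
  have hk : EGA41.IsFormallySmoothAdic (⊥ : Subfield k) ⊥ k ⊥ := by
    have := Groth.Agent.H44.CoeffField.formallySmooth_bot k
    intro C _ _ J hJ _ u _
    exact Algebra.FormallySmooth.exists_lift J hJ u
  have hne : maximalIdeal (MvPowerSeries (Fin n) K) ^ 2 ≠ ⊤ := fun h0 =>
    (maximalIdeal.isMaximal _).ne_top (top_le_iff.1 (h0 ▸ Ideal.pow_le_self (by norm_num)))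
  obtain ⟨v, -, hv⟩ := Groth.Agent.S2462.result (A := (⊥ : Subfield k)) (⊥ : Ideal (⊥ : Subfield k))
    (⊥ : Ideal k) hk (C := MvPowerSeries (Fin n) K) (by rw [Ideal.map_bot]; exact bot_le)
    (maximalIdeal (MvPowerSeries (Fin n) K) ^ 2) hne u (by rw [Ideal.map_bot]; exact bot_le)
  refine ⟨v.toRingHom, fun x => ?_⟩
  have h1 : Ideal.Quotient.mk (maximalIdeal (MvPowerSeries (Fin n) K) ^ 2) (v x) = u x :=
    AlgHom.congr_fun hv x
  rw [← hs, ← Ideal.Quotient.eq]
  exact h1

open MvPowerSeries in
theorem pderiv_mem_of_mem_sq {K : Type u} [Field K] (n : ℕ) (i : Fin n)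
    (e : MvPowerSeries (Fin n) K) (he : e ∈ maximalIdeal (MvPowerSeries (Fin n) K) ^ 2) :
    pderiv K i e ∈ maximalIdeal (MvPowerSeries (Fin n) K) := by
  rw [pow_two] at he
  refine Submodule.mul_induction_on he (fun a ha b hb => ?_) (fun x y hx hy => ?_)
  · rw [Derivation.leibniz, smul_eq_mul, smul_eq_mul]
    exact Ideal.add_mem _ (Ideal.mul_mem_right _ _ ha) (Ideal.mul_mem_right _ _ hb)
  · rw [map_add]
    exact Ideal.add_mem _ hx hy

open MvPowerSeries in
theorem exists_smooth_ps {k K : Type u} [Field k] [Field K] [Algebra k K]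
    (hfin : Module.Finite K (EGA41.imperfection ℤ k K)) (n : ℕ)
    (hn : Module.finrank K (EGA41.imperfection ℤ k K) ≤ n) :
    ∃ φ : k →+* MvPowerSeries (Fin n) K,
      letI := φ.toAlgebra
      CAlgX.IsAdicFormallySmooth k (MvPowerSeries (Fin n) K)
        (maximalIdeal (MvPowerSeries (Fin n) K)) ∧
      Nonempty (ResidueField (MvPowerSeries (Fin n) K) ≃ₐ[k] K) := by
  classical
  obtain ⟨D, hD⟩ := exists_derivations hfin n hn
  obtain ⟨φ, hφ⟩ := exists_ringHom_ps n D
  refine ⟨φ, ?_⟩
  letI algP : Algebra k (MvPowerSeries (Fin n) K) := φ.toAlgebra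
  letI algPK : Algebra (MvPowerSeries (Fin n) K) K :=
    (constantCoeff : MvPowerSeries (Fin n) K →+* K).toAlgebra
  have hPK : ∀ a : MvPowerSeries (Fin n) K, algebraMap (MvPowerSeries (Fin n) K) K a =
      constantCoeff a := fun a => rfl
  have hkP : ∀ x : k, algebraMap k (MvPowerSeries (Fin n) K) x = φ x := fun x => rfl
  have hcc0 : ∀ e ∈ maximalIdeal (MvPowerSeries (Fin n) K), constantCoeff e = 0 := by
    intro e he
    rw [Groth.Agent.H61.PS.mem_maximalIdeal_iff, IsLocalRing.maximalIdeal_eq_bot,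
      Ideal.mem_bot] at he
    exact he
  have hccφ : ∀ x, constantCoeff (φ x) = algebraMap k K x := by
    intro x
    have h1 := hcc0 _ (Ideal.pow_le_self (by norm_num) (hφ x))
    rw [map_sub, sub_eq_zero] at h1
    rw [h1, map_add, constantCoeff_C, map_sum]
    simp only [map_mul, constantCoeff_X, mul_zero, Finset.sum_const_zero, add_zero]
  have _ : IsScalarTower k (MvPowerSeries (Fin n) K) K :=
    IsScalarTower.of_algebraMap_eq (fun x => by rw [hPK, hkP, hccφ])
  have hsurj : Function.Surjective (algebraMap (MvPowerSeries (Fin n) K) K) :=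
    fun c => ⟨C c, by rw [hPK, constantCoeff_C]⟩
  have hpd : ∀ i x, constantCoeff (pderiv K i (φ x)) = D i x := by
    intro i x
    have h1 := hcc0 _ (pderiv_mem_of_mem_sq n i _ (hφ x))
    rw [map_sub, map_sub, sub_eq_zero] at h1
    rw [h1, map_add, pderiv_C, zero_add, map_sum, map_sum]
    rw [Finset.sum_eq_single i]
    · rw [Derivation.leibniz, pderiv_C, smul_zero, add_zero, pderiv_X_self, smul_eq_mul, mul_one,
        constantCoeff_C]
    · intro j _ hji
      rw [Derivation.leibniz, pderiv_C, smul_zero, add_zero, pderiv_X_of_ne hji, smul_zero,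
        map_zero]
    · intro h; exact absurd (Finset.mem_univ i) h
  have _ : IsAdicComplete (maximalIdeal K) K := Groth.Agent.H61.Obs.field_isAdicComplete K
  refine ⟨smooth_of_forall_exists_derivation (k := k) hsurj
    (Groth.Agent.H61.Obs.ps_isRegularLocalRing n) (fun d => ?_),
    ⟨(exists_residueEquiv (k := k) hsurj).choose⟩⟩
  obtain ⟨δ, c, hd⟩ := hD d
  let D₀ : MvPowerSeries (Fin n) K →+ K :=
    { toFun := fun a => δ (constantCoeff a) + ∑ i, c i * constantCoeff (pderiv K i a)
      map_zero' := by simp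
      map_add' := fun a b => by
        simp only [map_add, mul_add, Finset.sum_add_distrib]
        ring }
  have hD₀ : ∀ a, D₀ a = δ (constantCoeff a) + ∑ i, c i * constantCoeff (pderiv K i a) :=
    fun a => rfl
  refine ⟨@Derivation.mk ℤ (MvPowerSeries (Fin n) K) K _ _ _
    (Ring.toIntAlgebra (MvPowerSeries (Fin n) K)) _ _ D₀.toIntLinearMap ?_ (fun a b => ?_),
    fun x => ?_⟩
  · show D₀ 1 = 0
    rw [hD₀]
    simp only [constantCoeff_one, Derivation.map_one_eq_zero, map_zero, mul_zero,
      Finset.sum_const_zero, add_zero]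
  · show D₀ (a * b) = a • D₀ b + b • D₀ a
    rw [Algebra.smul_def, Algebra.smul_def, hPK, hPK, hD₀, hD₀, hD₀, map_mul, δ.leibniz,
      smul_eq_mul, smul_eq_mul, mul_add, mul_add, Finset.mul_sum, Finset.mul_sum]
    have h1 : ∑ i, c i * constantCoeff (pderiv K i (a * b)) =
        ∑ i, constantCoeff a * (c i * constantCoeff (pderiv K i b)) +
          ∑ i, constantCoeff b * (c i * constantCoeff (pderiv K i a)) := by
      rw [← Finset.sum_add_distrib]
      refine Finset.sum_congr rfl fun i _ => ?_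
      rw [Derivation.leibniz, smul_eq_mul, smul_eq_mul, map_add, map_mul, map_mul]
      ring
    rw [h1]
    ring
  · show D₀ (algebraMap k (MvPowerSeries (Fin n) K) x) = d x
    rw [hkP, hD₀, hd, hccφ]
    congr 1
    refine Finset.sum_congr rfl fun i _ => ?_
    rw [hpd]

theorem finite_ker_mapBaseChange_of_surjective {A K : Type u} [CommRing A] [IsNoetherianRing A]
    [Field K] [Algebra A K] (hsurj : Function.Surjective (algebraMap A K)) :
    (LinearMap.ker (KaehlerDifferential.mapBaseChange ℤ A K)).FG := by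
  have h1 : Module.Finite A (RingHom.ker (algebraMap A K)).Cotangent :=
    Module.Finite.of_surjective _ (Ideal.toCotangent_surjective _)
  have h2 : (LinearMap.range (KaehlerDifferential.kerCotangentToTensor ℤ A K)).FG := by
    rw [LinearMap.range_eq_map]
    exact (Module.Finite.fg_top).map _
  obtain ⟨s, hs⟩ := h2
  refine ⟨s, le_antisymm ?_ ?_⟩
  · rw [Submodule.span_le]
    intro y hy
    have h3 : y ∈ LinearMap.range (KaehlerDifferential.kerCotangentToTensor ℤ A K) :=
      hs ▸ Submodule.subset_span hy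
    rw [KaehlerDifferential.range_kerCotangentToTensor ℤ A K hsurj] at h3
    exact h3
  · intro y hy
    have h3 : y ∈ LinearMap.range (KaehlerDifferential.kerCotangentToTensor ℤ A K) := by
      rw [KaehlerDifferential.range_kerCotangentToTensor ℤ A K hsurj]
      exact hy
    rw [← hs] at h3
    exact Submodule.span_le_restrictScalars A K _ h3

theorem finite_ker_comp {K V W U : Type*} [Field K] [AddCommGroup V] [Module K V]
    [AddCommGroup W] [Module K W] [AddCommGroup U] [Module K U] (g : V →ₗ[K] W)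
    (f₂ : W →ₗ[K] U) (hg : Function.Injective g) (hfin : (LinearMap.ker f₂).FG) :
    Module.Finite K (LinearMap.ker (f₂ ∘ₗ g)) := by
  have h1 : Module.Finite K (LinearMap.ker f₂) := Module.Finite.iff_fg.2 hfin
  have h2 : IsNoetherian K (LinearMap.ker f₂) := inferInstance
  let r : LinearMap.ker (f₂ ∘ₗ g) →ₗ[K] LinearMap.ker f₂ := g.restrict (fun x hx => hx)
  exact Module.Finite.of_injective r
    (fun x y hxy => Subtype.ext (hg (congrArg Subtype.val hxy)))

theorem ext_baseChange_kaehler {k K : Type u} [Field k] [Field K] [Algebra k K] {W : Type*}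
    [AddCommGroup W] [Module K W] [Module k W] [IsScalarTower k K W]
    (g₁ g₂ : K ⊗[k] Ω[k⁄ℤ] →ₗ[K] W)
    (hg : ∀ x : k, g₁ (1 ⊗ₜ KaehlerDifferential.D ℤ k x) = g₂ (1 ⊗ₜ KaehlerDifferential.D ℤ k x)) :
    g₁ = g₂ := by
  apply TensorProduct.AlgebraTensorModule.ext
  intro c ω
  have h1 : c ⊗ₜ[k] ω = c • ((1 : K) ⊗ₜ[k] ω) := by
    rw [TensorProduct.smul_tmul', smul_eq_mul, mul_one]
  rw [h1, map_smul, map_smul]
  congr 1
  have key : (g₁.restrictScalars k) ∘ₗ (TensorProduct.mk k K (Ω[k⁄ℤ]) 1) =
      (g₂.restrictScalars k) ∘ₗ (TensorProduct.mk k K (Ω[k⁄ℤ]) 1) := by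
    apply Derivation.liftKaehlerDifferential_unique
    ext x
    exact hg x
  exact LinearMap.congr_fun key ω

theorem finite_imperfection_of_smooth {k A K : Type u} [Field k] [CommRing A] [IsLocalRing A]
    [IsNoetherianRing A] [Algebra k A] [Field K] [Algebra k K]
    (h : CAlgX.IsAdicFormallySmooth k A (maximalIdeal A)) (e : ResidueField A ≃ₐ[k] K) :
    Module.Finite K (EGA41.imperfection ℤ k K) := by
  letI algAK : Algebra A K := ((e : ResidueField A →+* K).comp (residue A)).toAlgebra
  have hAK : ∀ a, algebraMap A K a = e (residue A a) := fun _ => rfl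
  have _ : IsScalarTower k A K := IsScalarTower.of_algebraMap_eq (fun x => by
    rw [hAK, ← ResidueField.algebraMap_eq, ← IsScalarTower.algebraMap_apply, e.commutes])
  let eA : ResidueField A ≃ₗ[A] K :=
    { e.toRingEquiv.toAddEquiv with
      map_smul' := fun a l => by
        show e (a • l) = a • e l
        rw [Algebra.smul_def, map_mul, ResidueField.algebraMap_eq, Algebra.smul_def, hAK] }
  have hinjK : Function.Injective ((KaehlerDifferential.mapBaseChange ℤ k A).lTensor K) :=
    (lTensor_injective_iff_of_equiv eA _).1 (Groth.Agent.H87.FSTower.injective_of_smooth h)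
  have hsurj : Function.Surjective (algebraMap A K) :=
    e.surjective.comp IsLocalRing.residue_surjective
  let cb := TensorProduct.AlgebraTensorModule.cancelBaseChange k A K K (Ω[k⁄ℤ])
  have hg : Function.Injective
      (((KaehlerDifferential.mapBaseChange ℤ k A).baseChange K) ∘ₗ cb.symm.toLinearMap) := by
    have hcoe : ⇑((KaehlerDifferential.mapBaseChange ℤ k A).lTensor K) =
        ⇑((KaehlerDifferential.mapBaseChange ℤ k A).baseChange K) :=
      (LinearMap.baseChange_eq_ltensor (A := K) _).symm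
    rw [hcoe] at hinjK
    exact hinjK.comp cb.symm.injective
  have hfac : (KaehlerDifferential.mapBaseChange ℤ A K) ∘ₗ
      (((KaehlerDifferential.mapBaseChange ℤ k A).baseChange K) ∘ₗ cb.symm.toLinearMap) =
      KaehlerDifferential.mapBaseChange ℤ k K := by
    apply ext_baseChange_kaehler
    intro x
    rw [LinearMap.comp_apply, LinearMap.comp_apply, LinearEquiv.coe_coe,
      TensorProduct.AlgebraTensorModule.cancelBaseChange_symm_tmul, LinearMap.baseChange_tmul]
    simp only [KaehlerDifferential.mapBaseChange_tmul, one_smul, KaehlerDifferential.map_D]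
    rw [← IsScalarTower.algebraMap_apply]
  have h3 := finite_ker_comp _ _ hg (finite_ker_mapBaseChange_of_surjective hsurj)
  rw [hfac] at h3
  exact h3

end Groth.Agent.H87.FSExist
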