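import Mathlib.AlgebraicGeometry.Morphisms.Finite
import Mathlib.AlgebraicGeometry.Morphisms.UniversallyClosed
import Mathlib.RingTheory.Spectrum.Prime.Topology

set_option autoImplicit false
universe u

namespace Groth.Agent.H87

open AlgebraicGeometry CategoryTheory

/-- For a closed map to the spectrum of a local ring, every point specializes to a point over the
closed point. -/
theorem exists_specializes_over_closedPoint (R : Type u) [CommRing R] [IsLocalRing R]
    {P : Scheme.{u}} (p : P ⟶ Spec (CommRingCat.of R)) (hp : IsClosedMap p.base) (w : P) :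
    ∃ w' : P, w ⤳ w' ∧ p.base w' = IsLocalRing.closedPoint R := by
  have hC : IsClosed (p.base '' closure {w}) := hp _ isClosed_closure
  have hmem : p.base w ∈ p.base '' closure {w} := ⟨w, subset_closure rfl, rfl⟩
  have hsp : p.base w ⤳ IsLocalRing.closedPoint R := IsLocalRing.specializes_closedPoint _
  obtain ⟨w', hw', hpw'⟩ := hsp.mem_closed hC hmem
  exact ⟨w', specializes_iff_mem_closure.2 hw', hpw'⟩

/-- A point of an open `W` of `X`, finite over the spectrum of a local ring, specializes to a point of
`W` over the closed point. -/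
theorem exists_specializes_over_closedPoint_of_finite (R : Type u) [CommRing R] [IsLocalRing R]
    {X : Scheme.{u}} (f : X ⟶ Spec (CommRingCat.of R)) (W : X.Opens) [IsFinite (W.ι ≫ f)]
    (x : X) (hx : x ∈ W) :
    ∃ x' : X, x' ∈ W ∧ x ⤳ x' ∧ f.base x' = IsLocalRing.closedPoint R := by
  obtain ⟨w', hsp, hw'⟩ := exists_specializes_over_closedPoint R (W.ι ≫ f)
    (Scheme.Hom.isClosedMap (W.ι ≫ f)) (⟨x, hx⟩ : W)
  refine ⟨W.ι.base w', w'.2, ?_, ?_⟩
  · have := hsp.map W.ι.base.hom.continuous
    exact this
  · simpa using hw'

end Groth.Agent.H87
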