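import Groth.Agent.H87.AdicComplete
import Mathlib.RingTheory.AdicCompletion.Functoriality
import Mathlib.LinearAlgebra.Finsupp.Defs

set_option autoImplicit false
universe u v w

namespace Groth.Agent.H87

open W4c5adicflatcompl

section finsupp

variable {A : Type u} [CommRing A] (I : Ideal A) (Z : Type v) (M : Type w)
  [AddCommGroup M] [Module A M]

variable {Z M} in
theorem finsupp_mem_smul_top_of_forall (J : Ideal A) (f : Z →₀ M)
    (h : ∀ z, f z ∈ (J • ⊤ : Submodule A M)) : f ∈ (J • ⊤ : Submodule A (Z →₀ M)) := by
  classical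
  have hf : f = ∑ z ∈ f.support, Finsupp.single z (f z) := (Finsupp.sum_single f).symm
  rw [hf]
  refine Submodule.sum_mem _ (fun z _ => ?_)
  exact map_mem_smul_top J (Finsupp.lsingle z) (h z)

/-- the comparison map from the completion of finitely supported functions -/
noncomputable def finsuppCompMap : AdicCompletion I (Z →₀ M) →ₗ[A] (Z → AdicCompletion I M) :=
  LinearMap.pi fun z : Z =>
    (AdicCompletion.map I (Finsupp.lapply (M := M) (R := A) z)).restrictScalars A

variable {Z M} in
theorem finsuppCompMap_val (x : AdicCompletion I (Z →₀ M)) (z : Z) (n : ℕ) (f : Z →₀ M)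
    (hf : (Submodule.Quotient.mk f : (Z →₀ M) ⧸ (I ^ n • ⊤ : Submodule A (Z →₀ M))) = x.val n) :
    (finsuppCompMap I Z M x z).val n = Submodule.Quotient.mk (f z) := by
  show ((AdicCompletion.map I (Finsupp.lapply (M := M) (R := A) z)) x).val n = _
  rw [AdicCompletion.map_val_apply, ← hf]
  rfl

theorem finsuppCompMap_injective : Function.Injective (finsuppCompMap I Z M) := by
  rw [injective_iff_map_eq_zero]
  intro x hx
  apply AdicCompletion.ext
  intro n
  obtain ⟨f, hf⟩ := Submodule.Quotient.mk_surjective _ (x.val n)
  have hz : ∀ z, f z ∈ (I ^ n • ⊤ : Submodule A M) := by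
    intro z
    have h1 := finsuppCompMap_val I x z n f hf
    rw [hx] at h1
    rw [← Submodule.Quotient.mk_eq_zero, ← h1]
    rfl
  rw [← hf, AdicCompletion.val_zero_apply, Submodule.Quotient.mk_eq_zero]
  exact finsupp_mem_smul_top_of_forall (I ^ n) f hz

theorem range_finsuppCompMap [IsAdicComplete I (AdicCompletion I M)] :
    LinearMap.range (finsuppCompMap I Z M) = decaying I Z (AdicCompletion I M) := by
  classical
  have H := fun n x => exists_of_sub_mem_of_isPrecomplete I M n x
  apply le_antisymm
  · rintro _ ⟨x, rfl⟩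
    intro n
    obtain ⟨f, hf⟩ := Submodule.Quotient.mk_surjective _ (x.val n)
    refine f.finite_support.subset (fun z hz => ?_)
    simp only [Function.mem_support]
    intro h0
    apply hz
    apply mem_smul_top_of_val_eq_zero H
    rw [finsuppCompMap_val I x z n f hf, h0]
    rfl
  · intro g hg
    choose m hm using fun (z : Z) (n : ℕ) =>
      Submodule.Quotient.mk_surjective (I ^ n • ⊤ : Submodule A M) ((g z).val n)
    set S : ℕ → Finset Z := fun n => (hg n).toFinset with hSdef
    have hS : ∀ n z, z ∉ S n → g z ∈ (I ^ n • ⊤ : Submodule A (AdicCompletion I M)) := by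
      intro n z hz
      by_contra h
      exact hz ((hg n).mem_toFinset.2 h)
    have hmS : ∀ n z, z ∉ S n → m z n ∈ (I ^ n • ⊤ : Submodule A M) := by
      intro n z hz
      have h0 := val_eq_zero_of_mem_smul_top I M (hS n z hz)
      rw [← hm z n, Submodule.Quotient.mk_eq_zero] at h0
      exact h0
    have hmdiff : ∀ {a b : ℕ} (hab : a ≤ b) (z : Z),
        m z b - m z a ∈ (I ^ a • ⊤ : Submodule A M) := by
      intro a b hab z
      rw [← Submodule.Quotient.mk_eq_zero, Submodule.Quotient.mk_sub, sub_eq_zero]
      have h1 : (Submodule.Quotient.mk (m z a) : M ⧸ (I ^ a • ⊤ : Submodule A M)) =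
          (g z).val a := hm z a
      have h2 : (Submodule.Quotient.mk (m z b) : M ⧸ (I ^ a • ⊤ : Submodule A M)) =
          (g z).val a := by
        rw [← AdicCompletion.transitionMap_comp_eval_apply I M hab (g z), ← hm z b]
        rfl
      rw [h1, h2]
    set fn : ℕ → (Z →₀ M) := fun n => ∑ z ∈ S n, Finsupp.single z (m z n) with hfndef
    have hfn : ∀ n z, fn n z = if z ∈ S n then m z n else 0 := by
      intro n z
      simp only [hfndef, Finsupp.finset_sum_apply, Finsupp.single_apply]
      rw [Finset.sum_ite_eq']
    have hcompat : ∀ {a b : ℕ} (hab : a ≤ b),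
        fn b - fn a ∈ (I ^ a • ⊤ : Submodule A (Z →₀ M)) := by
      intro a b hab
      apply finsupp_mem_smul_top_of_forall
      intro z
      rw [Finsupp.sub_apply, hfn, hfn]
      have hle : (I ^ b • ⊤ : Submodule A M) ≤ I ^ a • ⊤ :=
        Submodule.smul_mono_left (Ideal.pow_le_pow_right hab)
      by_cases hb : z ∈ S b <;> by_cases ha : z ∈ S a
      · rw [if_pos hb, if_pos ha]
        exact hmdiff hab z
      · rw [if_pos hb, if_neg ha, sub_zero]
        have : m z b = (m z b - m z a) + m z a := by abel
        rw [this]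
        exact Submodule.add_mem _ (hmdiff hab z) (hmS a z ha)
      · rw [if_neg hb, if_pos ha, zero_sub]
        have : -m z a = (m z b - m z a) - m z b := by abel
        rw [this]
        exact Submodule.sub_mem _ (hmdiff hab z) (hle (hmS b z hb))
      · rw [if_neg hb, if_neg ha, sub_zero]
        exact Submodule.zero_mem _
    let x : AdicCompletion I (Z →₀ M) :=
      ⟨fun n => Submodule.Quotient.mk (fn n), fun {a b} hab => by
        show (Submodule.Quotient.mk (fn b) : (Z →₀ M) ⧸ (I ^ a • ⊤ : Submodule A (Z →₀ M))) =
          Submodule.Quotient.mk (fn a)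
        rw [Submodule.Quotient.eq]
        exact hcompat hab⟩
    refine ⟨x, ?_⟩
    funext z
    apply AdicCompletion.ext
    intro n
    rw [finsuppCompMap_val I x z n (fn n) rfl, hfn]
    by_cases hz : z ∈ S n
    · rw [if_pos hz]
      exact hm z n
    · rw [if_neg hz, val_eq_zero_of_mem_smul_top I M (hS n z hz)]
      rfl

end finsupp

end Groth.Agent.H87
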