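import Mathlib.RingTheory.LocalRing.Module

set_option autoImplicit false
universe u

namespace Groth.Agent.H87

open IsLocalRing Module

set_option backward.isDefEq.respectTransparency.types false in
/-- a flexible version of `IsLocalRing.linearIndependent_of_flat` -/
theorem linearIndependent_of_flat_of_semilinear {R : Type*} [CommRing R] [IsLocalRing R]
    {M : Type*} [AddCommGroup M] [Module R M] [Module.Flat R M]
    {K : Type*} [Field K] (π : R →+* K) (hπ : ∀ r ∈ maximalIdeal R, π r = 0)
    {V : Type*} [AddCommGroup V] [Module K V] (q : M →+ V)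
    (hq : ∀ (r : R) (y : M), q (r • y) = π r • q y)
    {ι : Type u} (v : ι → M) (h : LinearIndependent K (q ∘ v)) : LinearIndependent R v := by
  rw [linearIndependent_iff']; intro s f hfv i hi
  classical
  induction s using Finset.induction generalizing v i with
  | empty => exact (Finset.notMem_empty _ hi).elim
  | insert n s hn ih => ?_
  rw [← Finset.sum_coe_sort] at hfv
  have ⟨l, a, y, hay, hfa⟩ := Flat.isTrivialRelation_of_sum_smul_eq_zero hfv
  have : v n ∉ maximalIdeal R • (⊤ : Submodule R M) := by
    intro hmem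
    have hq0 : q (v n) = 0 := by
      refine Submodule.smul_induction_on hmem
        (fun r hr y _ => by rw [hq, hπ r hr, zero_smul])
        (fun a b ha hb => by rw [map_add, ha, hb, add_zero])
    exact h.ne_zero n hq0
  set n : ↥(insert n s) := ⟨n, Finset.mem_insert_self ..⟩ with n_def
  obtain ⟨j, hj⟩ : ∃ j, IsUnit (a n j) := by
    contrapose! this
    rw [show v n = _ from hay n]
    exact sum_mem fun _ _ ↦ Submodule.smul_mem_smul (this _) ⟨⟩
  let a' (i : ι) : R := if hi : _ then a ⟨i, hi⟩ j else 0
  have a_eq i : a i j = a' i.1 := by simp_rw [a', dif_pos i.2]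
  have hfn : f n = -(∑ i ∈ s, f i * a' i) * hj.unit⁻¹ := by
    rw [← hj.mul_left_inj, mul_assoc, hj.val_inv_mul, mul_one, eq_neg_iff_add_eq_zero]
    convert! hfa j
    simp_rw [a_eq, Finset.sum_coe_sort _ (fun i ↦ f i * a' i), s.sum_insert hn, n_def]
  let c (i : ι) : R := -(if i = n then 0 else a' i) * hj.unit⁻¹
  specialize ih (v + (c · • v n)) ?_ ?_
  · convert! (linearIndependent_add_smul_iff (c := π ∘ c) (i := n.1) ?_).mpr h
    · ext i
      simp [hq]
    simp_rw [Function.comp_def, c, if_pos, neg_zero, zero_mul, map_zero]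
  · rw [Finset.sum_coe_sort _ (fun i ↦ f i • v i), s.sum_insert hn, add_comm, hfn] at hfv
    simp_rw [Pi.add_apply, smul_add, s.sum_add_distrib, c, smul_smul, ← s.sum_smul, ← mul_assoc,
      ← s.sum_mul, mul_neg, s.sum_neg_distrib, ← hfv]
    congr 4
    exact s.sum_congr rfl fun i hi ↦ by rw [if_neg (ne_of_mem_of_not_mem hi hn)]
  obtain hi | hi := Finset.mem_insert.mp hi
  · rw [hi, hfn, Finset.sum_eq_zero, neg_zero, zero_mul]
    intro i hi; rw [ih i hi, zero_mul]
  · exact ih i hi

end Groth.Agent.H87
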