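import Groth.Agent.H34.GysinC1
import Groth.Agent.H27.GG_CORE

/-!
# Piece (CMP) of helper34's squad #7 (S1931), hypothesis-style w.r.t. the extended-ideal core fact
-/

set_option autoImplicit false
universe u
open CategoryTheory CategoryTheory.Limits AlgebraicGeometry TopologicalSpace Opposite

namespace Groth.Agent.H87.GG_CMP

open Groth.Agent.H18.TensorGen (IsGen exists_isGen)
open OmegaSh (pullSect)
open Groth.Agent.H95.SecOrd
open Groth.Agent.H95.AssGen (GenAt genAt_of_isGen germ_eq_smul_germ isUnit_germ_of_genAt)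
open Groth.Agent.H95.MeroData (germ_smul_eq_zero)

variable {X D D' : Scheme.{u}}

/-- If `f • t = a • τ_x` with `t` a generator of the stalk and `τ` a free generator near `x`, then
`a = f * w` with `w` a unit. -/
theorem exists_unit_of_smul_eq {L : X.Modules} {V : X.Opens} {τ : Γ(L, V)} (hτ : IsGen L V τ)
    (x : X) (hx : x ∈ V) (t : L.presheaf.stalk x)
    (ht : Submodule.span (X.presheaf.stalk x) {t} = ⊤) (f a : X.presheaf.stalk x)
    (h : f • t = a • L.presheaf.germ V x hx τ) :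
    ∃ w : X.presheaf.stalk x, IsUnit w ∧ a = f * w := by
  obtain ⟨w, hw⟩ := genAt_of_isGen hτ x hx t
  have hmem : L.presheaf.germ V x hx τ ∈ Submodule.span (X.presheaf.stalk x) {t} := by
    rw [ht]; exact Submodule.mem_top
  obtain ⟨w', hw'⟩ := Submodule.mem_span_singleton.mp hmem
  have h0 : (w' * w - 1) • L.presheaf.germ V x hx τ = 0 := by
    rw [sub_smul, one_smul, mul_smul, ← hw, hw', sub_self]
  have h1 := germ_smul_eq_zero hτ x hx _ h0
  have hwu : IsUnit w := IsUnit.of_mul_eq_one_right w' (sub_eq_zero.mp h1)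
  refine ⟨w, hwu, ?_⟩
  have h2 : (a - f * w) • L.presheaf.germ V x hx τ = 0 := by
    rw [sub_smul, mul_smul, ← hw, h, sub_self]
  exact sub_eq_zero.mp (germ_smul_eq_zero hτ x hx _ h2)

/-- Two generators of the same principal ideal of a local ring differ by a unit. -/
theorem exists_unit_mul_of_span_eq {R : Type*} [CommRing R] [IsLocalRing R] {a b : R}
    (h : Ideal.span {a} = Ideal.span {b}) : ∃ u : R, IsUnit u ∧ a = b * u := by
  have ha : a ∈ Ideal.span {b} := by rw [← h]; exact Ideal.mem_span_singleton_self a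
  have hb : b ∈ Ideal.span {a} := by rw [h]; exact Ideal.mem_span_singleton_self b
  obtain ⟨x, hx⟩ := Ideal.mem_span_singleton'.mp ha
  obtain ⟨y, hy⟩ := Ideal.mem_span_singleton'.mp hb
  by_cases hxu : IsUnit x
  · exact ⟨x, hxu, by rw [← hx, mul_comm]⟩
  · have hm : y * x ∈ IsLocalRing.maximalIdeal R :=
      Ideal.mul_mem_left _ _ ((IsLocalRing.mem_maximalIdeal x).mpr (mem_nonunits_iff.mpr hxu))
    have h1 : IsUnit (1 - y * x) :=
      IsLocalRing.isUnit_one_sub_self_of_mem_nonunits _ ((IsLocalRing.mem_maximalIdeal _).mp hm)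
    have hb0 : (1 - y * x) * b = 0 := by
      rw [sub_mul, one_mul, mul_assoc, hx, hy, sub_self]
    have hb0' : b = 0 := (h1.mul_right_eq_zero).mp hb0
    refine ⟨1, isUnit_one, ?_⟩
    rw [← hx, hb0', mul_zero, zero_mul]

/-- (CMP), hypothesis-style: `hcore` is the statement that the base change of the closed immersion
`i'` along `i` is cut out, stalkwise, by the extended ideal. -/
theorem secDivFun_zeroScheme_pullback_of {E : Scheme.{u}} (δ : X → ℤ)
    {L' : X.Modules} (hL' : PicF.IsInvertible L') (s' : L'.presheaf.obj (Opposite.op ⊤))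
    (i : D ⟶ X) (i' : D' ⟶ X) [IsClosedImmersion i] [IsClosedImmersion i']
    (hD' : Cyc.IsZeroSchemeOf i' L' s') (q : E ⟶ D) (q' : E ⟶ D') (hpb : IsPullback q q' i i')
    (hcore : ∀ (z : E) (h : i (q z) ⤳ i' (q' z)),
      RingHom.ker (q.stalkMap z).hom = Ideal.map (i.stalkMap (q z)).hom
        (Ideal.map (X.presheaf.stalkSpecializes h).hom (RingHom.ker (i'.stalkMap (q' z)).hom)))
    (σ' : ((Scheme.Modules.pullback i).obj L').presheaf.obj (Opposite.op ⊤))
    (hσ' : Cyc.IsZeroSchemeOf q ((Scheme.Modules.pullback i).obj L') σ')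
    (d d'' : D) :
    Cyc.secDivFun (fun d => δ (i d)) ((Scheme.Modules.pullback i).obj L') d
        (Submodule.Quotient.mk
          ((((Scheme.Modules.pullback i).obj L').presheaf.germ ⊤ d trivial) σ')) d'' =
      Cyc.secDivFun δ L' (i d)
        (Submodule.Quotient.mk ((L'.presheaf.germ ⊤ (i d) trivial) s')) (i d'') := by
  classical
  have hLi : PicF.IsInvertible ((Scheme.Modules.pullback i).obj L') :=
    Groth.Agent.H22.PullGen.isInvertible_pullback i hL'
  by_cases hr : d'' ∈ Set.range ⇑q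
  swap
  · have h1 : (Submodule.Quotient.mk
        (((Scheme.Modules.pullback i).obj L').presheaf.germ ⊤ d'' trivial σ') :
        Cyc.secFibre ((Scheme.Modules.pullback i).obj L') d'') ≠ 0 := by
      intro h0
      apply hr
      rw [hσ'.1]
      exact h0
    have h2 : (Submodule.Quotient.mk (L'.presheaf.germ ⊤ (i d'') trivial s') :
        Cyc.secFibre L' (i d'')) ≠ 0 := by
      intro h0
      have hmem : i d'' ∈ Set.range ⇑i' := by rw [hD'.1]; exact h0
      obtain ⟨d', hd'⟩ := hmem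
      obtain ⟨z, hz1, _⟩ := Scheme.Pullback.exists_preimage_pullback (f := i) (g := i') d'' d' hd'.symm
      apply hr
      refine ⟨hpb.isoPullback.inv z, ?_⟩
      have hcomp : q (hpb.isoPullback.inv z) = (pullback.fst i i') z := by
        rw [← hpb.isoPullback_inv_fst]
        exact (Scheme.Hom.comp_apply _ _ _).symm
      rw [hcomp]
      exact hz1
    rw [Groth.Agent.H34.GysinPieces.secDivFun_global_eq_zero _ hLi σ' d d'' h1,
      Groth.Agent.H34.GysinPieces.secDivFun_global_eq_zero δ hL' s' (i d) (i d'') h2]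
  obtain ⟨z, rfl⟩ := hr
  simp only [Cyc.secDivFun]
  by_cases hc : d ⤳ q z ∧ δ (i (q z)) + 1 = δ (i d)
  swap
  · have hc' : ¬ (i d ⤳ i (q z) ∧ δ (i (q z)) + 1 = δ (i d)) := fun h =>
      hc ⟨i.isClosedEmbedding.isInducing.specializes_iff.mp h.1, h.2⟩
    rw [dif_neg hc, dif_neg hc']
  have hc' : i d ⤳ i (q z) ∧ δ (i (q z)) + 1 = δ (i d) := ⟨hc.1.map i.continuous, hc.2⟩
  rw [dif_pos hc, dif_pos hc']
  have h := hc.1
  have h' := hc'.1
  obtain ⟨V, τ, hzV, hτ⟩ := exists_isGen hL' (i (q z))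
  have hdV : i d ∈ V := h'.mem_open V.isOpen hzV
  have hμ := Groth.Agent.H34.SubGen.isGen_pullSect i hL' hτ
  -- the coefficient of s' w.r.t. τ
  obtain ⟨c, hc0⟩ := (hτ (V ⊓ ⊤) inf_le_left).2
    (L'.presheaf.map (homOfLE (inf_le_right : V ⊓ ⊤ ≤ ⊤)).op s')
  have hcc : L'.presheaf.map (homOfLE (inf_le_right : V ⊓ ⊤ ≤ ⊤)).op s' =
      c • L'.presheaf.map (homOfLE (inf_le_left : V ⊓ ⊤ ≤ V)).op τ := hc0.symm
  -- the coefficient of σ' w.r.t. μ
  obtain ⟨e, he0⟩ := (hμ (i ⁻¹ᵁ V ⊓ ⊤) inf_le_left).2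
    (((Scheme.Modules.pullback i).obj L').presheaf.map
      (homOfLE (inf_le_right : i ⁻¹ᵁ V ⊓ ⊤ ≤ ⊤)).op σ')
  have hee : ((Scheme.Modules.pullback i).obj L').presheaf.map
      (homOfLE (inf_le_right : i ⁻¹ᵁ V ⊓ ⊤ ≤ ⊤)).op σ' =
      e • ((Scheme.Modules.pullback i).obj L').presheaf.map
        (homOfLE (inf_le_left : i ⁻¹ᵁ V ⊓ ⊤ ≤ i ⁻¹ᵁ V)).op (pullSect i L' V τ) := he0.symm
  have hzV' : q z ∈ i ⁻¹ᵁ V := hzV
  have hdV' : d ∈ i ⁻¹ᵁ V := hdV
  have hzP : i (q z) ∈ V ⊓ ⊤ := ⟨hzV, trivial⟩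
  have hdP : i d ∈ V ⊓ ⊤ := ⟨hdV, trivial⟩
  have hzP' : q z ∈ i ⁻¹ᵁ V ⊓ ⊤ := ⟨hzV, trivial⟩
  have hdP' : d ∈ i ⁻¹ᵁ V ⊓ ⊤ := ⟨hdV, trivial⟩
  -- orders via the generators
  have e1 := secOrdAt_eq_of_isGen hμ h hzV' hdV'
    (Submodule.Quotient.mk ((((Scheme.Modules.pullback i).obj L').presheaf.germ ⊤ d trivial) σ'))
    (D.presheaf.germ (i ⁻¹ᵁ V ⊓ ⊤) d hdP' e)
    (by rw [germ_eq_smul_germ (pullSect i L' V τ) σ' e hee d hdV' trivial hdP',
      Submodule.Quotient.mk_smul])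
  have e2 := secOrdAt_eq_of_isGen hτ h' hzV hdV
    (Submodule.Quotient.mk ((L'.presheaf.germ ⊤ (i d) trivial) s'))
    (X.presheaf.germ (V ⊓ ⊤) (i d) hdP c)
    (by rw [germ_eq_smul_germ τ s' c hcc (i d) hdV trivial hdP, Submodule.Quotient.mk_smul])
  rw [e1, e2]
  -- the local data at z
  obtain ⟨t, f, ht, hft, hker⟩ := hσ'.2 z
  obtain ⟨t', f', ht', hft', hker'⟩ := hD'.2 (q' z)
  have hx' : i (q z) = i' (q' z) := by
    have := congrArg (fun φ : E ⟶ X => φ z) hpb.w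
    simpa using this
  have hsp : i (q z) ⤳ i' (q' z) := specializes_of_eq hx'
  have hzVx : i' (q' z) ∈ V := hx' ▸ hzV
  have hzPx : i' (q' z) ∈ V ⊓ ⊤ := ⟨hzVx, trivial⟩
  -- X side at x' = i' (q' z)
  obtain ⟨w', hw'u, hw'⟩ := exists_unit_of_smul_eq hτ (i' (q' z)) hzVx t' ht' f'
    (X.presheaf.germ (V ⊓ ⊤) (i' (q' z)) hzPx c)
    (by rw [← hft', germ_eq_smul_germ τ s' c hcc (i' (q' z)) hzVx trivial hzPx])
  -- D side at q z
  obtain ⟨w, hwu, hw⟩ := exists_unit_of_smul_eq hμ (q z) hzV' t ht f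
    (D.presheaf.germ (i ⁻¹ᵁ V ⊓ ⊤) (q z) hzP' e)
    (by rw [← hft, germ_eq_smul_germ (pullSect i L' V τ) σ' e hee (q z) hzV' trivial hzP'])
  -- the core fact
  have hspan : Ideal.span {f} = Ideal.span
      {(i.stalkMap (q z)).hom ((X.presheaf.stalkSpecializes hsp).hom f')} := by
    rw [← hker, hcore z hsp, hker', Ideal.map_span, Ideal.map_span, Set.image_singleton,
      Set.image_singleton]
  obtain ⟨u, huu, hu⟩ := exists_unit_mul_of_span_eq hspan
  -- transport of the X-side equation to i (q z)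
  have hcz : X.presheaf.germ (V ⊓ ⊤) (i (q z)) hzP c =
      (X.presheaf.stalkSpecializes hsp).hom f' * (X.presheaf.stalkSpecializes hsp).hom w' := by
    rw [← map_mul, ← hw']
    exact (TopCat.Presheaf.germ_stalkSpecializes_apply X.presheaf hzPx hsp c).symm
  have hw'u2 : IsUnit ((i.stalkMap (q z)).hom ((X.presheaf.stalkSpecializes hsp).hom w')) :=
    (hw'u.map (X.presheaf.stalkSpecializes hsp).hom).map (i.stalkMap (q z)).hom
  obtain ⟨W', hW'⟩ := hw'u2
  -- the unit comparing e and the pullback of c at q z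
  have hzQ : q z ∈ i ⁻¹ᵁ (V ⊓ ⊤) := hzP
  have hdQ : d ∈ i ⁻¹ᵁ (V ⊓ ⊤) := hdP
  have gz : D.presheaf.germ (i ⁻¹ᵁ (V ⊓ ⊤)) (q z) hzQ (i.app (V ⊓ ⊤) c) =
      (i.stalkMap (q z)).hom (X.presheaf.germ (V ⊓ ⊤) (i (q z)) hzP c) :=
    (Scheme.Hom.germ_stalkMap_apply i (V ⊓ ⊤) (q z) hzP c).symm
  have gd : D.presheaf.germ (i ⁻¹ᵁ (V ⊓ ⊤)) d hdQ (i.app (V ⊓ ⊤) c) =
      (i.stalkMap d).hom (X.presheaf.germ (V ⊓ ⊤) (i d) hdP c) :=
    (Scheme.Hom.germ_stalkMap_apply i (V ⊓ ⊤) d hdP c).symm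
  have hez : D.presheaf.germ (i ⁻¹ᵁ V ⊓ ⊤) (q z) hzP' e =
      D.presheaf.germ (i ⁻¹ᵁ (V ⊓ ⊤)) (q z) hzQ (i.app (V ⊓ ⊤) c) * (↑W'⁻¹ * u * w) := by
    rw [gz, hcz, map_mul, ← hW', hw, hu]
    have key : ∀ (A W Wi u w : D.presheaf.stalk (q z)), W * Wi = 1 →
        A * u * w = A * W * (Wi * u * w) := by
      intro A W Wi u w hWW
      calc A * u * w = A * (W * Wi) * u * w := by rw [hWW, mul_one]
        _ = A * W * (Wi * u * w) := by ring
    exact key _ _ _ _ _ (Units.mul_inv W')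
  have hUu : IsUnit ((↑W'⁻¹ : D.presheaf.stalk (q z)) * u * w) :=
    ((W'⁻¹).isUnit.mul huu).mul hwu
  -- specialize to d
  have hed : D.presheaf.germ (i ⁻¹ᵁ V ⊓ ⊤) d hdP' e =
      D.presheaf.germ (i ⁻¹ᵁ (V ⊓ ⊤)) d hdQ (i.app (V ⊓ ⊤) c) *
        D.presheaf.stalkSpecializes h (↑W'⁻¹ * u * w) := by
    have := congrArg (fun a => D.presheaf.stalkSpecializes h a) hez
    simp only [map_mul] at this
    rw [TopCat.Presheaf.germ_stalkSpecializes_apply,
      TopCat.Presheaf.germ_stalkSpecializes_apply] at this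
    rw [map_mul, map_mul]
    exact this
  have e3 : D.residue d (D.presheaf.germ (i ⁻¹ᵁ (V ⊓ ⊤)) d hdQ (i.app (V ⊓ ⊤) c)) =
      (i.residueFieldMap d).hom (X.residue (i d) (X.presheaf.germ (V ⊓ ⊤) (i d) hdP c)) := by
    rw [gd]
    have := congrArg (fun φ => φ.hom (X.presheaf.germ (V ⊓ ⊤) (i d) hdP c))
      (Scheme.residue_residueFieldMap i d)
    exact this.symm
  rw [hed, map_mul, e3, ← specMap_apply h, ordAt_mul_specMap_unit h _ hUu,
    Groth.Agent.H54.KeyCIa.ordAt_residueFieldMap i h h' _]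

/-- The extended-ideal core fact in the transported form used above (from helper27's
`Groth.Agent.H27.GG_CORE.ker_stalkMap_of_isPullback` and helper9's
`Groth.Agent.H9.ker_stalkMap_of_isClosedImmersion`). -/
theorem core {E : Scheme.{u}} (i : D ⟶ X) (i' : D' ⟶ X) [IsClosedImmersion i]
    [IsClosedImmersion i'] (q : E ⟶ D) (q' : E ⟶ D') (hpb : IsPullback q q' i i') (z : E)
    (h : i (q z) ⤳ i' (q' z)) :
    RingHom.ker (q.stalkMap z).hom = Ideal.map (i.stalkMap (q z)).hom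
      (Ideal.map (X.presheaf.stalkSpecializes h).hom (RingHom.ker (i'.stalkMap (q' z)).hom)) := by
  obtain ⟨U, hU, hxU, -⟩ :=
    exists_isAffineOpen_mem_and_subset (X := X) (x := i' (q' z)) (U := ⊤) trivial
  have hz : i (q z) ∈ U := h.mem_open U.isOpen hxU
  have e : Ideal.map (X.presheaf.stalkSpecializes h).hom
      (Ideal.map (X.presheaf.germ U (i' (q' z)) hxU).hom (i'.ker.ideal ⟨U, hU⟩)) =
      Ideal.map (X.presheaf.germ U (i (q z)) hz).hom (i'.ker.ideal ⟨U, hU⟩) := by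
    rw [Ideal.map_map]
    congr 1
    exact RingHom.ext fun a => TopCat.Presheaf.germ_stalkSpecializes_apply X.presheaf hxU h a
  rw [Groth.Agent.H27.GG_CORE.ker_stalkMap_of_isPullback i i' q q' hpb z ⟨U, hU⟩ hz,
    Groth.Agent.H9.ker_stalkMap_of_isClosedImmersion i' ⟨U, hU⟩ (q' z) hxU, e]

/-- (CMP), EXACT statement of helper34's note 10171. -/
theorem secDivFun_zeroScheme_pullback {E : Scheme.{u}} (δ : X → ℤ) (hX : Cyc.IsSetup X δ)
    {L' : X.Modules} (hL' : PicF.IsInvertible L') (s' : L'.presheaf.obj (Opposite.op ⊤))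
    (i : D ⟶ X) (i' : D' ⟶ X) [IsClosedImmersion i] [IsClosedImmersion i']
    (hD' : Cyc.IsZeroSchemeOf i' L' s') (q : E ⟶ D) (q' : E ⟶ D') (hpb : IsPullback q q' i i')
    (σ' : ((Scheme.Modules.pullback i).obj L').presheaf.obj (Opposite.op ⊤))
    (hσ' : Cyc.IsZeroSchemeOf q ((Scheme.Modules.pullback i).obj L') σ')
    (d d'' : D)
    (hd : (Submodule.Quotient.mk ((L'.presheaf.germ ⊤ (i d) trivial) s') :
      Cyc.secFibre L' (i d)) ≠ 0) :
    Cyc.secDivFun (fun d => δ (i d)) ((Scheme.Modules.pullback i).obj L') d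
        (Submodule.Quotient.mk
          ((((Scheme.Modules.pullback i).obj L').presheaf.germ ⊤ d trivial) σ')) d'' =
      Cyc.secDivFun δ L' (i d)
        (Submodule.Quotient.mk ((L'.presheaf.germ ⊤ (i d) trivial) s')) (i d'') :=
  secDivFun_zeroScheme_pullback_of δ hL' s' i i' hD' q q' hpb (core i i' q q' hpb) σ' hσ' d d''

end Groth.Agent.H87.GG_CMP
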