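import Mathlib.NumberTheory.Multiplicity
import Mathlib.NumberTheory.LSeries.PrimesInAP
import Mathlib.RingTheory.ZMod.UnitsCyclic
import Mathlib.Data.Nat.Factorization.Basic
import Mathlib.FieldTheory.Finite.Basic
import Mathlib.Data.Nat.Totient

set_option autoImplicit false

namespace Groth.Agent.H87

open Finset

/-- the product `∏_{a=1}^g (ℓ^{2a} - 1)` -/
def lprod (ℓ g : ℕ) : ℕ := ∏ a ∈ Icc 1 g, (ℓ ^ (2 * a) - 1)

theorem one_lt_pow_two_mul {ℓ a : ℕ} (hℓ : 2 ≤ ℓ) (ha : 1 ≤ a) : 1 < ℓ ^ (2 * a) :=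
  Nat.one_lt_pow (by omega) (by omega)

theorem lprod_ne_zero {ℓ g : ℕ} (hℓ : 2 ≤ ℓ) : lprod ℓ g ≠ 0 := by
  rw [lprod, Finset.prod_ne_zero_iff]
  intro a ha
  have := one_lt_pow_two_mul hℓ (Finset.mem_Icc.1 ha).1
  omega

theorem padicValNat_lprod (p : ℕ) [Fact p.Prime] {ℓ g : ℕ} (hℓ : 2 ≤ ℓ) :
    padicValNat p (lprod ℓ g) = ∑ a ∈ Icc 1 g, padicValNat p (ℓ ^ (2 * a) - 1) := by
  unfold lprod
  have key : ∀ s : Finset ℕ, (∀ a ∈ s, ℓ ^ (2 * a) - 1 ≠ 0) →
      padicValNat p (∏ a ∈ s, (ℓ ^ (2 * a) - 1)) =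
        ∑ a ∈ s, padicValNat p (ℓ ^ (2 * a) - 1) := by
    intro s
    induction s using Finset.induction_on with
    | empty => intro _; simp
    | insert a s ha ih =>
      intro h
      rw [Finset.prod_insert ha, Finset.sum_insert ha,
        padicValNat.mul (h a (Finset.mem_insert_self a s))
          (Finset.prod_ne_zero_iff.2 (fun b hb => h b (Finset.mem_insert_of_mem hb))),
        ih (fun b hb => h b (Finset.mem_insert_of_mem hb))]
  apply key
  intro a ha
  have := one_lt_pow_two_mul hℓ (Finset.mem_Icc.1 ha).1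
  omega

theorem sum_padicValNat_Icc (p : ℕ) [Fact p.Prime] (g : ℕ) :
    ∑ a ∈ Icc 1 g, padicValNat p a = padicValNat p g.factorial := by
  induction g with
  | zero => simp
  | succ g ih =>
    rw [Finset.sum_Icc_succ_top (by omega), ih, Nat.factorial_succ,
      padicValNat.mul (by omega) (Nat.factorial_ne_zero g), add_comm]

section two

theorem padicValNat_two_pow_sub_one {ℓ a : ℕ} (hℓ : 3 ≤ ℓ) (hodd : Odd ℓ) (ha : 1 ≤ a) :
    padicValNat 2 (ℓ ^ (2 * a) - 1) =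
      padicValNat 2 (ℓ + 1) + padicValNat 2 (ℓ - 1) + padicValNat 2 a := by
  haveI : Fact (Nat.Prime 2) := ⟨Nat.prime_two⟩
  have h2 : ¬ 2 ∣ ℓ := hodd.not_two_dvd_nat
  have hdvd : 2 ∣ ℓ - 1 := by
    obtain ⟨t, rfl⟩ := hodd
    exact ⟨t, by omega⟩
  have h := padicValNat.pow_two_sub_pow (x := ℓ) (y := 1) (by omega) hdvd h2 (n := 2 * a)
    (by omega) (even_two_mul a)
  rw [one_pow] at h
  have h3 : padicValNat 2 (2 * a) = 1 + padicValNat 2 a := by
    rw [padicValNat.mul (by norm_num) (by omega), padicValNat_self]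
  omega

theorem padicValNat_two_lprod {ℓ g : ℕ} (hℓ : 3 ≤ ℓ) (hodd : Odd ℓ) :
    padicValNat 2 (lprod ℓ g) =
      g * (padicValNat 2 (ℓ + 1) + padicValNat 2 (ℓ - 1)) + padicValNat 2 g.factorial := by
  haveI : Fact (Nat.Prime 2) := ⟨Nat.prime_two⟩
  rw [padicValNat_lprod 2 (by omega), ← sum_padicValNat_Icc 2 g,
    Finset.sum_congr rfl
      (fun a ha => padicValNat_two_pow_sub_one hℓ hodd (Finset.mem_Icc.1 ha).1),
    Finset.sum_add_distrib, Finset.sum_const, Nat.card_Icc]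
  simp

theorem three_le_c {ℓ : ℕ} (hℓ : 3 ≤ ℓ) (hodd : Odd ℓ) :
    3 ≤ padicValNat 2 (ℓ + 1) + padicValNat 2 (ℓ - 1) := by
  haveI : Fact (Nat.Prime 2) := ⟨Nat.prime_two⟩
  obtain ⟨t, rfl⟩ := hodd
  have ht : 1 ≤ t := by omega
  rw [← padicValNat.mul (by omega) (by omega)]
  have e : (2 * t + 1 + 1) * (2 * t + 1 - 1) = 4 * (t * (t + 1)) := by
    have : 2 * t + 1 - 1 = 2 * t := by omega
    rw [this]
    ring
  have hne : (2 * t + 1 + 1) * (2 * t + 1 - 1) ≠ 0 := by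
    rw [e]
    positivity
  rw [← padicValNat_dvd_iff_le hne, e]
  obtain ⟨r, hr⟩ := Nat.even_mul_succ_self t
  rw [hr]
  exact ⟨r, by ring⟩

theorem c_eq_three {ℓ : ℕ} (h : ℓ % 8 = 3) :
    padicValNat 2 (ℓ + 1) + padicValNat 2 (ℓ - 1) = 3 := by
  haveI : Fact (Nat.Prime 2) := ⟨Nat.prime_two⟩
  obtain ⟨s, rfl⟩ : ∃ s, ℓ = 8 * s + 3 := ⟨ℓ / 8, by omega⟩
  have e1 : 8 * s + 3 + 1 = 2 ^ 2 * (2 * s + 1) := by ring
  have e2 : 8 * s + 3 - 1 = 2 * (4 * s + 1) := by omega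
  rw [e1, e2, padicValNat.mul (by norm_num) (by omega), padicValNat.mul (by norm_num) (by omega),
    padicValNat.prime_pow, padicValNat_self, padicValNat.eq_zero_of_not_dvd (by omega),
    padicValNat.eq_zero_of_not_dvd (by omega)]

end two

section odd

theorem sum_T (p q g : ℕ) (hq1 : 1 ≤ q) :
    ∑ a ∈ Icc 1 g, (if q ∣ a then 1 + padicValNat p (a / q) else 0) =
      g / q + ∑ i ∈ Icc 1 (g / q), padicValNat p i := by
  rw [← Finset.sum_filter]
  have key : ∑ a ∈ (Icc 1 g).filter (fun a => q ∣ a), (1 + padicValNat p (a / q)) =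
      ∑ i ∈ Icc 1 (g / q), (1 + padicValNat p i) := by
    apply Finset.sum_nbij' (fun a => a / q) (fun i => q * i)
    · intro a ha
      rw [Finset.mem_filter, Finset.mem_Icc] at ha
      obtain ⟨⟨h1, h2⟩, c, rfl⟩ := ha
      rw [Nat.mul_div_cancel_left c (by omega), Finset.mem_Icc]
      constructor
      · by_contra hc
        have hc0 : c = 0 := by omega
        subst hc0
        omega
      · exact (Nat.le_div_iff_mul_le (by omega)).2 (by rw [mul_comm]; exact h2)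
    · intro i hi
      rw [Finset.mem_Icc] at hi
      rw [Finset.mem_filter, Finset.mem_Icc]
      refine ⟨⟨?_, ?_⟩, dvd_mul_right q i⟩
      · exact Nat.mul_le_mul hq1 hi.1
      · have := (Nat.le_div_iff_mul_le (by omega : 0 < q)).1 hi.2
        rwa [mul_comm] at this
    · intro a ha
      rw [Finset.mem_filter] at ha
      exact Nat.mul_div_cancel' ha.2
    · intro i _
      exact Nat.mul_div_cancel_left i (by omega)
    · intro a _
      rfl
  rw [key, Finset.sum_add_distrib, Finset.sum_const, Nat.card_Icc]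
  simp

theorem fermat_dvd {p ℓ : ℕ} (hp : p.Prime) (hℓ : 1 ≤ ℓ) (hpl : ¬ p ∣ ℓ) :
    p ∣ ℓ ^ (p - 1) - 1 := by
  have hcop : Nat.Coprime ℓ p := ((Nat.Prime.coprime_iff_not_dvd hp).2 hpl).symm
  have h := Nat.ModEq.pow_totient hcop
  rw [Nat.totient_prime hp] at h
  exact (Nat.modEq_iff_dvd' (Nat.one_le_pow _ _ hℓ)).1 h.symm

theorem padicValNat_pow_mul_sub_one {p ℓ : ℕ} [hp : Fact p.Prime] (hodd : Odd p) (hℓ : 2 ≤ ℓ)
    (hpl : ¬ p ∣ ℓ) {i : ℕ} (hi : i ≠ 0) :
    padicValNat p (ℓ ^ ((p - 1) * i) - 1) =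
      padicValNat p (ℓ ^ (p - 1) - 1) + padicValNat p i := by
  have hp1 : p - 1 ≠ 0 := by
    have := hp.out.two_le
    omega
  have h1 : 1 < ℓ ^ (p - 1) := Nat.one_lt_pow hp1 (by omega)
  have h := padicValNat.pow_sub_pow hodd (x := ℓ ^ (p - 1)) (y := 1) h1
    (fermat_dvd hp.out (by omega) hpl) (fun h => hpl (hp.out.dvd_of_dvd_pow h)) hi
  rwa [one_pow, ← pow_mul] at h

theorem one_le_padicValNat_fermat {p ℓ : ℕ} [hp : Fact p.Prime] (hℓ : 2 ≤ ℓ) (hpl : ¬ p ∣ ℓ) :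
    1 ≤ padicValNat p (ℓ ^ (p - 1) - 1) := by
  have hp1 : p - 1 ≠ 0 := by
    have := hp.out.two_le
    omega
  have h1 : 1 < ℓ ^ (p - 1) := Nat.one_lt_pow hp1 (by omega)
  have hne : ℓ ^ (p - 1) - 1 ≠ 0 := by omega
  exact (padicValNat_dvd_iff_le hne).1 (by simpa using fermat_dvd hp.out (by omega) hpl)

theorem T_le {p q ℓ a : ℕ} [hp : Fact p.Prime] (hodd : Odd p) (hq : p = 2 * q + 1)
    (hℓ : 2 ≤ ℓ) (hpl : ¬ p ∣ ℓ) :
    (if q ∣ a then 1 + padicValNat p (a / q) else 0) ≤ padicValNat p (ℓ ^ (2 * a) - 1) ∨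
      a = 0 := by
  by_cases ha : a = 0
  · exact Or.inr ha
  left
  split_ifs with hqa
  · obtain ⟨i, rfl⟩ := hqa
    have hq0 : 0 < q := by
      have := hp.out.two_le
      omega
    have hi : i ≠ 0 := by
      rintro rfl
      exact ha (by simp)
    rw [Nat.mul_div_cancel_left i hq0]
    have e : 2 * (q * i) = (p - 1) * i := by
      have : p - 1 = 2 * q := by omega
      rw [this]
      ring
    rw [e, padicValNat_pow_mul_sub_one hodd hℓ hpl hi]
    have h1 := one_le_padicValNat_fermat (p := p) hℓ hpl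
    omega
  · exact Nat.zero_le _

theorem lower_odd {p q ℓ g : ℕ} [hp : Fact p.Prime] (hodd : Odd p) (hq : p = 2 * q + 1)
    (hℓ : 2 ≤ ℓ) (hpl : ¬ p ∣ ℓ) :
    g / q + ∑ i ∈ Icc 1 (g / q), padicValNat p i ≤ padicValNat p (lprod ℓ g) := by
  have hq1 : 1 ≤ q := by
    have := hp.out.two_le
    omega
  rw [padicValNat_lprod p hℓ, ← sum_T p q g hq1]
  refine Finset.sum_le_sum (fun a ha => ?_)
  rcases T_le (a := a) hodd hq hℓ hpl with h | h
  · exact h
  · have := (Finset.mem_Icc.1 ha).1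
    omega

theorem T_eq {p q ℓ a : ℕ} [hp : Fact p.Prime] (hodd : Odd p) (hq : p = 2 * q + 1)
    (hℓ : 2 ≤ ℓ) (hpl : ¬ p ∣ ℓ)
    (hP2 : ∀ n, 1 ≤ n → p ∣ ℓ ^ n - 1 → (p - 1) ∣ n)
    (hP3 : ¬ p ^ 2 ∣ ℓ ^ (p - 1) - 1) (ha : 1 ≤ a) :
    padicValNat p (ℓ ^ (2 * a) - 1) = (if q ∣ a then 1 + padicValNat p (a / q) else 0) := by
  have hp1 : p - 1 = 2 * q := by omega
  split_ifs with hqa
  · obtain ⟨i, rfl⟩ := hqa
    have hq0 : 0 < q := by
      have := hp.out.two_le
      omega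
    have hi : i ≠ 0 := by
      rintro rfl
      omega
    rw [Nat.mul_div_cancel_left i hq0]
    have e : 2 * (q * i) = (p - 1) * i := by
      rw [hp1]
      ring
    rw [e, padicValNat_pow_mul_sub_one hodd hℓ hpl hi]
    have h1 := one_le_padicValNat_fermat (p := p) hℓ hpl
    have h2 : padicValNat p (ℓ ^ (p - 1) - 1) < 2 := by
      by_contra hge
      push_neg at hge
      have hne : ℓ ^ (p - 1) - 1 ≠ 0 := by
        have : 1 < ℓ ^ (p - 1) := Nat.one_lt_pow (by omega) (by omega)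
        omega
      exact hP3 ((padicValNat_dvd_iff_le hne).2 hge)
    omega
  · apply padicValNat.eq_zero_of_not_dvd
    intro hdvd
    have h := hP2 (2 * a) (by omega) hdvd
    apply hqa
    rw [hp1] at h
    exact Nat.dvd_of_mul_dvd_mul_left (by norm_num) h

theorem exists_prime_generator (p : ℕ) [hp : Fact p.Prime] (hodd : Odd p) (B : ℕ) :
    ∃ ℓ, B < ℓ ∧ ℓ.Prime ∧ ¬ p ∣ ℓ ∧ (∀ n, 1 ≤ n → p ∣ ℓ ^ n - 1 → (p - 1) ∣ n) ∧
      ¬ p ^ 2 ∣ ℓ ^ (p - 1) - 1 := by
  have hp2 : p ≠ 2 := by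
    rintro rfl
    exact (by decide : ¬ Odd 2) hodd
  haveI : IsCyclic (ZMod (p ^ 2))ˣ := ZMod.isCyclic_units_of_prime_pow p hp.out hp2 2
  obtain ⟨u, hu⟩ := IsCyclic.exists_generator (α := (ZMod (p ^ 2))ˣ)
  haveI : NeZero (p ^ 2) := ⟨pow_ne_zero 2 hp.out.ne_zero⟩
  obtain ⟨ℓ, hℓB, hℓp, hℓu⟩ := Nat.forall_exists_prime_gt_and_eq_mod (q := p ^ 2)
    (a := (u : ZMod (p ^ 2))) u.isUnit B
  have hord : orderOf u = p * (p - 1) := by
    rw [orderOf_eq_card_of_forall_mem_zpowers hu, Nat.card_eq_fintype_card,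
      ZMod.card_units_eq_totient, Nat.totient_prime_pow hp.out (by norm_num)]
    simp
  have key : ∀ n, p ^ 2 ∣ ℓ ^ n - 1 ↔ p * (p - 1) ∣ n := by
    intro n
    rw [← hord, orderOf_dvd_iff_pow_eq_one, ← ZMod.natCast_eq_zero_iff,
      Nat.cast_sub (Nat.one_le_pow _ _ hℓp.pos), Nat.cast_pow, Nat.cast_one, sub_eq_zero, hℓu,
      ← Units.val_pow_eq_pow_val, Units.val_eq_one]
  have hP1 : ¬ p ∣ ℓ := by
    have hunit : IsUnit ((ℓ : ℕ) : ZMod (p ^ 2)) := hℓu ▸ u.isUnit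
    have hcop := (ZMod.isUnit_iff_coprime ℓ (p ^ 2)).1 hunit
    have hcop' : Nat.Coprime ℓ p := Nat.Coprime.coprime_dvd_right (dvd_pow_self p two_ne_zero) hcop
    exact (Nat.Prime.coprime_iff_not_dvd hp.out).1 hcop'.symm
  have hpm1 : 1 ≤ p - 1 := by
    have := hp.out.two_le
    omega
  refine ⟨ℓ, hℓB, hℓp, hP1, ?_, ?_⟩
  · intro n hn hdvd
    have hpn : ¬ p ∣ ℓ ^ n := fun h => hP1 (hp.out.dvd_of_dvd_pow h)
    have hlt : 1 < ℓ ^ n := Nat.one_lt_pow (by omega) hℓp.one_lt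
    have hv := padicValNat.pow_sub_pow hodd (x := ℓ ^ n) (y := 1) hlt hdvd hpn (n := p)
      hp.out.ne_zero
    rw [one_pow, ← pow_mul, padicValNat_self] at hv
    have h1 : 1 ≤ padicValNat p (ℓ ^ n - 1) :=
      (padicValNat_dvd_iff_le (by omega)).1 (by simpa using hdvd)
    have hlt2 : 1 < ℓ ^ (n * p) := Nat.one_lt_pow (by have := hp.out.pos; positivity) hℓp.one_lt
    have h2 : p ^ 2 ∣ ℓ ^ (n * p) - 1 := (padicValNat_dvd_iff_le (by omega)).2 (by omega)
    have h3 := (key (n * p)).1 h2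
    rw [mul_comm n p] at h3
    exact Nat.dvd_of_mul_dvd_mul_left hp.out.pos h3
  · intro h
    have h3 := (key (p - 1)).1 h
    have h4 := Nat.le_of_dvd (by omega) h3
    have h5 : 2 * (p - 1) ≤ p * (p - 1) := Nat.mul_le_mul_right _ hp.out.two_le
    omega

theorem upper_odd (p q g B : ℕ) [hp : Fact p.Prime] (hodd : Odd p) (hq : p = 2 * q + 1) :
    ∃ ℓ, B < ℓ ∧ ℓ.Prime ∧
      padicValNat p (lprod ℓ g) = g / q + ∑ i ∈ Icc 1 (g / q), padicValNat p i := by
  obtain ⟨ℓ, hB, hℓ, hP1, hP2, hP3⟩ := exists_prime_generator p hodd B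
  have hq1 : 1 ≤ q := by
    have := hp.out.two_le
    omega
  refine ⟨ℓ, hB, hℓ, ?_⟩
  rw [padicValNat_lprod p hℓ.two_le, ← sum_T p q g hq1]
  exact Finset.sum_congr rfl
    (fun a ha => T_eq hodd hq hℓ.two_le hP1 hP2 hP3 (Finset.mem_Icc.1 ha).1)

end odd

theorem prod_dvd_of_pairwise_coprime {ι : Type*} (s : Finset ι) (f : ι → ℕ) (z : ℕ)
    (hc : ∀ i ∈ s, ∀ j ∈ s, i ≠ j → Nat.Coprime (f i) (f j)) (hd : ∀ i ∈ s, f i ∣ z) :
    ∏ i ∈ s, f i ∣ z := by
  classical
  induction s using Finset.induction_on with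
  | empty => simp
  | insert a s ha ih =>
    rw [Finset.prod_insert ha]
    apply Nat.Coprime.mul_dvd_of_dvd_of_dvd
    · apply Nat.Coprime.prod_right
      intro j hj
      exact hc a (Finset.mem_insert_self a s) j (Finset.mem_insert_of_mem hj)
        (fun h => ha (h ▸ hj))
    · exact hd a (Finset.mem_insert_self a s)
    · exact ih (fun i hi j hj => hc i (Finset.mem_insert_of_mem hi) j (Finset.mem_insert_of_mem hj))
        (fun i hi => hd i (Finset.mem_insert_of_mem hi))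

theorem gcd_lprod (g B d : ℕ) (hB : 2 * g + 1 ≤ B) :
    (∀ ℓ : ℕ, ℓ.Prime → B < ℓ → d ∣ ∏ a ∈ Icc 1 g, (ℓ ^ (2 * a) - 1)) ↔
      d ∣ 2 ^ (3 * g + padicValNat 2 g.factorial) *
        ∏ p ∈ (Icc 3 (2 * g + 1)).filter Nat.Prime,
          p ^ ((2 * g) / (p - 1) + ∑ i ∈ Icc 1 ((2 * g) / (p - 1)), padicValNat p i) := by
  set N := 2 ^ (3 * g + padicValNat 2 g.factorial) *
        ∏ p ∈ (Icc 3 (2 * g + 1)).filter Nat.Prime,
          p ^ ((2 * g) / (p - 1) + ∑ i ∈ Icc 1 ((2 * g) / (p - 1)), padicValNat p i) with hN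
  have hNne : N ≠ 0 := by
    rw [hN]
    apply mul_ne_zero (pow_ne_zero _ two_ne_zero)
    rw [Finset.prod_ne_zero_iff]
    intro p hp
    exact pow_ne_zero _ (Nat.Prime.ne_zero (Finset.mem_filter.1 hp).2)
  have hlp : ∀ ℓ, ∏ a ∈ Icc 1 g, (ℓ ^ (2 * a) - 1) = lprod ℓ g := fun ℓ => rfl
  simp only [hlp]
  constructor
  · intro H
    obtain ⟨ℓ0, hℓ0B, hℓ0⟩ := Nat.exists_infinite_primes (B + 1)
    have hd : d ≠ 0 := by
      rintro rfl
      have := H ℓ0 hℓ0 (by omega)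
      rw [zero_dvd_iff] at this
      exact lprod_ne_zero hℓ0.two_le this
    rw [← Nat.factorization_prime_le_iff_dvd hd hNne]
    intro p hp
    haveI := Fact.mk hp
    rcases hp.eq_two_or_odd' with rfl | hodd
    · obtain ⟨ℓ, hℓB, hℓp, hℓmod⟩ := Nat.forall_exists_prime_gt_and_modEq B (q := 8) (a := 3)
        (by norm_num) (by norm_num)
      have hmod : ℓ % 8 = 3 := hℓmod
      have hoddℓ : Odd ℓ := by
        rw [Nat.odd_iff]
        omega
      have h3 : 3 ≤ ℓ := by omega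
      have hval : padicValNat 2 (lprod ℓ g) = 3 * g + padicValNat 2 g.factorial := by
        rw [padicValNat_two_lprod h3 hoddℓ, c_eq_three hmod]
        ring
      calc d.factorization 2 ≤ (lprod ℓ g).factorization 2 :=
            (Nat.factorization_le_iff_dvd hd (lprod_ne_zero hℓp.two_le)).2 (H ℓ hℓp hℓB) 2
        _ = 3 * g + padicValNat 2 g.factorial := by
            rw [Nat.factorization_def _ Nat.prime_two, hval]
        _ ≤ N.factorization 2 :=
            (Nat.prime_two.pow_dvd_iff_le_factorization hNne).1 (Dvd.intro _ rfl)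
    · obtain ⟨q, hq⟩ := hodd
      obtain ⟨ℓ, hℓB, hℓp, hval⟩ := upper_odd p q g B ⟨q, hq⟩ hq
      have h1 : d.factorization p ≤ g / q + ∑ i ∈ Icc 1 (g / q), padicValNat p i := by
        calc d.factorization p ≤ (lprod ℓ g).factorization p :=
              (Nat.factorization_le_iff_dvd hd (lprod_ne_zero hℓp.two_le)).2 (H ℓ hℓp hℓB) p
          _ = _ := by rw [Nat.factorization_def _ hp, hval]
      by_cases hple : p ≤ 2 * g + 1
      · have hp3 : 3 ≤ p := by
          have := hp.two_le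
          omega
        have hmem : p ∈ (Icc 3 (2 * g + 1)).filter Nat.Prime := by
          rw [Finset.mem_filter, Finset.mem_Icc]
          exact ⟨⟨hp3, hple⟩, hp⟩
        have hdiv : (2 * g) / (p - 1) = g / q := by
          have : p - 1 = 2 * q := by omega
          rw [this, Nat.mul_div_mul_left _ _ (by norm_num)]
        have hpow : p ^ (g / q + ∑ i ∈ Icc 1 (g / q), padicValNat p i) ∣ N := by
          rw [hN]
          apply Dvd.dvd.mul_left
          rw [← hdiv]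
          exact Finset.dvd_prod_of_mem
            (fun p => p ^ ((2 * g) / (p - 1) + ∑ i ∈ Icc 1 ((2 * g) / (p - 1)), padicValNat p i))
            hmem
        exact h1.trans ((hp.pow_dvd_iff_le_factorization hNne).1 hpow)
      · have h0 : g / q = 0 := Nat.div_eq_of_lt (by omega)
        rw [h0] at h1
        simp at h1
        rw [h1]
        exact Nat.zero_le _
  · intro hdN ℓ hℓ hBℓ
    refine dvd_trans hdN ?_
    rcases Nat.eq_zero_or_pos g with rfl | hg
    · simp [hN, lprod]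
    have hℓ3 : 3 < ℓ := by omega
    have hℓodd : Odd ℓ := hℓ.odd_of_ne_two (by omega)
    rw [hN]
    apply Nat.Coprime.mul_dvd_of_dvd_of_dvd
    · apply Nat.Coprime.prod_right
      intro p hp
      rw [Finset.mem_filter, Finset.mem_Icc] at hp
      apply Nat.Coprime.pow
      exact (Nat.coprime_primes Nat.prime_two hp.2).2 (by omega)
    · haveI : Fact (Nat.Prime 2) := ⟨Nat.prime_two⟩
      rw [padicValNat_dvd_iff_le (lprod_ne_zero hℓ.two_le),
        padicValNat_two_lprod (by omega) hℓodd]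
      have h3 := three_le_c (by omega : 3 ≤ ℓ) hℓodd
      have h4 : g * 3 ≤ g * (padicValNat 2 (ℓ + 1) + padicValNat 2 (ℓ - 1)) :=
        Nat.mul_le_mul_left g h3
      omega
    · apply prod_dvd_of_pairwise_coprime
      · intro p hp p' hp' hne
        rw [Finset.mem_filter] at hp hp'
        exact Nat.Coprime.pow _ _ ((Nat.coprime_primes hp.2 hp'.2).2 hne)
      · intro p hp
        rw [Finset.mem_filter, Finset.mem_Icc] at hp
        haveI := Fact.mk hp.2
        have hodd : Odd p := hp.2.odd_of_ne_two (by omega)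
        obtain ⟨q, hq⟩ := hodd
        have hpl : ¬ p ∣ ℓ := by
          intro h
          have := (Nat.prime_dvd_prime_iff_eq hp.2 hℓ).1 h
          omega
        have hdiv : (2 * g) / (p - 1) = g / q := by
          have : p - 1 = 2 * q := by omega
          rw [this, Nat.mul_div_mul_left _ _ (by norm_num)]
        rw [hdiv, padicValNat_dvd_iff_le (lprod_ne_zero hℓ.two_le)]
        exact lower_odd ⟨q, hq⟩ hq hℓ.two_le hpl

end Groth.Agent.H87
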