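import Mathlib

/-!
# Lower bound for the fibre rank of a finite module mapping onto a spanning set of `Kⁿ`
-/

set_option autoImplicit false
set_option maxHeartbeats 800000

namespace Groth.Agent.H87.GenRankD

open TensorProduct

/-- If `Φ : M → Kⁿ` has `K`-spanning image, `M` is finite over `A` and every `s ∉ p` is invertible
in `K`, then `n ≤ dim_{κ(p)} κ(p) ⊗_A M`. -/
theorem le_finrank_fibre {A : Type*} [CommRing A] {M : Type*} [AddCommGroup M] [Module A M]
    [Module.Finite A M]
    (p : Ideal A) [p.IsPrime] {K : Type*} [Field K] [Algebra A K]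
    (hK : ∀ s ∈ p.primeCompl, algebraMap A K s ≠ 0) (n : ℕ) (Φ : M →ₗ[A] (Fin n → K))
    (hΦ : Submodule.span K (Set.range Φ) = ⊤) :
    n ≤ Module.finrank p.ResidueField (p.ResidueField ⊗[A] M) := by
  classical
  let s : Set (p.ResidueField ⊗[A] M) := Set.range (fun m : M => (1 : p.ResidueField) ⊗ₜ[A] m)
  have hs : Submodule.span p.ResidueField s = ⊤ := by
    rw [eq_top_iff]
    rintro x -
    induction x using TensorProduct.induction_on with
    | zero => exact zero_mem _
    | tmul c m =>
      have : c ⊗ₜ[A] m = c • ((1 : p.ResidueField) ⊗ₜ[A] m) := by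
        rw [TensorProduct.smul_tmul', smul_eq_mul, mul_one]
      rw [this]
      exact Submodule.smul_mem _ _ (Submodule.subset_span ⟨m, rfl⟩)
    | add x y hx hy => exact add_mem hx hy
  obtain ⟨b, hbs, hbspan, hbli⟩ := exists_linearIndependent p.ResidueField s
  rw [hs] at hbspan
  let B : Module.Basis b p.ResidueField (p.ResidueField ⊗[A] M) :=
    Module.Basis.mk hbli (by rw [Subtype.range_coe]; exact hbspan.ge)
  haveI : Module.Finite p.ResidueField (p.ResidueField ⊗[A] M) := inferInstance
  haveI : Finite b := Module.Finite.finite_basis B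
  haveI : Fintype b := Fintype.ofFinite b
  have hr : Module.finrank p.ResidueField (p.ResidueField ⊗[A] M) = Fintype.card b :=
    Module.finrank_eq_card_basis B
  have hbs' : ∀ i : b, ∃ m : M, (1 : p.ResidueField) ⊗ₜ[A] m = (i : p.ResidueField ⊗[A] M) :=
    fun i => hbs i.2
  choose f hf using hbs'
  let N : Submodule A M := Submodule.span A (Set.range f)
  have hsub : Subsingleton (p.ResidueField ⊗[A] (M ⧸ N)) := by
    let g : (p.ResidueField ⊗[A] M) →ₗ[p.ResidueField] p.ResidueField ⊗[A] (M ⧸ N) :=
      LinearMap.baseChange p.ResidueField N.mkQ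
    have hg : Function.Surjective g := by
      have := LinearMap.lTensor_surjective p.ResidueField N.mkQ_surjective
      exact this
    have hg0 : g = 0 := by
      apply B.ext
      intro i
      rw [Module.Basis.mk_apply, ← hf i]
      show (1 : p.ResidueField) ⊗ₜ[A] N.mkQ (f i) = 0
      rw [Submodule.mkQ_apply, (Submodule.Quotient.mk_eq_zero N).mpr
        (Submodule.subset_span ⟨i, rfl⟩), tmul_zero]
    refine ⟨fun x y => ?_⟩
    obtain ⟨x', rfl⟩ := hg x
    obtain ⟨y', rfl⟩ := hg y
    rw [hg0]
    rfl
  have hsupp : (⟨p, inferInstance⟩ : PrimeSpectrum A) ∉ Module.support A (M ⧸ N) := by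
    rw [Module.mem_support_iff_nontrivial_residueField_tensorProduct]
    exact not_nontrivial_iff_subsingleton.mpr hsub
  rw [Module.notMem_support_iff'] at hsupp
  set T : Submodule K (Fin n → K) := Submodule.span K (Set.range (Φ ∘ f)) with hT
  have hN : ∀ x ∈ N, Φ x ∈ T := by
    intro x hx
    induction hx using Submodule.span_induction with
    | mem x hx =>
      obtain ⟨i, rfl⟩ := hx
      exact Submodule.subset_span ⟨i, rfl⟩
    | zero => rw [map_zero]; exact zero_mem _
    | add x y _ _ hx hy => rw [map_add]; exact add_mem hx hy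
    | smul a x _ hx =>
      rw [map_smul, ← algebraMap_smul K a]
      exact Submodule.smul_mem _ _ hx
  have hle : Submodule.span K (Set.range Φ) ≤ T := by
    rw [Submodule.span_le]
    rintro _ ⟨m, rfl⟩
    obtain ⟨r, hr, hrm⟩ := hsupp (N.mkQ m)
    have h1 : r • m ∈ N := by
      rw [← Submodule.Quotient.mk_eq_zero, Submodule.Quotient.mk_smul]
      exact hrm
    have h2 := hN _ h1
    rw [map_smul] at h2
    have hr' : algebraMap A K r ≠ 0 := hK r hr
    have h3 : Φ m = (algebraMap A K r)⁻¹ • (r • Φ m) := by
      rw [← algebraMap_smul K r, smul_smul, inv_mul_cancel₀ hr', one_smul]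
    rw [SetLike.mem_coe, h3]
    exact Submodule.smul_mem _ _ h2
  rw [hΦ, top_le_iff] at hle
  have h1 : Module.finrank K T = n := by
    rw [hle, finrank_top, Module.finrank_fin_fun]
  have h2 : Module.finrank K T ≤ Fintype.card b := by
    have := finrank_range_le_card (R := K) (Φ ∘ f)
    simpa [Set.finrank, hT] using this
  omega

end Groth.Agent.H87.GenRankD
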