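import Mathlib.LinearAlgebra.RootSystem.Base
import Mathlib.LinearAlgebra.RootSystem.Finite.Lemmas
import Mathlib.LinearAlgebra.RootSystem.Finite.CanonicalBilinear

set_option autoImplicit false

namespace Groth.Agent.H87

open Set

variable {ι R M N : Type*} [Field R] [LinearOrder R] [IsStrictOrderedRing R]
  [AddCommGroup M] [Module R M] [AddCommGroup N] [Module R N] [Fintype ι]
  (P : RootPairing ι R M N) [P.IsRootSystem] [P.IsCrystallographic] [P.IsReduced]
  (b : P.Base)

omit [Fintype ι] [P.IsRootSystem] [P.IsCrystallographic] [P.IsReduced] in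
theorem root_ne_neg_of_isPos {i j : ι} (hi : b.IsPos i) (hj : b.IsPos j) :
    P.root i ≠ -P.root j := by
  intro h
  rw [P.root_eq_neg_iff] at h
  subst h
  have h1 : b.height (P.reflectionPerm j j) = -b.height j := b.height_reflectionPerm_self j
  rw [b.isPos_iff] at hi hj
  omega

variable (θ : ι) (hθ : b.IsPos θ)
  (hmax : ∀ i : ι, b.IsPos i → P.root θ + P.root i ∉ Set.range P.root)

include hθ hmax

theorem pairingIn_highest_nonneg (i : ι) (hi : b.IsPos i) : 0 ≤ P.pairingIn ℤ i θ := by
  by_contra hneg
  push_neg at hneg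
  have := P.root_add_root_mem_of_pairingIn_neg hneg (root_ne_neg_of_isPos P b hi hθ)
  rw [add_comm] at this
  exact hmax i hi this

theorem pairingIn_highest_le_one (i : ι) (hi : b.IsPos i) (hne : i ≠ θ) :
    P.pairingIn ℤ i θ ≤ 1 := by
  by_contra hgt
  push_neg at hgt
  have hpos : 0 < P.pairingIn ℤ i θ := by omega
  have hpos' : 0 < P.pairingIn ℤ θ i := (P.zero_lt_pairingIn_iff' ℤ).1 hpos
  obtain ⟨γ, hγ⟩ := P.root_sub_root_mem_of_pairingIn_pos hpos' (Ne.symm hne)
  by_cases hγpos : b.IsPos γ
  · have hsum : P.root θ = P.root γ + P.root i := by rw [hγ]; abel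
    have hpair : P.pairing γ θ = 2 - P.pairing i θ := by
      have := RootPairing.pairing_eq_add_of_root_eq_add (l := θ) hsum
      rw [P.pairing_same] at this
      linarith
    have hpairZ : P.pairingIn ℤ γ θ = 2 - P.pairingIn ℤ i θ := by
      apply FaithfulSMul.algebraMap_injective ℤ R
      rw [P.algebraMap_pairingIn, hpair, map_sub, P.algebraMap_pairingIn]
      simp
    rcases eq_or_lt_of_le (show 2 ≤ P.pairingIn ℤ i θ by omega) with h2 | h2
    · have hp2 : P.pairing i θ = 2 := by
        rw [← P.algebraMap_pairingIn ℤ, ← h2]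
        simp
      have hrefl : P.root (P.reflectionPerm θ i) = P.root i - (2 : R) • P.root θ := by
        rw [P.root_reflectionPerm, P.reflection_apply_root, hp2]
      have hmem : P.root θ + P.root γ ∈ Set.range P.root := by
        rw [← P.neg_mem_range_root_iff]
        refine ⟨P.reflectionPerm θ i, ?_⟩
        rw [hrefl, hγ, two_smul]
        abel
      exact hmax γ hγpos hmem
    · have hnegp : P.pairingIn ℤ γ θ < 0 := by omega
      have := P.root_add_root_mem_of_pairingIn_neg hnegp (root_ne_neg_of_isPos P b hγpos hθ)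
      rw [add_comm] at this
      exact hmax γ hγpos this
  · have hnegpos : b.IsPos (P.reflectionPerm γ γ) := by
      have h := RootPairing.Base.IsPos.or_neg b γ
      exact h.resolve_left hγpos
    have hroot : P.root (P.reflectionPerm γ γ) = P.root i - P.root θ := by
      rw [P.root_reflectionPerm, P.reflection_apply_self, hγ]
      abel
    apply hmax _ hnegpos
    rw [hroot]
    exact ⟨i, by abel⟩

theorem sum_pairing_sq_highest :
    ∑ i ∈ Finset.univ.filter (fun i => 0 < b.height i), P.pairing i θ ^ 2 =
      2 + ∑ i ∈ Finset.univ.filter (fun i => 0 < b.height i), P.pairing i θ := by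
  rw [← sub_eq_iff_eq_add, ← Finset.sum_sub_distrib]
  have hθmem : θ ∈ Finset.univ.filter (fun i => 0 < b.height i) := by
    rw [Finset.mem_filter]
    exact ⟨Finset.mem_univ _, hθ⟩
  rw [Finset.sum_eq_single_of_mem θ hθmem]
  · rw [P.pairing_same]
    norm_num
  · intro i hi hne
    have hipos : b.IsPos i := (Finset.mem_filter.1 hi).2
    have h0 := pairingIn_highest_nonneg P b θ hθ hmax i hipos
    have h1 := pairingIn_highest_le_one P b θ hθ hmax i hipos hne
    have hx : P.pairingIn ℤ i θ = 0 ∨ P.pairingIn ℤ i θ = 1 := by omega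
    rw [← P.algebraMap_pairingIn ℤ]
    rcases hx with hx | hx <;> rw [hx] <;> simp

end Groth.Agent.H87
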