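import Mathlib.RingTheory.GradedAlgebra.HomogeneousLocalization
import Mathlib.Algebra.BigOperators.Fin

set_option autoImplicit false
universe u v

namespace Groth.Agent.H87

open HomogeneousLocalization

variable {R : Type u} {A : Type v} [CommRing R] [CommRing A] [Algebra R A]
  (𝒜 : ℕ → Submodule R A) [GradedAlgebra 𝒜]

theorem loc_mk_eq_of_mul_eq {S : Submonoid A} (a c : A) (b d : S) (h : (d : A) * a = b * c) :
    Localization.mk a b = Localization.mk c d := by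
  rw [Localization.mk_eq_mk_iff, Localization.r_iff_exists]
  exact ⟨1, by simp [h]⟩

/-- the fractions `f / x` with `f` of degree `s` -/
def fracSet (x : A) (s : ℕ) : Set (Away 𝒜 x) :=
  {z | ∃ f ∈ 𝒜 s, z.val = Localization.mk f ⟨x, Submonoid.mem_powers _⟩}

theorem mk_mem_fracSet {x : A} {s : ℕ} (hx : x ∈ 𝒜 s) (f : A) (hf : f ∈ 𝒜 s) :
    Away.mk 𝒜 hx 1 f (by simpa using hf) ∈ fracSet 𝒜 x s := by
  refine ⟨f, hf, ?_⟩
  rw [Away.val_mk]
  congr 1
  apply Subtype.ext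
  simp

section

variable {x t g : A} {s e : ℕ} (hxs : x ∈ 𝒜 s) (ht : t ∈ 𝒜 1) (hg : g ∈ 𝒜 e) (hx : x = t * g)

include hxs ht hg hx in
/-- Reduction step: generation of `A_(x)` from generation of `A_(t)`. -/
theorem adjoin_fracSet_eq_top
    (hgen : Algebra.adjoin (𝒜 0)
      {z : Away 𝒜 t | ∃ f ∈ 𝒜 s, z.val = Localization.mk f
        ⟨t ^ s, Submonoid.pow_mem _ (Submonoid.mem_powers t) s⟩} = ⊤)
    (H1 : ∀ (f : A) (hf : f ∈ 𝒜 (s • 1)),
      awayMap 𝒜 hg hx (Away.mk 𝒜 ht s f hf) ∈ Algebra.adjoin (𝒜 0) (fracSet 𝒜 x s)) :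
    Algebra.adjoin (𝒜 0) (fracSet 𝒜 x s) = ⊤ := by
  rw [eq_top_iff]
  rintro z -
  obtain ⟨m, a, ha, rfl⟩ := Away.mk_surjective 𝒜 hxs z
  have ha' : a ∈ 𝒜 ((s * m) • 1) := by simpa [mul_comm] using ha
  set w : Away 𝒜 t := Away.mk 𝒜 ht (s * m) a ha' with hw
  have hts : t ^ s ∈ 𝒜 s := by simpa using SetLike.pow_mem_graded s ht
  set y : Away 𝒜 x := Away.mk 𝒜 hxs 1 (t ^ s) (by simpa using hts) with hy
  have hyB : y ∈ Algebra.adjoin (𝒜 0) (fracSet 𝒜 x s) :=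
    Algebra.subset_adjoin (mk_mem_fracSet 𝒜 hxs _ hts)
  have hwB : awayMap 𝒜 hg hx w ∈ Algebra.adjoin (𝒜 0) (fracSet 𝒜 x s) := by
    have hwtop : w ∈ Algebra.adjoin (𝒜 0)
      {z : Away 𝒜 t | ∃ f ∈ 𝒜 s, z.val = Localization.mk f
        ⟨t ^ s, Submonoid.pow_mem _ (Submonoid.mem_powers t) s⟩} := by rw [hgen]; trivial
    have hmap : (Algebra.adjoin (𝒜 0)
      {z : Away 𝒜 t | ∃ f ∈ 𝒜 s, z.val = Localization.mk f
        ⟨t ^ s, Submonoid.pow_mem _ (Submonoid.mem_powers t) s⟩}).map (awayMapₐ 𝒜 hg hx) ≤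
        Algebra.adjoin (𝒜 0) (fracSet 𝒜 x s) := by
      rw [AlgHom.map_adjoin, Algebra.adjoin_le_iff]
      rintro _ ⟨z', ⟨f, hf, hz'⟩, rfl⟩
      have hf' : f ∈ 𝒜 (s • 1) := by simpa using hf
      have : z' = Away.mk 𝒜 ht s f hf' := by
        apply HomogeneousLocalization.val_injective
        rw [hz', Away.val_mk]
      rw [this]
      exact H1 f hf'
    exact hmap ⟨w, hwtop, rfl⟩
  have hz : Away.mk 𝒜 hxs m a ha = awayMap 𝒜 hg hx w * y ^ m := by
    apply HomogeneousLocalization.val_injective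
    rw [HomogeneousLocalization.val_mul, HomogeneousLocalization.val_pow, hw,
      awayMap_mk 𝒜 hg hx (s * m) ht a ha', Away.val_mk, Away.val_mk, hy, Away.val_mk,
      Localization.mk_pow, Localization.mk_mul]
    apply loc_mk_eq_of_mul_eq
    simp only [Submonoid.coe_mul, SubmonoidClass.coe_pow]
    rw [hx]
    ring
  rw [hz]
  exact Subalgebra.mul_mem _ hwB (Subalgebra.pow_mem _ hyB m)

end

end Groth.Agent.H87
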