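import Groth.Agent.H87.HomLoc

set_option autoImplicit false
universe u v

namespace Groth.Agent.H87

open HomogeneousLocalization

variable {R : Type u} {A : Type v} [CommRing R] [CommRing A] [Algebra R A]
  (𝒜 : ℕ → Submodule R A) [GradedAlgebra 𝒜]

theorem adjoin_fracSet_prod_eq_top
    {n : ℕ} (σ : Fin n → A) (hσ : ∀ i, σ i ∈ 𝒜 1) {s : ℕ} (hs : 0 < s)
    (hgen : ∀ i, Algebra.adjoin (𝒜 0)
      {z : HomogeneousLocalization.Away 𝒜 (σ i) |
        ∃ f ∈ 𝒜 s, z.val = Localization.mk f ⟨σ i ^ s, Submonoid.pow_mem _ (Submonoid.mem_powers (σ i)) s⟩} = ⊤)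
    (K : Fin n → ℕ) (hK : ∑ i, K i = s) :
    Algebra.adjoin (𝒜 0) (fracSet 𝒜 (∏ i, σ i ^ K i) s) = ⊤ := by
  classical
  set x : A := ∏ i, σ i ^ K i with hxdef
  have hxs : x ∈ 𝒜 s := by
    have := SetLike.prod_pow_mem_graded 𝒜 (fun _ : Fin n => 1) σ K (F := Finset.univ)
      (fun k _ => hσ k)
    simpa [hK] using this
  obtain ⟨i₀, -, hi₀⟩ : ∃ i ∈ (Finset.univ : Finset (Fin n)), K i ≠ 0 := by
    apply Finset.exists_ne_zero_of_sum_ne_zero
    rw [hK]; exact hs.ne'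
  set g : A := σ i₀ ^ (K i₀ - 1) * ∏ j ∈ Finset.univ.erase i₀, σ j ^ K j with hgdef
  have hx : x = σ i₀ * g := by
    rw [hxdef, hgdef, ← Finset.mul_prod_erase Finset.univ _ (Finset.mem_univ i₀), ← mul_assoc,
      ← pow_succ', Nat.sub_add_cancel (Nat.pos_of_ne_zero hi₀)]
  have hsum : K i₀ + ∑ j ∈ Finset.univ.erase i₀, K j = s := by
    rw [Finset.add_sum_erase Finset.univ K (Finset.mem_univ i₀), hK]
  have hg : g ∈ 𝒜 (s - 1) := by
    have h1 : σ i₀ ^ (K i₀ - 1) ∈ 𝒜 ((K i₀ - 1) • 1) := SetLike.pow_mem_graded _ (hσ i₀)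
    have h2 := SetLike.prod_pow_mem_graded 𝒜 (fun _ : Fin n => 1) σ K
      (F := Finset.univ.erase i₀) (fun k _ => hσ k)
    have h3 := SetLike.mul_mem_graded h1 h2
    have he : (K i₀ - 1) • 1 + ∑ k ∈ Finset.univ.erase i₀, K k • 1 = s - 1 := by
      simp only [smul_eq_mul, mul_one]
      have := Nat.pos_of_ne_zero hi₀
      omega
    rwa [he] at h3
  have hσg : ∀ j, σ j * g ∈ 𝒜 s := by
    intro j
    have := SetLike.mul_mem_graded (hσ j) hg
    rwa [show 1 + (s - 1) = s by omega] at this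
  apply adjoin_fracSet_eq_top 𝒜 hxs (hσ i₀) hg hx (hgen i₀)
  intro f hf
  have hfs : f ∈ 𝒜 s := by simpa using hf
  rw [awayMap_mk 𝒜 hg hx s (hσ i₀) f hf]
  -- the decomposition
  have hdecomp : Away.mk 𝒜 (hx ▸ SetLike.mul_mem_graded (hσ i₀) hg) s (f * g ^ s)
      (by rw [smul_add]; exact SetLike.mul_mem_graded hf (SetLike.pow_mem_graded s hg)) =
      Away.mk 𝒜 hxs 1 f (by simpa using hfs) *
        ∏ j, (Away.mk 𝒜 hxs 1 (σ j * g) (by simpa using hσg j)) ^ K j := by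
    apply HomogeneousLocalization.val_injective
    rw [HomogeneousLocalization.val_mul, ← HomogeneousLocalization.algebraMap_apply
      (y := ∏ j, (Away.mk 𝒜 hxs 1 (σ j * g) (by simpa using hσg j)) ^ K j), map_prod]
    simp only [map_pow, HomogeneousLocalization.algebraMap_apply, Away.val_mk,
      Localization.mk_pow, Localization.mk_prod, Localization.mk_mul]
    apply loc_mk_eq_of_mul_eq
    simp only [Submonoid.coe_mul, SubmonoidClass.coe_pow, pow_one,
      Finset.prod_pow_eq_pow_sum, hK, mul_pow, Finset.prod_mul_distrib]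
    rw [← hxdef]
    ring
  rw [hdecomp]
  refine Subalgebra.mul_mem _ (Algebra.subset_adjoin (mk_mem_fracSet 𝒜 hxs f hfs)) ?_
  refine Subalgebra.prod_mem _ (fun j _ => Subalgebra.pow_mem _ ?_ _)
  exact Algebra.subset_adjoin (mk_mem_fracSet 𝒜 hxs _ (hσg j))

end Groth.Agent.H87
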