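import Mathlib

set_option autoImplicit false
universe u

namespace Groth.Agent.H87.HopfConn

open WithConv

section translation
variable (k : Type u) [Field k] (A : Type u) [CommRing A] [HopfAlgebra k A]

theorem exists_translation (g : A →ₐ[k] k) :
    ∃ τ : A ≃ₐ[k] A, (Bialgebra.counitAlgHom k A).comp (τ : A →ₐ[k] A) = g := by
  classical
  let u : WithConv (A →ₐ[k] A) := toConv ((Algebra.ofId k A).comp g)
  let I : WithConv (A →ₐ[k] A) := toConv (AlgHom.id k A)
  have hfix : ∀ w : WithConv (A →ₐ[k] A), (∀ f : A →ₐ[k] A, f.comp w.ofConv = w.ofConv) →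
      ∀ v : WithConv (A →ₐ[k] A),
        (v * I).ofConv.comp (w * I).ofConv = (w * v * I).ofConv := by
    intro w hw v
    rw [AlgHom.comp_convMul_distrib, hw]
    have h3 : (v * I).ofConv.comp I.ofConv = (v * I).ofConv := AlgHom.comp_id _
    rw [h3, toConv_ofConv, toConv_ofConv, mul_assoc]
  have hu : ∀ f : A →ₐ[k] A, f.comp u.ofConv = u.ofConv := by
    intro f
    ext a
    simp [u]
  have hu' : ∀ f : A →ₐ[k] A, f.comp (u⁻¹).ofConv = (u⁻¹).ofConv := by
    intro f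
    have h3 : (u⁻¹).ofConv = u.ofConv.comp (HopfAlgebra.antipodeAlgHom k A) := rfl
    rw [h3, ← AlgHom.comp_assoc, hu]
  have h1 : (u * I).ofConv.comp (u⁻¹ * I).ofConv = AlgHom.id k A := by
    have h3 := hfix _ hu' u
    rw [inv_mul_cancel, one_mul] at h3
    exact h3
  have h2 : (u⁻¹ * I).ofConv.comp (u * I).ofConv = AlgHom.id k A := by
    have h3 := hfix _ hu u⁻¹
    rw [mul_inv_cancel, one_mul] at h3
    exact h3
  refine ⟨AlgEquiv.ofAlgHom (u * I).ofConv (u⁻¹ * I).ofConv h1 h2, ?_⟩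
  change (Bialgebra.counitAlgHom k A).comp (u * I).ofConv = g
  rw [AlgHom.comp_convMul_distrib]
  have e1 : (Bialgebra.counitAlgHom k A).comp u.ofConv = g := by
    ext a
    simp [u]
  have e2 : toConv ((Bialgebra.counitAlgHom k A).comp I.ofConv) =
      (1 : WithConv (A →ₐ[k] k)) := by
    apply WithConv.ext
    ext a
    simp [I, AlgHom.convOne_def]
  rw [e1, e2, mul_one]

end translation

section points
variable (k : Type u) [Field k] [IsAlgClosed k] (A : Type u) [CommRing A] [Algebra k A]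
  [Algebra.FiniteType k A]

theorem exists_point (M : Ideal A) (hM : M.IsMaximal) :
    ∃ g : A →ₐ[k] k, RingHom.ker g = M := by
  have := hM
  let : Field (A ⧸ M) := Ideal.Quotient.field M
  have : Algebra.FiniteType k (A ⧸ M) :=
    Algebra.FiniteType.of_surjective (Ideal.Quotient.mkₐ k M) (Ideal.Quotient.mkₐ_surjective k M)
  have : Module.Finite k (A ⧸ M) := finite_of_finite_type_of_isJacobsonRing k (A ⧸ M)
  have : Algebra.IsIntegral k (A ⧸ M) := Algebra.IsIntegral.of_finite k (A ⧸ M)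
  have hbij : Function.Bijective (algebraMap k (A ⧸ M)) :=
    IsAlgClosed.algebraMap_bijective_of_isIntegral
  let e : k ≃ₐ[k] (A ⧸ M) := AlgEquiv.ofBijective (Algebra.ofId k (A ⧸ M)) hbij
  refine ⟨(e.symm : (A ⧸ M) →ₐ[k] k).comp (Ideal.Quotient.mkₐ k M), ?_⟩
  ext x
  rw [RingHom.mem_ker]
  change e.symm (Ideal.Quotient.mk M x) = 0 ↔ x ∈ M
  rw [map_eq_zero_iff e.symm e.symm.injective, Ideal.Quotient.eq_zero_iff_mem]

end points

section main
variable {A : Type u} [CommRing A]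

def locKer (M : Ideal A) (hM : M.IsPrime) : Ideal A where
  carrier := {x | ∃ t, t ∉ M ∧ t * x = 0}
  zero_mem' := ⟨1, (Ideal.ne_top_iff_one M).mp hM.ne_top, by simp⟩
  add_mem' := by
    rintro x y ⟨t, ht, htx⟩ ⟨r, hr, hry⟩
    refine ⟨t * r, fun h => (hM.mem_or_mem h).elim ht hr, ?_⟩
    calc t * r * (x + y) = r * (t * x) + t * (r * y) := by ring
      _ = 0 := by rw [htx, hry]; simp
  smul_mem' := by
    rintro c x ⟨t, ht, htx⟩
    refine ⟨t, ht, ?_⟩
    calc t * (c • x) = c * (t * x) := by rw [smul_eq_mul]; ring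
      _ = 0 := by rw [htx, mul_zero]

theorem mem_locKer {M : Ideal A} {hM : M.IsPrime} {x : A} :
    x ∈ locKer M hM ↔ ∃ t, t ∉ M ∧ t * x = 0 := Iff.rfl

theorem locKer_comap (τ : A ≃+* A) (M : Ideal A) (hM : M.IsPrime)
    (hM' : (Ideal.comap τ M).IsPrime) :
    locKer (Ideal.comap τ M) hM' = Ideal.comap τ (locKer M hM) := by
  ext x
  simp only [mem_locKer, Ideal.mem_comap]
  constructor
  · rintro ⟨t, ht, htx⟩
    exact ⟨τ t, ht, by rw [← map_mul, htx, map_zero]⟩
  · rintro ⟨t, ht, htx⟩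
    refine ⟨τ.symm t, by simpa using ht, ?_⟩
    apply τ.injective
    rw [map_mul, RingEquiv.apply_symm_apply, htx, map_zero]

theorem exists_annihilator [IsNoetherianRing A] (M : Ideal A) (hM : M.IsMaximal) :
    ∃ s, s ∉ M ∧ ∀ x ∈ locKer M hM.isPrime, s * x = 0 := by
  obtain ⟨r, hr, hr0⟩ := Submodule.exists_sub_one_mem_and_smul_eq_zero_of_fg_of_le_smul M
    (locKer M hM.isPrime) (IsNoetherian.noetherian _) (by
      intro x hx
      obtain ⟨t, ht, htx⟩ := hx
      obtain ⟨y, i, hi, hyi⟩ := hM.exists_inv ht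
      have h3 : i * x = x := by
        calc i * x = (y * t + i) * x - y * (t * x) := by ring
          _ = x := by rw [hyi, htx]; ring
      rw [← h3]
      exact Submodule.smul_mem_smul hi ⟨t, ht, htx⟩)
  refine ⟨r, fun h => ?_, fun x hx => by simpa using hr0 x hx⟩
  exact hM.ne_top ((Ideal.eq_top_iff_one M).mpr (by simpa using M.sub_mem h hr))

theorem comap_eq_of_le [IsNoetherianRing A] (τ : A ≃+* A) (I : Ideal A)
    (h : I ≤ Ideal.comap τ I) : Ideal.comap τ I = I := by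
  let φ : Ideal A → Ideal A := fun J => Ideal.comap τ J
  have hφmono : Monotone φ := fun J J' hJ => Ideal.comap_mono hJ
  have hφinj : Function.Injective φ := Ideal.comap_injective_of_surjective _ τ.surjective
  have hchain : ∀ n, φ^[n] I ≤ φ^[n+1] I := by
    intro n
    rw [Function.iterate_succ_apply]
    exact (hφmono.iterate n) h
  let f : ℕ →o Ideal A := ⟨fun n => φ^[n] I, monotone_nat_of_le_succ hchain⟩
  obtain ⟨n, hn⟩ := monotone_stabilizes_iff_noetherian.mpr (inferInstance : IsNoetherian A A) f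
  have h1 : φ^[n] I = φ^[n+1] I := hn (n+1) (Nat.le_succ n)
  have h2 : φ^[n] I = φ^[n] (φ I) := h1.trans (Function.iterate_succ_apply φ n I)
  exact ((hφinj.iterate n) h2).symm

theorem iInf_pow_eq_bot_of_homogeneous [IsNoetherianRing A] [IsJacobsonRing A]
    (m : Ideal A) (hm : m.IsMaximal)
    (htr : ∀ M : Ideal A, M.IsMaximal → ∃ τ : A ≃+* A, Ideal.comap τ m = M)
    (hconn : ∀ e : A, IsIdempotentElem e → e = 0 ∨ e = 1) :
    (⨅ n : ℕ, m ^ n) = ⊥ := by
  classical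
  have htrans : ∀ M₀ M : Ideal A, M₀.IsMaximal → M.IsMaximal →
      ∃ τ : A ≃+* A, Ideal.comap τ M₀ = M := by
    intro M₀ M hM₀ hM
    obtain ⟨τ₀, hτ₀⟩ := htr M₀ hM₀
    obtain ⟨τ, hτ⟩ := htr M hM
    subst hτ₀ hτ
    refine ⟨τ.trans τ₀.symm, ?_⟩
    ext x
    rw [Ideal.mem_comap, Ideal.mem_comap, Ideal.mem_comap, RingEquiv.trans_apply,
      RingEquiv.apply_symm_apply]
  have hann : ∀ M : Ideal A, ∀ hM : M.IsMaximal,
      ∃ s, s ∉ M ∧ ∀ x ∈ locKer M hM.isPrime, s * x = 0 :=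
    fun M hM => exists_annihilator M hM
  choose s hsM hs0 using hann
  have hconst : ∀ (M₀ M : Ideal A) (hM₀ : M₀.IsMaximal) (hM : M.IsMaximal), s M₀ hM₀ ∉ M →
      locKer M hM.isPrime = locKer M₀ hM₀.isPrime := by
    intro M₀ M hM₀ hM hsn
    have hle : locKer M₀ hM₀.isPrime ≤ locKer M hM.isPrime := by
      intro x hx
      exact ⟨s M₀ hM₀, hsn, hs0 M₀ hM₀ x hx⟩
    obtain ⟨τ, hτ⟩ := htrans M₀ M hM₀ hM
    subst hτ
    rw [locKer_comap τ M₀ hM₀.isPrime hM.isPrime] at hle ⊢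
    exact comap_eq_of_le τ _ hle
  let K₀ : Ideal A := locKer m hm.isPrime
  let I₁ : Ideal A := Ideal.span
    {a | ∃ (M : Ideal A) (hM : M.IsMaximal), locKer M hM.isPrime = K₀ ∧ a = s M hM}
  let I₂ : Ideal A := Ideal.span
    {a | ∃ (M : Ideal A) (hM : M.IsMaximal), locKer M hM.isPrime ≠ K₀ ∧ a = s M hM}
  have hsup : I₁ ⊔ I₂ = ⊤ := by
    by_contra hne
    obtain ⟨M, hM, hle⟩ := Ideal.exists_le_maximal _ hne
    have h3 : s M hM ∈ I₁ ⊔ I₂ := by
      by_cases h : locKer M hM.isPrime = K₀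
      · exact Ideal.mem_sup_left (Ideal.subset_span ⟨M, hM, h, rfl⟩)
      · exact Ideal.mem_sup_right (Ideal.subset_span ⟨M, hM, h, rfl⟩)
    exact hsM M hM (hle h3)
  have hJ : (nilradical A).jacobson = nilradical A :=
    IsJacobsonRing.out inferInstance (Ideal.radical_isRadical _)
  have hnil : ∀ a ∈ I₁, ∀ b ∈ I₂, a * b ∈ nilradical A := by
    intro a ha b hb
    rw [← hJ, Ideal.jacobson, Ideal.mem_sInf]
    rintro M ⟨-, hM⟩
    by_contra hab
    have h1 : ∃ (M₁ : Ideal A) (hM₁ : M₁.IsMaximal),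
        locKer M₁ hM₁.isPrime = K₀ ∧ s M₁ hM₁ ∉ M := by
      by_contra hcon
      push_neg at hcon
      apply hab
      apply M.mul_mem_right
      have h3 : I₁ ≤ M := Ideal.span_le.mpr (by
        rintro _ ⟨M₁, hM₁, hK, rfl⟩
        exact hcon M₁ hM₁ hK)
      exact h3 ha
    have h2 : ∃ (M₂ : Ideal A) (hM₂ : M₂.IsMaximal),
        locKer M₂ hM₂.isPrime ≠ K₀ ∧ s M₂ hM₂ ∉ M := by
      by_contra hcon
      push_neg at hcon
      apply hab
      apply M.mul_mem_left
      have h3 : I₂ ≤ M := Ideal.span_le.mpr (by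
        rintro _ ⟨M₂, hM₂, hK, rfl⟩
        exact hcon M₂ hM₂ hK)
      exact h3 hb
    obtain ⟨M₁, hM₁, hK₁, hs₁⟩ := h1
    obtain ⟨M₂, hM₂, hK₂, hs₂⟩ := h2
    exact hK₂ ((hconst M₂ M hM₂ hM hs₂).symm.trans ((hconst M₁ M hM₁ hM hs₁).trans hK₁))
  obtain ⟨a, ha, b, hb, hab⟩ :=
    Submodule.mem_sup.mp (hsup ▸ Submodule.mem_top : (1 : A) ∈ I₁ ⊔ I₂)
  obtain ⟨n, hn⟩ := mem_nilradical.mp (hnil a ha b hb)
  have hcop : IsCoprime (a ^ (n + 1)) (b ^ (n + 1)) :=
    IsCoprime.pow ⟨1, 1, by simpa using hab⟩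
  obtain ⟨u, v, huv⟩ := hcop
  have hzero : (u * a ^ (n + 1)) * (v * b ^ (n + 1)) = 0 := by
    have h3 : (a * b) ^ (n + 1) = 0 := by rw [pow_succ, hn, zero_mul]
    calc (u * a ^ (n + 1)) * (v * b ^ (n + 1)) = u * v * (a * b) ^ (n + 1) := by
          rw [mul_pow]; ring
      _ = 0 := by rw [h3, mul_zero]
  have hidem : IsIdempotentElem (u * a ^ (n + 1)) := by
    unfold IsIdempotentElem
    calc (u * a ^ (n + 1)) * (u * a ^ (n + 1))
        = (u * a ^ (n + 1)) * (u * a ^ (n + 1) + v * b ^ (n + 1))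
          - (u * a ^ (n + 1)) * (v * b ^ (n + 1)) := by ring
      _ = u * a ^ (n + 1) := by rw [huv, hzero, mul_one, sub_zero]
  have he1 : u * a ^ (n + 1) ∈ I₁ := I₁.mul_mem_left _ (I₁.pow_mem_of_mem ha _ (Nat.succ_pos n))
  have he2 : v * b ^ (n + 1) ∈ I₂ := I₂.mul_mem_left _ (I₂.pow_mem_of_mem hb _ (Nat.succ_pos n))
  have hall : ∀ (M : Ideal A) (hM : M.IsMaximal), locKer M hM.isPrime = K₀ := by
    rcases hconn _ hidem with h0 | h1
    · exfalso
      have h1I₂ : (1 : A) ∈ I₂ := by rw [← huv, h0, zero_add]; exact he2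
      have hsm : s m hm ∈ I₁ := Ideal.subset_span ⟨m, hm, rfl, rfl⟩
      have h3 := hnil _ hsm 1 h1I₂
      rw [mul_one] at h3
      have := hm.isPrime
      exact hsM m hm (nilradical_le_prime m h3)
    · intro M hM
      by_contra hne
      have h1I₁ : (1 : A) ∈ I₁ := by rw [← h1]; exact he1
      have hsM₂ : s M hM ∈ I₂ := Ideal.subset_span ⟨M, hM, hne, rfl⟩
      have h3 := hnil 1 h1I₁ _ hsM₂
      rw [one_mul] at h3
      have := hM.isPrime
      exact hsM M hM (nilradical_le_prime M h3)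
  have hK₀ : K₀ = ⊥ := by
    rw [eq_bot_iff]
    intro x hx
    by_contra hx0
    let Ann : Ideal A := LinearMap.ker (LinearMap.toSpanSingleton A A x)
    have hAnn : Ann ≠ ⊤ := by
      intro h
      have h3 : (1 : A) ∈ Ann := h ▸ Submodule.mem_top
      apply hx0
      simpa [Ann] using h3
    obtain ⟨M, hM, hle⟩ := Ideal.exists_le_maximal _ hAnn
    have hxM : x ∈ locKer M hM.isPrime := by rw [hall M hM]; exact hx
    obtain ⟨t, ht, htx⟩ := hxM
    exact ht (hle (by simp [Ann, htx]))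
  rw [eq_bot_iff]
  intro x hx
  rw [← hK₀]
  have hx' : x ∈ (⨅ i : ℕ, m ^ i • ⊤ : Submodule A A) := by
    have e : ∀ i : ℕ, (m ^ i • ⊤ : Submodule A A) = m ^ i := fun i => by
      rw [Ideal.smul_eq_mul, Ideal.mul_top]
    simp only [e]
    exact hx
  obtain ⟨r, hr⟩ := (Ideal.mem_iInf_smul_pow_eq_bot_iff m x).mp hx'
  refine ⟨1 - r, fun h => ?_, ?_⟩
  · exact hm.ne_top ((Ideal.eq_top_iff_one m).mpr (by simpa using m.add_mem h r.2))
  · have h3 : (r : A) * x = x := by simpa using hr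
    rw [sub_mul, one_mul, h3, sub_self]

end main

theorem iInf_pow_ker_counit_eq_bot (k : Type u) [Field k] [IsAlgClosed k]
    (A : Type u) [CommRing A] [HopfAlgebra k A] [Algebra.FiniteType k A]
    (hconn : ∀ e : A, IsIdempotentElem e → e = 0 ∨ e = 1) :
    (⨅ n : ℕ, RingHom.ker (Bialgebra.counitAlgHom k A) ^ n) = ⊥ := by
  have : IsNoetherianRing A := Algebra.FiniteType.isNoetherianRing k A
  have : IsJacobsonRing A := isJacobsonRing_of_finiteType (A := k) (B := A)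
  have hmmax : (RingHom.ker (Bialgebra.counitAlgHom k A)).IsMaximal :=
    RingHom.ker_isMaximal_of_surjective _ (fun c => ⟨algebraMap k A c, by simp⟩)
  refine iInf_pow_eq_bot_of_homogeneous _ hmmax ?_ hconn
  intro M hM
  obtain ⟨g, hg⟩ := exists_point k A M hM
  obtain ⟨τ, hτ⟩ := exists_translation k A g
  refine ⟨τ.toRingEquiv, ?_⟩
  ext x
  rw [Ideal.mem_comap, ← hg, RingHom.mem_ker, RingHom.mem_ker, ← hτ]
  rfl

end Groth.Agent.H87.HopfConn
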