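import Mathlib
import Groth.Prelude.Def_DDual2

/-!
# (XFUN) for S11187: the functor `M ↦ Q (K ⊗ M)` with its additive and `A`-linear structure
-/

set_option autoImplicit false
universe u
open CategoryTheory Limits MonoidalCategory
attribute [local instance] HasDerivedCategory.standard

namespace Groth.Agent.H87.Inv2_XFUN

noncomputable def XK (A : Type u) [CommRing A] (K : CochainComplex (ModuleCat.{u} A) ℤ) :
    ModuleCat.{u} A ⥤ Dual.D A where
  obj M := DerivedCategory.Q.obj (((tensorRight M).mapHomologicalComplex (ComplexShape.up ℤ)).obj K)
  map f := DerivedCategory.Q.map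
    ((NatTrans.mapHomologicalComplex ((tensoringRight (ModuleCat.{u} A)).map f) (ComplexShape.up ℤ)).app K)
  map_id M := by
    rw [CategoryTheory.Functor.map_id]
    erw [NatTrans.mapHomologicalComplex_id]
    simp
  map_comp f g := by
    rw [CategoryTheory.Functor.map_comp]
    erw [NatTrans.mapHomologicalComplex_comp]
    simp


instance (A : Type u) [CommRing A] (K : CochainComplex (ModuleCat.{u} A) ℤ) : (XK A K).Additive where
  map_add {M N f g} := by
    have h : (NatTrans.mapHomologicalComplex ((tensoringRight (ModuleCat.{u} A)).map (f + g))
        (ComplexShape.up ℤ)).app K =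
      (NatTrans.mapHomologicalComplex ((tensoringRight (ModuleCat.{u} A)).map f)
        (ComplexShape.up ℤ)).app K +
      (NatTrans.mapHomologicalComplex ((tensoringRight (ModuleCat.{u} A)).map g)
        (ComplexShape.up ℤ)).app K := by
      ext i : 1
      simp
      rfl
    exact (congrArg DerivedCategory.Q.map h).trans (DerivedCategory.Q.map_add)

instance (A : Type u) [CommRing A] (K : CochainComplex (ModuleCat.{u} A) ℤ) : (XK A K).Linear A where
  map_smul {M N} f a := by
    have h : (NatTrans.mapHomologicalComplex ((tensoringRight (ModuleCat.{u} A)).map (a • f))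
        (ComplexShape.up ℤ)).app K =
      a • (NatTrans.mapHomologicalComplex ((tensoringRight (ModuleCat.{u} A)).map f)
        (ComplexShape.up ℤ)).app K := by
      ext i : 1
      simp
      rfl
    exact (congrArg DerivedCategory.Q.map h).trans (DerivedCategory.Q.map_smul _ _)

end Groth.Agent.H87.Inv2_XFUN
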