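import Groth.Agent.H87.NilEval
import Mathlib
import Groth.Prelude.Def_CAlgX

set_option autoImplicit false
set_option maxHeartbeats 400000

namespace Groth.Agent.H87.PSSmooth

open MvPowerSeries IsLocalRing Groth.Agent.H87.NilEval

universe u

theorem kills_of_nilpotent {A E : Type*} [CommRing A] [CommRing E] [Algebra A E] {n : ℕ}
    (g : MvPowerSeries (Fin n) A →ₐ[A] E) (hz : ∀ i, IsNilpotent (g (X i))) :
    ∃ M : ℕ, ∀ f ∈ (Ideal.span (Set.range (X : Fin n → MvPowerSeries (Fin n) A))) ^ M,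
      g f = 0 := by
  classical
  have hfg : (Ideal.span (Set.range fun i => g (X i))).FG :=
    Submodule.fg_span (Set.finite_range _)
  have hNnil : IsNilpotent (Ideal.span (Set.range fun i => g (X i))) :=
    hfg.isNilpotent_iff_le_nilradical.2 (Ideal.span_le.2 (by
      rintro _ ⟨i, rfl⟩
      exact (mem_nilradical).2 (hz i)))
  obtain ⟨M, hM⟩ := hNnil
  rw [Ideal.zero_eq_bot] at hM
  refine ⟨M, fun f hf => ?_⟩
  have h1 : g f ∈ ((Ideal.span (Set.range (X : Fin n → MvPowerSeries (Fin n) A))) ^ M).map g :=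
    Ideal.mem_map_of_mem g hf
  rw [Ideal.map_pow, Ideal.map_span, ← Set.range_comp] at h1
  have h2 : (g ∘ (X : Fin n → MvPowerSeries (Fin n) A)) = fun i => g (X i) := rfl
  rw [h2, hM] at h1
  exact h1

variable {Λ S : Type u} [CommRing Λ] [CommRing S] [IsLocalRing S] [Algebra Λ S] (m : ℕ)

theorem smooth_map (h : CAlgX.IsAdicFormallySmooth Λ S (maximalIdeal S)) :
    letI : Algebra (MvPowerSeries (Fin m) Λ) (MvPowerSeries (Fin m) S) :=
      (MvPowerSeries.map (algebraMap Λ S) :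
        MvPowerSeries (Fin m) Λ →+* MvPowerSeries (Fin m) S).toAlgebra
    CAlgX.IsAdicFormallySmooth (MvPowerSeries (Fin m) Λ) (MvPowerSeries (Fin m) S)
      (maximalIdeal (MvPowerSeries (Fin m) S)) := by
  letI : Algebra (MvPowerSeries (Fin m) Λ) (MvPowerSeries (Fin m) S) :=
    (MvPowerSeries.map (algebraMap Λ S) :
      MvPowerSeries (Fin m) Λ →+* MvPowerSeries (Fin m) S).toAlgebra
  have halg : ∀ f : MvPowerSeries (Fin m) Λ,
      algebraMap (MvPowerSeries (Fin m) Λ) (MvPowerSeries (Fin m) S) f =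
        MvPowerSeries.map (algebraMap Λ S) f := fun f => rfl
  intro E _ _ J hJ ψ hψ
  obtain ⟨k, hk⟩ := hψ
  letI : Algebra Λ E :=
    ((algebraMap (MvPowerSeries (Fin m) Λ) E).comp (C : Λ →+* MvPowerSeries (Fin m) Λ)).toAlgebra
  have hΛE : ∀ l : Λ, algebraMap Λ E l = algebraMap (MvPowerSeries (Fin m) Λ) E (C l) :=
    fun l => rfl
  haveI : IsScalarTower Λ (MvPowerSeries (Fin m) Λ) E :=
    IsScalarTower.of_algebraMap_eq (fun l => by
      rw [hΛE, MvPowerSeries.algebraMap_apply, Algebra.algebraMap_self, RingHom.id_apply])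
  have hCmem : ∀ j : ℕ, ∀ s ∈ maximalIdeal S ^ j,
      (C s : MvPowerSeries (Fin m) S) ∈ maximalIdeal (MvPowerSeries (Fin m) S) ^ j := by
    intro j s hs
    have h1 : (maximalIdeal S).map (C : S →+* MvPowerSeries (Fin m) S) ≤
        maximalIdeal (MvPowerSeries (Fin m) S) := by
      rw [Ideal.map_le_iff_le_comap]
      intro s hs
      rw [Ideal.mem_comap, Groth.Agent.H61.PS.mem_maximalIdeal_iff, constantCoeff_C]
      exact hs
    have h2 := Ideal.mem_map_of_mem (C : S →+* MvPowerSeries (Fin m) S) hs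
    rw [Ideal.map_pow] at h2
    exact Ideal.pow_right_mono h1 j h2
  let ψ₀ : S →ₐ[Λ] E ⧸ J :=
    { toRingHom := ψ.toRingHom.comp (C : S →+* MvPowerSeries (Fin m) S)
      commutes' := fun l => by
        show ψ (C (algebraMap Λ S l)) = _
        rw [← MvPowerSeries.map_C, ← halg, ψ.commutes]
        rfl }
  have hψ₀ : ∀ s, ψ₀ s = ψ (C s) := fun s => rfl
  obtain ⟨χ₀, hχ₀⟩ := h E J hJ ψ₀ ⟨k, fun s hs => by rw [hψ₀]; exact hk _ (hCmem k s hs)⟩
  have hχ₀' : ∀ s, Ideal.Quotient.mk J (χ₀ s) = ψ (C s) := fun s => AlgHom.congr_fun hχ₀ s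
  letI : Algebra S E := χ₀.toRingHom.toAlgebra
  have hSE : ∀ s : S, algebraMap S E s = χ₀ s := fun s => rfl
  obtain ⟨z, hzd⟩ : ∃ z : Fin m → E,
      z = fun i => algebraMap (MvPowerSeries (Fin m) Λ) E (X i) := ⟨_, rfl⟩
  have hψX : ∀ i, ψ (X i) = Ideal.Quotient.mk J (z i) := by
    intro i
    rw [hzd]
    have : (X i : MvPowerSeries (Fin m) S) =
        algebraMap (MvPowerSeries (Fin m) Λ) (MvPowerSeries (Fin m) S) (X i) := by
      rw [halg, MvPowerSeries.map_X]
    rw [this, ψ.commutes]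
    rfl
  have hz : ∀ i, IsNilpotent (z i) := by
    intro i
    refine ⟨k * 2, ?_⟩
    have h1 : (X i : MvPowerSeries (Fin m) S) ^ k ∈ maximalIdeal (MvPowerSeries (Fin m) S) ^ k :=
      Ideal.pow_mem_pow (Groth.Agent.H61.PS.X_mem_maximalIdeal i) k
    have h2 := hk _ h1
    rw [map_pow, hψX, ← map_pow, Ideal.Quotient.eq_zero_iff_mem] at h2
    have h3 : (z i ^ k) ^ 2 ∈ J ^ 2 := Ideal.pow_mem_pow h2 2
    rw [hJ, Ideal.mem_bot, ← pow_mul] at h3
    exact h3
  obtain ⟨g, M, hgX, hgM⟩ := exists_evalNil (A := S) z hz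
  have hgC : ∀ s : S, g (C s) = χ₀ s := by
    intro s
    have : (C s : MvPowerSeries (Fin m) S) = algebraMap S (MvPowerSeries (Fin m) S) s := by
      rw [MvPowerSeries.algebraMap_apply, Algebra.algebraMap_self, RingHom.id_apply]
    rw [this, g.commutes, hSE]
  -- `g` is `P`-linear
  let g₁ : MvPowerSeries (Fin m) Λ →ₐ[Λ] E :=
    { toRingHom := g.toRingHom.comp (MvPowerSeries.map (algebraMap Λ S))
      commutes' := fun l => by
        show g (MvPowerSeries.map (algebraMap Λ S) (algebraMap Λ (MvPowerSeries (Fin m) Λ) l)) = _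
        rw [MvPowerSeries.algebraMap_apply, Algebra.algebraMap_self, RingHom.id_apply,
          MvPowerSeries.map_C, hgC, χ₀.commutes] }
  have hg₁ : ∀ p, g₁ p = g (MvPowerSeries.map (algebraMap Λ S) p) := fun p => rfl
  let g₂ : MvPowerSeries (Fin m) Λ →ₐ[Λ] E := IsScalarTower.toAlgHom Λ _ E
  have hg₂ : ∀ p, g₂ p = algebraMap (MvPowerSeries (Fin m) Λ) E p := fun p => rfl
  have hmapspan : ∀ j : ℕ, ∀ p ∈ (Ideal.span (Set.range
      (X : Fin m → MvPowerSeries (Fin m) Λ))) ^ j,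
      MvPowerSeries.map (algebraMap Λ S) p ∈
        (Ideal.span (Set.range (X : Fin m → MvPowerSeries (Fin m) S))) ^ j := by
    intro j p hp
    have h1 := Ideal.mem_map_of_mem (MvPowerSeries.map (algebraMap Λ S)) hp
    rw [Ideal.map_pow, Ideal.map_span, ← Set.range_comp] at h1
    have h2 : (MvPowerSeries.map (algebraMap Λ S)) ∘ (X : Fin m → MvPowerSeries (Fin m) Λ) =
        (X : Fin m → MvPowerSeries (Fin m) S) := by
      funext i
      simp only [Function.comp_apply, MvPowerSeries.map_X]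
    rw [h2] at h1
    exact h1
  obtain ⟨M', hM'⟩ := kills_of_nilpotent g₂ (fun i => by rw [hg₂, ← congrFun hzd i]; exact hz i)
  have hg12 : g₁ = g₂ := by
    refine algHom_ext_of_kills g₁ g₂ (max M M') (fun p hp => ?_) (fun p hp => ?_) (fun i => ?_)
    · rw [hg₁]
      exact hgM _ (hmapspan M p (Ideal.pow_le_pow_right (le_max_left M M') hp))
    · exact hM' p (Ideal.pow_le_pow_right (le_max_right M M') hp)
    · rw [hg₁, hg₂, MvPowerSeries.map_X, hgX, hzd]
  let χ : MvPowerSeries (Fin m) S →ₐ[MvPowerSeries (Fin m) Λ] E :=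
    { toRingHom := g.toRingHom
      commutes' := fun p => by
        show g (algebraMap (MvPowerSeries (Fin m) Λ) (MvPowerSeries (Fin m) S) p) = _
        rw [halg, ← hg₁, hg12, hg₂] }
  have hχ : ∀ q, χ q = g q := fun q => rfl
  refine ⟨χ, ?_⟩
  -- compare on `Q` as `S`-algebra maps
  let h₁ : MvPowerSeries (Fin m) S →ₐ[S] E ⧸ J := (Ideal.Quotient.mkₐ S J).comp g
  let h₂ : MvPowerSeries (Fin m) S →ₐ[S] E ⧸ J :=
    { toRingHom := ψ.toRingHom
      commutes' := fun s => by
        show ψ (algebraMap S (MvPowerSeries (Fin m) S) s) = _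
        rw [MvPowerSeries.algebraMap_apply, Algebra.algebraMap_self, RingHom.id_apply, ← hχ₀']
        rfl }
  have h12 : h₁ = h₂ := by
    refine algHom_ext_of_kills h₁ h₂ (max M k) (fun q hq => ?_) (fun q hq => ?_) (fun i => ?_)
    · show Ideal.Quotient.mk J (g q) = 0
      rw [hgM q (Ideal.pow_le_pow_right (le_max_left M k) hq), map_zero]
    · show ψ q = 0
      apply hk
      exact Ideal.pow_right_mono Groth.Agent.H61.PS.span_X_le k
        (Ideal.pow_le_pow_right (le_max_right M k) hq)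
    · show Ideal.Quotient.mk J (g (X i)) = ψ (X i)
      rw [hgX, hψX]
  refine AlgHom.ext fun q => ?_
  exact AlgHom.congr_fun h12 q

end Groth.Agent.H87.PSSmooth
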