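import Groth.Agent.H87.PSFlat
import Groth.Agent.H87.FlatLift
import Groth.Agent.H87.PSSmooth
import Groth.Agent.H87.CohenSmooth
import Groth.Agent.H87.CohenSetup
import Groth.Agent.S0580

set_option autoImplicit false
set_option maxHeartbeats 400000

namespace Groth.Agent.H87.LiftMain

open IsLocalRing MvPowerSeries TensorProduct

universe u

theorem smooth_of_bijective_base {R R' B : Type u} [CommRing R] [CommRing R'] [CommRing B]
    [Algebra R B] [Algebra R' B] (q : R →+* R') (hq : Function.Bijective q)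
    (hc : ∀ r, algebraMap R B r = algebraMap R' B (q r)) (𝔫 : Ideal B)
    (h : CAlgX.IsAdicFormallySmooth R' B 𝔫) : CAlgX.IsAdicFormallySmooth R B 𝔫 := by
  intro E _ _ J hJ ψ hψ
  let e := RingEquiv.ofBijective q hq
  have he : ∀ r, e r = q r := fun r => rfl
  letI : Algebra R' E := ((algebraMap R E).comp e.symm.toRingHom).toAlgebra
  have hR'E : ∀ x, algebraMap R' E x = algebraMap R E (e.symm x) := fun _ => rfl
  let ψ' : B →ₐ[R'] E ⧸ J :=
    { toRingHom := ψ.toRingHom
      commutes' := fun x => by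
        show ψ (algebraMap R' B x) = algebraMap R' (E ⧸ J) x
        have hx : x = q (e.symm x) := by rw [← he, e.apply_symm_apply]
        conv_lhs => rw [hx, ← hc, ψ.commutes]
        rfl }
  obtain ⟨χ', hχ'⟩ := h E J hJ ψ' hψ
  refine ⟨{ toRingHom := χ'.toRingHom
            commutes' := fun r => ?_ }, AlgHom.ext fun b => AlgHom.congr_fun hχ' b⟩
  show χ' (algebraMap R B r) = algebraMap R E r
  rw [hc, χ'.commutes, hR'E, ← he, e.symm_apply_apply]

section Common

variable {A : Type u} [CommRing A] [IsLocalRing A]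
  {κ : Type u} [Field κ] [Algebra A κ]
  {B₀ : Type u} [CommRing B₀] [Algebra κ B₀] [Algebra A B₀] [IsScalarTower A κ B₀]
  {Λ S : Type u} [CommRing Λ] [CommRing S] [IsLocalRing Λ] [IsLocalRing S]

omit [IsLocalRing A] in
theorem isLocalHom_of_surjective {m : ℕ} (f : MvPowerSeries (Fin m) Λ →+* A) [IsLocalRing A]
    (hf : Function.Surjective f) : IsLocalHom f := by
  letI : Algebra (MvPowerSeries (Fin m) Λ) A := f.toAlgebra
  exact Groth.Agent.H87.FlatLift.isLocalHom_algebraMap_PA (P := MvPowerSeries (Fin m) Λ) (A := A)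
    hf

theorem algebraMap_eq_zero_of_mem (hκ : Function.Surjective (algebraMap A κ)) {a : A}
    (ha : a ∈ maximalIdeal A) : algebraMap A κ a = 0 := by
  haveI : IsLocalHom (algebraMap A κ) :=
    Groth.Agent.H87.FlatLift.isLocalHom_algebraMap_PA (P := A) (A := κ) hκ
  by_contra hne
  exact ha (isUnit_of_map_unit (algebraMap A κ) a (IsUnit.mk0 _ hne))

theorem sub_C_mem {m : ℕ} (g : MvPowerSeries (Fin m) Λ) :
    C (constantCoeff g) - g ∈ maximalIdeal (MvPowerSeries (Fin m) Λ) := by
  rw [Groth.Agent.H61.PS.mem_maximalIdeal_iff, map_sub, constantCoeff_C, sub_self]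
  exact Ideal.zero_mem _

theorem map_mem_maximalIdeal {m : ℕ} (f : MvPowerSeries (Fin m) Λ →+* A)
    (hf : Function.Surjective f) {g : MvPowerSeries (Fin m) Λ}
    (hg : g ∈ maximalIdeal (MvPowerSeries (Fin m) Λ)) : f g ∈ maximalIdeal A := by
  haveI := isLocalHom_of_surjective f hf
  exact fun hu => hg (isUnit_of_map_unit f g hu)

theorem q_surjective (hκ : Function.Surjective (algebraMap A κ)) {m : ℕ}
    (f : MvPowerSeries (Fin m) Λ →+* A) (hf : Function.Surjective f) :
    Function.Surjective ((algebraMap A κ).comp (f.comp (C : Λ →+* MvPowerSeries (Fin m) Λ))) := by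
  intro x
  obtain ⟨a, rfl⟩ := hκ x
  obtain ⟨g, rfl⟩ := hf a
  refine ⟨constantCoeff g, ?_⟩
  show algebraMap A κ (f (C (constantCoeff g))) = algebraMap A κ (f g)
  rw [← sub_eq_zero, ← map_sub, ← map_sub]
  exact algebraMap_eq_zero_of_mem hκ (map_mem_maximalIdeal f hf (sub_C_mem g))

variable [IsNoetherianRing Λ] [IsNoetherianRing S] [IsAdicComplete (maximalIdeal S) S]
  [Algebra Λ S] [IsLocalHom (algebraMap Λ S)]

theorem exists_lift_aux (hκ : Function.Surjective (algebraMap A κ)) {m : ℕ}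
    (f : MvPowerSeries (Fin m) Λ →+* A) (hf : Function.Surjective f)
    (π : S →+* B₀) (hπ : Function.Surjective π)
    (hker : RingHom.ker π = (maximalIdeal Λ).map (algebraMap Λ S))
    (hcomp : ∀ l : Λ, π (algebraMap Λ S l) = algebraMap A B₀ (f (C l)))
    (hreg : IsField Λ ∨ ∃ a : Λ, maximalIdeal Λ = Ideal.span {a} ∧ IsSMulRegular Λ a ∧
      IsSMulRegular S (algebraMap Λ S a))
    (P0 : Prop) (hfs : P0 → CAlgX.IsAdicFormallySmooth Λ S (maximalIdeal S)) :
    ∃ (T : Type u) (_ : CommRing T) (_ : IsLocalRing T) (_ : Algebra A T),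
      IsNoetherianRing T ∧ IsAdicComplete (maximalIdeal T) T ∧ IsLocalHom (algebraMap A T) ∧
      Module.Flat A T ∧
      (∃ ψ : T →ₐ[A] B₀, Function.Surjective ψ ∧
        RingHom.ker ψ.toRingHom = (maximalIdeal A).map (algebraMap A T)) ∧
      (P0 → CAlgX.IsAdicFormallySmooth A T (maximalIdeal T)) := by
  letI : Algebra (MvPowerSeries (Fin m) Λ) A := f.toAlgebra
  letI : Algebra (MvPowerSeries (Fin m) Λ) (MvPowerSeries (Fin m) S) :=
    (MvPowerSeries.map (algebraMap Λ S) :
      MvPowerSeries (Fin m) Λ →+* MvPowerSeries (Fin m) S).toAlgebra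
  have halgQ : ∀ g : MvPowerSeries (Fin m) Λ,
      algebraMap (MvPowerSeries (Fin m) Λ) (MvPowerSeries (Fin m) S) g =
        MvPowerSeries.map (algebraMap Λ S) g := fun g => rfl
  have hPA : Function.Surjective (algebraMap (MvPowerSeries (Fin m) Λ) A) := hf
  haveI : IsLocalHom (algebraMap (MvPowerSeries (Fin m) Λ) (MvPowerSeries (Fin m) S)) :=
    MvPowerSeries.map.isLocalHom (algebraMap Λ S)
  haveI : Module.Flat (MvPowerSeries (Fin m) Λ) (MvPowerSeries (Fin m) S) :=
    Groth.Agent.H87.PSFlat.flat_map m hreg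
  haveI : IsLocalRing (A ⊗[MvPowerSeries (Fin m) Λ] MvPowerSeries (Fin m) S) :=
    Groth.Agent.H87.FlatLift.isLocalRing_tensor hPA
  haveI : IsNoetherianRing (A ⊗[MvPowerSeries (Fin m) Λ] MvPowerSeries (Fin m) S) :=
    Groth.Agent.H87.FlatLift.isNoetherianRing_tensor hPA
  haveI : IsAdicComplete (maximalIdeal (A ⊗[MvPowerSeries (Fin m) Λ] MvPowerSeries (Fin m) S))
      (A ⊗[MvPowerSeries (Fin m) Λ] MvPowerSeries (Fin m) S) :=
    Groth.Agent.H87.FlatLift.isAdicComplete_tensor hPA
  haveI : IsLocalHom (algebraMap A (A ⊗[MvPowerSeries (Fin m) Λ] MvPowerSeries (Fin m) S)) :=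
    Groth.Agent.H87.FlatLift.isLocalHom_tensor hPA
  have h0 : ∀ a ∈ maximalIdeal A, algebraMap A B₀ a = 0 := by
    intro a ha
    rw [IsScalarTower.algebraMap_apply A κ B₀, algebraMap_eq_zero_of_mem hκ ha, map_zero]
  letI : Algebra (MvPowerSeries (Fin m) Λ) B₀ := ((algebraMap A B₀).comp f).toAlgebra
  haveI : IsScalarTower (MvPowerSeries (Fin m) Λ) A B₀ :=
    IsScalarTower.of_algebraMap_eq (fun _ => rfl)
  have halgB : ∀ g : MvPowerSeries (Fin m) Λ,
      algebraMap (MvPowerSeries (Fin m) Λ) B₀ g = algebraMap A B₀ (f g) := fun g => rfl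
  let ε : MvPowerSeries (Fin m) S →ₐ[MvPowerSeries (Fin m) Λ] B₀ :=
    { toRingHom := π.comp (constantCoeff : MvPowerSeries (Fin m) S →+* S)
      commutes' := fun g => by
        show π (constantCoeff (algebraMap (MvPowerSeries (Fin m) Λ) (MvPowerSeries (Fin m) S) g)) = _
        rw [halgQ, constantCoeff_map, hcomp, halgB, ← sub_eq_zero, ← map_sub, ← map_sub]
        exact h0 _ (map_mem_maximalIdeal f hf (sub_C_mem g)) }
  have hε : ∀ q, ε q = π (constantCoeff q) := fun q => rfl
  have hεs : Function.Surjective ε := by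
    intro b
    obtain ⟨s, rfl⟩ := hπ b
    exact ⟨C s, by rw [hε, constantCoeff_C]⟩
  have hXle : Ideal.span (Set.range (X : Fin m → MvPowerSeries (Fin m) S)) ≤
      (maximalIdeal (MvPowerSeries (Fin m) Λ)).map
        (algebraMap (MvPowerSeries (Fin m) Λ) (MvPowerSeries (Fin m) S)) := by
    rw [Ideal.span_le]
    rintro _ ⟨i, rfl⟩
    have : (X i : MvPowerSeries (Fin m) S) =
        algebraMap (MvPowerSeries (Fin m) Λ) (MvPowerSeries (Fin m) S) (X i) := by
      rw [halgQ, MvPowerSeries.map_X]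
    rw [this]
    exact Ideal.mem_map_of_mem _ (Groth.Agent.H61.PS.X_mem_maximalIdeal i)
  have hCle : (maximalIdeal Λ).map (algebraMap Λ S) ≤
      ((maximalIdeal (MvPowerSeries (Fin m) Λ)).map
        (algebraMap (MvPowerSeries (Fin m) Λ) (MvPowerSeries (Fin m) S))).comap
        (C : S →+* MvPowerSeries (Fin m) S) := by
    rw [Ideal.map_le_iff_le_comap]
    intro l hl
    rw [Ideal.mem_comap, Ideal.mem_comap]
    have : (C (algebraMap Λ S l) : MvPowerSeries (Fin m) S) =
        algebraMap (MvPowerSeries (Fin m) Λ) (MvPowerSeries (Fin m) S) (C l) := by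
      rw [halgQ, MvPowerSeries.map_C]
    rw [this]
    apply Ideal.mem_map_of_mem
    rw [Groth.Agent.H61.PS.mem_maximalIdeal_iff, constantCoeff_C]
    exact hl
  have hkerε : RingHom.ker ε.toRingHom =
      (maximalIdeal (MvPowerSeries (Fin m) Λ)).map
        (algebraMap (MvPowerSeries (Fin m) Λ) (MvPowerSeries (Fin m) S)) := by
    apply le_antisymm
    · intro q hq
      rw [RingHom.mem_ker] at hq
      have hq' : constantCoeff q ∈ RingHom.ker π := hq
      rw [hker] at hq'
      have h1 : q - C (constantCoeff q) ∈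
          RingHom.ker (constantCoeff : MvPowerSeries (Fin m) S →+* S) := by
        rw [RingHom.mem_ker, map_sub, constantCoeff_C, sub_self]
      rw [Groth.Agent.H87.NilEval.ker_constantCoeff_eq] at h1
      have h2 := hXle h1
      have h3 := hCle hq'
      rw [Ideal.mem_comap] at h3
      have := Ideal.add_mem _ h2 h3
      rwa [sub_add_cancel] at this
    · rw [Ideal.map_le_iff_le_comap]
      intro g hg
      rw [Ideal.mem_comap, RingHom.mem_ker]
      show ε (algebraMap (MvPowerSeries (Fin m) Λ) (MvPowerSeries (Fin m) S) g) = 0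
      rw [ε.commutes, halgB]
      exact h0 _ (map_mem_maximalIdeal f hf hg)
  refine ⟨A ⊗[MvPowerSeries (Fin m) Λ] MvPowerSeries (Fin m) S, inferInstance, inferInstance,
    inferInstance, inferInstance, inferInstance, inferInstance, inferInstance,
    ⟨Groth.Agent.H87.FlatLift.aug (A := A) ε, Groth.Agent.H87.FlatLift.aug_surjective ε hεs,
      Groth.Agent.H87.FlatLift.ker_aug hPA ε h0 hkerε⟩, fun h => ?_⟩
  exact Groth.Agent.H87.FlatLift.smooth_tensor hPA
    (Groth.Agent.H87.PSSmooth.smooth_map m (hfs h))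

end Common

section Top

variable {A : Type u} [CommRing A] [IsLocalRing A] [IsNoetherianRing A]
  {κ : Type u} [Field κ] [Algebra A κ]
  (B₀ : Type u) [CommRing B₀] [IsRegularLocalRing B₀] [IsAdicComplete (maximalIdeal B₀) B₀]
  [Algebra κ B₀] [Algebra A B₀] [IsScalarTower A κ B₀]

theorem exists_lift [IsAdicComplete (maximalIdeal A) A]
    (hκ : Function.Surjective (algebraMap A κ)) :
    ∃ (T : Type u) (_ : CommRing T) (_ : IsLocalRing T) (_ : Algebra A T),
      IsNoetherianRing T ∧ IsAdicComplete (maximalIdeal T) T ∧ IsLocalHom (algebraMap A T) ∧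
      Module.Flat A T ∧
      (∃ ψ : T →ₐ[A] B₀, Function.Surjective ψ ∧
        RingHom.ker ψ.toRingHom = (maximalIdeal A).map (algebraMap A T)) ∧
      (CAlgX.IsAdicFormallySmooth κ B₀ (maximalIdeal B₀) →
        CAlgX.IsAdicFormallySmooth A T (maximalIdeal T)) := by
  obtain ⟨Λ, _, m, f, hΛ, hf⟩ := Groth.Agent.S0580.result A (IsNoetherian.noetherian _)
  rcases hΛ with hΛ | hΛ
  · letI : Field Λ := hΛ.toField
    let q : Λ →+* κ := (algebraMap A κ).comp (f.comp (C : Λ →+* MvPowerSeries (Fin m) Λ))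
    have hq : Function.Bijective q := ⟨q.injective, q_surjective hκ f hf⟩
    letI : Algebra Λ B₀ := ((algebraMap κ B₀).comp q).toAlgebra
    have hΛB : ∀ l, algebraMap Λ B₀ l = algebraMap κ B₀ (q l) := fun _ => rfl
    haveI : IsLocalHom (algebraMap Λ B₀) := ⟨fun a ha => by
      have : a ≠ 0 := by
        rintro rfl
        rw [map_zero] at ha
        exact not_isUnit_zero ha
      exact IsUnit.mk0 a this⟩
    refine exists_lift_aux hκ f hf (RingHom.id B₀) Function.surjective_id ?_ ?_ (Or.inl hΛ) _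
      (fun h => smooth_of_bijective_base q hq hΛB _ h)
    · rw [IsLocalRing.maximalIdeal_eq_bot, Ideal.map_bot]
      exact (RingHom.injective_iff_ker_eq_bot _).1 Function.injective_id
    · intro l
      show algebraMap κ B₀ (algebraMap A κ (f (C l))) = algebraMap A B₀ (f (C l))
      rw [← IsScalarTower.algebraMap_apply]
  · obtain ⟨hdom, hdvr, -, p, hp, hm⟩ := id hΛ
    haveI := hdom
    haveI := hdvr
    let q : Λ →+* κ := (algebraMap A κ).comp (f.comp (C : Λ →+* MvPowerSeries (Fin m) Λ))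
    have hq : Function.Surjective q := q_surjective hκ f hf
    have hqdef : ∀ l, q l = algebraMap A κ (f (C l)) := fun l => rfl
    have hkq : ∀ l, l ∈ maximalIdeal Λ → q l = 0 := by
      intro l hl
      rw [hqdef]
      apply algebraMap_eq_zero_of_mem hκ
      apply map_mem_maximalIdeal f hf
      rw [Groth.Agent.H61.PS.mem_maximalIdeal_iff, constantCoeff_C]
      exact hl
    have hpκ : (p : κ) = 0 := by
      have := hkq (p : Λ) (by rw [hm]; exact Ideal.mem_span_singleton_self _)
      rwa [map_natCast] at this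
    haveI : Fact p.Prime := ⟨hp⟩
    haveI : CharP κ p := by
      have h1 : ringChar κ ∣ p := ringChar.dvd hpκ
      rcases (Nat.dvd_prime hp).1 h1 with h | h
      · exact absurd h (CharP.ringChar_ne_one)
      · exact ringChar.of_eq h
    obtain ⟨Λ', _, _, d, π₀, hΛ', hm', hπ₀, hker₀⟩ :=
      Groth.Agent.H87.CohenSetup.exists_cohen_cover p (κ := κ) B₀
    obtain ⟨hdom', hdvr', hcompl', -⟩ := id hΛ'
    haveI := hdom'
    haveI := hdvr'
    haveI := hcompl'
    haveI : Nontrivial (MvPowerSeries (Fin d) Λ' ⧸ RingHom.ker π₀) :=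
      Ideal.Quotient.nontrivial_iff.2 (RingHom.ker_ne_top π₀)
    haveI : IsLocalRing (MvPowerSeries (Fin d) Λ' ⧸ RingHom.ker π₀) :=
      IsLocalRing.of_surjective' (Ideal.Quotient.mk _) Ideal.Quotient.mk_surjective
    let eq : (MvPowerSeries (Fin d) Λ' ⧸ RingHom.ker π₀) ≃+* B₀ :=
      RingHom.quotientKerEquivOfSurjective hπ₀
    have heq : ∀ x, eq (Ideal.Quotient.mk _ x) = π₀ x := fun x => rfl
    let u : Λ →+* MvPowerSeries (Fin d) Λ' ⧸ RingHom.ker π₀ :=
      eq.symm.toRingHom.comp ((algebraMap κ B₀).comp q)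
    have hu : ∀ l, u l = eq.symm (algebraMap κ B₀ (q l)) := fun l => rfl
    haveI : IsLocalHom u := ⟨fun a ha => by
      by_contra hna
      have h1 : q a = 0 := hkq a hna
      rw [hu, h1, map_zero, map_zero] at ha
      exact not_isUnit_zero ha⟩
    obtain ⟨v, hvloc, hv⟩ := Groth.Agent.S2456.result (W := Λ) (C := MvPowerSeries (Fin d) Λ')
      (Or.inr hΛ) (RingHom.ker π₀) (RingHom.ker_ne_top π₀) u
    have hv' : ∀ l, π₀ (v l) = algebraMap κ B₀ (q l) := by
      intro l
      have h1 : Ideal.Quotient.mk _ (v l) = u l := RingHom.congr_fun hv l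
      rw [← heq, h1, hu, eq.apply_symm_apply]
    letI : Algebra Λ (MvPowerSeries (Fin d) Λ') := v.toAlgebra
    have halgv : ∀ l, algebraMap Λ (MvPowerSeries (Fin d) Λ') l = v l := fun l => rfl
    haveI : IsLocalHom (algebraMap Λ (MvPowerSeries (Fin d) Λ')) := hvloc
    have hpΛ : (p : Λ) ≠ 0 := by
      intro h
      apply IsDiscreteValuationRing.not_a_field Λ
      rw [hm, h, Ideal.span_singleton_eq_bot]
    have hpΛ' : (p : Λ') ≠ 0 := by
      intro h
      apply IsDiscreteValuationRing.not_a_field Λ'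
      rw [hm', h, Ideal.span_singleton_eq_bot]
    have hpS : (p : MvPowerSeries (Fin d) Λ') ≠ 0 := by
      intro h
      apply hpΛ'
      have h2 : (C (p : Λ') : MvPowerSeries (Fin d) Λ') = C 0 := by rw [map_natCast, h, map_zero]
      exact MvPowerSeries.C_injective h2
    refine exists_lift_aux hκ f hf π₀ hπ₀ ?_ ?_
      (Or.inr ⟨(p : Λ), hm, (IsRegular.of_ne_zero hpΛ).left.isSMulRegular, ?_⟩) _
      (fun h => Groth.Agent.H87.CohenSmooth.smooth_of_cohen p hm q hq π₀ hπ₀ hker₀
        (fun l => by rw [halgv, hv']) h (Groth.Agent.H87.CohenSetup.ringLift hΛ' d))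
    · rw [hker₀, hm, Ideal.map_span, Set.image_singleton, map_natCast]
    · intro l
      rw [halgv, hv', hqdef, ← IsScalarTower.algebraMap_apply]
    · rw [map_natCast]
      exact (IsRegular.of_ne_zero hpS).left.isSMulRegular

end Top

end Groth.Agent.H87.LiftMain
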