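import Mathlib

/-!
# Multi-index Artin–Rees (piece (MAR) for helper13's S8159)
-/

set_option autoImplicit false
universe u

namespace Groth.Agent.H87.MHS_MAR

open TensorProduct

section Core

variable {A : Type u} [CommRing A] {M : Type u} [AddCommGroup M] [Module A M] {n : ℕ}
  {κ : Type u} (x : κ → A) (c : κ → Fin n)

/-- multidegree of an exponent vector -/
noncomputable def deg (e : κ →₀ ℕ) : Fin n → ℕ :=
  e.sum fun k m => m • (Pi.single (c k) 1 : Fin n → ℕ)

/-- the monomial `x^e` -/
noncomputable def xpow (e : κ →₀ ℕ) : A := e.prod fun k m => x k ^ m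

theorem deg_zero : deg c (0 : κ →₀ ℕ) = 0 := Finsupp.sum_zero_index

theorem deg_add (e e' : κ →₀ ℕ) : deg c (e + e') = deg c e + deg c e' := by
  unfold deg
  exact Finsupp.sum_add_index' (fun _ => zero_smul _ _) (fun _ _ _ => add_smul _ _ _)

theorem deg_single (k : κ) : deg c (Finsupp.single k 1) = Pi.single (c k) 1 := by
  unfold deg
  rw [Finsupp.sum_single_index]
  · exact one_smul _ _
  · exact zero_smul _ _

theorem xpow_zero : xpow x (0 : κ →₀ ℕ) = 1 := Finsupp.prod_zero_index

theorem xpow_add (e e' : κ →₀ ℕ) : xpow x (e + e') = xpow x e * xpow x e' := by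
  unfold xpow
  exact Finsupp.prod_add_index' (fun _ => pow_zero _) (fun _ _ _ => pow_add _ _ _)

theorem xpow_single (k : κ) : xpow x (Finsupp.single k 1) = x k := by
  unfold xpow
  rw [Finsupp.prod_single_index]
  · exact pow_one _
  · exact pow_zero _

theorem sub_add_single (t : Fin n → ℕ) (j : Fin n) (h : 0 < t j) :
    t - Pi.single j 1 + Pi.single j 1 = t := by
  funext l
  by_cases hl : l = j
  · subst hl
    simp only [Pi.add_apply, Pi.sub_apply, Pi.single_eq_same]
    omega
  · simp only [Pi.add_apply, Pi.sub_apply, Pi.single_eq_of_ne hl]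
    omega

theorem add_sub_single (t : Fin n → ℕ) (j : Fin n) :
    t + Pi.single j 1 - Pi.single j 1 = t := by
  funext l
  simp only [Pi.add_apply, Pi.sub_apply]
  omega

/-- evaluate the multidegree-`t` part at `x` -/
noncomputable def eps (t : Fin n → ℕ) : MvPolynomial κ A →ₗ[A] A :=
  (MvPolynomial.basisMonomials κ A).constr A
    (fun e => if deg c e = t then xpow x e else 0)

theorem eps_monomial_one (t : Fin n → ℕ) (e : κ →₀ ℕ) :
    eps x c t (MvPolynomial.monomial e 1) = if deg c e = t then xpow x e else 0 := by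
  have h := (MvPolynomial.basisMonomials κ A).constr_basis A
    (fun e => if deg c e = t then xpow x e else 0) e
  rw [MvPolynomial.coe_basisMonomials] at h
  exact h

theorem X_mul_monomial_one (k : κ) (e : κ →₀ ℕ) :
    (MvPolynomial.X k : MvPolynomial κ A) * MvPolynomial.monomial e 1
      = MvPolynomial.monomial (Finsupp.single k 1 + e) 1 := by
  show MvPolynomial.monomial (Finsupp.single k 1) (1 : A) * MvPolynomial.monomial e 1 = _
  rw [MvPolynomial.monomial_mul, one_mul]

theorem eps_X_mul_add (t : Fin n → ℕ) (k : κ) (s : MvPolynomial κ A) :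
    eps x c (t + Pi.single (c k) 1) (MvPolynomial.X k * s) = x k * eps x c t s := by
  have : (eps x c (t + Pi.single (c k) 1)).comp (LinearMap.mulLeft A (MvPolynomial.X k))
      = x k • eps x c t := by
    refine (MvPolynomial.basisMonomials κ A).ext fun e => ?_
    rw [MvPolynomial.coe_basisMonomials]
    simp only [LinearMap.comp_apply, LinearMap.mulLeft_apply, LinearMap.smul_apply, smul_eq_mul]
    rw [X_mul_monomial_one, eps_monomial_one, eps_monomial_one, deg_add, deg_single, xpow_add,
      xpow_single]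
    by_cases h : deg c e = t
    · rw [if_pos h, if_pos (by rw [h, add_comm])]
    · rw [if_neg h, if_neg, mul_zero]
      intro h'
      apply h
      rw [add_comm] at h'
      exact add_right_cancel h'
  have h2 := LinearMap.congr_fun this s
  simpa using h2

theorem eps_X_mul_zero (t : Fin n → ℕ) (k : κ) (ht : t (c k) = 0) (s : MvPolynomial κ A) :
    eps x c t (MvPolynomial.X k * s) = 0 := by
  have : (eps x c t).comp (LinearMap.mulLeft A (MvPolynomial.X k)) = 0 := by
    refine (MvPolynomial.basisMonomials κ A).ext fun e => ?_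
    rw [MvPolynomial.coe_basisMonomials]
    simp only [LinearMap.comp_apply, LinearMap.mulLeft_apply, LinearMap.zero_apply]
    rw [X_mul_monomial_one, eps_monomial_one, deg_add, deg_single, if_neg]
    intro h'
    have := congrFun h' (c k)
    simp only [Pi.add_apply, Pi.single_eq_same] at this
    omega
  have h2 := LinearMap.congr_fun this s
  simpa using h2

/-- the coefficient maps on `S ⊗ M` -/
noncomputable def gam (t : Fin n → ℕ) : MvPolynomial κ A ⊗[A] M →ₗ[A] M :=
  TensorProduct.lift ((LinearMap.lsmul A M).comp (eps x c t))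

theorem gam_tmul (t : Fin n → ℕ) (s : MvPolynomial κ A) (m : M) :
    gam x c t (s ⊗ₜ[A] m) = eps x c t s • m := by
  simp [gam]

theorem gam_X_smul_add (t : Fin n → ℕ) (k : κ) (z : MvPolynomial κ A ⊗[A] M) :
    gam x c (t + Pi.single (c k) 1) ((MvPolynomial.X k : MvPolynomial κ A) • z)
      = x k • gam x c t z := by
  induction z using TensorProduct.induction_on with
  | zero => simp
  | tmul s m =>
    rw [TensorProduct.smul_tmul', smul_eq_mul, gam_tmul, gam_tmul, eps_X_mul_add, mul_smul]
  | add z w hz hw => rw [smul_add, map_add, map_add, hz, hw, smul_add]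

theorem gam_X_smul_zero (t : Fin n → ℕ) (k : κ) (ht : t (c k) = 0)
    (z : MvPolynomial κ A ⊗[A] M) :
    gam x c t ((MvPolynomial.X k : MvPolynomial κ A) • z) = 0 := by
  induction z using TensorProduct.induction_on with
  | zero => simp
  | tmul s m =>
    rw [TensorProduct.smul_tmul', smul_eq_mul, gam_tmul, eps_X_mul_zero x c t k ht, zero_smul]
  | add z w hz hw => rw [smul_add, map_add, hz, hw, add_zero]

theorem C_smul_eq (r : A) (z : MvPolynomial κ A ⊗[A] M) :
    (MvPolynomial.C r : MvPolynomial κ A) • z = r • z := by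
  induction z using TensorProduct.induction_on with
  | zero => simp
  | tmul s m =>
    rw [TensorProduct.smul_tmul', TensorProduct.smul_tmul', smul_eq_mul, MvPolynomial.C_mul']
  | add z w hz hw => rw [smul_add, smul_add, hz, hw]

/-- the `S`-submodule cut out by a multi-filtration -/
def W (V : (Fin n → ℕ) → Submodule A M)
    (hV : ∀ k t v, v ∈ V t → x k • v ∈ V (t + Pi.single (c k) 1)) :
    Submodule (MvPolynomial κ A) (MvPolynomial κ A ⊗[A] M) where
  carrier := {z | ∀ t, gam x c t z ∈ V t}
  add_mem' := fun {z w} hz hw t => by rw [map_add]; exact add_mem (hz t) (hw t)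
  zero_mem' := fun t => by rw [map_zero]; exact zero_mem _
  smul_mem' := by
    intro s z hz
    induction s using MvPolynomial.induction_on generalizing z with
    | C a =>
      intro t
      rw [C_smul_eq, map_smul]
      exact Submodule.smul_mem _ _ (hz t)
    | add p q hp hq =>
      intro t
      rw [add_smul, map_add]
      exact add_mem (hp hz t) (hq hz t)
    | mul_X p k hp =>
      rw [mul_smul]
      apply hp
      intro t
      by_cases ht : t (c k) = 0
      · rw [gam_X_smul_zero x c t k ht]
        exact zero_mem _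
      · have h1 : t - Pi.single (c k) 1 + Pi.single (c k) 1 = t :=
          sub_add_single _ _ (Nat.pos_of_ne_zero ht)
        rw [← h1, gam_X_smul_add]
        exact hV k _ _ (hz _)

theorem mem_W {V : (Fin n → ℕ) → Submodule A M}
    {hV : ∀ k t v, v ∈ V t → x k • v ∈ V (t + Pi.single (c k) 1)}
    {z : MvPolynomial κ A ⊗[A] M} : z ∈ W x c V hV ↔ ∀ t, gam x c t z ∈ V t := Iff.rfl

theorem exists_bound (z : MvPolynomial κ A ⊗[A] M) :
    ∃ D : Fin n → ℕ, ∀ t, ¬ t ≤ D → gam x c t z = 0 := by
  classical
  induction z using TensorProduct.induction_on with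
  | zero => exact ⟨0, fun t _ => map_zero _⟩
  | tmul s m =>
    refine ⟨s.support.sup (deg c), fun t ht => ?_⟩
    rw [gam_tmul]
    have : eps x c t s = 0 := by
      conv_lhs => rw [← MvPolynomial.support_sum_monomial_coeff s]
      rw [map_sum]
      refine Finset.sum_eq_zero fun e he => ?_
      have hmon : MvPolynomial.monomial e (MvPolynomial.coeff e s)
          = (MvPolynomial.coeff e s) • MvPolynomial.monomial e (1 : A) := by
        rw [MvPolynomial.smul_monomial, smul_eq_mul, mul_one]
      rw [hmon, map_smul, eps_monomial_one, if_neg, smul_zero]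
      intro h
      exact ht (h ▸ Finset.le_sup he)
    rw [this, zero_smul]
  | add z w hz hw =>
    obtain ⟨D1, h1⟩ := hz
    obtain ⟨D2, h2⟩ := hw
    refine ⟨D1 ⊔ D2, fun t ht => ?_⟩
    rw [map_add, h1 t (fun h => ht (h.trans le_sup_left)),
      h2 t (fun h => ht (h.trans le_sup_right)), add_zero]

/-- elements realised in pure multidegree `t` -/
def Pt (t : Fin n → ℕ) : Submodule A M where
  carrier := {u | ∃ z : MvPolynomial κ A ⊗[A] M, gam x c t z = u ∧
    ∀ t', t' ≠ t → gam x c t' z = 0}
  add_mem' := by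
    rintro u v ⟨z, hz1, hz2⟩ ⟨w, hw1, hw2⟩
    exact ⟨z + w, by rw [map_add, hz1, hw1], fun t' ht' => by
      rw [map_add, hz2 t' ht', hw2 t' ht', add_zero]⟩
  zero_mem' := ⟨0, map_zero _, fun _ _ => map_zero _⟩
  smul_mem' := by
    rintro r u ⟨z, hz1, hz2⟩
    exact ⟨r • z, by rw [map_smul, hz1], fun t' ht' => by rw [map_smul, hz2 t' ht', smul_zero]⟩

theorem Pt_step (t : Fin n → ℕ) (k : κ) (v : M) (hv : v ∈ Pt (M := M) x c t) :
    x k • v ∈ Pt (M := M) x c (t + Pi.single (c k) 1) := by
  obtain ⟨z, rfl, hz⟩ := hv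
  refine ⟨(MvPolynomial.X k : MvPolynomial κ A) • z, gam_X_smul_add x c t k z, fun t' ht' => ?_⟩
  by_cases h0 : t' (c k) = 0
  · exact gam_X_smul_zero x c t' k h0 z
  · have h1 : t' - Pi.single (c k) 1 + Pi.single (c k) 1 = t' :=
      sub_add_single _ _ (Nat.pos_of_ne_zero h0)
    rw [← h1, gam_X_smul_add, hz, smul_zero]
    intro h
    apply ht'
    rw [← h1, h]

theorem le_Pt (a : Fin n → Ideal A)
    (hgen : ∀ j (N P : Submodule A M), (∀ k, c k = j → ∀ v ∈ N, x k • v ∈ P) → a j • N ≤ P) :
    ∀ (N : ℕ) (t : Fin n → ℕ), ∑ l, t l = N →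
      (∏ j, a j ^ t j) • (⊤ : Submodule A M) ≤ Pt (M := M) x c t := by
  intro N
  induction N with
  | zero =>
    intro t ht
    have ht0 : t = 0 := by
      funext l
      exact (Finset.sum_eq_zero_iff.mp ht) l (Finset.mem_univ l)
    subst ht0
    intro u _
    have h1 : (1 : MvPolynomial κ A) = MvPolynomial.monomial 0 1 := rfl
    refine ⟨(1 : MvPolynomial κ A) ⊗ₜ[A] u, ?_, fun t' ht' => ?_⟩
    · rw [gam_tmul, h1, eps_monomial_one, if_pos (deg_zero c), xpow_zero, one_smul]
    · rw [gam_tmul, h1, eps_monomial_one, if_neg, zero_smul]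
      rw [deg_zero]
      exact fun h => ht' h.symm
  | succ N ih =>
    intro t ht
    have hex : ∃ j, 0 < t j := by
      by_contra hcon
      push_neg at hcon
      have : ∑ l, t l = 0 := Finset.sum_eq_zero fun l _ => Nat.le_zero.mp (hcon l)
      omega
    obtain ⟨j, hj⟩ := hex
    obtain ⟨t', rfl⟩ : ∃ t', t = t' + Pi.single j 1 :=
      ⟨t - Pi.single j 1, (sub_add_single t j hj).symm⟩
    have hsum : ∑ l, t' l = N := by
      have h2 : ∑ l, (t' + Pi.single j (1 : ℕ) : Fin n → ℕ) l = ∑ l, t' l + 1 := by
        simp only [Pi.add_apply, Finset.sum_add_distrib]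
        congr 1
        rw [Finset.sum_eq_single j]
        · simp
        · intro b _ hb
          simp [Pi.single_eq_of_ne hb]
        · intro h
          exact absurd (Finset.mem_univ j) h
      omega
    have hprod : (∏ j', a j' ^ (t' + Pi.single j (1 : ℕ) : Fin n → ℕ) j') = a j * ∏ j', a j' ^ t' j' := by
      simp only [Pi.add_apply, pow_add, Finset.prod_mul_distrib]
      rw [mul_comm]
      congr 1
      rw [Finset.prod_eq_single j]
      · simp
      · intro b _ hb
        simp [Pi.single_eq_of_ne hb]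
      · intro h
        exact absurd (Finset.mem_univ j) h
    rw [hprod, mul_smul]
    refine le_trans (Submodule.smul_mono le_rfl (ih t' hsum)) ?_
    apply hgen
    intro k hk v hv
    subst hk
    exact Pt_step x c t' k v hv

theorem core [IsNoetherianRing A] [Module.Finite A M] [Finite κ]
    (a : Fin n → Ideal A)
    (hx : ∀ k, x k ∈ a (c k))
    (hgen : ∀ j (N P : Submodule A M), (∀ k, c k = j → ∀ v ∈ N, x k • v ∈ P) → a j • N ≤ P)
    (U : (Fin n → ℕ) → Submodule A M)
    (hU : ∀ i j, a j • U i ≤ U (i + Pi.single j 1))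
    (hle : ∀ i, U i ≤ (∏ j, a j ^ i j) • (⊤ : Submodule A M)) :
    ∃ m : Fin n → ℕ, ∀ i, m ≤ i → ∀ j, U (i + Pi.single j 1) ≤ a j • U i := by
  classical
  haveI : IsNoetherianRing (MvPolynomial κ A) := MvPolynomial.isNoetherianRing
  haveI : Module.Finite (MvPolynomial κ A) (MvPolynomial κ A ⊗[A] M) :=
    Module.Finite.base_change A _ M
  haveI : IsNoetherian (MvPolynomial κ A) (MvPolynomial κ A ⊗[A] M) :=
    isNoetherian_of_isNoetherianRing_of_finite _ _
  have hxU : ∀ k t v, v ∈ U t → x k • v ∈ U (t + Pi.single (c k) 1) := fun k t v hv =>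
    hU t (c k) (Submodule.smul_mem_smul (hx k) hv)
  obtain ⟨Z, hZ⟩ := (IsNoetherian.noetherian (W x c U hxU) : (W x c U hxU).FG)
  choose Dz hDz using fun z : MvPolynomial κ A ⊗[A] M => exists_bound x c z
  refine ⟨Z.sup Dz, fun i hi j u hu => ?_⟩
  obtain ⟨D, hD⟩ : ∃ D, D = Z.sup Dz := ⟨_, rfl⟩
  rw [← hD] at hi
  -- the refined family
  obtain ⟨V, hVdef⟩ : ∃ V : (Fin n → ℕ) → Submodule A M, ∀ t, V t =
      U t ⊓ (if D j + 1 ≤ t j then a j • U (t - Pi.single j 1) else ⊤) := ⟨_, fun _ => rfl⟩
  have hV : ∀ k t v, v ∈ V t → x k • v ∈ V (t + Pi.single (c k) 1) := by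
    intro k t v hv
    rw [hVdef] at hv ⊢
    obtain ⟨hv1, hv2⟩ := Submodule.mem_inf.mp hv
    refine Submodule.mem_inf.mpr ⟨hxU k t v hv1, ?_⟩
    by_cases hcond : D j + 1 ≤ (t + Pi.single (c k) (1 : ℕ) : Fin n → ℕ) j
    · rw [if_pos hcond]
      by_cases hck : c k = j
      · have h3 : t + Pi.single (c k) 1 - Pi.single j 1 = t := by
          rw [hck]; exact add_sub_single t j
        rw [h3]
        exact Submodule.smul_mem_smul (hck ▸ hx k) hv1
      · have htj : D j + 1 ≤ t j := by
          have h4 : (t + Pi.single (c k) (1 : ℕ) : Fin n → ℕ) j = t j := by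
            simp [Pi.single_eq_of_ne (Ne.symm hck)]
          rwa [h4] at hcond
        rw [if_pos htj] at hv2
        have h3 : t + Pi.single (c k) 1 - Pi.single j 1
            = (t - Pi.single j 1) + Pi.single (c k) 1 := by
          funext l
          by_cases hl : l = j
          · subst hl
            simp only [Pi.add_apply, Pi.sub_apply, Pi.single_eq_same,
              Pi.single_eq_of_ne (Ne.symm hck)]
            omega
          · simp only [Pi.add_apply, Pi.sub_apply, Pi.single_eq_of_ne hl]
            omega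
        rw [h3]
        refine Submodule.smul_induction_on hv2 (fun r hr w hw => ?_) (fun v1 v2 h1 h2 => ?_)
        · rw [smul_comm]
          exact Submodule.smul_mem_smul hr (hxU k _ w hw)
        · rw [smul_add]
          exact add_mem h1 h2
    · rw [if_neg hcond]
      exact Submodule.mem_top
  have hZV : (Z : Set (MvPolynomial κ A ⊗[A] M)) ⊆ W x c V hV := by
    intro z hz t
    have hzW : z ∈ W x c U hxU := hZ ▸ Submodule.subset_span hz
    rw [hVdef]
    refine Submodule.mem_inf.mpr ⟨hzW t, ?_⟩
    by_cases hcond : D j + 1 ≤ t j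
    · rw [if_pos hcond]
      have hnot : ¬ t ≤ Dz z := fun h => by
        have h1 : Dz z ≤ D := hD ▸ Finset.le_sup hz
        have h5 : t j ≤ D j := (h.trans h1) j
        omega
      rw [hDz z t hnot]
      exact zero_mem _
    · rw [if_neg hcond]
      exact Submodule.mem_top
  have hspan : W x c U hxU ≤ W x c V hV := by
    rw [← hZ]
    exact Submodule.span_le.mpr hZV
  obtain ⟨z, hz1, hz2⟩ := le_Pt x c a hgen _ (i + Pi.single j 1) rfl (hle _ hu)
  have hzW : z ∈ W x c U hxU := by
    intro t
    by_cases ht : t = i + Pi.single j 1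
    · subst ht
      rw [hz1]
      exact hu
    · rw [hz2 t ht]
      exact zero_mem _
  have hfin := (hspan hzW) (i + Pi.single j 1)
  rw [hz1, hVdef] at hfin
  have h2 := (Submodule.mem_inf.mp hfin).2
  have hcond : D j + 1 ≤ (i + Pi.single j (1 : ℕ) : Fin n → ℕ) j := by
    have h5 : D j ≤ i j := hi j
    simp only [Pi.add_apply, Pi.single_eq_same]
    omega
  rw [if_pos hcond, add_sub_single] at h2
  exact h2

end Core

/-- (MAR) multi-index Artin–Rees. -/
theorem multi_artin_rees {A : Type u} [CommRing A] [IsNoetherianRing A]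
    {M : Type u} [AddCommGroup M] [Module A M] [Module.Finite A M] {n : ℕ}
    (a : Fin n → Ideal A) (U : (Fin n → ℕ) → Submodule A M)
    (hU : ∀ i j, a j • U i ≤ U (i + Pi.single j 1))
    (hle : ∀ i, U i ≤ (∏ j, a j ^ i j) • (⊤ : Submodule A M)) :
    ∃ m : Fin n → ℕ, ∀ i, m ≤ i → ∀ j, U (i + Pi.single j 1) ≤ a j • U i := by
  classical
  choose G hG using fun j => (IsNoetherian.noetherian (a j) : (a j).FG)
  refine core (κ := Σ j : Fin n, {g : A // g ∈ G j}) (fun p => p.2.1) (fun p => p.1) a ?_ ?_ U hU hle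
  · rintro ⟨j, g, hg⟩
    show g ∈ a j
    rw [← hG j]
    exact Submodule.subset_span hg
  · intro j N P h
    rw [← hG j]
    refine Submodule.smul_le.mpr fun r hr v hv => ?_
    induction hr using Submodule.span_induction with
    | mem r hr => exact h ⟨j, r, hr⟩ rfl v hv
    | zero => rw [zero_smul]; exact zero_mem _
    | add r s _ _ hr hs => rw [add_smul]; exact add_mem hr hs
    | smul b r _ hr => rw [smul_assoc]; exact Submodule.smul_mem _ _ hr

end Groth.Agent.H87.MHS_MAR
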