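import Mathlib
import Groth.Prelude.Def_CGrpSh3

/-!
# (FREE) for S15383: finite flat over a Noetherian base is free over a basic open, after base change
-/

set_option autoImplicit false

universe u

open CategoryTheory CategoryTheory.Limits AlgebraicGeometry Opposite

namespace Groth.Agent.H87.NU_FREE

section alg

/-- (FREE-a) commutative algebra: a finite flat finitely presented module is free after inverting
some `a ∉ 𝔭`. -/
theorem exists_free_away {A : Type u} [CommRing A] (B : Type u) [AddCommGroup B] [Module A B]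
    [Module.Finite A B] [Module.Flat A B] [Module.FinitePresentation A B]
    (𝔭 : Ideal A) [𝔭.IsPrime] :
    ∃ a : A, a ∉ 𝔭 ∧ Module.Free (Localization.Away a) (LocalizedModule.Away a B) := by
  have : Module.Free (Localization.AtPrime 𝔭) (LocalizedModule 𝔭.primeCompl B) :=
    Module.free_of_flat_of_isLocalRing
  obtain ⟨r, hr, hr', -⟩ := Module.FinitePresentation.exists_free_localizedModule_powers
    𝔭.primeCompl (LocalizedModule.mkLinearMap 𝔭.primeCompl B) (Localization.AtPrime 𝔭)
  exact ⟨r, hr, hr'⟩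

/-- Transfer of freeness to an arbitrary model of the localization. -/
theorem free_of_isLocalizedModule {A : Type u} [CommRing A] (a : A) {B : Type u} [AddCommGroup B]
    [Module A B] (Aa : Type u) [CommRing Aa] [Algebra A Aa] [IsLocalization.Away a Aa]
    (C : Type u) [AddCommGroup C] [Module A C] [Module Aa C] [IsScalarTower A Aa C]
    (g : B →ₗ[A] C) [IsLocalizedModule (Submonoid.powers a) g]
    [Module.Free (Localization.Away a) (LocalizedModule.Away a B)] : Module.Free Aa C := by
  let e₁ : Localization.Away a ≃ₐ[A] Aa := IsLocalization.algEquiv (Submonoid.powers a) _ _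
  let l : LocalizedModule (Submonoid.powers a) B ≃ₗ[A] C :=
    IsLocalizedModule.iso (Submonoid.powers a) g
  have hsl : ∀ (x : Localization.Away a) (m : LocalizedModule (Submonoid.powers a) B),
      l (x • m) = e₁ x • l m := by
    intro x m
    obtain ⟨⟨r, s⟩, hx⟩ := IsLocalization.surj (Submonoid.powers a) x
    have hu : IsUnit (algebraMap A Aa s) := IsLocalization.map_units Aa s
    apply hu.smul_left_cancel.mp
    have h1 : (algebraMap A Aa s) • l (x • m) = r • l m := by
      rw [algebraMap_smul, ← map_smul l, ← algebraMap_smul (Localization.Away a) (s : A) (x • m),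
        smul_smul, mul_comm, hx, algebraMap_smul, map_smul]
    have h2 : (algebraMap A Aa s) • (e₁ x • l m) = r • l m := by
      rw [smul_smul, ← AlgEquiv.commutes e₁ (s : A), ← map_mul, mul_comm, hx, AlgEquiv.commutes,
        algebraMap_smul]
    rw [h1, h2]
  let σ : Localization.Away a →+* Aa := (e₁.toRingEquiv : Localization.Away a →+* Aa)
  let σ' : Aa →+* Localization.Away a := (e₁.toRingEquiv.symm : Aa →+* Localization.Away a)
  haveI : RingHomInvPair σ σ' := RingHomInvPair.of_ringEquiv e₁.toRingEquiv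
  haveI : RingHomInvPair σ' σ := RingHomInvPair.of_ringEquiv_symm e₁.toRingEquiv
  let e₂ : LocalizedModule.Away a B ≃ₛₗ[σ] C :=
    { toFun := l
      map_add' := map_add l
      map_smul' := hsl
      invFun := l.symm
      left_inv := l.left_inv
      right_inv := l.right_inv }
  exact Module.Free.of_equiv e₂

end alg

section sch

/-- `Γ(Y, V)` is the localization of `Γ(Y, ⊤)` at `a` as soon as `V = Y.basicOpen a`. -/
theorem isLocalization_of_eq {Y : Scheme.{u}} [IsAffine Y] (a : Γ(Y, ⊤)) (V : Y.Opens)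
    (hV : V = Y.basicOpen a) :
    letI : Algebra Γ(Y, ⊤) Γ(Y, V) := (Y.presheaf.map (homOfLE le_top).op).hom.toAlgebra
    IsLocalization.Away a Γ(Y, V) := by
  subst hV
  exact isLocalization_away_of_isAffine a

theorem appLE_top_top {Y Z : Scheme.{u}} (g : Y ⟶ Z) (e : (⊤ : Y.Opens) ≤ g ⁻¹ᵁ ⊤) :
    g.appLE ⊤ ⊤ e = g.appTop :=
  (Scheme.Hom.app_eq_appLE (f := g) (U := ⊤)).symm

/-- **(FREE)** -/
theorem exists_basicOpen_free {X X' : Scheme.{u}} (f : X' ⟶ X) [IsFinite f] [Flat f]
    [IsNoetherian X] (T : Over X) [IsAffine T.left] (t : T.left) :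
    ∃ (a : Γ(T.left, ⊤)) (_ : t ∈ T.left.basicOpen a)
      (alg : Algebra Γ((Over.mk ((T.left.basicOpen a).ι ≫ T.hom)).left, ⊤)
        Γ(((Over.pullback f).obj (Over.mk ((T.left.basicOpen a).ι ≫ T.hom))).left, ⊤)),
      Module.Finite Γ((Over.mk ((T.left.basicOpen a).ι ≫ T.hom)).left, ⊤)
        Γ(((Over.pullback f).obj (Over.mk ((T.left.basicOpen a).ι ≫ T.hom))).left, ⊤) ∧
      Module.Free Γ((Over.mk ((T.left.basicOpen a).ι ≫ T.hom)).left, ⊤)
        Γ(((Over.pullback f).obj (Over.mk ((T.left.basicOpen a).ι ≫ T.hom))).left, ⊤) ∧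
      ∀ x : Γ((Over.mk ((T.left.basicOpen a).ι ≫ T.hom)).left, ⊤),
        algebraMap Γ((Over.mk ((T.left.basicOpen a).ι ≫ T.hom)).left, ⊤)
          Γ(((Over.pullback f).obj (Over.mk ((T.left.basicOpen a).ι ≫ T.hom))).left, ⊤) x =
          (pullback.fst (Over.mk ((T.left.basicOpen a).ι ≫ T.hom)).hom f).appTop x := by
  have hfp : LocallyOfFinitePresentation f := inferInstance
  have hP : IsAffine (pullback T.hom f) := isAffine_of_isAffineHom (pullback.fst T.hom f)
  have hfin : ((pullback.fst T.hom f).appTop).hom.Finite :=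
    (pullback.fst T.hom f).finite_app ⊤ (isAffineOpen_top _)
  have hflat : ((pullback.fst T.hom f).appTop).hom.Flat :=
    (HasRingHomProperty.iff_of_isAffine (P := @Flat)).mp
      (inferInstance : Flat (pullback.fst T.hom f))
  have hfpr : ((pullback.fst T.hom f).appTop).hom.FinitePresentation :=
    (HasRingHomProperty.iff_of_isAffine (P := @LocallyOfFinitePresentation)).mp
      (inferInstance : LocallyOfFinitePresentation (pullback.fst T.hom f))
  -- algebra structures
  letI algAB : Algebra Γ(T.left, ⊤) Γ(pullback T.hom f, ⊤) :=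
    (pullback.fst T.hom f).appTop.hom.toAlgebra
  haveI mfin : Module.Finite Γ(T.left, ⊤) Γ(pullback T.hom f, ⊤) := hfin
  haveI mflat : Module.Flat Γ(T.left, ⊤) Γ(pullback T.hom f, ⊤) := hflat
  haveI afp : Algebra.FinitePresentation Γ(T.left, ⊤) Γ(pullback T.hom f, ⊤) := hfpr
  haveI mfp : Module.FinitePresentation Γ(T.left, ⊤) Γ(pullback T.hom f, ⊤) :=
    Module.FinitePresentation.of_finite_of_finitePresentation ..
  -- the prime of `t`
  let 𝔭 : Ideal Γ(T.left, ⊤) := (IsLocalRing.maximalIdeal (T.left.presheaf.stalk t)).comap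
    (T.left.presheaf.germ ⊤ t trivial).hom
  haveI : 𝔭.IsPrime := Ideal.comap_isPrime _ _
  obtain ⟨a, ha, hfree⟩ := exists_free_away Γ(pullback T.hom f, ⊤) 𝔭
  have hta : t ∈ T.left.basicOpen a := by
    rw [Scheme.mem_basicOpen_top]
    by_contra h
    exact ha ((IsLocalRing.mem_maximalIdeal _).mpr h)
  refine ⟨a, hta, (pullback.fst ((T.left.basicOpen a).ι ≫ T.hom) f).appTop.hom.toAlgebra,
    ?_, ?_, fun x => rfl⟩
  · haveI : IsAffine (T.left.basicOpen a) := (isAffineOpen_top T.left).basicOpen a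
    exact (pullback.fst ((T.left.basicOpen a).ι ≫ T.hom) f).finite_app ⊤ (isAffineOpen_top _)
  · haveI hUaff : IsAffine (T.left.basicOpen a) := (isAffineOpen_top T.left).basicOpen a
    have H : IsPullback
        (pullback.lift (pullback.fst ((T.left.basicOpen a).ι ≫ T.hom) f ≫ (T.left.basicOpen a).ι)
          (pullback.snd ((T.left.basicOpen a).ι ≫ T.hom) f)
          (by rw [Category.assoc, pullback.condition]) :
          pullback ((T.left.basicOpen a).ι ≫ T.hom) f ⟶ pullback T.hom f)
        (pullback.fst ((T.left.basicOpen a).ι ≫ T.hom) f) (pullback.fst T.hom f)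
        (T.left.basicOpen a).ι := by
      refine IsPullback.of_right ?_ (pullback.lift_fst _ _ _)
        (IsPullback.of_hasPullback T.hom f).flip
      rw [pullback.lift_snd]
      exact (IsPullback.of_hasPullback ((T.left.basicOpen a).ι ≫ T.hom) f).flip
    have hUST : (⊤ : (T.left.basicOpen a).toScheme.Opens) ≤ (T.left.basicOpen a).ι ⁻¹ᵁ ⊤ := le_top
    have hUSX : (⊤ : (pullback T.hom f).Opens) ≤ (pullback.fst T.hom f) ⁻¹ᵁ ⊤ := le_top
    have hiso := isIso_pushoutSection_of_isAffineOpen H (US := ⊤) (UT := ⊤) (UX := ⊤) (UY := ⊤)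
      hUST hUSX (by simp) (isAffineOpen_top _) (isAffineOpen_top _) (isAffineOpen_top _)
    have hpush := (isIso_pushoutSection_iff H hUST hUSX (by simp)).mp hiso
    rw [appLE_top_top, appLE_top_top, appLE_top_top, appLE_top_top] at hpush
    letI algAAa : Algebra Γ(T.left, ⊤) Γ((T.left.basicOpen a).toScheme, ⊤) :=
      (T.left.basicOpen a).ι.appTop.hom.toAlgebra
    letI algAaC : Algebra Γ((T.left.basicOpen a).toScheme, ⊤)
        Γ(pullback ((T.left.basicOpen a).ι ≫ T.hom) f, ⊤) :=
      (pullback.fst ((T.left.basicOpen a).ι ≫ T.hom) f).appTop.hom.toAlgebra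
    letI algBC : Algebra Γ(pullback T.hom f, ⊤)
        Γ(pullback ((T.left.basicOpen a).ι ≫ T.hom) f, ⊤) :=
      (pullback.lift (pullback.fst ((T.left.basicOpen a).ι ≫ T.hom) f ≫ (T.left.basicOpen a).ι)
          (pullback.snd ((T.left.basicOpen a).ι ≫ T.hom) f)
          (by rw [Category.assoc, pullback.condition]) :
          pullback ((T.left.basicOpen a).ι ≫ T.hom) f ⟶ pullback T.hom f).appTop.hom.toAlgebra
    letI algAC : Algebra Γ(T.left, ⊤) Γ(pullback ((T.left.basicOpen a).ι ≫ T.hom) f, ⊤) :=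
      ((algebraMap Γ(pullback T.hom f, ⊤)
        Γ(pullback ((T.left.basicOpen a).ι ≫ T.hom) f, ⊤)).comp
        (algebraMap Γ(T.left, ⊤) Γ(pullback T.hom f, ⊤))).toAlgebra
    haveI t1 : IsScalarTower Γ(T.left, ⊤) Γ(pullback T.hom f, ⊤)
        Γ(pullback ((T.left.basicOpen a).ι ≫ T.hom) f, ⊤) :=
      IsScalarTower.of_algebraMap_eq' rfl
    haveI t2 : IsScalarTower Γ(T.left, ⊤) Γ((T.left.basicOpen a).toScheme, ⊤)
        Γ(pullback ((T.left.basicOpen a).ι ≫ T.hom) f, ⊤) :=
      IsScalarTower.of_algebraMap_eq' (congrArg CommRingCat.Hom.hom hpush.w)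
    haveI hpo : Algebra.IsPushout Γ(T.left, ⊤) Γ((T.left.basicOpen a).toScheme, ⊤)
        Γ(pullback T.hom f, ⊤) Γ(pullback ((T.left.basicOpen a).ι ≫ T.hom) f, ⊤) :=
      CommRingCat.isPushout_iff_isPushout.mp hpush.flip
    haveI hloc : IsLocalization.Away a Γ((T.left.basicOpen a).toScheme, ⊤) :=
      isLocalization_of_eq a ((T.left.basicOpen a).ι ''ᵁ ⊤) (T.left.basicOpen a).ι_image_top
    haveI hlm : IsLocalizedModule (Submonoid.powers a)
        (IsScalarTower.toAlgHom Γ(T.left, ⊤) Γ(pullback T.hom f, ⊤)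
          Γ(pullback ((T.left.basicOpen a).ι ≫ T.hom) f, ⊤)).toLinearMap :=
      (isLocalizedModule_iff_isBaseChange (Submonoid.powers a)
        Γ((T.left.basicOpen a).toScheme, ⊤) _).mpr hpo.out
    exact free_of_isLocalizedModule a Γ((T.left.basicOpen a).toScheme, ⊤)
      Γ(pullback ((T.left.basicOpen a).ι ≫ T.hom) f, ⊤)
      (IsScalarTower.toAlgHom Γ(T.left, ⊤) Γ(pullback T.hom f, ⊤)
          Γ(pullback ((T.left.basicOpen a).ι ≫ T.hom) f, ⊤)).toLinearMap

end sch

end Groth.Agent.H87.NU_FREE
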