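import Mathlib
import Groth.Agent.H69.DirColim
import Groth.Agent.H15.NilPair.Base
import Groth.Agent.H15.NilPair.Defs
import Groth.Agent.H15.NilPair.Sys

/-!
# (PP) for S18016: the stagewise fibre products form a directed system with colimit `P`
-/

set_option autoImplicit false
set_option linter.unusedSectionVars false

universe u

open CategoryTheory MvPolynomial Limits
open Groth.Agent.H69 Groth.Agent.H15.NilPair
open scoped Classical

namespace Groth.Agent.H87.NilPair_PP

section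

variable {R B D D' P : Type u} [CommRing R] [CommRing B] [CommRing D] [CommRing D'] [CommRing P]
  [Algebra R B] [Algebra R D] [Algebra R D'] [Algebra R P]
variable {f : B →ₐ[R] D} {i : D' →ₐ[R] D} {q₁ : P →ₐ[R] B} {q₂ : P →ₐ[R] D'}
variable {J : Type u} [Preorder J]
variable {CB CD' CD : J → Type u} [∀ j, CommRing (CB j)] [∀ j, Algebra R (CB j)]
    [∀ j, CommRing (CD' j)] [∀ j, Algebra R (CD' j)] [∀ j, CommRing (CD j)] [∀ j, Algebra R (CD j)]
variable (phi : ∀ j, CB j →ₐ[R] CD j) (psi : ∀ j, CD' j →ₐ[R] CD j)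

/-- The stagewise fibre product, as a subalgebra of the product. -/
def CPs (j : J) : Subalgebra R (CB j × CD' j) :=
  AlgHom.equalizer ((phi j).comp (AlgHom.fst R (CB j) (CD' j)))
    ((psi j).comp (AlgHom.snd R (CB j) (CD' j)))

/-- The stagewise fibre product as a type. -/
abbrev CP (j : J) : Type u := ↥(CPs phi psi j)

theorem mem_CPs (j : J) (z : CB j × CD' j) : z ∈ CPs phi psi j ↔ phi j z.1 = psi j z.2 :=
  Iff.rfl

theorem CP_prop (j : J) (z : CP phi psi j) : phi j z.1.1 = psi j z.1.2 := z.2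

/-- First projection. -/
def fstP (j : J) : CP phi psi j →ₐ[R] CB j :=
  (AlgHom.fst R (CB j) (CD' j)).comp (CPs phi psi j).val

/-- Second projection. -/
def sndP (j : J) : CP phi psi j →ₐ[R] CD' j :=
  (AlgHom.snd R (CB j) (CD' j)).comp (CPs phi psi j).val

@[simp] theorem fstP_apply (j : J) (z : CP phi psi j) : fstP phi psi j z = z.1.1 := rfl
@[simp] theorem sndP_apply (j : J) (z : CP phi psi j) : sndP phi psi j z = z.1.2 := rfl

theorem CP_ext {j : J} (z z' : CP phi psi j) (h1 : z.1.1 = z'.1.1) (h2 : z.1.2 = z'.1.2) :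
    z = z' := Subtype.ext (Prod.ext h1 h2)

variable (trB : ∀ {j k : J}, j ≤ k → CB j →ₐ[R] CB k)
    (trD' : ∀ {j k : J}, j ≤ k → CD' j →ₐ[R] CD' k)
    (trD : ∀ {j k : J}, j ≤ k → CD j →ₐ[R] CD k)
    (phi_tr : ∀ {j k : J} (h : j ≤ k) (x : CB j), phi k (trB h x) = trD h (phi j x))
    (psi_tr : ∀ {j k : J} (h : j ≤ k) (x : CD' j), psi k (trD' h x) = trD h (psi j x))

/-- Transition maps of the fibre products. -/
def trP {j k : J} (h : j ≤ k) : CP phi psi j →ₐ[R] CP phi psi k :=
  AlgHom.codRestrict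
    (((trB h).comp (fstP phi psi j)).prod ((trD' h).comp (sndP phi psi j)))
    (CPs phi psi k) (by
      intro z
      rw [mem_CPs]
      show phi k (trB h z.1.1) = psi k (trD' h z.1.2)
      rw [phi_tr, psi_tr, CP_prop phi psi j z])

@[simp] theorem trP_fst {j k : J} (h : j ≤ k) (z : CP phi psi j) :
    (trP phi psi trB trD' trD phi_tr psi_tr h z).1.1 = trB h z.1.1 := rfl

@[simp] theorem trP_snd {j k : J} (h : j ≤ k) (z : CP phi psi j) :
    (trP phi psi trB trD' trD phi_tr psi_tr h z).1.2 = trD' h z.1.2 := rfl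

variable (hPb : ∀ b d', f b = i d' → ∃ p, q₁ p = b ∧ q₂ p = d')
    (hPinj : ∀ p, q₁ p = 0 → q₂ p = 0 → p = 0)
variable (toB : ∀ j, CB j →ₐ[R] B) (toD' : ∀ j, CD' j →ₐ[R] D') (toD : ∀ j, CD j →ₐ[R] D)
    (toD_phi : ∀ j x, toD j (phi j x) = f (toB j x))
    (toD_psi : ∀ j y, toD j (psi j y) = i (toD' j y))

include toD_phi toD_psi in
theorem compat (j : J) (z : CP phi psi j) : f (toB j z.1.1) = i (toD' j z.1.2) := by
  rw [← toD_phi, ← toD_psi, CP_prop phi psi j z]

include hPinj in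
theorem p_unique (p p' : P) (h1 : q₁ p = q₁ p') (h2 : q₂ p = q₂ p') : p = p' := by
  have := hPinj (p - p') (by rw [map_sub, h1, sub_self]) (by rw [map_sub, h2, sub_self])
  exact sub_eq_zero.mp this

/-- The underlying function of `toP`. -/
noncomputable def toPfun (j : J) (z : CP phi psi j) : P :=
  Classical.choose (hPb _ _ (compat phi psi toB toD' toD toD_phi toD_psi j z))

theorem toPfun_fst (j : J) (z : CP phi psi j) :
    q₁ (toPfun phi psi hPb toB toD' toD toD_phi toD_psi j z) = toB j z.1.1 :=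
  (Classical.choose_spec (hPb _ _ (compat phi psi toB toD' toD toD_phi toD_psi j z))).1

theorem toPfun_snd (j : J) (z : CP phi psi j) :
    q₂ (toPfun phi psi hPb toB toD' toD toD_phi toD_psi j z) = toD' j z.1.2 :=
  (Classical.choose_spec (hPb _ _ (compat phi psi toB toD' toD toD_phi toD_psi j z))).2

include hPinj in
theorem toPfun_eq (j : J) (z : CP phi psi j) (p : P) (h1 : q₁ p = toB j z.1.1)
    (h2 : q₂ p = toD' j z.1.2) :
    toPfun phi psi hPb toB toD' toD toD_phi toD_psi j z = p :=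
  p_unique hPinj _ _ (by rw [toPfun_fst, h1]) (by rw [toPfun_snd, h2])

/-- The cocone maps to `P`. -/
noncomputable def toP (j : J) : CP phi psi j →ₐ[R] P where
  toFun := toPfun phi psi hPb toB toD' toD toD_phi toD_psi j
  map_one' := toPfun_eq phi psi hPb hPinj toB toD' toD toD_phi toD_psi j 1 1
    (by rw [map_one]; exact (map_one (toB j)).symm)
    (by rw [map_one]; exact (map_one (toD' j)).symm)
  map_mul' z z' := toPfun_eq phi psi hPb hPinj toB toD' toD toD_phi toD_psi j _ _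
    (by rw [map_mul, toPfun_fst, toPfun_fst]; exact (map_mul (toB j) _ _).symm)
    (by rw [map_mul, toPfun_snd, toPfun_snd]; exact (map_mul (toD' j) _ _).symm)
  map_zero' := toPfun_eq phi psi hPb hPinj toB toD' toD toD_phi toD_psi j 0 0
    (by rw [map_zero]; exact (map_zero (toB j)).symm)
    (by rw [map_zero]; exact (map_zero (toD' j)).symm)
  map_add' z z' := toPfun_eq phi psi hPb hPinj toB toD' toD toD_phi toD_psi j _ _
    (by rw [map_add, toPfun_fst, toPfun_fst]; exact (map_add (toB j) _ _).symm)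
    (by rw [map_add, toPfun_snd, toPfun_snd]; exact (map_add (toD' j) _ _).symm)
  commutes' r := toPfun_eq phi psi hPb hPinj toB toD' toD toD_phi toD_psi j _ _
    (by rw [AlgHom.commutes]; exact ((toB j).commutes r).symm)
    (by rw [AlgHom.commutes]; exact ((toD' j).commutes r).symm)

theorem toP_fst (j : J) (z : CP phi psi j) :
    q₁ (toP phi psi hPb hPinj toB toD' toD toD_phi toD_psi j z) = toB j z.1.1 :=
  toPfun_fst phi psi hPb toB toD' toD toD_phi toD_psi j z

theorem toP_snd (j : J) (z : CP phi psi j) :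
    q₂ (toP phi psi hPb hPinj toB toD' toD toD_phi toD_psi j z) = toD' j z.1.2 :=
  toPfun_snd phi psi hPb toB toD' toD toD_phi toD_psi j z

theorem toP_eq (j : J) (z : CP phi psi j) (p : P) (h1 : q₁ p = toB j z.1.1)
    (h2 : q₂ p = toD' j z.1.2) :
    toP phi psi hPb hPinj toB toD' toD toD_phi toD_psi j z = p :=
  toPfun_eq phi psi hPb hPinj toB toD' toD toD_phi toD_psi j z p h1 h2

/-- The stagewise square is a pullback in `CommRingCat`. -/
theorem isPullback_stage (j : J) :
    IsPullback (CommRingCat.ofHom (fstP phi psi j).toRingHom)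
      (CommRingCat.ofHom (sndP phi psi j).toRingHom)
      (CommRingCat.ofHom (phi j).toRingHom) (CommRingCat.ofHom (psi j).toRingHom) := by
  have w : CommRingCat.ofHom (fstP phi psi j).toRingHom ≫ CommRingCat.ofHom (phi j).toRingHom =
      CommRingCat.ofHom (sndP phi psi j).toRingHom ≫ CommRingCat.ofHom (psi j).toRingHom := by
    apply CommRingCat.hom_ext
    apply RingHom.ext
    intro z
    exact CP_prop phi psi j z
  have hs : ∀ (s : PullbackCone (CommRingCat.ofHom (phi j).toRingHom)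
      (CommRingCat.ofHom (psi j).toRingHom)) (a : s.pt),
      phi j (s.fst.hom a) = psi j (s.snd.hom a) := fun s a =>
    congrArg (fun m => m.hom a) s.condition
  refine ⟨⟨w⟩, ⟨PullbackCone.IsLimit.mk w
    (fun s => CommRingCat.ofHom (RingHom.codRestrict (s.fst.hom.prod s.snd.hom)
      (CPs phi psi j) (fun a => hs s a))) ?_ ?_ ?_⟩⟩
  · intro s
    apply CommRingCat.hom_ext
    apply RingHom.ext
    intro a
    rfl
  · intro s
    apply CommRingCat.hom_ext
    apply RingHom.ext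
    intro a
    rfl
  · intro s m h1 h2
    apply CommRingCat.hom_ext
    apply RingHom.ext
    intro a
    apply CP_ext
    · exact congrArg (fun m => m.hom a) h1
    · exact congrArg (fun m => m.hom a) h2

end

/-- **(PP)** -/
theorem exists_pullback_system
    {R B D D' P : Type u} [CommRing R] [CommRing B] [CommRing D] [CommRing D'] [CommRing P]
    [Algebra R B] [Algebra R D] [Algebra R D'] [Algebra R P]
    (f : B →ₐ[R] D) (i : D' →ₐ[R] D) (q₁ : P →ₐ[R] B) (q₂ : P →ₐ[R] D')
    (hw : ∀ p, f (q₁ p) = i (q₂ p)) (hPb : ∀ b d', f b = i d' → ∃ p, q₁ p = b ∧ q₂ p = d')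
    (hPinj : ∀ p, q₁ p = 0 → q₂ p = 0 → p = 0)
    {J : Type u} [Preorder J] [IsDirected J (· ≤ ·)] [Nonempty J]
    (CB CD' CD : J → Type u) [∀ j, CommRing (CB j)] [∀ j, Algebra R (CB j)]
    [∀ j, CommRing (CD' j)] [∀ j, Algebra R (CD' j)] [∀ j, CommRing (CD j)] [∀ j, Algebra R (CD j)]
    (trB : ∀ {j k : J}, j ≤ k → CB j →ₐ[R] CB k) (trD' : ∀ {j k : J}, j ≤ k → CD' j →ₐ[R] CD' k)
    (trD : ∀ {j k : J}, j ≤ k → CD j →ₐ[R] CD k)
    (trB_refl : ∀ (j : J) (x : CB j), trB (le_refl j) x = x)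
    (trB_trans : ∀ {j k l : J} (h1 : j ≤ k) (h2 : k ≤ l) (x : CB j),
      trB h2 (trB h1 x) = trB (h1.trans h2) x)
    (trD'_refl : ∀ (j : J) (x : CD' j), trD' (le_refl j) x = x)
    (trD'_trans : ∀ {j k l : J} (h1 : j ≤ k) (h2 : k ≤ l) (x : CD' j),
      trD' h2 (trD' h1 x) = trD' (h1.trans h2) x)
    (trD_refl : ∀ (j : J) (x : CD j), trD (le_refl j) x = x)
    (trD_trans : ∀ {j k l : J} (h1 : j ≤ k) (h2 : k ≤ l) (x : CD j),
      trD h2 (trD h1 x) = trD (h1.trans h2) x)
    (toB : ∀ j, CB j →ₐ[R] B) (toB_tr : ∀ {j k : J} (h : j ≤ k) (x : CB j), toB k (trB h x) = toB j x)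
    (toD' : ∀ j, CD' j →ₐ[R] D')
    (toD'_tr : ∀ {j k : J} (h : j ≤ k) (x : CD' j), toD' k (trD' h x) = toD' j x)
    (toD : ∀ j, CD j →ₐ[R] D) (toD_tr : ∀ {j k : J} (h : j ≤ k) (x : CD j), toD k (trD h x) = toD j x)
    (phi : ∀ j, CB j →ₐ[R] CD j)
    (phi_tr : ∀ {j k : J} (h : j ≤ k) (x : CB j), phi k (trB h x) = trD h (phi j x))
    (psi : ∀ j, CD' j →ₐ[R] CD j)
    (psi_tr : ∀ {j k : J} (h : j ≤ k) (x : CD' j), psi k (trD' h x) = trD h (psi j x))
    (toD_phi : ∀ j x, toD j (phi j x) = f (toB j x))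
    (toD_psi : ∀ j y, toD j (psi j y) = i (toD' j y))
    (hsB : ∀ b : B, ∃ (j : J) (x : CB j), toB j x = b)
    (hkB : ∀ (j : J) (x : CB j), toB j x = 0 → ∃ (k : J) (h : j ≤ k), trB h x = 0)
    (hsD' : ∀ b : D', ∃ (j : J) (x : CD' j), toD' j x = b)
    (hkD' : ∀ (j : J) (x : CD' j), toD' j x = 0 → ∃ (k : J) (h : j ≤ k), trD' h x = 0)
    (hkD : ∀ (j : J) (x : CD j), toD j x = 0 → ∃ (k : J) (h : j ≤ k), trD h x = 0) :
    ∃ (DP : J ⥤ Under (CommRingCat.of R))
      (π₁ : DP ⟶ dirF CB trB trB_refl trB_trans) (π₂ : DP ⟶ dirF CD' trD' trD'_refl trD'_trans)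
      (cP : DP ⟶ (Functor.const J).obj (Under.mk (CommRingCat.ofHom (algebraMap R P)))),
      Nonempty (IsColimit (Cocone.mk _ cP)) ∧
      (∀ j, (π₁.app j).right ≫ ((dirCocone CB trB trB_refl trB_trans toB toB_tr).ι.app j).right =
        (cP.app j).right ≫ CommRingCat.ofHom q₁.toRingHom) ∧
      (∀ j, (π₂.app j).right ≫ ((dirCocone CD' trD' trD'_refl trD'_trans toD' toD'_tr).ι.app j).right =
        (cP.app j).right ≫ CommRingCat.ofHom q₂.toRingHom) ∧
      (∀ j, IsPullback (π₁.app j).right (π₂.app j).right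
        ((dirNat CB CD trB trD trB_refl trB_trans trD_refl trD_trans phi phi_tr).app j).right
        ((dirNat CD' CD trD' trD trD'_refl trD'_trans trD_refl trD_trans psi psi_tr).app j).right) := by
  -- transitions of the fibre products
  have trP_refl : ∀ (j : J) (z : CP phi psi j),
      trP phi psi trB trD' trD phi_tr psi_tr (le_refl j) z = z := fun j z =>
    CP_ext phi psi _ _ (trB_refl j _) (trD'_refl j _)
  have trP_trans : ∀ {j k l : J} (h1 : j ≤ k) (h2 : k ≤ l) (z : CP phi psi j),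
      trP phi psi trB trD' trD phi_tr psi_tr h2 (trP phi psi trB trD' trD phi_tr psi_tr h1 z) =
        trP phi psi trB trD' trD phi_tr psi_tr (h1.trans h2) z := fun h1 h2 z =>
    CP_ext phi psi _ _ (trB_trans h1 h2 _) (trD'_trans h1 h2 _)
  have toP_tr : ∀ {j k : J} (h : j ≤ k) (z : CP phi psi j),
      toP phi psi hPb hPinj toB toD' toD toD_phi toD_psi k
        (trP phi psi trB trD' trD phi_tr psi_tr h z) =
      toP phi psi hPb hPinj toB toD' toD toD_phi toD_psi j z := fun {j k} h z =>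
    toP_eq phi psi hPb hPinj toB toD' toD toD_phi toD_psi k _ _
      (by rw [toP_fst]; exact (toB_tr h _).symm) (by rw [toP_snd]; exact (toD'_tr h _).symm)
  -- surjectivity
  have hsurj : ∀ p : P, ∃ (j : J) (z : CP phi psi j),
      toP phi psi hPb hPinj toB toD' toD toD_phi toD_psi j z = p := by
    intro p
    obtain ⟨j₁, x, hx⟩ := hsB (q₁ p)
    obtain ⟨j₂, y, hy⟩ := hsD' (q₂ p)
    obtain ⟨k, h1, h2⟩ := exists_ge_ge j₁ j₂
    have hz : toD k (phi k (trB h1 x) - psi k (trD' h2 y)) = 0 := by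
      rw [map_sub, toD_phi, toD_psi, toB_tr, toD'_tr, hx, hy, hw, sub_self]
    obtain ⟨k', hkk', hz'⟩ := hkD k _ hz
    rw [map_sub, sub_eq_zero, ← phi_tr, ← psi_tr] at hz'
    refine ⟨k', ⟨(trB hkk' (trB h1 x), trD' hkk' (trD' h2 y)), hz'⟩, ?_⟩
    apply toP_eq
    · show q₁ p = toB k' (trB hkk' (trB h1 x))
      rw [toB_tr, toB_tr, hx]
    · show q₂ p = toD' k' (trD' hkk' (trD' h2 y))
      rw [toD'_tr, toD'_tr, hy]
  -- kernel
  have hker : ∀ (j : J) (z : CP phi psi j),
      toP phi psi hPb hPinj toB toD' toD toD_phi toD_psi j z = 0 →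
      ∃ (k : J) (h : j ≤ k), trP phi psi trB trD' trD phi_tr psi_tr h z = 0 := by
    intro j z hz
    have h1 : toB j z.1.1 = 0 := by rw [← toP_fst phi psi hPb hPinj toB toD' toD toD_phi toD_psi, hz, map_zero]
    have h2 : toD' j z.1.2 = 0 := by rw [← toP_snd phi psi hPb hPinj toB toD' toD toD_phi toD_psi, hz, map_zero]
    obtain ⟨k₁, hk₁, e₁⟩ := hkB j _ h1
    obtain ⟨k₂, hk₂, e₂⟩ := hkD' j _ h2
    obtain ⟨k, g1, g2⟩ := exists_ge_ge k₁ k₂
    refine ⟨k, hk₁.trans g1, ?_⟩
    apply CP_ext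
    · show trB (hk₁.trans g1) z.1.1 = 0
      rw [← trB_trans hk₁ g1, e₁, map_zero]
    · show trD' (hk₁.trans g1) z.1.2 = 0
      rw [show hk₁.trans g1 = hk₂.trans g2 from rfl, ← trD'_trans hk₂ g2, e₂, map_zero]
  refine ⟨dirF (fun j => CP phi psi j) (trP phi psi trB trD' trD phi_tr psi_tr) trP_refl trP_trans,
    dirNat (fun j => CP phi psi j) CB (trP phi psi trB trD' trD phi_tr psi_tr) trB
      trP_refl trP_trans trB_refl trB_trans (fstP phi psi) (fun h z => rfl),
    dirNat (fun j => CP phi psi j) CD' (trP phi psi trB trD' trD phi_tr psi_tr) trD'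
      trP_refl trP_trans trD'_refl trD'_trans (sndP phi psi) (fun h z => rfl),
    (dirCocone (fun j => CP phi psi j) (trP phi psi trB trD' trD phi_tr psi_tr) trP_refl trP_trans
      (toP phi psi hPb hPinj toB toD' toD toD_phi toD_psi) toP_tr).ι, ?_, ?_, ?_, ?_⟩
  · exact dir_isColimit (fun j => CP phi psi j) (trP phi psi trB trD' trD phi_tr psi_tr)
      trP_refl trP_trans (toP phi psi hPb hPinj toB toD' toD toD_phi toD_psi) toP_tr hsurj hker
  · intro j
    apply CommRingCat.hom_ext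
    apply RingHom.ext
    intro z
    exact (toP_fst phi psi hPb hPinj toB toD' toD toD_phi toD_psi j z).symm
  · intro j
    apply CommRingCat.hom_ext
    apply RingHom.ext
    intro z
    exact (toP_snd phi psi hPb hPinj toB toD' toD toD_phi toD_psi j z).symm
  · intro j
    exact isPullback_stage phi psi j

end Groth.Agent.H87.NilPair_PP
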