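import Mathlib

set_option autoImplicit false

namespace Groth.Agent.H87.PSRegSeq

open MvPowerSeries RingTheory.Sequence

variable (R : Type*) [CommRing R] (m : ℕ)

def lowIdeal (i : ℕ) : Ideal (MvPowerSeries (Fin m) R) where
  carrier := {f | ∀ d : Fin m →₀ ℕ, (∀ j : Fin m, j.val < i → d j = 0) → coeff d f = 0}
  zero_mem' := by intro d _; simp
  add_mem' := by
    intro f g hf hg d hd
    rw [map_add, hf d hd, hg d hd, add_zero]
  smul_mem' := by
    classical
    intro a f hf d hd
    rw [smul_eq_mul, coeff_mul]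
    apply Finset.sum_eq_zero
    rintro ⟨d1, d2⟩ h12
    have h12' : d1 + d2 = d := by simpa using h12
    have h2 : ∀ j : Fin m, j.val < i → d2 j = 0 := by
      intro j hj
      have h3 := hd j hj
      rw [← h12', Finsupp.add_apply] at h3
      omega
    rw [hf d2 h2, mul_zero]

variable {R m}

theorem mem_lowIdeal {i : ℕ} {f : MvPowerSeries (Fin m) R} :
    f ∈ lowIdeal R m i ↔ ∀ d : Fin m →₀ ℕ, (∀ j : Fin m, j.val < i → d j = 0) → coeff d f = 0 :=
  Iff.rfl

theorem span_le_lowIdeal (i : ℕ) :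
    Ideal.span {f | ∃ j : Fin m, j.val < i ∧ f = (X j : MvPowerSeries (Fin m) R)} ≤
      lowIdeal R m i := by
  classical
  rw [Ideal.span_le]
  rintro _ ⟨j, hj, rfl⟩
  intro d hd
  rw [coeff_X, if_neg]
  intro h
  have := hd j hj
  rw [h, Finsupp.single_eq_same] at this
  omega

theorem lowIdeal_le_span (i : ℕ) :
    lowIdeal R m i ≤
      Ideal.span {f | ∃ j : Fin m, j.val < i ∧ f = (X j : MvPowerSeries (Fin m) R)} := by
  classical
  induction i with
  | zero =>
    intro f hf
    have : f = 0 := by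
      ext d
      rw [hf d (fun j hj => absurd hj (Nat.not_lt_zero _)), map_zero]
    rw [this]
    exact Ideal.zero_mem _
  | succ i ih =>
    intro f hf
    have hmono : Ideal.span {f | ∃ j : Fin m, j.val < i ∧ f = (X j : MvPowerSeries (Fin m) R)} ≤
        Ideal.span {f | ∃ j : Fin m, j.val < i + 1 ∧ f = (X j : MvPowerSeries (Fin m) R)} :=
      Ideal.span_mono (fun g ⟨j, hj, hg⟩ => ⟨j, Nat.lt_succ_of_lt hj, hg⟩)
    by_cases h : i < m
    · let j₀ : Fin m := ⟨i, h⟩
      let f₀ : MvPowerSeries (Fin m) R := fun d => if d j₀ = 0 then coeff d f else 0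
      have hf₀ : ∀ d, coeff d f₀ = if d j₀ = 0 then coeff d f else 0 := fun d => rfl
      have h0 : f₀ ∈ lowIdeal R m i := by
        intro d hd
        rw [hf₀]
        split_ifs with hd0
        · apply hf d
          intro j hj
          rcases Nat.lt_succ_iff_lt_or_eq.1 hj with hj | hj
          · exact hd j hj
          · have : j = j₀ := Fin.ext hj
            rw [this]; exact hd0
        · rfl
      have h1 : (X j₀ : MvPowerSeries (Fin m) R) ∣ f - f₀ := by
        rw [X_dvd_iff]
        intro d hd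
        rw [map_sub, hf₀, if_pos hd, sub_self]
      obtain ⟨g, hg⟩ := h1
      have : f = f₀ + X j₀ * g := by rw [← hg]; ring
      rw [this]
      refine Ideal.add_mem _ (hmono (ih h0)) (Ideal.mul_mem_right _ _ (Ideal.subset_span ?_))
      exact ⟨j₀, Nat.lt_succ_self i, rfl⟩
    · apply hmono
      apply ih
      intro d hd
      apply hf d
      intro j _
      exact hd j (lt_of_lt_of_le j.2 (not_lt.1 h))

theorem span_eq_lowIdeal (i : ℕ) :
    Ideal.span {f | ∃ j : Fin m, j.val < i ∧ f = (X j : MvPowerSeries (Fin m) R)} =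
      lowIdeal R m i :=
  le_antisymm (span_le_lowIdeal i) (lowIdeal_le_span i)

theorem ofList_take_ofFn (i : ℕ) :
    Ideal.ofList ((List.ofFn (X : Fin m → MvPowerSeries (Fin m) R)).take i) = lowIdeal R m i := by
  rw [← span_eq_lowIdeal]
  show Ideal.span _ = _
  congr 1
  ext f
  simp only [Set.mem_ofPred_eq, List.mem_take_iff_getElem, List.length_ofFn, List.getElem_ofFn]
  constructor
  · rintro ⟨k, hk, rfl⟩
    exact ⟨⟨k, (lt_min_iff.1 hk).2⟩, (lt_min_iff.1 hk).1, rfl⟩
  · rintro ⟨j, hj, rfl⟩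
    exact ⟨j.val, lt_min_iff.2 ⟨hj, j.2⟩, rfl⟩

theorem smul_X_mem_lowIdeal {i : ℕ} (h : i < m) {f : MvPowerSeries (Fin m) R}
    (hf : X ⟨i, h⟩ * f ∈ lowIdeal R m i) : f ∈ lowIdeal R m i := by
  classical
  intro d hd
  have h1 := hf (Finsupp.single ⟨i, h⟩ 1 + d) (by
    intro j hj
    rw [Finsupp.add_apply, hd j hj, add_zero, Finsupp.single_eq_of_ne]
    intro hji
    rw [hji] at hj
    exact lt_irrefl _ hj)
  rw [X, coeff_add_monomial_mul, one_mul] at h1
  exact h1

theorem isWeaklyRegular_X :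
    IsWeaklyRegular (MvPowerSeries (Fin m) R)
      (List.ofFn (X : Fin m → MvPowerSeries (Fin m) R)) := by
  rw [isWeaklyRegular_iff_Fin]
  intro i
  rw [isSMulRegular_quotient_iff_mem_of_smul_mem]
  intro f hf
  rw [ofList_take_ofFn, smul_eq_mul, Ideal.mul_top] at hf ⊢
  have hi : i.val < m := lt_of_lt_of_eq i.2 List.length_ofFn
  have hget : (List.ofFn (X : Fin m → MvPowerSeries (Fin m) R))[i] = X ⟨i.val, hi⟩ := by
    simp
  rw [hget] at hf
  exact smul_X_mem_lowIdeal hi hf

theorem ofList_ofFn_X :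
    Ideal.ofList (List.ofFn (X : Fin m → MvPowerSeries (Fin m) R)) = lowIdeal R m m := by
  have := ofList_take_ofFn (R := R) (m := m) m
  rwa [List.take_of_length_le (by rw [List.length_ofFn])] at this

theorem mem_lowIdeal_top {f : MvPowerSeries (Fin m) R} :
    f ∈ lowIdeal R m m ↔ constantCoeff f = 0 := by
  constructor
  · intro hf
    have := hf 0 (fun j _ => rfl)
    rwa [coeff_zero_eq_constantCoeff_apply] at this
  · intro hf d hd
    have : d = 0 := by
      ext j
      exact hd j j.2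
    rw [this, coeff_zero_eq_constantCoeff_apply, hf]

theorem isWeaklyRegular_X_append (a : R) (ha : IsSMulRegular R a) :
    IsWeaklyRegular (MvPowerSeries (Fin m) R)
      (List.ofFn (X : Fin m → MvPowerSeries (Fin m) R) ++ [C a]) := by
  rw [isWeaklyRegular_append_iff]
  refine ⟨isWeaklyRegular_X, ?_⟩
  rw [isWeaklyRegular_singleton_iff, isSMulRegular_quotient_iff_mem_of_smul_mem]
  intro f hf
  rw [ofList_ofFn_X, smul_eq_mul, Ideal.mul_top, mem_lowIdeal_top] at hf ⊢
  rw [smul_eq_mul, map_mul, constantCoeff_C] at hf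
  exact ha (by simp only [smul_eq_mul, hf, mul_zero])

end Groth.Agent.H87.PSRegSeq
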