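import Mathlib.RingTheory.MvPolynomial.Ideal
import Mathlib.RingTheory.Ideal.Quotient.Operations
import Mathlib.Tactic.Ring

set_option autoImplicit false
set_option maxHeartbeats 400000

namespace Groth.Agent.H87.PsiLemma

open MvPolynomial

variable {R : Type*} [CommRing R] {d N : ℕ}

local notation "𝔵" => idealOfVars (Fin d) R
local notation "mkN" => Ideal.Quotient.mk (idealOfVars (Fin d) R ^ N)

theorem map_mul_map (a b : ℕ) : (𝔵 ^ a).map mkN * (𝔵 ^ b).map mkN = (𝔵 ^ (a + b)).map mkN := by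
  rw [← Ideal.map_mul, ← pow_add]

theorem map_anti {a b : ℕ} (h : a ≤ b) : (𝔵 ^ b).map mkN ≤ (𝔵 ^ a).map mkN :=
  Ideal.map_mono (Ideal.pow_le_pow_right h)

theorem X_mem (i : Fin d) : (X i : MvPolynomial (Fin d) R) ∈ 𝔵 ^ 1 := by
  rw [pow_one]; exact Ideal.subset_span ⟨i, rfl⟩

theorem sub_add (ψ : MvPolynomial (Fin d) R →ₐ[R] MvPolynomial (Fin d) R ⧸ idealOfVars (Fin d) R ^ N) (x y : MvPolynomial (Fin d) R) :
    ψ (x + y) - mkN (x + y) = (ψ x - mkN x) + (ψ y - mkN y) := by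
  rw [map_add, map_add]; ring

theorem sub_mul (ψ : MvPolynomial (Fin d) R →ₐ[R] MvPolynomial (Fin d) R ⧸ idealOfVars (Fin d) R ^ N) (u v : MvPolynomial (Fin d) R) :
    ψ (u * v) - mkN (u * v) = ψ u * (ψ v - mkN v) + (ψ u - mkN u) * mkN v := by
  rw [map_mul, map_mul]; ring

theorem psi_X_mem (ψ : MvPolynomial (Fin d) R →ₐ[R] MvPolynomial (Fin d) R ⧸ idealOfVars (Fin d) R ^ N)
    (hψ : ∀ i, ψ (X i) - mkN (X i) ∈ (𝔵 ^ (1 + 1)).map mkN) (i : Fin d) : ψ (X i) ∈ (𝔵 ^ 1).map mkN := by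
  have := add_mem (map_anti (N := N) (Nat.le_succ 1) (hψ i)) (Ideal.mem_map_of_mem mkN (X_mem i))
  rwa [sub_add_cancel] at this

theorem claim0 (ψ : MvPolynomial (Fin d) R →ₐ[R] MvPolynomial (Fin d) R ⧸ idealOfVars (Fin d) R ^ N)
    (hψ : ∀ i, ψ (X i) - mkN (X i) ∈ (𝔵 ^ (1 + 1)).map mkN) (p : MvPolynomial (Fin d) R) : ψ p - mkN p ∈ (𝔵 ^ 1).map mkN := by
  induction p using MvPolynomial.induction_on with
  | C a =>
    have : ψ (C a) = mkN (C a) := ψ.commutes a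
    rw [this, sub_self]; exact zero_mem _
  | add p q hp hq => rw [sub_add ψ]; exact add_mem hp hq
  | mul_X p i _ =>
    rw [map_mul, map_mul]
    exact sub_mem (Ideal.mul_mem_left _ _ (psi_X_mem ψ hψ i))
      (Ideal.mul_mem_left _ _ (Ideal.mem_map_of_mem mkN (X_mem i)))

theorem claim1 (ψ : MvPolynomial (Fin d) R →ₐ[R] MvPolynomial (Fin d) R ⧸ idealOfVars (Fin d) R ^ N)
    (hψ : ∀ i, ψ (X i) - mkN (X i) ∈ (𝔵 ^ (1 + 1)).map mkN) (p : MvPolynomial (Fin d) R) (hp : p ∈ 𝔵) :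
    ψ p - mkN p ∈ (𝔵 ^ (1 + 1)).map mkN := by
  have hp' : p ∈ Submodule.span (MvPolynomial (Fin d) R)
      (Set.range (X : Fin d → MvPolynomial (Fin d) R)) := hp
  induction hp' using Submodule.span_induction with
  | mem x hx => obtain ⟨i, rfl⟩ := hx; exact hψ i
  | zero => rw [map_zero, map_zero, sub_self]; exact zero_mem _
  | add x y hx hy ihx ihy => rw [sub_add ψ]; exact add_mem (ihx hx) (ihy hy)
  | smul a x hx ih =>
    rw [smul_eq_mul, sub_mul ψ]
    refine add_mem (Ideal.mul_mem_left _ _ (ih hx)) ?_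
    rw [← map_mul_map 1 1]
    refine Ideal.mul_mem_mul (claim0 ψ hψ a) (Ideal.mem_map_of_mem mkN ?_)
    rw [pow_one]; exact hx

theorem psi_sub_mk_mem (ψ : MvPolynomial (Fin d) R →ₐ[R] MvPolynomial (Fin d) R ⧸ idealOfVars (Fin d) R ^ N)
    (hψ : ∀ i, ψ (X i) - mkN (X i) ∈ (𝔵 ^ (1 + 1)).map mkN) : ∀ (k : ℕ) (p : MvPolynomial (Fin d) R), p ∈ 𝔵 ^ k →
    ψ p - mkN p ∈ (𝔵 ^ (k + 1)).map mkN := by
  intro k
  induction k with
  | zero => intro p _; exact claim0 ψ hψ p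
  | succ k ih =>
    intro p hp
    rw [pow_succ] at hp
    refine Submodule.mul_induction_on hp ?_ ?_
    · intro u hu v hv
      rw [sub_mul ψ]
      have hψu : ψ u ∈ (𝔵 ^ k).map mkN := by
        have := add_mem (map_anti (N := N) (Nat.le_succ k) (ih u hu)) (Ideal.mem_map_of_mem mkN hu)
        rwa [sub_add_cancel] at this
      refine add_mem ?_ ?_
      · have := Ideal.mul_mem_mul hψu (claim1 ψ hψ v hv)
        rw [map_mul_map] at this
        exact map_anti (N := N) (by omega) this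
      · have := Ideal.mul_mem_mul (ih u hu)
          (Ideal.mem_map_of_mem mkN (show v ∈ 𝔵 ^ 1 by rw [pow_one]; exact hv))
        rw [map_mul_map] at this
        exact this
    · intro x y hx hy
      rw [sub_add ψ]; exact add_mem hx hy

theorem mem_pow_of_psi_mem (ψ : MvPolynomial (Fin d) R →ₐ[R] MvPolynomial (Fin d) R ⧸ idealOfVars (Fin d) R ^ N)
    (hψ : ∀ i, ψ (X i) - mkN (X i) ∈ (𝔵 ^ (1 + 1)).map mkN) (n : ℕ) (hn : n ≤ N) (p : MvPolynomial (Fin d) R)
    (hp : ψ p ∈ (𝔵 ^ n).map mkN) : p ∈ 𝔵 ^ n := by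
  have key := psi_sub_mk_mem ψ hψ
  have : ∀ k, k ≤ n → p ∈ 𝔵 ^ k := by
    intro k
    induction k with
    | zero => intro _; rw [pow_zero, Ideal.one_eq_top]; exact Submodule.mem_top
    | succ k ih =>
      intro hk
      have h1 := key k p (ih (Nat.le_of_succ_le hk))
      have h2 : mkN p ∈ (𝔵 ^ (k + 1)).map mkN := by
        have := sub_mem (map_anti (N := N) hk hp) h1
        rwa [sub_sub_cancel] at this
      exact (Ideal.mem_quotient_iff_mem (Ideal.pow_le_pow_right (hk.trans hn))).1 h2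
  exact this n le_rfl

end Groth.Agent.H87.PsiLemma
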