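import Groth.Agent.H87.CIFibres

/-!
# Regular homomorphisms and adic formal smoothness of the local homomorphisms (helper87)

* `exists_psi`: for a prime `Q'` of the fibre `p.Fiber C`, the surjection `C_r → (p.Fiber C)_{Q'}`
  with kernel `𝔪_{B_p} C_r`.
* `fs_fibre_of_fs_loc`: if `B_p → C_r` is adically formally smooth then so is
  `κ(p) → (p.Fiber C)_{Q'}`.
* `fs_loc'`: version of `CIFibres.fs_loc` for arbitrary `r` over `p`.
-/

set_option autoImplicit false
set_option linter.style.haveILetI false
set_option maxHeartbeats 400000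

namespace Groth.Agent.H87.RegHomLoc

open IsLocalRing TensorProduct

universe u

section Loc

variable {B C : Type u} [CommRing B] [CommRing C] [Algebra B C]

theorem exists_psi (p : Ideal B) [p.IsPrime] (Q' : Ideal (p.Fiber C)) [Q'.IsPrime]
    [Algebra (Localization.AtPrime p) (Localization.AtPrime
      (Q'.comap (Algebra.TensorProduct.includeRight : C →ₐ[B] p.Fiber C)))]
    [Localization.AtPrime.IsLiesOverAlgebra p
      (Q'.comap (Algebra.TensorProduct.includeRight : C →ₐ[B] p.Fiber C))] :
    ∃ ψ : Localization.AtPrime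
        (Q'.comap (Algebra.TensorProduct.includeRight : C →ₐ[B] p.Fiber C)) →ₐ[Localization.AtPrime p]
        Localization.AtPrime Q', Function.Surjective ψ ∧
      RingHom.ker ψ.toRingHom = (maximalIdeal (Localization.AtPrime p)).map
        (algebraMap (Localization.AtPrime p) (Localization.AtPrime
          (Q'.comap (Algebra.TensorProduct.includeRight : C →ₐ[B] p.Fiber C)))) := by
  let e := Ideal.Fiber.localizationAlgEquivQuotient p Q'
  refine ⟨e.symm.toAlgHom.comp (Ideal.Quotient.mkₐ (Localization.AtPrime p) _),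
    e.symm.surjective.comp Ideal.Quotient.mk_surjective, ?_⟩
  rw [← Localization.AtPrime.map_eq_maximalIdeal, Ideal.map_map,
    ← IsScalarTower.algebraMap_eq B (Localization.AtPrime p)]
  ext x
  rw [RingHom.mem_ker]
  show e.symm (Ideal.Quotient.mk _ x) = 0 ↔ _
  rw [EmbeddingLike.map_eq_zero_iff, Ideal.Quotient.eq_zero_iff_mem]

theorem fs_fibre_of_fs_loc (p : Ideal B) [p.IsPrime] (Q' : Ideal (p.Fiber C)) [Q'.IsPrime]
    [Algebra (Localization.AtPrime p) (Localization.AtPrime
      (Q'.comap (Algebra.TensorProduct.includeRight : C →ₐ[B] p.Fiber C)))]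
    [Localization.AtPrime.IsLiesOverAlgebra p
      (Q'.comap (Algebra.TensorProduct.includeRight : C →ₐ[B] p.Fiber C))]
    (h : CAlgX.IsAdicFormallySmooth (Localization.AtPrime p)
      (Localization.AtPrime (Q'.comap (Algebra.TensorProduct.includeRight : C →ₐ[B] p.Fiber C)))
      (maximalIdeal (Localization.AtPrime
        (Q'.comap (Algebra.TensorProduct.includeRight : C →ₐ[B] p.Fiber C))))) :
    CAlgX.IsAdicFormallySmooth p.ResidueField (Localization.AtPrime Q')
      (maximalIdeal (Localization.AtPrime Q')) := by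
  have hκ : Function.Surjective (algebraMap (Localization.AtPrime p) p.ResidueField) :=
    IsLocalRing.residue_surjective
  haveI hloc : IsLocalHom (algebraMap (Localization.AtPrime p) (Localization.AtPrime
      (Q'.comap (Algebra.TensorProduct.includeRight : C →ₐ[B] p.Fiber C)))) := by
    rw [Localization.AtPrime.IsLiesOverAlgebra.algebraMap_eq]
    exact Localization.isLocalHom_localRingHom _ _ _ _
  obtain ⟨ψ, hψ, hker⟩ := exists_psi p Q'
  exact Groth.Agent.H87.LiftJ.fs_fibre_of_fs hκ ψ hψ hker ((Groth.Agent.S4537.result _).1 h)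

end Loc

section Loc'

variable {B C : Type u} [CommRing B] [CommRing C] [IsNoetherianRing B] [IsNoetherianRing C]
  [Algebra B C] [Module.Flat B C]

theorem fs_loc' (hBC : CAlg.IsRegularHom B C) (p : Ideal B) [p.IsPrime] (r : Ideal C) [r.IsPrime]
    [r.LiesOver p] [Algebra (Localization.AtPrime p) (Localization.AtPrime r)]
    [Localization.AtPrime.IsLiesOverAlgebra p r] :
    CAlgX.IsAdicFormallySmooth (Localization.AtPrime p) (Localization.AtPrime r)
      (maximalIdeal (Localization.AtPrime r)) := by
  obtain ⟨Q', hQ', hQ'eq⟩ := Groth.Agent.H15.FibreSk.exists_fiber_prime B C p r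
    (Ideal.LiesOver.over (p := p) (P := r)).symm
  haveI := hQ'
  subst hQ'eq
  exact Groth.Agent.H87.CIFibres.fs_loc hBC p Q'

end Loc'

end Groth.Agent.H87.RegHomLoc
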