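import Mathlib

/-!
# (JS) for S6211: a finite family of affine opens of `Y'` covering `h ⁻¹ᵁ V`, jointly surjective
on polynomial rings over the sections
-/

set_option autoImplicit false

universe u

open CategoryTheory CategoryTheory.Limits AlgebraicGeometry TopologicalSpace Opposite

namespace Groth.Agent.H87.RelPC_JS

section ring

attribute [local instance] MvPolynomial.algebraMvPolynomial

/-- The square `R → R[x]`, `R → R'`, `R[x] → R'[x]`, `R' → R'[x]` is a pushout of commutative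
rings. -/
theorem isPushout_mvPolynomial {R R' : CommRingCat.{u}} (σ : Type) (ψ : R ⟶ R') :
    IsPushout (CommRingCat.ofHom (MvPolynomial.C (σ := σ) (R := R))) ψ
      (CommRingCat.ofHom (MvPolynomial.map (σ := σ) ψ.hom))
      (CommRingCat.ofHom (MvPolynomial.C (σ := σ) (R := R'))) := by
  let _ : Algebra R R' := ψ.hom.toAlgebra
  exact CommRingCat.isPushout_of_isPushout R (MvPolynomial σ R) R' (MvPolynomial σ R')

end ring

/-- Points of `Spec R'[x]` surject onto compatible pairs of points of `Spec R[x]` and `Spec R'`. -/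
theorem exists_point_mvPolynomial {R R' : CommRingCat.{u}} (σ : Type) (ψ : R ⟶ R')
    (z : Spec (CommRingCat.of (MvPolynomial σ R))) (p' : Spec R')
    (hc : (Spec.map (CommRingCat.ofHom (MvPolynomial.C (σ := σ) (R := R)))) z = (Spec.map ψ) p') :
    ∃ z' : Spec (CommRingCat.of (MvPolynomial σ R')),
      (Spec.map (CommRingCat.ofHom (MvPolynomial.map (σ := σ) ψ.hom))) z' = z := by
  have sq := isPullback_SpecMap_of_isPushout _ _ _ _ (isPushout_mvPolynomial σ ψ)
  obtain ⟨w, hw1, -⟩ := Scheme.Pullback.exists_preimage_pullback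
    (f := Spec.map (CommRingCat.ofHom (MvPolynomial.C (σ := σ) (R := R)))) (g := Spec.map ψ) z p' hc
  refine ⟨sq.isoPullback.inv w, ?_⟩
  rw [← Scheme.Hom.comp_apply, sq.isoPullback_inv_fst]
  exact hw1

/-- **(JS)** -/
theorem exists_finite_affine_cover_surj {Y Y' : Scheme.{u}} (h : Y' ⟶ Y) [Surjective h]
    [QuasiCompact h] {V : Y.Opens} (hV : IsAffineOpen V) :
    ∃ (I : Set Y'.affineOpens), I.Finite ∧
      ∃ hle : ∀ V' ∈ I, ((V' : Y'.affineOpens) : Y'.Opens) ≤ h ⁻¹ᵁ V,
        ∀ (k : ℕ) (z : Spec (CommRingCat.of (MvPolynomial (Fin k) Γ(Y, V)))),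
          ∃ (V' : Y'.affineOpens) (hV' : V' ∈ I)
            (z' : Spec (CommRingCat.of (MvPolynomial (Fin k) Γ(Y', (V' : Y'.Opens))))),
            (Spec.map (CommRingCat.ofHom (MvPolynomial.map (σ := Fin k)
              (h.appLE V (V' : Y'.Opens) (hle V' hV')).hom))) z' = z := by
  obtain ⟨s, hs, e⟩ := isCompact_iff_finite_and_eq_biUnion_affineOpens.mp
    (h.isCompact_preimage hV.isCompact)
  have hle : ∀ V' ∈ s, ((V' : Y'.affineOpens) : Y'.Opens) ≤ h ⁻¹ᵁ V := fun V' hV' =>
    (le_iSup₂ (f := fun (i : Y'.affineOpens) (_ : i ∈ s) => (i : Y'.Opens)) V' hV').trans_eq e.symm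
  refine ⟨s, hs, hle, fun k z => ?_⟩
  -- the image point in `Spec Γ(Y, V)` and in `V`
  set p : Spec Γ(Y, V) :=
    (Spec.map (CommRingCat.ofHom (MvPolynomial.C (σ := Fin k) (R := Γ(Y, V))))) z with hp
  have hvV : hV.fromSpec p ∈ V := by
    have : hV.fromSpec p ∈ Set.range hV.fromSpec := ⟨p, rfl⟩
    rw [hV.range_fromSpec] at this
    exact this
  obtain ⟨y', hy'⟩ := (inferInstance : Surjective h).surj (hV.fromSpec p)
  have hy'mem : y' ∈ h ⁻¹ᵁ V := by
    show h y' ∈ V
    rw [hy']; exact hvV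
  rw [e] at hy'mem
  simp only [Opens.mem_iSup] at hy'mem
  obtain ⟨V', hV's, hy'V'⟩ := hy'mem
  refine ⟨V', hV's, ?_⟩
  set p' : Spec Γ(Y', (V' : Y'.Opens)) := V'.2.primeIdealOf ⟨y', hy'V'⟩ with hp'
  have hp'y : V'.2.fromSpec p' = y' := V'.2.fromSpec_primeIdealOf ⟨y', hy'V'⟩
  have hc : (Spec.map (CommRingCat.ofHom (MvPolynomial.C (σ := Fin k) (R := Γ(Y, V))))) z =
      (Spec.map (h.appLE V (V' : Y'.Opens) (hle V' hV's))) p' := by
    have hinj : Function.Injective hV.fromSpec :=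
      (hV.fromSpec.isOpenEmbedding).injective
    apply hinj
    have := IsAffineOpen.SpecMap_appLE_fromSpec h hV V'.2 (hle V' hV's)
    have h1 : hV.fromSpec ((Spec.map (h.appLE V (V' : Y'.Opens) (hle V' hV's))) p') =
        h (V'.2.fromSpec p') := by
      rw [← Scheme.Hom.comp_apply, this, Scheme.Hom.comp_apply]
    rw [h1, hp'y, hy']
  exact exists_point_mvPolynomial (Fin k) (h.appLE V (V' : Y'.Opens) (hle V' hV's)) z p' hc

end Groth.Agent.H87.RelPC_JS
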