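import Mathlib

/-!
# Seidenberg's theorem: derivations extend to the integral closure (characteristic zero)

`A` Noetherian ring containing a field `k` of characteristic zero, `K` a localization of `A`,
`D` a `k`-derivation of `A`.  Then `D` extends to `K` and the extension maps elements of `K`
integral over `A` to elements integral over `A`.  The proof uses `exp (tD) : K → K⟦t⟧`.
-/

namespace Groth.Agent.H87.Seidenberg

open PowerSeries

section Integral

variable {A K : Type*} [CommRing A] [CommRing K] [Algebra A K] [IsNoetherianRing A]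

theorem isIntegral_of_unit_mul_pow_mem (B : Submodule A K) (hB : B.FG) (c x : K) (hc : IsUnit c)
    (h : ∀ n : ℕ, c * x ^ n ∈ B) : IsIntegral A x := by
  classical
  let mc : K →ₗ[A] K := LinearMap.mulLeft A c
  have hinj : Function.Injective mc := fun y z hyz => hc.mul_left_cancel (by simpa [mc] using hyz)
  let N : Submodule A K := B.comap mc
  have : IsNoetherian A B := isNoetherian_of_fg_of_noetherian B hB
  have hNmap : (N.map mc) ≤ B := Submodule.map_comap_le _ _
  have hNfg : N.FG := by
    have : IsNoetherian A (N.map mc) := isNoetherian_of_le hNmap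
    have : (N.map mc).FG := (Submodule.fg_top _).mp (IsNoetherian.noetherian ⊤)
    exact Submodule.fg_of_fg_map_injective mc hinj this
  have : IsNoetherian A N := isNoetherian_of_fg_of_noetherian N hNfg
  have hle : Subalgebra.toSubmodule (Algebra.adjoin A {x}) ≤ N := by
    intro y hy
    rw [Subalgebra.mem_toSubmodule, Algebra.adjoin_singleton_eq_range_aeval] at hy
    obtain ⟨p, rfl⟩ := hy
    show Polynomial.aeval x p ∈ N
    rw [Polynomial.aeval_eq_sum_range]
    refine Submodule.sum_mem _ fun i _ => Submodule.smul_mem _ _ ?_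
    exact h i
  have : IsNoetherian A (Subalgebra.toSubmodule (Algebra.adjoin A {x})) := isNoetherian_of_le hle
  exact isIntegral_of_submodule_noetherian _ inferInstance x (Algebra.self_mem_adjoin_singleton A x)

/-- Key induction: if `γ u ^ n` has coefficients in a finite subalgebra `B` for all `n` and the
constant coefficient of `γ` is a unit, then all coefficients of `u` are integral. -/
theorem isIntegral_coeff (j : ℕ) : ∀ (B : Subalgebra A K) (_ : (Subalgebra.toSubmodule B).FG)
    (u γ : PowerSeries K) (_ : ∀ i, coeff i γ ∈ B) (_ : IsUnit (constantCoeff γ))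
    (_ : ∀ n i, coeff i (γ * u ^ n) ∈ B), IsIntegral A (coeff j u) := by
  have zero_case : ∀ (B : Subalgebra A K) (_ : (Subalgebra.toSubmodule B).FG)
      (u γ : PowerSeries K) (_ : IsUnit (constantCoeff γ))
      (_ : ∀ n i, coeff i (γ * u ^ n) ∈ B), IsIntegral A (constantCoeff u) := by
    intro B hB u γ hγ0 h
    refine isIntegral_of_unit_mul_pow_mem (Subalgebra.toSubmodule B) hB (constantCoeff γ) _ hγ0
      fun n => ?_
    have := h n 0
    simpa [coeff_zero_eq_constantCoeff] using this
  induction j with
  | zero =>
    intro B hB u γ _ hγ0 h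
    simpa [coeff_zero_eq_constantCoeff] using zero_case B hB u γ hγ0 h
  | succ j ih =>
    intro B hB u γ hγ hγ0 h
    have hu0 : IsIntegral A (constantCoeff u) := zero_case B hB u γ hγ0 h
    set u0 := constantCoeff u with hu0def
    let B' : Subalgebra A K := B ⊔ Algebra.adjoin A {u0}
    have hB' : (Subalgebra.toSubmodule B').FG := by
      have : Module.Finite A B := Module.Finite.of_fg hB
      have : Module.Finite A (Algebra.adjoin A {u0}) := Module.Finite.of_fg hu0.fg_adjoin_singleton
      have : Module.Finite A B' := Subalgebra.finite_sup B (Algebra.adjoin A {u0})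
      exact Module.Finite.iff_fg.mp ‹_›
    have hBB' : B ≤ B' := le_sup_left
    have hu0B' : u0 ∈ B' :=
      (le_sup_right : Algebra.adjoin A {u0} ≤ B') (Algebra.self_mem_adjoin_singleton A u0)
    let u' : PowerSeries K := mk fun p => coeff (p + 1) u
    have hu : u - C u0 = X * u' := by
      have := eq_X_mul_shift_add_const u
      rw [sub_eq_iff_eq_add]
      exact this
    have key : ∀ n i, coeff i (γ * u' ^ n) ∈ B' := by
      intro n i
      have e1 : X ^ n * (γ * u' ^ n) = γ * (u - C u0) ^ n := by
        rw [hu, mul_pow]; ring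
      have e2 : coeff i (γ * u' ^ n) = coeff (i + n) (γ * (u - C u0) ^ n) := by
        rw [← e1, coeff_X_pow_mul]
      rw [e2, sub_eq_add_neg, add_pow, Finset.mul_sum, map_sum]
      refine Subalgebra.sum_mem _ fun m _ => ?_
      have e3 : γ * (u ^ m * (-C u0) ^ (n - m) * (n.choose m : PowerSeries K)) =
          C ((-u0) ^ (n - m) * (n.choose m : K)) * (γ * u ^ m) := by
        simp only [map_mul, map_pow, map_neg, map_natCast]
        ring
      rw [e3, coeff_C_mul]
      refine Subalgebra.mul_mem _ (Subalgebra.mul_mem _ ?_ ?_) (hBB' (h m _))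
      · exact Subalgebra.pow_mem _ (Subalgebra.neg_mem _ hu0B') _
      · exact natCast_mem B' _
    have := ih B' hB' u' γ (fun i => hBB' (hγ i)) hγ0 key
    simpa [u', coeff_mk] using this

end Integral

section Exp

variable {k K : Type*} [Field k] [CharZero k] [CommRing K] [Algebra k K] (D : Derivation k K K)

theorem iterate_mul (n : ℕ) (x y : K) :
    (⇑D)^[n] (x * y) = ∑ ij ∈ Finset.HasAntidiagonal.antidiagonal n,
      (n.choose ij.1 : K) * ((⇑D)^[ij.1] x * (⇑D)^[ij.2] y) := by
  induction n with
  | zero => simp
  | succ n ih =>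
    rw [Function.iterate_succ_apply', ih, map_sum,
      Finset.sum_antidiagonal_choose_succ_mul (fun i j => (⇑D)^[i] x * (⇑D)^[j] y) n,
      ← Finset.sum_add_distrib]
    refine Finset.sum_congr rfl fun ij hij => ?_
    rw [Finset.HasAntidiagonal.mem_antidiagonal] at hij
    have hc : (n.choose ij.2 : K) = (n.choose ij.1 : K) := by
      rw [Nat.choose_symm_of_eq_add hij.symm]
    rw [hc, Derivation.leibniz, Derivation.map_natCast, smul_zero, add_zero, Derivation.leibniz,
      Function.iterate_succ_apply', Function.iterate_succ_apply']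
    simp only [smul_eq_mul]
    ring

/-- The divided iterates `Dⁿ / n!`. -/
noncomputable def E (n : ℕ) : K →ₗ[k] K := ((n.factorial : k)⁻¹) • ((D : K →ₗ[k] K) ^ n)

theorem E_apply (n : ℕ) (x : K) : E D n x = ((n.factorial : k)⁻¹) • (⇑D)^[n] x := by
  simp only [E, LinearMap.smul_apply, Module.End.pow_apply]
  rfl

@[simp] theorem E_zero (x : K) : E D 0 x = x := by simp [E_apply]

@[simp] theorem E_one (x : K) : E D 1 x = D x := by simp [E_apply]

theorem E_mul (n : ℕ) (x y : K) :
    E D n (x * y) = ∑ ij ∈ Finset.HasAntidiagonal.antidiagonal n, E D ij.1 x * E D ij.2 y := by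
  rw [E_apply, iterate_mul, Finset.smul_sum]
  refine Finset.sum_congr rfl fun ij hij => ?_
  rw [Finset.HasAntidiagonal.mem_antidiagonal] at hij
  rw [E_apply, E_apply, smul_mul_smul_comm]
  have h1 : (n.choose ij.1 : K) = algebraMap k K (n.choose ij.1 : k) := by simp
  rw [h1, Algebra.algebraMap_eq_smul_one, smul_mul_assoc, one_mul, smul_smul]
  congr 1
  have h2 : n.choose ij.1 * ij.1.factorial * ij.2.factorial = n.factorial := by
    have h4 : n - ij.1 = ij.2 := by omega
    have := Nat.choose_mul_factorial_mul_factorial (n := n) (k := ij.1) (by omega)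
    rwa [h4] at this
  have h3 : ((n.choose ij.1 : k)) * (ij.1.factorial : k) * (ij.2.factorial : k) = (n.factorial : k) := by
    exact_mod_cast h2
  have hn : (n.factorial : k) ≠ 0 := Nat.cast_ne_zero.mpr n.factorial_ne_zero
  have hi : (ij.1.factorial : k) ≠ 0 := Nat.cast_ne_zero.mpr ij.1.factorial_ne_zero
  have hj : (ij.2.factorial : k) ≠ 0 := Nat.cast_ne_zero.mpr ij.2.factorial_ne_zero
  field_simp
  linear_combination h3

theorem E_one_arg (n : ℕ) : E D n 1 = if n = 0 then 1 else 0 := by
  cases n with
  | zero => simp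
  | succ n =>
    rw [E_apply, Function.iterate_succ_apply, Derivation.map_one_eq_zero]
    simp [iterate_map_zero]

/-- `exp (tD)` as a ring homomorphism `K → K⟦t⟧`. -/
noncomputable def expHom : K →+* PowerSeries K where
  toFun x := PowerSeries.mk fun n => E D n x
  map_one' := by
    ext n
    simp [coeff_mk, coeff_one, E_one_arg]
  map_mul' x y := by
    ext n
    simp only [coeff_mk, coeff_mul, E_mul]
  map_zero' := by
    ext n
    simp
  map_add' x y := by
    ext n
    simp

@[simp] theorem coeff_expHom (n : ℕ) (x : K) : coeff n (expHom D x) = E D n x := by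
  simp [expHom]

end Exp

section Main

variable {k A K : Type*} [Field k] [CharZero k] [CommRing A] [Algebra k A] [CommRing K]
  [Algebra k K] [Algebra A K] [IsScalarTower k A K]

theorem E_algebraMap (D : Derivation k A A) (DK : Derivation k K K)
    (hD : ∀ a, DK (algebraMap A K a) = algebraMap A K (D a)) (n : ℕ) (a : A) :
    E DK n (algebraMap A K a) = algebraMap A K (E D n a) := by
  have h : ∀ n : ℕ, (⇑DK)^[n] (algebraMap A K a) = algebraMap A K ((⇑D)^[n] a) := by
    intro n
    induction n with
    | zero => simp
    | succ n ih => rw [Function.iterate_succ_apply', ih, hD, Function.iterate_succ_apply']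
  rw [E_apply, E_apply, h]
  rw [Algebra.smul_def, Algebra.smul_def, map_mul, ← IsScalarTower.algebraMap_apply]

theorem exists_extension (M : Submonoid A) [IsLocalization M K] (D : Derivation k A A) :
    ∃ DK : Derivation k K K, ∀ a, DK (algebraMap A K a) = algebraMap A K (D a) := by
  let ℓ : Ω[A⁄k] →ₗ[A] K := (Algebra.linearMap A K).comp D.liftKaehlerDifferential
  have hu : ∀ s : M, IsUnit (algebraMap A (Module.End A K) s) := by
    intro s
    have hs : IsUnit (algebraMap A K s) := IsLocalization.map_units K s
    rw [Module.End.isUnit_iff]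
    constructor
    · intro y z hyz
      exact hs.mul_left_cancel (by simpa [Algebra.smul_def] using hyz)
    · intro y
      obtain ⟨w, hw⟩ := hs.exists_right_inv
      refine ⟨w * y, ?_⟩
      simp [Algebra.smul_def, ← mul_assoc, hw]
  let ℓK : Ω[K⁄k] →ₗ[A] K := IsLocalizedModule.lift M (KaehlerDifferential.map k k A K) ℓ hu
  let ℓK' : Ω[K⁄k] →ₗ[K] K := ℓK.extendScalarsOfIsLocalization M K
  refine ⟨ℓK'.compDer (KaehlerDifferential.D k K), fun a => ?_⟩
  have : ℓK (KaehlerDifferential.map k k A K (KaehlerDifferential.D k A a)) =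
      ℓ (KaehlerDifferential.D k A a) :=
    IsLocalizedModule.lift_apply M (KaehlerDifferential.map k k A K) ℓ hu _
  rw [KaehlerDifferential.map_D] at this
  show ℓK' (KaehlerDifferential.D k K (algebraMap A K a)) = _
  have h2 : ℓK' (KaehlerDifferential.D k K (algebraMap A K a)) =
      ℓK (KaehlerDifferential.D k K (algebraMap A K a)) := rfl
  rw [h2, this]
  simp [ℓ]

variable [IsNoetherianRing A]

theorem isIntegral_map (M : Submonoid A) [IsLocalization M K] (D : Derivation k A A)
    (DK : Derivation k K K) (hD : ∀ a, DK (algebraMap A K a) = algebraMap A K (D a))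
    (x : K) (hx : IsIntegral A x) : IsIntegral A (DK x) := by
  classical
  -- common denominator for `A[x]`
  obtain ⟨T, hT⟩ := hx.fg_adjoin_singleton
  obtain ⟨c, hc⟩ := IsLocalization.exist_integer_multiples_of_finset M T
  have hmem : ∀ y ∈ Subalgebra.toSubmodule (Algebra.adjoin A {x}),
      (c : A) • y ∈ (algebraMap A K).range := by
    intro y hy
    rw [← hT] at hy
    refine Submodule.span_induction (p := fun y _ => (c : A) • y ∈ (algebraMap A K).range)
      ?_ ?_ ?_ ?_ hy
    · intro t ht
      obtain ⟨a, ha⟩ := hc t ht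
      exact ⟨a, ha⟩
    · simp
    · intro y z _ _ hy hz
      rw [smul_add]
      exact add_mem hy hz
    · intro a y _ hy
      obtain ⟨b, hb⟩ := hy
      refine ⟨a * b, ?_⟩
      rw [map_mul, hb]
      simp only [Algebra.smul_def]
      ring
  have hpow : ∀ n : ℕ, ∃ a : A, algebraMap A K a = algebraMap A K c * x ^ n := by
    intro n
    obtain ⟨a, ha⟩ := hmem (x ^ n)
      (Subalgebra.pow_mem _ (Algebra.self_mem_adjoin_singleton A x) n)
    exact ⟨a, by rw [ha, Algebra.smul_def]⟩
  set φ := expHom DK
  have hcoeffA : ∀ (a : A) (i : ℕ), coeff i (φ (algebraMap A K a)) ∈ (⊥ : Subalgebra A K) := by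
    intro a i
    rw [coeff_expHom, E_algebraMap D DK hD]
    exact Subalgebra.algebraMap_mem _ _
  have hfg : (Subalgebra.toSubmodule (⊥ : Subalgebra A K)).FG := by
    rw [Algebra.toSubmodule_bot, Submodule.one_eq_span]
    exact Submodule.fg_span_singleton _
  have hunit : IsUnit (constantCoeff (φ (algebraMap A K c))) := by
    rw [← coeff_zero_eq_constantCoeff_apply, coeff_expHom, E_zero]
    exact IsLocalization.map_units K c
  have := isIntegral_coeff (A := A) 1 ⊥ hfg (φ x) (φ (algebraMap A K c)) (hcoeffA c) hunit ?_
  · simpa [φ] using this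
  · intro n i
    obtain ⟨a, ha⟩ := hpow n
    rw [← map_pow, ← map_mul, ← ha]
    exact hcoeffA a i

end Main

end Groth.Agent.H87.Seidenberg
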