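import Mathlib.Algebra.Lie.Sl2
import Mathlib.Algebra.Lie.Semisimple.Basic
import Mathlib.Algebra.Lie.Weights.Basic
import Mathlib.Algebra.DirectSum.LinearMap
import Mathlib.LinearAlgebra.Trace
import Mathlib.LinearAlgebra.Eigenspace.Basic
import Mathlib.Tactic.LinearCombination

set_option autoImplicit false

namespace Groth.Agent.H87

open LieModule Module

section arith

theorem three_mul_sum_sq (K : Type*) [CommRing K] (x : K) (m : ℕ) :
    3 * ∑ j ∈ Finset.range (m + 1), (x - 2 * (j : K)) ^ 2 =
      3 * ((m : K) + 1) * x ^ 2 - 6 * x * ((m : K) * ((m : K) + 1)) +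
        2 * ((m : K) * ((m : K) + 1) * (2 * (m : K) + 1)) := by
  induction m with
  | zero => simp
  | succ m ih =>
    rw [Finset.sum_range_succ, mul_add, ih]
    push_cast
    ring

theorem six_mul_choose_three (n : ℕ) : 6 * (n + 2).choose 3 = n * (n + 1) * (n + 2) := by
  have h := Nat.descFactorial_eq_factorial_mul_choose (n + 2) 3
  have h6 : Nat.factorial 3 = 6 := rfl
  rw [h6] at h
  rw [← h]
  simp only [Nat.descFactorial_succ, Nat.descFactorial_zero, Nat.sub_zero, mul_one]
  have e1 : n + 2 - 2 = n := by omega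
  have e2 : n + 2 - 1 = n + 1 := by omega
  rw [e1, e2]
  ring

theorem sum_sq_eq (K : Type*) [Field K] [CharZero K] (n : ℕ) :
    ∑ j ∈ Finset.range (n + 1), ((n : K) - 2 * (j : K)) ^ 2 =
      2 * (((n + 2).choose 3 : ℕ) : K) := by
  have h3 : (3 : K) ≠ 0 := by norm_num
  apply mul_left_cancel₀ h3
  rw [three_mul_sum_sq]
  have h6 : ((6 * (n + 2).choose 3 : ℕ) : K) = ((n * (n + 1) * (n + 2) : ℕ) : K) := by
    rw [six_mul_choose_three]
  push_cast at h6
  linear_combination (-1 : K) * h6

end arith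

section irr

variable {k : Type*} [Field k] [IsAlgClosed k] [CharZero k]
  {L : Type*} [LieRing L] [LieAlgebra k L] {h e f : L} (t : IsSl2Triple h e f)
  (hspan : t.toLieSubalgebra k = ⊤)

include hspan in
theorem trace_sq_irreducible (M : Type*) [AddCommGroup M] [Module k M] [LieRingModule L M]
    [LieModule k L M] [FiniteDimensional k M] [LieModule.IsIrreducible k L M] :
    LinearMap.trace k M ((toEnd k L M h) ^ 2) =
      2 * (((Module.finrank k M + 1).choose 3 : ℕ) : k) := by
  classical
  have : Nontrivial M := LieModule.nontrivial_of_isIrreducible k L M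
  obtain ⟨μ, m, hm, P⟩ := t.exists_hasPrimitiveVectorWith (R := k) (M := M)
  obtain ⟨n, rfl⟩ := P.exists_nat
  set v : ℕ → M := fun j => ((toEnd k L M f) ^ j) m with hv
  have hh : ∀ j, ⁅h, v j⁆ = ((n : k) - 2 * j) • v j := fun j => P.lie_h_pow_toEnd_f j
  have hf : ∀ j, ⁅f, v j⁆ = v (j + 1) := fun j => P.lie_f_pow_toEnd_f j
  have he : ∀ j : ℕ, ⁅e, v (j + 1)⁆ = (((j : k) + 1) * ((n : k) - j)) • v j :=
    fun j => P.lie_e_pow_succ_toEnd_f j
  have he0 : ⁅e, v 0⁆ = 0 := by simpa [hv] using P.lie_e
  have hne : ∀ j ≤ n, v j ≠ 0 := fun j hj => P.pow_toEnd_f_ne_zero_of_eq_nat rfl hj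
  have hzero : v (n + 1) = 0 := P.pow_toEnd_f_eq_zero_of_eq_nat rfl
  have hzero' : ∀ j, n + 1 ≤ j → v j = 0 := by
    intro j hj
    induction j, hj using Nat.le_induction with
    | base => exact hzero
    | succ j _ ih => rw [← hf, ih, lie_zero]
  set N : Submodule k M := Submodule.span k (Set.range fun j : Fin (n + 1) => v j) with hN
  have hvall : ∀ j, v j ∈ N := by
    intro j
    by_cases hj : j ≤ n
    · exact Submodule.subset_span ⟨⟨j, Nat.lt_succ_of_le hj⟩, rfl⟩
    · rw [hzero' j (by omega)]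
      exact N.zero_mem
  have hNh : ∀ w ∈ N, ⁅h, w⁆ ∈ N := by
    intro w hw
    refine Submodule.span_induction ?_ ?_ ?_ ?_ hw
    · rintro _ ⟨j, rfl⟩
      show ⁅h, v j⁆ ∈ N
      rw [hh]
      exact N.smul_mem _ (hvall _)
    · rw [lie_zero]; exact N.zero_mem
    · intro a b _ _ ha hb
      rw [lie_add]
      exact N.add_mem ha hb
    · intro c a _ ha
      rw [lie_smul]
      exact N.smul_mem _ ha
  have hNf : ∀ w ∈ N, ⁅f, w⁆ ∈ N := by
    intro w hw
    refine Submodule.span_induction ?_ ?_ ?_ ?_ hw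
    · rintro _ ⟨j, rfl⟩
      show ⁅f, v j⁆ ∈ N
      rw [hf]
      exact hvall _
    · rw [lie_zero]; exact N.zero_mem
    · intro a b _ _ ha hb
      rw [lie_add]
      exact N.add_mem ha hb
    · intro c a _ ha
      rw [lie_smul]
      exact N.smul_mem _ ha
  have hNe : ∀ w ∈ N, ⁅e, w⁆ ∈ N := by
    intro w hw
    refine Submodule.span_induction ?_ ?_ ?_ ?_ hw
    · rintro _ ⟨⟨j, hj⟩, rfl⟩
      show ⁅e, v j⁆ ∈ N
      cases j with
      | zero => rw [he0]; exact N.zero_mem
      | succ j =>
        rw [he]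
        exact N.smul_mem _ (hvall _)
    · rw [lie_zero]; exact N.zero_mem
    · intro a b _ _ ha hb
      rw [lie_add]
      exact N.add_mem ha hb
    · intro c a _ ha
      rw [lie_smul]
      exact N.smul_mem _ ha
  let N' : LieSubmodule k L M :=
    { N with
      lie_mem := by
        intro x w hw
        have hx : x ∈ t.toLieSubalgebra k := by rw [hspan]; exact LieSubalgebra.mem_top x
        obtain ⟨c₁, c₂, c₃, rfl⟩ := (IsSl2Triple.mem_toLieSubalgebra_iff (R := k)).1 hx
        rw [add_lie, add_lie, smul_lie, smul_lie, smul_lie, t.lie_e_f]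
        exact N.add_mem (N.add_mem (N.smul_mem _ (hNe w hw)) (N.smul_mem _ (hNf w hw)))
          (N.smul_mem _ (hNh w hw)) }
  have hN'top : N' = ⊤ := by
    have hne' : N' ≠ ⊥ := by
      intro hbot
      have hmem : m ∈ N' := hvall 0
      rw [hbot, LieSubmodule.mem_bot] at hmem
      exact hm hmem
    exact (IsSimpleOrder.eq_bot_or_eq_top N').resolve_left hne'
  have hNtop : N = ⊤ := by
    have h1 := congrArg LieSubmodule.toSubmodule hN'top
    simpa [N'] using h1
  have hli : LinearIndependent k (fun j : Fin (n + 1) => v j) := by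
    apply Module.End.eigenvectors_linearIndependent' (toEnd k L M h)
      (fun j : Fin (n + 1) => (n : k) - 2 * ((j : ℕ) : k))
    · intro a b hab
      simp only at hab
      have h2 : (((a : ℕ) : k)) = ((b : ℕ) : k) := by linear_combination (-1 / 2 : k) * hab
      exact Fin.ext (Nat.cast_injective h2)
    · intro j
      refine ⟨?_, hne j (Nat.lt_succ_iff.1 j.2)⟩
      rw [Module.End.mem_eigenspace_iff, toEnd_apply_apply]
      exact hh j
  let B : Basis (Fin (n + 1)) k M := Basis.mk hli (by rw [← hN, hNtop])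
  have hBj : ∀ j, B j = v j := fun j => by simp [B]
  have hfin : Module.finrank k M = n + 1 := by
    rw [Module.finrank_eq_card_basis B, Fintype.card_fin]
  rw [hfin, LinearMap.trace_eq_matrix_trace k B, Matrix.trace]
  have hdiag : ∀ j : Fin (n + 1),
      Matrix.diag (LinearMap.toMatrix B B ((toEnd k L M h) ^ 2)) j =
        ((n : k) - 2 * ((j : ℕ) : k)) ^ 2 := by
    intro j
    have h2 : ((toEnd k L M h) ^ 2) (B j) = (((n : k) - 2 * ((j : ℕ) : k)) ^ 2) • B j := by
      rw [hBj, pow_two, Module.End.mul_apply, toEnd_apply_apply, toEnd_apply_apply, hh, lie_smul,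
        hh, smul_smul, ← pow_two]
    rw [Matrix.diag_apply, LinearMap.toMatrix_apply, h2, map_smul, B.repr_self,
      Finsupp.smul_single, smul_eq_mul, mul_one, Finsupp.single_eq_same]
  rw [Finset.sum_congr rfl (fun j _ => hdiag j),
    Fin.sum_univ_eq_sum_range (fun j => ((n : k) - 2 * (j : k)) ^ 2) (n + 1), sum_sq_eq]

include hspan in
theorem trace_sq_directSum (V : Type*) [AddCommGroup V] [Module k V] [LieRingModule L V]
    [LieModule k L V] [FiniteDimensional k V]
    (ι : Type*) [Fintype ι] [DecidableEq ι] (W : ι → LieSubmodule k L V)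
    (hW : DirectSum.IsInternal fun i => (W i).toSubmodule)
    (hirr : ∀ i, LieModule.IsIrreducible k L (W i)) :
    LinearMap.trace k V ((toEnd k L V h) ^ 2) =
      2 * ∑ i, (((Module.finrank k (W i) + 1).choose 3 : ℕ) : k) := by
  have hmaps : ∀ i, Set.MapsTo (((toEnd k L V h) ^ 2 : Module.End k V) : V → V)
      ((W i).toSubmodule : Set V) ((W i).toSubmodule : Set V) := by
    intro i w hw
    rw [pow_two, Module.End.mul_apply, toEnd_apply_apply, toEnd_apply_apply]
    exact (W i).lie_mem ((W i).lie_mem hw)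
  rw [LinearMap.trace_eq_sum_trace_restrict hW hmaps, Finset.mul_sum]
  refine Finset.sum_congr rfl (fun i _ => ?_)
  haveI := hirr i
  have hres : ((toEnd k L V h) ^ 2).restrict (hmaps i) = (toEnd k L (W i) h) ^ 2 := by
    ext w
    simp only [pow_two, LinearMap.restrict_apply, Module.End.mul_apply, toEnd_apply_apply]
    rfl
  rw [hres]
  exact trace_sq_irreducible t hspan (W i)

end irr

end Groth.Agent.H87
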