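import Groth.Agent.H87.ComplIso
import Groth.Agent.H87.PsiLemma
import Mathlib.RingTheory.Smooth.Basic
import Mathlib.RingTheory.Ideal.Cotangent
import Mathlib.LinearAlgebra.StdBasis
import Mathlib.Tactic.Ring

set_option autoImplicit false
set_option maxHeartbeats 400000

namespace Groth.Agent.H87.SmoothSection

open MvPolynomial

section Main

variable {R S : Type*} [CommRing R] [CommRing S] [Algebra R S] (σ : S →ₐ[R] R)

local notation "𝔎" => RingHom.ker (AlgHom.toRingHom σ)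

theorem sub_mem_ker (s : S) : s - algebraMap R S (σ s) ∈ 𝔎 := by
  rw [RingHom.mem_ker]
  show σ (s - algebraMap R S (σ s)) = 0
  rw [map_sub, σ.commutes]
  simp

noncomputable def L (s : S) : (𝔎).Cotangent :=
  (𝔎).toCotangent ⟨s - algebraMap R S (σ s), sub_mem_ker σ s⟩

theorem L_add (s s' : S) : L σ (s + s') = L σ s + L σ s' := by
  unfold L
  rw [← map_add]
  congr 1
  apply Subtype.ext
  show s + s' - algebraMap R S (σ (s + s')) =
    (s - algebraMap R S (σ s)) + (s' - algebraMap R S (σ s'))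
  rw [map_add, map_add]; ring

theorem L_smul (r : R) (s : S) : L σ (r • s) = r • L σ s := by
  unfold L
  rw [← LinearMap.map_smul_of_tower]
  congr 1
  apply Subtype.ext
  show r • s - algebraMap R S (σ (r • s)) = r • (s - algebraMap R S (σ s))
  rw [map_smul, smul_eq_mul, map_mul, smul_sub, Algebra.smul_def r (algebraMap R S (σ s))]

theorem L_mul (s s' : S) : L σ (s * s') = σ s • L σ s' + σ s' • L σ s := by
  unfold L
  have hu := sub_mem_ker σ s
  have hu' := sub_mem_ker σ s'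
  have key : (⟨s * s' - algebraMap R S (σ (s * s')), sub_mem_ker σ (s * s')⟩ : 𝔎) =
      algebraMap R S (σ s) • ⟨s' - algebraMap R S (σ s'), hu'⟩ +
        algebraMap R S (σ s') • ⟨s - algebraMap R S (σ s), hu⟩ +
        ⟨(s - algebraMap R S (σ s)) * (s' - algebraMap R S (σ s')),
          Ideal.mul_mem_left _ _ hu'⟩ := by
    apply Subtype.ext
    show s * s' - algebraMap R S (σ (s * s')) =
      algebraMap R S (σ s) * (s' - algebraMap R S (σ s')) +
        algebraMap R S (σ s') * (s - algebraMap R S (σ s)) +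
        (s - algebraMap R S (σ s)) * (s' - algebraMap R S (σ s'))
    rw [map_mul, map_mul]; ring
  rw [key, map_add, map_add, map_smul, map_smul]
  have hz : (𝔎).toCotangent ⟨(s - algebraMap R S (σ s)) * (s' - algebraMap R S (σ s')),
      Ideal.mul_mem_left _ _ hu'⟩ = 0 := by
    rw [Ideal.toCotangent_eq_zero, pow_two]
    exact Ideal.mul_mem_mul hu hu'
  rw [hz, add_zero, algebraMap_smul, algebraMap_smul]

theorem L_algebraMap (r : R) : L σ (algebraMap R S r) = 0 := by
  unfold L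
  have : (⟨algebraMap R S r - algebraMap R S (σ (algebraMap R S r)), sub_mem_ker σ _⟩ : 𝔎) =
      0 := by
    apply Subtype.ext
    show algebraMap R S r - algebraMap R S (σ (algebraMap R S r)) = 0
    rw [σ.commutes]; simp
  rw [this, map_zero]

theorem L_of_mem (s : S) (hs : s ∈ 𝔎) : L σ s = (𝔎).toCotangent ⟨s, hs⟩ := by
  unfold L
  congr 1
  apply Subtype.ext
  show s - algebraMap R S (σ s) = s
  have : σ s = 0 := RingHom.mem_ker.1 hs
  rw [this, map_zero, sub_zero]

noncomputable def Llin : S →ₗ[R] (𝔎).Cotangent where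
  toFun := L σ
  map_add' := L_add σ
  map_smul' r s := by rw [RingHom.id_apply]; exact L_smul σ r s

noncomputable def Lam (R : Type*) [CommRing R] (d : ℕ) :
    (Fin d → R) →ₗ[R] MvPolynomial (Fin d) R :=
  Fintype.linearCombination R (X : Fin d → MvPolynomial (Fin d) R)

theorem Lam_mem (d : ℕ) (v : Fin d → R) : Lam R d v ∈ idealOfVars (Fin d) R := by
  unfold Lam
  rw [Fintype.linearCombination_apply]
  exact Ideal.sum_mem _ (fun i _ => Submodule.smul_of_tower_mem _ _ (Ideal.subset_span ⟨i, rfl⟩))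

variable {d : ℕ} (e : (RingHom.ker (AlgHom.toRingHom σ)).Cotangent ≃ₗ[R] (Fin d → R))

noncomputable def rho2fun (s : S) : MvPolynomial (Fin d) R ⧸ idealOfVars (Fin d) R ^ 2 :=
  Ideal.Quotient.mk (idealOfVars (Fin d) R ^ 2) (C (σ s) + Lam R d (e (L σ s)))

theorem rho2fun_one : rho2fun σ e 1 = 1 := by
  unfold rho2fun
  have : L σ (1 : S) = 0 := by
    have := L_algebraMap σ (1 : R)
    rwa [map_one] at this
  rw [this, map_one, map_zero, map_zero, add_zero, C_1, map_one]

theorem rho2fun_mul (s s' : S) : rho2fun σ e (s * s') = rho2fun σ e s * rho2fun σ e s' := by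
  unfold rho2fun
  have h1 : e (L σ (s * s')) = σ s • e (L σ s') + σ s' • e (L σ s) := by
    rw [L_mul, map_add, map_smul, map_smul]
  have h2 : Lam R d (e (L σ (s * s'))) =
      σ s • Lam R d (e (L σ s')) + σ s' • Lam R d (e (L σ s)) := by
    rw [h1, map_add, map_smul, map_smul]
  rw [← RingHom.map_mul, Ideal.Quotient.eq, h2, map_mul σ, C_mul]
  have : C (σ s) * C (σ s') + (σ s • Lam R d (e (L σ s')) + σ s' • Lam R d (e (L σ s))) -
      (C (σ s) + Lam R d (e (L σ s))) * (C (σ s') + Lam R d (e (L σ s'))) =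
      -(Lam R d (e (L σ s)) * Lam R d (e (L σ s'))) := by
    rw [smul_eq_C_mul, smul_eq_C_mul]; ring
  rw [this, pow_two]
  exact neg_mem (Ideal.mul_mem_mul (Lam_mem d _) (Lam_mem d _))

theorem rho2fun_add (s s' : S) : rho2fun σ e (s + s') = rho2fun σ e s + rho2fun σ e s' := by
  unfold rho2fun
  rw [← RingHom.map_add, L_add, map_add e, map_add (Lam R d), map_add σ, C_add]
  congr 1
  ring

theorem rho2fun_algebraMap (r : R) : rho2fun σ e (algebraMap R S r) =
    algebraMap R (MvPolynomial (Fin d) R ⧸ idealOfVars (Fin d) R ^ 2) r := by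
  unfold rho2fun
  rw [L_algebraMap, map_zero, map_zero, add_zero, σ.commutes]
  rfl

noncomputable def rho2 : S →ₐ[R] MvPolynomial (Fin d) R ⧸ idealOfVars (Fin d) R ^ 2 where
  toFun := rho2fun σ e
  map_one' := rho2fun_one σ e
  map_mul' := rho2fun_mul σ e
  map_zero' := by
    have := rho2fun_algebraMap σ e 0
    rwa [map_zero, map_zero] at this
  map_add' := rho2fun_add σ e
  commutes' := rho2fun_algebraMap σ e

theorem rho2_apply (s : S) : rho2 σ e s =
    Ideal.Quotient.mk (idealOfVars (Fin d) R ^ 2) (C (σ s) + Lam R d (e (L σ s))) := rfl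

theorem le_comap (t : Fin d → S) (hti : ∀ i, t i ∈ 𝔎) :
    idealOfVars (Fin d) R ≤ (𝔎).comap (aeval t : MvPolynomial (Fin d) R →ₐ[R] S) := by
  refine Ideal.span_le.2 ?_
  rintro _ ⟨i, rfl⟩
  show aeval t (X i) ∈ RingHom.ker (AlgHom.toRingHom σ)
  rw [aeval_X]; exact hti i

theorem hinj [Algebra.FormallySmooth R S] (t : Fin d → S) (hti : ∀ i, t i ∈ 𝔎)
    (hcot : ∀ i, (𝔎).toCotangent (⟨t i, hti i⟩ : ↥(𝔎)) = e.symm (Pi.single i (1 : R) : Fin d → R))
    (n : ℕ) (p : MvPolynomial (Fin d) R) (hp : aeval t p ∈ 𝔎 ^ n) :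
    p ∈ idealOfVars (Fin d) R ^ n := by
  classical
  have hN2 : 2 ≤ n + 2 := by omega
  let g : MvPolynomial (Fin d) R ⧸ idealOfVars (Fin d) R ^ (n + 2) →ₐ[R]
      MvPolynomial (Fin d) R ⧸ idealOfVars (Fin d) R ^ 2 :=
    Ideal.Quotient.factorₐ R (Ideal.pow_le_pow_right hN2)
  have hg : Function.Surjective g := Ideal.Quotient.factor_surjective (Ideal.pow_le_pow_right hN2)
  have hker : ∀ y, g y = 0 → y ∈ (idealOfVars (Fin d) R ^ (1 + 1)).map
      (Ideal.Quotient.mk (idealOfVars (Fin d) R ^ (n + 2))) := by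
    intro y hy
    obtain ⟨q, rfl⟩ := Ideal.Quotient.mk_surjective y
    have hy' : Ideal.Quotient.mk (idealOfVars (Fin d) R ^ 2) q = 0 := hy
    exact Ideal.mem_map_of_mem _ (Ideal.Quotient.eq_zero_iff_mem.1 hy')
  have hpow1 : ((idealOfVars (Fin d) R ^ 1).map
      (Ideal.Quotient.mk (idealOfVars (Fin d) R ^ (n + 2)))) ^ (n + 2) = ⊥ := by
    rw [← Ideal.map_pow, ← pow_mul, one_mul]
    exact Ideal.map_quotient_self _
  have hnil : IsNilpotent (RingHom.ker (g : MvPolynomial (Fin d) R ⧸ idealOfVars (Fin d) R ^ (n + 2) →+*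
      MvPolynomial (Fin d) R ⧸ idealOfVars (Fin d) R ^ 2)) := by
    refine ⟨n + 2, ?_⟩
    rw [Ideal.zero_eq_bot, eq_bot_iff, ← hpow1]
    refine Ideal.pow_right_mono (fun y hy => ?_) (n + 2)
    exact Ideal.map_mono (Ideal.pow_le_pow_right (Nat.le_succ 1)) (hker y hy)
  let ρ := Algebra.FormallySmooth.liftOfSurjective (rho2 σ e) g hg hnil
  have hρ : ∀ s, g (ρ s) = rho2 σ e s :=
    Algebra.FormallySmooth.liftOfSurjective_apply _ _ hg hnil
  have hb : ∀ s ∈ 𝔎, ρ s ∈ (idealOfVars (Fin d) R ^ 1).map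
      (Ideal.Quotient.mk (idealOfVars (Fin d) R ^ (n + 2))) := by
    intro s hs
    obtain ⟨q, hq⟩ := Ideal.Quotient.mk_surjective (ρ s)
    have h1 : Ideal.Quotient.mk (idealOfVars (Fin d) R ^ 2) q = rho2 σ e s := by
      rw [← hρ s, ← hq]; rfl
    have h2 : rho2 σ e s =
        Ideal.Quotient.mk (idealOfVars (Fin d) R ^ 2) (Lam R d (e (L σ s))) := by
      rw [rho2_apply, (RingHom.mem_ker.1 hs : σ s = 0), C_0, zero_add]
    have h3 : q - Lam R d (e (L σ s)) ∈ idealOfVars (Fin d) R ^ 2 :=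
      Ideal.Quotient.eq.1 (h1.trans h2)
    have h4 : q ∈ idealOfVars (Fin d) R := by
      have := add_mem (Ideal.pow_le_self two_ne_zero h3) (Lam_mem d (e (L σ s)))
      rwa [sub_add_cancel] at this
    rw [← hq]
    exact Ideal.mem_map_of_mem _ (by rwa [pow_one])
  have hc : ∀ i, ρ (t i) - Ideal.Quotient.mk (idealOfVars (Fin d) R ^ (n + 2)) (X i) ∈
      (idealOfVars (Fin d) R ^ (1 + 1)).map
        (Ideal.Quotient.mk (idealOfVars (Fin d) R ^ (n + 2))) := by
    intro i
    apply hker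
    rw [map_sub, hρ, rho2_apply, L_of_mem σ (t i) (hti i), hcot i, LinearEquiv.apply_symm_apply,
      (RingHom.mem_ker.1 (hti i) : σ (t i) = 0), C_0, zero_add]
    unfold Lam
    rw [Fintype.linearCombination_apply_single, one_smul]
    exact sub_self _
  have hρn : ∀ y ∈ 𝔎 ^ n, ρ y ∈ (idealOfVars (Fin d) R ^ n).map
      (Ideal.Quotient.mk (idealOfVars (Fin d) R ^ (n + 2))) := by
    intro y hy
    have h1 : ρ y ∈ ((𝔎) ^ n).map ρ := Ideal.mem_map_of_mem ρ hy
    rw [Ideal.map_pow] at h1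
    have h2 : (𝔎).map ρ ≤ (idealOfVars (Fin d) R ^ 1).map
        (Ideal.Quotient.mk (idealOfVars (Fin d) R ^ (n + 2))) :=
      Ideal.map_le_iff_le_comap.2 hb
    have h3 := Ideal.pow_right_mono h2 n h1
    rwa [← Ideal.map_pow, ← pow_mul, one_mul] at h3
  refine Groth.Agent.H87.PsiLemma.mem_pow_of_psi_mem (ρ.comp (aeval t)) (fun i => ?_) n (by omega) p (hρn _ hp)
  rw [AlgHom.comp_apply, aeval_X]
  exact hc i

theorem cot_span (t : Fin d → S) (hti : ∀ i, t i ∈ 𝔎)
    (hcot : ∀ i, (𝔎).toCotangent (⟨t i, hti i⟩ : ↥(𝔎)) = e.symm (Pi.single i (1 : R) : Fin d → R))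
    (v : S) (hv : v ∈ 𝔎) :
    ∃ q ∈ idealOfVars (Fin d) R, v - aeval t q ∈ 𝔎 ^ 2 := by
  classical
  let tt : Fin d → ↥(𝔎) := fun i => ⟨t i, hti i⟩
  let T : (Fin d → R) →ₗ[R] ↥(𝔎) := Fintype.linearCombination R tt
  have h1 : ((𝔎).toCotangent.restrictScalars R) ∘ₗ T = e.symm.toLinearMap := by
    refine (Pi.basisFun R (Fin d)).ext fun i => ?_
    rw [Pi.basisFun_apply, LinearMap.comp_apply, Fintype.linearCombination_apply_single,
      one_smul]
    exact hcot i
  have h2 : ∀ c : Fin d → R, ((T c : ↥(𝔎)) : S) = aeval t (Lam R d c) := by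
    intro c
    show ((Fintype.linearCombination R tt c : ↥(𝔎)) : S) =
      aeval t (Fintype.linearCombination R (X : Fin d → MvPolynomial (Fin d) R) c)
    rw [Fintype.linearCombination_apply, Fintype.linearCombination_apply, map_sum,
      Submodule.coe_sum]
    refine Finset.sum_congr rfl fun i _ => ?_
    rw [map_smul, aeval_X]; rfl
  refine ⟨Lam R d (e ((𝔎).toCotangent ⟨v, hv⟩)), Lam_mem d _, ?_⟩
  rw [← h2]
  have h3 : (𝔎).toCotangent (T (e ((𝔎).toCotangent ⟨v, hv⟩))) = (𝔎).toCotangent ⟨v, hv⟩ := by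
    have := LinearMap.congr_fun h1 (e ((𝔎).toCotangent ⟨v, hv⟩))
    exact this.trans (e.symm_apply_apply _)
  exact (Ideal.toCotangent_eq _).1 h3.symm

theorem approx (t : Fin d → S) (hti : ∀ i, t i ∈ 𝔎)
    (hcot : ∀ i, (𝔎).toCotangent (⟨t i, hti i⟩ : ↥(𝔎)) = e.symm (Pi.single i (1 : R) : Fin d → R)) (n : ℕ) :
    ∀ y ∈ 𝔎 ^ n, ∃ q ∈ idealOfVars (Fin d) R ^ n, y - aeval t q ∈ 𝔎 ^ (n + 1) := by
  have hφ := Groth.Agent.H87.ComplIso.pow_le_comap (idealOfVars (Fin d) R) (𝔎)
    (aeval t : MvPolynomial (Fin d) R →ₐ[R] S) (le_comap σ t hti)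
  induction n with
  | zero =>
    intro y _
    refine ⟨C (σ y), by rw [pow_zero, Ideal.one_eq_top]; exact Submodule.mem_top, ?_⟩
    rw [zero_add, pow_one, aeval_C]
    exact sub_mem_ker σ y
  | succ n ih =>
    intro y hy
    rw [pow_succ] at hy
    refine Submodule.mul_induction_on hy ?_ ?_
    · intro u hu v hv
      obtain ⟨qu, hqu, hu'⟩ := ih u hu
      obtain ⟨qv, hqv, hv'⟩ := cot_span σ e t hti hcot v hv
      refine ⟨qu * qv, by rw [pow_succ]; exact Ideal.mul_mem_mul hqu hqv, ?_⟩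
      have : u * v - aeval t (qu * qv) =
          (u - aeval t qu) * v + aeval t qu * (v - aeval t qv) := by
        rw [map_mul]; ring
      rw [this]
      refine add_mem ?_ ?_
      · rw [pow_succ (𝔎) (n + 1)]; exact Ideal.mul_mem_mul hu' hv
      · have hq' : aeval t qu ∈ 𝔎 ^ n := hφ n hqu
        have h1 := Ideal.mul_mem_mul hq' hv'
        rw [← pow_add] at h1
        exact h1
    · rintro x y ⟨qx, hqx, hx⟩ ⟨qy, hqy, hy⟩
      refine ⟨qx + qy, add_mem hqx hqy, ?_⟩
      have : x + y - aeval t (qx + qy) = (x - aeval t qx) + (y - aeval t qy) := by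
        rw [map_add]; ring
      rw [this]; exact add_mem hx hy

theorem hsurj (t : Fin d → S) (hti : ∀ i, t i ∈ 𝔎)
    (hcot : ∀ i, (𝔎).toCotangent (⟨t i, hti i⟩ : ↥(𝔎)) = e.symm (Pi.single i (1 : R) : Fin d → R)) (n : ℕ) (s : S) :
    ∃ p : MvPolynomial (Fin d) R, s - aeval t p ∈ 𝔎 ^ n := by
  induction n with
  | zero => exact ⟨0, by rw [pow_zero, Ideal.one_eq_top]; exact Submodule.mem_top⟩
  | succ n ih =>
    obtain ⟨p, hp⟩ := ih
    obtain ⟨q, -, hq⟩ := approx σ e t hti hcot n _ hp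
    refine ⟨p + q, ?_⟩
    have : s - aeval t (p + q) = (s - aeval t p) - aeval t q := by rw [map_add]; ring
    rw [this]; exact hq

include e in
theorem main [Algebra.FormallySmooth R S] :
    Nonempty (AdicCompletion (𝔎) S ≃ₐ[R] AdicCompletion (idealOfVars (Fin d) R)
      (MvPolynomial (Fin d) R)) := by
  classical
  have hsurjC := Ideal.toCotangent_surjective (𝔎)
  choose tt htt using fun i : Fin d => hsurjC (e.symm (Pi.single i (1 : R) : Fin d → R))
  have hti : ∀ i, ((tt i : ↥(𝔎)) : S) ∈ 𝔎 := fun i => (tt i).2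
  have hcot : ∀ i, (𝔎).toCotangent (⟨(tt i : S), hti i⟩ : ↥(𝔎)) =
      e.symm (Pi.single i (1 : R) : Fin d → R) := fun i => htt i
  obtain ⟨E⟩ := Groth.Agent.H87.ComplIso.nonempty_algEquiv (idealOfVars (Fin d) R) (𝔎)
    (aeval (fun i => (tt i : S)) : MvPolynomial (Fin d) R →ₐ[R] S)
    (le_comap σ _ hti) (hsurj σ e _ hti hcot) (hinj σ e _ hti hcot)
  exact ⟨E.symm⟩

end Main


end Groth.Agent.H87.SmoothSection
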