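import Mathlib
import Groth.Agent.H93.Avoid
import Groth.Agent.H29.CM2

/-!
# Lifting a system of parameters of a Cohen–Macaulay localization (helpers for S5987)
-/

set_option autoImplicit false
universe u

namespace Groth.Agent.H87.SopLift

open IsLocalRing RingTheory.Sequence
open scoped Pointwise

/-- If `q` is a minimal prime over `I` in a Noetherian ring and `y ∈ q` then some `c ∉ q` and some
power of `y` satisfy `c * y ^ N ∈ I`. -/
theorem exists_mul_pow_mem {A : Type*} [CommRing A] [IsNoetherianRing A] (I q : Ideal A)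
    (hq : q ∈ I.minimalPrimes) (y : A) (hy : y ∈ q) :
    ∃ (N : ℕ) (c : A), c ∉ q ∧ c * y ^ N ∈ I := by
  classical
  have hfin : (I.minimalPrimes).Finite := Ideal.finite_minimalPrimes_of_isNoetherianRing A I
  haveI hqp : q.IsPrime := hq.1.1
  have hch : ∀ q' ∈ hfin.toFinset.erase q, ∃ e : A, e ∈ q' ∧ e ∉ q := by
    intro q' hq'
    rw [Finset.mem_erase, Set.Finite.mem_toFinset] at hq'
    obtain ⟨hne, hq'm⟩ := hq'
    by_contra hcon
    push Not at hcon
    have hle : q' ≤ q := fun e he => hcon e he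
    have hge : q ≤ q' := hq.2 ⟨hq'm.1.1, hq'm.1.2⟩ hle
    exact hne (le_antisymm hle hge)
  choose! e he1 he2 using hch
  have hEq : (∏ q' ∈ hfin.toFinset.erase q, e q') ∉ q := by
    intro hmem
    rw [Ideal.IsPrime.prod_mem_iff] at hmem
    obtain ⟨q', hq', hmem'⟩ := hmem
    exact he2 q' hq' hmem'
  have hrad : y * (∏ q' ∈ hfin.toFinset.erase q, e q') ∈ I.radical := by
    rw [← Ideal.sInf_minimalPrimes, Ideal.mem_sInf]
    intro q' hq'
    by_cases h : q' = q
    · subst h
      exact Ideal.mul_mem_right _ _ hy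
    · apply Ideal.mul_mem_left
      have hmem : q' ∈ hfin.toFinset.erase q := by
        rw [Finset.mem_erase, Set.Finite.mem_toFinset]
        exact ⟨h, hq'⟩
      obtain ⟨r, hr⟩ := Finset.dvd_prod_of_mem e hmem
      rw [hr]
      exact Ideal.mul_mem_right _ _ (he1 q' hmem)
  obtain ⟨N, hN⟩ := hrad
  refine ⟨N, (∏ q' ∈ hfin.toFinset.erase q, e q') ^ N, fun h => hEq (hqp.mem_of_pow_mem N h), ?_⟩
  rw [← mul_pow, mul_comm]
  exact hN

/-- An element avoiding all minimal primes over `I` drops the dimension of `A ⧸ I`. -/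
theorem ringKrullDim_quotient_sup_span_succ_le {A : Type*} [CommRing A] (I : Ideal A) (x : A)
    (hx : ∀ q ∈ I.minimalPrimes, x ∉ q) :
    ringKrullDim (A ⧸ (I ⊔ Ideal.span {x})) + 1 ≤ ringKrullDim (A ⧸ I) := by
  have hn : ∀ P ∈ (Module.annihilator (A ⧸ I) (A ⧸ I)).minimalPrimes,
      Ideal.Quotient.mk I x ∉ P := by
    intro P hP hmem
    have hann : Module.annihilator (A ⧸ I) (A ⧸ I) = ⊥ := by
      rw [eq_bot_iff]
      intro a ha
      have := Module.mem_annihilator.mp ha 1
      rw [smul_eq_mul, mul_one] at this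
      exact this
    rw [hann] at hP
    have hP' : P ∈ minimalPrimes (A ⧸ I) := hP
    have h1 : P.comap (Ideal.Quotient.mk I) ∈ I.minimalPrimes := by
      rw [Ideal.minimalPrimes_eq_comap]
      exact ⟨P, hP', rfl⟩
    exact hx _ h1 hmem
  have h1 := Module.supportDim_quotSMulTop_succ_le_of_notMem_minimalPrimes
    (R := A ⧸ I) (M := A ⧸ I) (x := Ideal.Quotient.mk I x) hn
  rw [Module.supportDim_self_eq_ringKrullDim] at h1
  have h2 : (Ideal.Quotient.mk I x • (⊤ : Submodule (A ⧸ I) (A ⧸ I))) =
      (Ideal.span {x}).map (Ideal.Quotient.mk I) := by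
    rw [← Submodule.ideal_span_singleton_smul, Ideal.map_span, Set.image_singleton]
    exact Ideal.mul_top _
  have h3 : Module.supportDim (A ⧸ I) (QuotSMulTop (Ideal.Quotient.mk I x) (A ⧸ I)) =
      ringKrullDim ((A ⧸ I) ⧸ (Ideal.span {x}).map (Ideal.Quotient.mk I)) := by
    rw [← Module.supportDim_quotient_eq_ringKrullDim]
    exact Module.supportDim_eq_of_equiv (Submodule.quotEquivOfEq _ _ h2)
  rw [h3, ringKrullDim_eq_of_ringEquiv (DoubleQuot.quotQuotEquivQuotSup I (Ideal.span {x}))] at h1
  exact h1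

/-- In a Cohen–Macaulay local ring a system of parameters is a regular sequence: `t i` is a
non-zero-divisor modulo `(t j : j < i)`. -/
theorem reg_of_cm {B : Type u} [CommRing B] [hB : LocCoh.IsCohenMacaulayLocalRing B] (s : ℕ)
    (hs : ringKrullDim B = s) (t : Fin s → B) (ht : ∀ i, t i ∈ maximalIdeal B)
    (hsop : ringKrullDim (B ⧸ Ideal.span (Set.range t)) = 0) (i : Fin s) (y : B)
    (hy : t i * y ∈ Ideal.span (t '' {j : Fin s | j.val < i.val})) :
    y ∈ Ideal.span (t '' {j : Fin s | j.val < i.val}) := by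
  have hCM : LocCoh.IsCohenMacaulayModule B B := hB.supportDim_eq_depth
  have hmem : ∀ x ∈ List.ofFn t, x ∈ maximalIdeal B := by
    intro x hx
    rw [List.mem_ofFn] at hx
    obtain ⟨j, rfl⟩ := hx
    exact ht j
  have hofl : Ideal.ofList (List.ofFn t) = Ideal.span (Set.range t) := by
    unfold Ideal.ofList
    congr 1
    ext r
    simp [List.mem_ofFn]
  have hdim : Module.supportDim B (B ⧸ (Ideal.ofList (List.ofFn t) • (⊤ : Submodule B B))) +
      ((List.ofFn t).length : WithBot ℕ∞) = Module.supportDim B B := by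
    have h1 : (Ideal.ofList (List.ofFn t) • (⊤ : Submodule B B)) = Ideal.span (Set.range t) := by
      rw [hofl]
      exact Ideal.mul_top _
    rw [Module.supportDim_eq_of_equiv (Submodule.quotEquivOfEq _ _ h1),
      Module.supportDim_quotient_eq_ringKrullDim, hsop, Module.supportDim_self_eq_ringKrullDim, hs,
      List.length_ofFn, zero_add]
  have hw := ((Groth.Agent.H29.CM.isWeaklyRegular_iff_of_isCM (List.ofFn t) B hCM hmem).1).2 hdim
  have hlen : i.val < (List.ofFn t).length := by
    rw [List.length_ofFn]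
    exact i.2
  have hr := hw.regular_mod_prev i.val hlen
  have hget : (List.ofFn t)[i.val]'hlen = t i := by
    rw [List.getElem_ofFn]
  have htake : (Ideal.ofList ((List.ofFn t).take i.val) • (⊤ : Submodule B B)) =
      Ideal.span (t '' {j : Fin s | j.val < i.val}) := by
    have h1 : Ideal.ofList ((List.ofFn t).take i.val) =
        Ideal.span (t '' {j : Fin s | j.val < i.val}) := by
      unfold Ideal.ofList
      congr 1
      ext r
      simp only [Set.mem_setOf_eq, Set.mem_image]
      rw [List.mem_take_iff_getElem]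
      constructor
      · rintro ⟨k, hk, rfl⟩
        have hk' := hk
        rw [List.length_ofFn, lt_min_iff] at hk'
        exact ⟨⟨k, hk'.2⟩, hk'.1, by rw [List.getElem_ofFn]⟩
      · rintro ⟨j, hj, rfl⟩
        refine ⟨j.val, ?_, ?_⟩
        · rw [List.length_ofFn, lt_min_iff]
          exact ⟨hj, j.2⟩
        · rw [List.getElem_ofFn]
    rw [h1]
    exact Ideal.mul_top _
  rw [hget] at hr
  have h0 : (t i) • (Submodule.Quotient.mk y :
      B ⧸ (Ideal.ofList ((List.ofFn t).take i.val) • (⊤ : Submodule B B))) =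
      (t i) • (0 : B ⧸ (Ideal.ofList ((List.ofFn t).take i.val) • (⊤ : Submodule B B))) := by
    rw [smul_zero, ← Submodule.Quotient.mk_smul, Submodule.Quotient.mk_eq_zero, htake, smul_eq_mul]
    exact hy
  have h1 := hr h0
  rw [Submodule.Quotient.mk_eq_zero, htake] at h1
  exact h1

end Groth.Agent.H87.SopLift
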