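import Mathlib
import Groth.Prelude.Def_EtModW
import Groth.Prelude.Def_ARSys
import Groth.Prelude.Def_EtModD2
import Groth.Agent.H4.StalkConst
import Groth.Agent.H4.StalkPull
import Groth.Agent.H38.Adic_B
import Groth.Agent.H77.CM_AR

/-!
# (C) for S13613: constructible étale sheaves of modules have finite stalks (given the locally
constant case)
-/

set_option autoImplicit false

universe u

open CategoryTheory CategoryTheory.Limits AlgebraicGeometry Opposite

namespace Groth.Agent.H87.StalkAR_C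

/-- An immersion into the spectrum of a field with nonempty source is an isomorphism. -/
theorem isIso_of_isImmersion_of_field {P : Scheme.{u}} {Ω : Type u} [Field Ω]
    (q : P ⟶ Spec (CommRingCat.of Ω)) [IsImmersion q] [Nonempty P] : IsIso q := by
  haveI hss : Subsingleton ↥(Spec (CommRingCat.of Ω)) :=
    inferInstanceAs (Subsingleton (PrimeSpectrum Ω))
  obtain ⟨p0⟩ := (inferInstance : Nonempty P)
  -- the open part is an isomorphism
  haveI hι : IsIso q.coborderRange.ι := by
    rw [isIso_iff_isOpenImmersion_and_epi_base]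
    refine ⟨inferInstance, ?_⟩
    rw [TopCat.epi_iff_surjective]
    intro y
    refine ⟨q.liftCoborder p0, Subsingleton.elim _ _⟩
  -- the closed part is an isomorphism
  haveI hred : IsReduced (q.coborderRange : Scheme.{u}) := inferInstance
  haveI hsurj : Surjective q.liftCoborder := by
    refine ⟨fun y => ⟨p0, ?_⟩⟩
    have hinj : Function.Injective q.coborderRange.ι := q.coborderRange.ι.isOpenEmbedding.injective
    exact hinj (Subsingleton.elim _ _)
  haveI : IsIso q.liftCoborder := isIso_of_isClosedImmersion_of_surjective q.liftCoborder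
  rw [← q.liftCoborder_ι]
  infer_instance

/-- A field-valued point whose image lies in the range of an immersion factors through it. -/
theorem exists_factor {T X : Scheme.{u}} (g : T ⟶ X) [IsImmersion g] {Ω : Type u} [Field Ω]
    (ξ : Spec (CommRingCat.of Ω) ⟶ X) (pt : Spec (CommRingCat.of Ω))
    (h : ξ pt ∈ Set.range g) :
    ∃ ξ' : Spec (CommRingCat.of Ω) ⟶ T, ξ' ≫ g = ξ := by
  obtain ⟨t, ht⟩ := h
  obtain ⟨z, -, -⟩ := Scheme.Pullback.exists_preimage_pullback (f := ξ) (g := g) pt t ht.symm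
  haveI : Nonempty ↥(pullback ξ g) := ⟨z⟩
  haveI : IsIso (pullback.fst ξ g) := isIso_of_isImmersion_of_field (pullback.fst ξ g)
  refine ⟨inv (pullback.fst ξ g) ≫ pullback.snd ξ g, ?_⟩
  rw [Category.assoc, ← pullback.condition, IsIso.inv_hom_id_assoc]

/-- **(C)** -/
theorem finite_stalk_of_isConstructible (Λ : Type (u + 1)) [CommRing Λ] {X : Scheme.{u}}
    (E : EtModW.Mod Λ X) (hE : EtModW.IsConstructible Λ E)
    (hB : ∀ {T : Scheme.{u}} (F : EtModW.Mod Λ T), EtModW.IsFTLocConst Λ F →
      ∀ {Ω : Type u} [Field Ω] [IsSepClosed Ω] (ξ : Spec (CommRingCat.of Ω) ⟶ T),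
        Module.Finite Λ ((EtModW.stalk Λ ξ).obj F))
    {Ω : Type u} [Field Ω] [IsSepClosed Ω] (ξ : Spec (CommRingCat.of Ω) ⟶ X) :
    Module.Finite Λ ((EtModW.stalk Λ ξ).obj E) := by
  let pt : Spec (CommRingCat.of Ω) := (default : PrimeSpectrum Ω)
  obtain ⟨U, hU, hxU, -⟩ := exists_isAffineOpen_mem_and_subset (x := ξ pt)
    (U := (⊤ : X.Opens)) trivial
  obtain ⟨n, T, g, himm, -, -, hcov, hlc⟩ := hE U hU
  have hmem : ξ pt ∈ ⋃ i, Set.range (g i) := by rw [hcov]; exact hxU
  obtain ⟨i, hi⟩ := Set.mem_iUnion.mp hmem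
  haveI := himm i
  obtain ⟨ξ', hξ'⟩ := exists_factor (g i) ξ pt hi
  subst hξ'
  have hfin := hB ((EtModW.pull Λ (g i)).obj E) (hlc i) ξ'
  haveI : HasLimitsOfSize.{u, u} (ModuleCat.{u + 1} Λ) := ModuleCat.hasLimitsOfSize.{u, u, u + 1}
  haveI : HasProducts.{u} (ModuleCat.{u + 1} Λ) := fun J => inferInstance
  have e := (Groth.Agent.H4.stalkPullIso (g i) ξ' (ModuleCat.{u + 1} Λ)).app E
  have e' : (EtModW.stalk Λ ξ').obj ((EtModW.pull Λ (g i)).obj E) ≅
      (EtModW.stalk Λ (ξ' ≫ g i)).obj E := e.symm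
  haveI := hfin
  exact Module.Finite.equiv e'.toLinearEquiv

end Groth.Agent.H87.StalkAR_C
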