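import Groth.Agent.S3869
import Groth.Agent.H87.ComplFlat
import Mathlib.RingTheory.Flat.EquationalCriterion
import Mathlib.RingTheory.Flat.FaithfullyFlat.Algebra

set_option autoImplicit false
universe u

open TensorProduct

namespace Groth.Agent.H87.StalkFlat

theorem flat_of_faithfullyFlat_comp (A₀ R₁ M : Type*) [CommRing A₀] [CommRing R₁] [Algebra A₀ R₁]
    [AddCommGroup M] [Module A₀ M] [Module R₁ M] [IsScalarTower A₀ R₁ M]
    [Module.FaithfullyFlat R₁ M] [Module.Flat A₀ M] : Module.Flat A₀ R₁ := by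
  rw [Module.Flat.iff_lTensor_preserves_injective_linearMap]
  intro N Q _ _ _ _ f hf
  have h1 : Function.Injective (LinearMap.lTensor M f) :=
    Module.Flat.lTensor_preserves_injective_linearMap f hf
  have e := TensorProduct.AlgebraTensorModule.lTensor_comp_cancelBaseChange
    (R := A₀) (A := R₁) (B := R₁) (M := M) f
  have h3 : Function.Injective
      ((TensorProduct.AlgebraTensorModule.cancelBaseChange A₀ R₁ R₁ M Q).toLinearMap ∘ₗ
        TensorProduct.AlgebraTensorModule.lTensor R₁ M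
          (TensorProduct.AlgebraTensorModule.lTensor R₁ R₁ f)) := by
    rw [← e]
    exact h1.comp (TensorProduct.AlgebraTensorModule.cancelBaseChange A₀ R₁ R₁ M N).injective
  have h2 : Function.Injective
      (LinearMap.lTensor M (TensorProduct.AlgebraTensorModule.lTensor R₁ R₁ f)) := by
    rw [LinearMap.coe_comp] at h3
    exact Function.Injective.of_comp h3
  exact (Module.FaithfullyFlat.lTensor_injective_iff_injective R₁ M _).1 h2

section stalk

variable (A : Type u) [CommRing A] [IsNoetherianRing A] (J 𝔭 : Ideal A) [𝔭.IsPrime]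

theorem cAwayToAtPrime_flat (h : A) (hh : h ∉ 𝔭) : (FSch.cAwayToAtPrime A J 𝔭 h hh).Flat := by
  have hle : Submonoid.powers h ≤ 𝔭.primeCompl := by
    rw [Submonoid.powers_le]; exact hh
  have hg : (FSch.awayToAtPrime A 𝔭 h hh).comp (algebraMap A (Localization.Away h)) =
      algebraMap A (Localization.AtPrime 𝔭) :=
    RingHom.ext (Groth.Agent.S3869.awayToAtPrime_algebraMap A 𝔭 h hh)
  exact ComplFlat.complMap_flat _ _ _
    (ComplFlat.flat_of_localizations A (Submonoid.powers h) 𝔭.primeCompl hle _ hg) _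

theorem flat_stalk : Module.Flat (FSch.stalkSubring A J 𝔭) (FSch.cAtPrime A J 𝔭) := by
  classical
  rw [Module.Flat.iff_forall_isTrivialRelation]
  intro l f x hfx
  choose hi hhi hmi using fun i =>
    (Groth.Agent.S3869.mem_stalkSubring_iff A J 𝔭 (f i : FSch.cAtPrime A J 𝔭)).1 (f i).2
  have hh : ∏ i, hi i ∉ 𝔭 := by
    intro hmem
    obtain ⟨i, _, hi'⟩ := (Ideal.IsPrime.prod_mem_iff).1 hmem
    exact hhi i hi'
  have hmem : ∀ i, (f i : FSch.cAtPrime A J 𝔭) ∈
      (FSch.cAwayToAtPrime A J 𝔭 (∏ i, hi i) hh).range :=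
    fun i => Groth.Agent.S3869.range_le_range A J 𝔭 (hi i) (∏ i, hi i)
      (Finset.dvd_prod_of_mem hi (Finset.mem_univ i)) (hhi i) hh (hmi i)
  choose ft hft using fun i => RingHom.mem_range.1 (hmem i)
  have hψ : (FSch.cAwayToAtPrime A J 𝔭 (∏ i, hi i) hh).Flat := cAwayToAtPrime_flat A J 𝔭 _ hh
  let alg : Algebra (FSch.cAway A J (∏ i, hi i)) (FSch.cAtPrime A J 𝔭) :=
    (FSch.cAwayToAtPrime A J 𝔭 (∏ i, hi i) hh).toAlgebra
  have hflat : Module.Flat (FSch.cAway A J (∏ i, hi i)) (FSch.cAtPrime A J 𝔭) := hψ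
  have hrel : ∑ i, ft i • x i = 0 := by
    rw [← hfx]
    refine Finset.sum_congr rfl (fun i _ => ?_)
    show FSch.cAwayToAtPrime A J 𝔭 (∏ i, hi i) hh (ft i) * x i =
      (f i : FSch.cAtPrime A J 𝔭) * x i
    rw [hft i]
  obtain ⟨k, a, y, hxy, hfa⟩ := Module.Flat.isTrivialRelation_of_sum_smul_eq_zero hrel
  have hmemψ : ∀ i j, FSch.cAwayToAtPrime A J 𝔭 (∏ i, hi i) hh (a i j) ∈
      FSch.stalkSubring A J 𝔭 := fun i j =>
    (Groth.Agent.S3869.mem_stalkSubring_iff A J 𝔭 _).2 ⟨_, hh, ⟨a i j, rfl⟩⟩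
  refine ⟨k, fun i j => ⟨FSch.cAwayToAtPrime A J 𝔭 (∏ i, hi i) hh (a i j), hmemψ i j⟩, y, ?_, ?_⟩
  · intro i
    rw [hxy i]
    exact Finset.sum_congr rfl (fun j _ => rfl)
  · intro j
    apply Subring.subtype_injective
    have e : ∀ i, (FSch.stalkSubring A J 𝔭).subtype
        (f i * ⟨FSch.cAwayToAtPrime A J 𝔭 (∏ i, hi i) hh (a i j), hmemψ i j⟩) =
          FSch.cAwayToAtPrime A J 𝔭 (∏ i, hi i) hh (ft i * a i j) := fun i => by
      rw [map_mul, map_mul, hft i]; rfl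
    rw [map_sum, map_zero, Finset.sum_congr rfl (fun i _ => e i), ← map_sum, hfa j, map_zero]

theorem faithfullyFlat_stalk (hJ : J ≤ 𝔭) :
    Module.FaithfullyFlat (FSch.stalkSubring A J 𝔭) (FSch.cAtPrime A J 𝔭) := by
  obtain ⟨hloc, hlh⟩ := Groth.Agent.S3869.result A J 𝔭 hJ
  have hlocM : IsLocalRing (FSch.cAtPrime A J 𝔭) :=
    Groth.Agent.S3869.isLocalRing_cAtPrime A J 𝔭 hJ
  have hflat := flat_stalk A J 𝔭
  have hl : IsLocalHom (algebraMap (FSch.stalkSubring A J 𝔭) (FSch.cAtPrime A J 𝔭)) :=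
    ⟨fun a ha => hlh.map_nonunit a ha⟩
  exact Module.FaithfullyFlat.of_flat_of_isLocalHom

theorem flat_codRestrict (hJ : J ≤ 𝔭)
    (h : ∀ a : A, ((algebraMap (Localization.AtPrime 𝔭) (FSch.cAtPrime A J 𝔭)).comp
      (algebraMap A (Localization.AtPrime 𝔭))) a ∈ FSch.stalkSubring A J 𝔭) :
    (((algebraMap (Localization.AtPrime 𝔭) (FSch.cAtPrime A J 𝔭)).comp
      (algebraMap A (Localization.AtPrime 𝔭))).codRestrict (FSch.stalkSubring A J 𝔭) h).Flat := by
  let alg : Algebra A (FSch.stalkSubring A J 𝔭) :=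
    (((algebraMap (Localization.AtPrime 𝔭) (FSch.cAtPrime A J 𝔭)).comp
      (algebraMap A (Localization.AtPrime 𝔭))).codRestrict (FSch.stalkSubring A J 𝔭) h).toAlgebra
  have tower : IsScalarTower A (FSch.stalkSubring A J 𝔭) (FSch.cAtPrime A J 𝔭) :=
    IsScalarTower.of_algebraMap_eq (fun a => rfl)
  have hff := faithfullyFlat_stalk A J 𝔭 hJ
  have hf1 : Module.Flat A (Localization.AtPrime 𝔭) :=
    IsLocalization.flat (Localization.AtPrime 𝔭) 𝔭.primeCompl
  have hf2 : Module.Flat A (FSch.cAtPrime A J 𝔭) :=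
    Module.Flat.trans A (Localization.AtPrime 𝔭) (FSch.cAtPrime A J 𝔭)
  show Module.Flat A (FSch.stalkSubring A J 𝔭)
  exact flat_of_faithfullyFlat_comp A (FSch.stalkSubring A J 𝔭) (FSch.cAtPrime A J 𝔭)

end stalk

end Groth.Agent.H87.StalkFlat
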