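import Groth.Agent.H87.TameFlatDefs
import Groth.Agent.H34.TameCL

/-!
# Base change of tame data along a flat local homomorphism (S1850)
-/

set_option autoImplicit false
set_option linter.style.haveILetI false
set_option linter.unusedSectionVars false
universe u

namespace Groth.Agent.H87.TameFlat

open IsLocalRing TensorProduct CycAlg Groth.Agent.H34.TameLoc Groth.Agent.H34.TameCL
  Groth.Agent.H34.TameRep

section FinExt

variable (A A' B : Type u) [CommRing A] [CommRing A'] [CommRing B] [Algebra A A'] [Algebra A B]
  [IsLocalRing A] [IsLocalRing A']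

/-- `IsFinExt` is stable under flat base change (given `𝔪_{A'}^k ⊆ 𝔪_A A'`). -/
theorem isFinExt_baseChange [Module.Flat A A'] (hB : IsFinExt A B (maximalIdeal A))
    (hk : ∃ k : ℕ, maximalIdeal A' ^ k ≤ (maximalIdeal A).map (algebraMap A A')) :
    IsFinExt A' (A' ⊗[A] B) (maximalIdeal A') := by
  obtain ⟨hinj, hfin, n, hn⟩ := hB
  haveI := hfin
  refine ⟨?_, inferInstance, ?_⟩
  · exact Algebra.TensorProduct.includeLeft_injective (S := A') hinj
  · obtain ⟨k, hk⟩ := hk
    refine ⟨k * n, ?_⟩
    -- the ideal of elements mapping everything into the range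
    let J : Ideal A' :=
      { carrier := {r | ∀ b' : A' ⊗[A] B, r • b' ∈ (algebraMap A' (A' ⊗[A] B)).range}
        add_mem' := by
          intro r s hr hs b'
          rw [add_smul]
          exact Subring.add_mem _ (hr b') (hs b')
        zero_mem' := by
          intro b'
          rw [zero_smul]
          exact Subring.zero_mem _
        smul_mem' := by
          intro c r hr b'
          obtain ⟨z, hz⟩ := hr b'
          refine ⟨c * z, ?_⟩
          rw [map_mul, hz, smul_eq_mul, mul_smul, Algebra.smul_def c] }
    have hJ : (maximalIdeal A ^ n).map (algebraMap A A') ≤ J := by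
      rw [Ideal.map_le_iff_le_comap]
      intro α hα
      show ∀ b' : A' ⊗[A] B, (algebraMap A A' α) • b' ∈ (algebraMap A' (A' ⊗[A] B)).range
      intro b'
      induction b' using TensorProduct.induction_on with
      | zero =>
        rw [smul_zero]
        exact Subring.zero_mem _
      | tmul a' b =>
        obtain ⟨z, hz⟩ := hn α hα b
        refine ⟨algebraMap A A' z * a', ?_⟩
        have e1 : (algebraMap A A' α) • (a' ⊗ₜ[A] b : A' ⊗[A] B) = (α • a') ⊗ₜ[A] b := by
          rw [TensorProduct.smul_tmul', smul_eq_mul, Algebra.smul_def]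
        have e2 : (α • a') ⊗ₜ[A] b = a' ⊗ₜ[A] (α • b) := TensorProduct.smul_tmul α a' b
        have e3 : a' ⊗ₜ[A] (α • b) = (z • a') ⊗ₜ[A] (1 : B) := by
          rw [← hz, Algebra.algebraMap_eq_smul_one, ← TensorProduct.smul_tmul]
        rw [e1, e2, e3, Algebra.TensorProduct.algebraMap_apply, Algebra.smul_def]
        rfl
      | add x y hx hy =>
        rw [smul_add]
        exact Subring.add_mem _ hx hy
    intro r hr b'
    have h1 : maximalIdeal A' ^ (k * n) ≤ (maximalIdeal A ^ n).map (algebraMap A A') := by
      rw [pow_mul, Ideal.map_pow]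
      exact Ideal.pow_right_mono hk n
    exact hJ (h1 hr) b'

end FinExt

section BC

variable {A : Type u} (A' : Type u) [CommRing A] [CommRing A'] [Algebra A A']
  [IsLocalRing A] [IsLocalRing A'] [IsLocalHom (algebraMap A A')] [Module.Flat A A'] {a₁ a₂ : A}

/-- The base change of tame data along a flat local homomorphism. -/
noncomputable def bc (D : TameData A a₁ a₂)
    (hk : ∃ k : ℕ, maximalIdeal A' ^ k ≤ (maximalIdeal A).map (algebraMap A A')) :
    TameData A' (algebraMap A A' a₁) (algebraMap A A' a₂) where
  B := A' ⊗[A] D.B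
  isFinExt := isFinExt_baseChange A A' D.B D.isFinExt hk
  isLocalHom := fun q' => isLocalHom_of_finite q'
  π := fun q' => lh A A' D.B q' (D.π (cm A A' D.B q'))
  π_mem := fun q' => lh_mem_nonZeroDivisors A A' D.B q' _ (D.π_mem _)
  u₁ := fun q' => Units.map (lh A A' D.B q' : _ →* _) (D.u₁ (cm A A' D.B q'))
  u₂ := fun q' => Units.map (lh A A' D.B q' : _ →* _) (D.u₂ (cm A A' D.B q'))
  e₁ := fun q' => D.e₁ (cm A A' D.B q')
  e₂ := fun q' => D.e₂ (cm A A' D.B q')
  fac₁ := fun q' => by
    rw [← lh_algebraMap_base, D.fac₁, map_mul, map_pow]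
    rfl
  fac₂ := fun q' => by
    rw [← lh_algebraMap_base, D.fac₂, map_mul, map_pow]
    rfl

end BC

end Groth.Agent.H87.TameFlat
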