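import Mathlib
import Groth.Prelude.Def_Tame
import Groth.Agent.H34.TameLoc
import Groth.Agent.H34.TameRep

/-!
# Definitions for S1850 (tame symbol under a flat local homomorphism)

For a local homomorphism of local rings `A → A'` and a finite `A`-algebra `B` we consider
`B' = A' ⊗[A] B` (a finite `A'`-algebra), the induced map `cm` on maximal spectra and the induced
local homomorphisms `lh q' : B_{cm q'} → B'_{q'}`.
-/

set_option autoImplicit false
set_option linter.style.haveILetI false
set_option linter.unusedSectionVars false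
universe u

namespace Groth.Agent.H87.TameFlat

open IsLocalRing TensorProduct

section Basic

variable (A A' B : Type u) [CommRing A] [CommRing A'] [CommRing B] [Algebra A A'] [Algebra A B]

/-- The ring homomorphism `B → A' ⊗[A] B`. -/
noncomputable def inc : B →+* A' ⊗[A] B :=
  (Algebra.TensorProduct.includeRight : B →ₐ[A] A' ⊗[A] B).toRingHom

theorem inc_apply (b : B) : inc A A' B b = (1 : A') ⊗ₜ[A] b := rfl

theorem inc_algebraMap (a : A) :
    inc A A' B (algebraMap A B a) = algebraMap A' (A' ⊗[A] B) (algebraMap A A' a) := by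
  have h1 : inc A A' B (algebraMap A B a) = algebraMap A (A' ⊗[A] B) a :=
    (Algebra.TensorProduct.includeRight : B →ₐ[A] A' ⊗[A] B).commutes a
  rw [h1, IsScalarTower.algebraMap_apply A A' (A' ⊗[A] B)]

/-- `B → A' ⊗[A] B` is flat when `A → A'` is. -/
theorem inc_flat [Module.Flat A A'] : (inc A A' B).Flat := by
  letI := (inc A A' B).toAlgebra
  show Module.Flat B (A' ⊗[A] B)
  let e : (A' ⊗[A] B) ≃ₗ[B] (B ⊗[A] A') :=
    { (Algebra.TensorProduct.comm A A' B).toLinearEquiv.toAddEquiv with
      map_smul' := by
        intro b t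
        show (Algebra.TensorProduct.comm A A' B) (b • t) =
          b • (Algebra.TensorProduct.comm A A' B) t
        have h1 : b • t = inc A A' B b * t := rfl
        rw [h1, map_mul, inc_apply, Algebra.TensorProduct.comm_tmul, Algebra.smul_def,
          Algebra.TensorProduct.algebraMap_apply]
        rfl }
  exact Module.Flat.of_linearEquiv e

end Basic

section Local

variable (A A' B : Type u) [CommRing A] [CommRing A'] [CommRing B] [Algebra A A'] [Algebra A B]
  [IsLocalRing A] [IsLocalRing A'] [IsLocalHom (algebraMap A A')] [Module.Finite A B]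

theorem comap_inc_isMaximal (q' : MaximalSpectrum (A' ⊗[A] B)) :
    (q'.asIdeal.comap (inc A A' B)).IsMaximal := by
  haveI := q'.isMaximal
  haveI hP : (q'.asIdeal.comap (inc A A' B)).IsPrime := Ideal.comap_isPrime _ _
  haveI : Algebra.IsIntegral A B := Algebra.IsIntegral.of_finite A B
  have h1 : q'.asIdeal.comap (algebraMap A' (A' ⊗[A] B)) = maximalIdeal A' :=
    Groth.Agent.H87.LenFinsum.comap_eq_maximalIdeal q'
  have h2 : (q'.asIdeal.comap (inc A A' B)).comap (algebraMap A B) = maximalIdeal A := by
    ext a
    rw [Ideal.mem_comap, Ideal.mem_comap, inc_algebraMap, ← Ideal.mem_comap, h1,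
      ← Ideal.mem_comap, IsLocalRing.maximalIdeal_comap]
  apply Ideal.isMaximal_of_isIntegral_of_isMaximal_comap (R := A)
  rw [h2]
  infer_instance

/-- The map on maximal spectra `MaxSpec (A' ⊗[A] B) → MaxSpec B`. -/
noncomputable def cm (q' : MaximalSpectrum (A' ⊗[A] B)) : MaximalSpectrum B :=
  ⟨q'.asIdeal.comap (inc A A' B), comap_inc_isMaximal A A' B q'⟩

theorem cm_asIdeal (q' : MaximalSpectrum (A' ⊗[A] B)) :
    (cm A A' B q').asIdeal = q'.asIdeal.comap (inc A A' B) := rfl

/-- The induced local homomorphism `B_{cm q'} → (A' ⊗[A] B)_{q'}`. -/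
noncomputable def lh (q' : MaximalSpectrum (A' ⊗[A] B)) :
    Localization.AtPrime (cm A A' B q').asIdeal →+* Localization.AtPrime q'.asIdeal :=
  Localization.localRingHom (cm A A' B q').asIdeal q'.asIdeal (inc A A' B) rfl

instance (q' : MaximalSpectrum (A' ⊗[A] B)) : IsLocalHom (lh A A' B q') :=
  Localization.isLocalHom_localRingHom _ _ _ rfl

theorem lh_algebraMap (q' : MaximalSpectrum (A' ⊗[A] B)) (b : B) :
    lh A A' B q' (algebraMap B _ b) = algebraMap (A' ⊗[A] B) _ (inc A A' B b) :=
  Localization.localRingHom_to_map _ _ _ rfl b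

theorem lh_algebraMap_base (q' : MaximalSpectrum (A' ⊗[A] B)) (a : A) :
    lh A A' B q' (algebraMap A _ a) =
      algebraMap A' (Localization.AtPrime q'.asIdeal) (algebraMap A A' a) := by
  rw [IsScalarTower.algebraMap_apply A B (Localization.AtPrime (cm A A' B q').asIdeal),
    lh_algebraMap, inc_algebraMap, ← IsScalarTower.algebraMap_apply]

/-- `lh q'` is flat when `A → A'` is. -/
theorem lh_flat [Module.Flat A A'] (q' : MaximalSpectrum (A' ⊗[A] B)) : (lh A A' B q').Flat := by
  haveI := q'.isMaximal
  exact RingHom.Flat.localRingHom (inc_flat A A' B) q'.asIdeal (cm A A' B q').asIdeal rfl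

/-- `lh q'` preserves nonzerodivisors when `A → A'` is flat. -/
theorem lh_mem_nonZeroDivisors [Module.Flat A A'] (q' : MaximalSpectrum (A' ⊗[A] B))
    (x : Localization.AtPrime (cm A A' B q').asIdeal)
    (hx : x ∈ nonZeroDivisors (Localization.AtPrime (cm A A' B q').asIdeal)) :
    lh A A' B q' x ∈ nonZeroDivisors (Localization.AtPrime q'.asIdeal) := by
  have hfl := lh_flat A A' B q'
  letI algR : Algebra (Localization.AtPrime (cm A A' B q').asIdeal)
      (Localization.AtPrime q'.asIdeal) := (lh A A' B q').toAlgebra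
  haveI : Module.Flat (Localization.AtPrime (cm A A' B q').asIdeal)
      (Localization.AtPrime q'.asIdeal) := hfl
  have hreg : IsSMulRegular (Localization.AtPrime q'.asIdeal) x :=
    Module.Flat.isSMulRegular_of_nonZeroDivisors (M := Localization.AtPrime q'.asIdeal) hx
  rw [mem_nonZeroDivisors_iff_right]
  intro y hy
  apply hreg
  show x • y = x • (0 : Localization.AtPrime q'.asIdeal)
  rw [smul_zero, Algebra.smul_def, mul_comm]
  exact hy

/-- The length of the fibre ring `B'_{q'} / 𝔪_{B_q} B'_{q'}`. -/
noncomputable def lq (q' : MaximalSpectrum (A' ⊗[A] B)) : ℕ∞ :=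
  Module.length (Localization.AtPrime q'.asIdeal)
    (Localization.AtPrime q'.asIdeal ⧸
      (maximalIdeal (Localization.AtPrime (cm A A' B q').asIdeal)).map (lh A A' B q'))

/-- Orders multiply along `lh q'`. -/
theorem ord_lh [Module.Flat A A'] (q' : MaximalSpectrum (A' ⊗[A] B))
    (x : Localization.AtPrime (cm A A' B q').asIdeal) :
    Ring.ord (Localization.AtPrime q'.asIdeal) (lh A A' B q' x) =
      Ring.ord (Localization.AtPrime (cm A A' B q').asIdeal) x * lq A A' B q' := by
  have hfl := lh_flat A A' B q'
  letI algR : Algebra (Localization.AtPrime (cm A A' B q').asIdeal)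
      (Localization.AtPrime q'.asIdeal) := (lh A A' B q').toAlgebra
  haveI : Module.Flat (Localization.AtPrime (cm A A' B q').asIdeal)
      (Localization.AtPrime q'.asIdeal) := hfl
  haveI : IsLocalHom (algebraMap (Localization.AtPrime (cm A A' B q').asIdeal)
      (Localization.AtPrime q'.asIdeal)) := by
    show IsLocalHom (lh A A' B q')
    infer_instance
  have h := IsLocalRing.length_baseChange (Localization.AtPrime (cm A A' B q').asIdeal)
    (Localization.AtPrime q'.asIdeal)
    (Localization.AtPrime (cm A A' B q').asIdeal ⧸ Ideal.span {x})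
  rw [← (Algebra.TensorProduct.quotIdealMapEquivTensorQuot (Localization.AtPrime q'.asIdeal)
    (Ideal.span {x})).toLinearEquiv.length_eq, Ideal.map_span, Set.image_singleton] at h
  exact h

end Local

end Groth.Agent.H87.TameFlat
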