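import Groth.Agent.H87.TameFlatDefs2

/-!
# Flatness of `(A' ⊗[A] B) ⧸ q` over `A' ⧸ 𝔪_A A'` (for S1850)
-/

set_option autoImplicit false
set_option linter.style.haveILetI false
set_option linter.unusedSectionVars false
universe u

namespace Groth.Agent.H87.TameFlat

open IsLocalRing TensorProduct

section Flat

variable (A A' B : Type u) [CommRing A] [CommRing A'] [CommRing B] [Algebra A A'] [Algebra A B]
  [IsLocalRing A] [Module.Finite A B]

/-- `F = A' ⧸ 𝔪_A A'`. -/
abbrev FF : Type u := A' ⧸ (maximalIdeal A).map (algebraMap A A')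

/-- `C = (A' ⊗[A] B) ⧸ q (A' ⊗[A] B)`. -/
abbrev CC (q : MaximalSpectrum B) : Type u := (A' ⊗[A] B) ⧸ q.asIdeal.map (inc A A' B)

theorem map_le_comap_map_inc (q : MaximalSpectrum B) :
    (maximalIdeal A).map (algebraMap A A') ≤
      (q.asIdeal.map (inc A A' B)).comap (algebraMap A' (A' ⊗[A] B)) := by
  rw [Ideal.map_le_iff_le_comap]
  intro a ha
  rw [Ideal.mem_comap, Ideal.mem_comap, ← inc_algebraMap]
  apply Ideal.mem_map_of_mem
  have := Groth.Agent.H87.LenFinsum.comap_eq_maximalIdeal (A := A) q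
  rw [← this] at ha
  exact ha

/-- `C` is an `F`-algebra. -/
noncomputable abbrev algFC (q : MaximalSpectrum B) : Algebra (FF A A') (CC A A' B q) :=
  Ideal.Quotient.algebraQuotientOfLEComap (map_le_comap_map_inc A A' B q)

/-- `k → F`. -/
noncomputable abbrev algkF : Algebra (ResidueField A) (FF A A') :=
  Ideal.Quotient.algebraQuotientOfLEComap Ideal.le_comap_map

/-- `k → L = B ⧸ q`. -/
noncomputable abbrev algkL (q : MaximalSpectrum B) : Algebra (ResidueField A) (B ⧸ q.asIdeal) :=
  Ideal.Quotient.algebraQuotientOfLEComap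
    (Groth.Agent.H87.LenFinsum.comap_eq_maximalIdeal (A := A) q).ge

theorem isPushout_kF :
    letI := algkF A A'
    haveI : IsScalarTower A (ResidueField A) (FF A A') :=
      IsScalarTower.of_algebraMap_eq (fun _ => rfl)
    Algebra.IsPushout A A' (ResidueField A) (FF A A') := by
  letI := algkF A A'
  haveI : IsScalarTower A (ResidueField A) (FF A A') :=
    IsScalarTower.of_algebraMap_eq (fun _ => rfl)
  constructor
  refine IsBaseChange.of_equiv
    ((Algebra.TensorProduct.quotIdealMapEquivTensorQuot A' (maximalIdeal A)).symm.toLinearEquiv) ?_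
  intro x
  obtain ⟨a, rfl⟩ := Ideal.Quotient.mk_surjective x
  show (Algebra.TensorProduct.quotIdealMapEquivTensorQuot A' (maximalIdeal A)).symm
    ((1 : A') ⊗ₜ[A] (Ideal.Quotient.mk (maximalIdeal A) a)) = _
  rw [AlgEquiv.symm_apply_eq]
  show _ = Algebra.TensorProduct.quotIdealMapEquivTensorQuot A' (maximalIdeal A)
    (Ideal.Quotient.mk _ (algebraMap A A' a))
  rw [Algebra.TensorProduct.quotIdealMapEquivTensorQuot_mk, Algebra.algebraMap_eq_smul_one,
    TensorProduct.smul_tmul, ← Algebra.algebraMap_eq_smul_one]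
  rfl

/-- `C ≃ A' ⊗[A] L` as `A'`-algebras. -/
noncomputable def equivCL (q : MaximalSpectrum B) :
    CC A A' B q ≃ₐ[A'] A' ⊗[A] (B ⧸ q.asIdeal) := by
  have hsurj : Function.Surjective
      (Algebra.TensorProduct.map (AlgHom.id A' A') (Ideal.Quotient.mkₐ A q.asIdeal)) :=
    Algebra.TensorProduct.map_surjective _ _ Function.surjective_id
      (Ideal.Quotient.mkₐ_surjective A q.asIdeal)
  have hker : RingHom.ker
      (Algebra.TensorProduct.map (AlgHom.id A' A') (Ideal.Quotient.mkₐ A q.asIdeal)) =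
      q.asIdeal.map (inc A A' B) := by
    have h1 := Algebra.TensorProduct.lTensor_ker (A := A')
      (g := Ideal.Quotient.mkₐ A q.asIdeal) (Ideal.Quotient.mkₐ_surjective A q.asIdeal)
    have hk : RingHom.ker (Ideal.Quotient.mkₐ A q.asIdeal) = q.asIdeal := by
      ext x
      rw [RingHom.mem_ker]
      exact Ideal.Quotient.eq_zero_iff_mem
    rw [hk] at h1
    exact h1
  exact (Ideal.quotientEquivAlgOfEq A' hker.symm).trans
    (Ideal.quotientKerAlgEquivOfSurjective hsurj)

theorem equivCL_mk (q : MaximalSpectrum B) (a' : A') (b : B) :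
    equivCL A A' B q (Ideal.Quotient.mk _ (a' ⊗ₜ[A] b)) =
      a' ⊗ₜ[A] (Ideal.Quotient.mk q.asIdeal b) := rfl

/-- `C` is flat over `F`. -/
theorem flat_FC (q : MaximalSpectrum B) :
    letI := algFC A A' B q
    Module.Flat (FF A A') (CC A A' B q) := by
  letI := algFC A A' B q
  letI := algkF A A'
  letI := algkL A B q
  haveI t1 : IsScalarTower A (ResidueField A) (FF A A') :=
    IsScalarTower.of_algebraMap_eq (fun _ => rfl)
  haveI t2 : IsScalarTower A (ResidueField A) (B ⧸ q.asIdeal) :=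
    IsScalarTower.of_algebraMap_eq (fun _ => rfl)
  haveI t3 : IsScalarTower A' (FF A A') (CC A A' B q) :=
    IsScalarTower.of_algebraMap_eq (fun _ => rfl)
  haveI := isPushout_kF A A'
  let e1 : CC A A' B q ≃ₗ[A'] A' ⊗[A] (B ⧸ q.asIdeal) := (equivCL A A' B q).toLinearEquiv
  let e2 : FF A A' ⊗[ResidueField A] (B ⧸ q.asIdeal) ≃ₗ[A'] A' ⊗[A] (B ⧸ q.asIdeal) :=
    Algebra.IsPushout.cancelBaseChange A A' (ResidueField A) (FF A A') (B ⧸ q.asIdeal)
  let e : CC A A' B q ≃ₗ[A'] FF A A' ⊗[ResidueField A] (B ⧸ q.asIdeal) := e1 ≪≫ₗ e2.symm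
  let e' : CC A A' B q ≃ₗ[FF A A'] FF A A' ⊗[ResidueField A] (B ⧸ q.asIdeal) :=
    LinearEquiv.extendScalarsOfSurjective Ideal.Quotient.mk_surjective e
  exact Module.Flat.of_linearEquiv e'

end Flat

end Groth.Agent.H87.TameFlat
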