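import Groth.Agent.H87.TameFlatFlat

/-!
# The fibre length `lq q'` as a product (for S1850)
-/

set_option autoImplicit false
set_option linter.style.haveILetI false
set_option linter.unusedSectionVars false
universe u

namespace Groth.Agent.H87.TameFlat

open IsLocalRing TensorProduct

section Lq

variable (A A' B : Type u) [CommRing A] [CommRing A'] [CommRing B] [Algebra A A'] [Algebra A B]
  [IsLocalRing A] [IsLocalRing A'] [IsLocalHom (algebraMap A A')] [Module.Finite A B]

theorem map_maximalIdeal_lh (q' : MaximalSpectrum (A' ⊗[A] B)) :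
    (maximalIdeal (Localization.AtPrime (cm A A' B q').asIdeal)).map (lh A A' B q') =
      ((cm A A' B q').asIdeal.map (inc A A' B)).map
        (algebraMap (A' ⊗[A] B) (Localization.AtPrime q'.asIdeal)) := by
  haveI := (cm A A' B q').isMaximal
  rw [← Localization.AtPrime.map_eq_maximalIdeal, Ideal.map_map, Ideal.map_map]
  congr 1
  ext b
  exact lh_algebraMap A A' B q' b

/-- Generic: for a local ring `S`, an ideal `K ≠ ⊤`, `S ⧸ K` is local. -/
theorem isLocalRing_quot {S : Type u} [CommRing S] [IsLocalRing S] (K : Ideal S) (hK : K ≠ ⊤) :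
    IsLocalRing (S ⧸ K) := by
  haveI : Nontrivial (S ⧸ K) := Ideal.Quotient.nontrivial_iff.mpr hK
  exact IsLocalRing.of_surjective' (Ideal.Quotient.mk K) Ideal.Quotient.mk_surjective

/-- Generic length formula: for `A' → R'` local, `F = A' ⧸ K`, `T = R' ⧸ IR` flat over `F`:
`ℓ(R' ⧸ IR) = ℓ(A' ⧸ K) * ℓ(R' ⧸ (IR ⊔ 𝔪_{A'} R'))`. -/
theorem length_quot_eq_mul {A' R' : Type u} [CommRing A'] [CommRing R'] [IsLocalRing A']
    [IsLocalRing R'] [Algebra A' R'] [IsLocalHom (algebraMap A' R')] (K : Ideal A')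
    (IR : Ideal R') (hK : K ≤ IR.comap (algebraMap A' R')) (hIR : IR ≠ ⊤)
    (hflat : letI := Ideal.Quotient.algebraQuotientOfLEComap hK
      Module.Flat (A' ⧸ K) (R' ⧸ IR)) :
    Module.length R' (R' ⧸ IR) = Module.length A' (A' ⧸ K) *
      Module.length R' (R' ⧸ (IR ⊔ (maximalIdeal A').map (algebraMap A' R'))) := by
  letI algFT : Algebra (A' ⧸ K) (R' ⧸ IR) := Ideal.Quotient.algebraQuotientOfLEComap hK
  haveI : Module.Flat (A' ⧸ K) (R' ⧸ IR) := hflat
  have hK' : K ≠ ⊤ := by
    rintro rfl
    apply hIR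
    rw [Ideal.eq_top_iff_one]
    have := hK (Submodule.mem_top : (1 : A') ∈ ⊤)
    simpa using this
  haveI locF : IsLocalRing (A' ⧸ K) := isLocalRing_quot K hK'
  haveI locT : IsLocalRing (R' ⧸ IR) := isLocalRing_quot IR hIR
  haveI : IsLocalHom (Ideal.Quotient.mk IR) :=
    IsLocalHom.of_surjective _ Ideal.Quotient.mk_surjective
  haveI : IsLocalHom (algebraMap (A' ⧸ K) (R' ⧸ IR)) := by
    constructor
    intro x hx
    obtain ⟨a, rfl⟩ := Ideal.Quotient.mk_surjective x
    have h1 : algebraMap (A' ⧸ K) (R' ⧸ IR) (Ideal.Quotient.mk K a) =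
        Ideal.Quotient.mk IR (algebraMap A' R' a) := rfl
    rw [h1] at hx
    have h2 : IsUnit (algebraMap A' R' a) := isUnit_of_map_unit (Ideal.Quotient.mk IR) _ hx
    have h3 : IsUnit a := isUnit_of_map_unit (algebraMap A' R') _ h2
    exact h3.map _
  have h := IsLocalRing.length_baseChange (A' ⧸ K) (R' ⧸ IR) (A' ⧸ K)
  rw [(TensorProduct.AlgebraTensorModule.rid (A' ⧸ K) (R' ⧸ IR) (R' ⧸ IR)).length_eq] at h
  rw [Module.length_eq_of_surjective (S := R') (R := R' ⧸ IR) (M := R' ⧸ IR)
      Ideal.Quotient.mk_surjective,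
    Module.length_eq_of_surjective (S := A') (R := A' ⧸ K) (M := A' ⧸ K)
      Ideal.Quotient.mk_surjective, h]
  congr 1
  have hm : (maximalIdeal (A' ⧸ K)).map (algebraMap (A' ⧸ K) (R' ⧸ IR)) =
      ((maximalIdeal A').map (algebraMap A' R')).map (Ideal.Quotient.mkₐ R' IR) := by
    show _ = ((maximalIdeal A').map (algebraMap A' R')).map (Ideal.Quotient.mk IR)
    rw [← IsLocalRing.map_maximalIdeal_of_surjective (Ideal.Quotient.mk K)
      Ideal.Quotient.mk_surjective, Ideal.map_map, Ideal.map_map]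
    rfl
  rw [hm, ← Module.length_eq_of_surjective (S := R') (R := R' ⧸ IR)
    (M := (R' ⧸ IR) ⧸ ((maximalIdeal A').map (algebraMap A' R')).map (Ideal.Quotient.mkₐ R' IR))
    Ideal.Quotient.mk_surjective]
  exact (DoubleQuot.quotQuotEquivQuotSupₐ R' IR
    ((maximalIdeal A').map (algebraMap A' R'))).toLinearEquiv.length_eq

/-- (S4) The fibre length is `m` times the length of the fibre ring modulo `𝔪_{A'}`. -/
theorem lq_eq [Module.Flat A A']
    [hloc' : ∀ q' : MaximalSpectrum (A' ⊗[A] B),
      IsLocalHom (algebraMap A' (Localization.AtPrime q'.asIdeal))]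
    (q' : MaximalSpectrum (A' ⊗[A] B)) :
    lq A A' B q' = Module.length A' (A' ⧸ (maximalIdeal A).map (algebraMap A A')) *
      Module.length (Localization.AtPrime q'.asIdeal)
        (Localization.AtPrime q'.asIdeal ⧸
          (Jq A A' B (cm A A' B q')).map
            (algebraMap (A' ⊗[A] B) (Localization.AtPrime q'.asIdeal))) := by
  haveI := q'.isMaximal
  unfold lq
  rw [map_maximalIdeal_lh]
  have hJ : (Jq A A' B (cm A A' B q')).map
      (algebraMap (A' ⊗[A] B) (Localization.AtPrime q'.asIdeal)) =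
      ((cm A A' B q').asIdeal.map (inc A A' B)).map
          (algebraMap (A' ⊗[A] B) (Localization.AtPrime q'.asIdeal)) ⊔
        (maximalIdeal A').map (algebraMap A' (Localization.AtPrime q'.asIdeal)) := by
    unfold Jq
    rw [Ideal.map_sup]
    congr 1
    rw [Ideal.map_map, ← IsScalarTower.algebraMap_eq]
  rw [hJ]
  have hK : (maximalIdeal A).map (algebraMap A A') ≤
      (((cm A A' B q').asIdeal.map (inc A A' B)).map
        (algebraMap (A' ⊗[A] B) (Localization.AtPrime q'.asIdeal))).comap
        (algebraMap A' (Localization.AtPrime q'.asIdeal)) := by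
    intro x hx
    have h1 := map_le_comap_map_inc A A' B (cm A A' B q') hx
    rw [Ideal.mem_comap] at h1 ⊢
    rw [IsScalarTower.algebraMap_apply A' (A' ⊗[A] B) (Localization.AtPrime q'.asIdeal)]
    exact Ideal.mem_map_of_mem _ h1
  have hIR : ((cm A A' B q').asIdeal.map (inc A A' B)).map
      (algebraMap (A' ⊗[A] B) (Localization.AtPrime q'.asIdeal)) ≠ ⊤ := by
    have h1 : (cm A A' B q').asIdeal.map (inc A A' B) ≤ q'.asIdeal := Ideal.map_comap_le
    have h2 : ((cm A A' B q').asIdeal.map (inc A A' B)).map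
        (algebraMap (A' ⊗[A] B) (Localization.AtPrime q'.asIdeal)) ≤
        maximalIdeal (Localization.AtPrime q'.asIdeal) := by
      rw [← Localization.AtPrime.map_eq_maximalIdeal]
      exact Ideal.map_mono h1
    intro h
    rw [h] at h2
    exact (maximalIdeal.isMaximal (Localization.AtPrime q'.asIdeal)).ne_top (top_le_iff.mp h2)
  refine length_quot_eq_mul _ _ hK hIR ?_
  letI algFT : Algebra (FF A A') (Localization.AtPrime q'.asIdeal ⧸
      ((cm A A' B q').asIdeal.map (inc A A' B)).map
        (algebraMap (A' ⊗[A] B) (Localization.AtPrime q'.asIdeal))) :=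
    Ideal.Quotient.algebraQuotientOfLEComap hK
  show Module.Flat (FF A A') (Localization.AtPrime q'.asIdeal ⧸
      ((cm A A' B q').asIdeal.map (inc A A' B)).map
        (algebraMap (A' ⊗[A] B) (Localization.AtPrime q'.asIdeal)))
  letI algFC := algFC A A' B (cm A A' B q')
  haveI flatFC : Module.Flat (FF A A') (CC A A' B (cm A A' B q')) := flat_FC A A' B (cm A A' B q')
  haveI flatCT : Module.Flat (CC A A' B (cm A A' B q')) (Localization.AtPrime q'.asIdeal ⧸
      ((cm A A' B q').asIdeal.map (inc A A' B)).map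
        (algebraMap (A' ⊗[A] B) (Localization.AtPrime q'.asIdeal))) :=
    IsLocalization.flat (Localization.AtPrime q'.asIdeal ⧸
      ((cm A A' B q').asIdeal.map (inc A A' B)).map
        (algebraMap (A' ⊗[A] B) (Localization.AtPrime q'.asIdeal)))
      (Algebra.algebraMapSubmonoid (CC A A' B (cm A A' B q')) q'.asIdeal.primeCompl)
  haveI : IsScalarTower (FF A A') (CC A A' B (cm A A' B q')) (Localization.AtPrime q'.asIdeal ⧸
      ((cm A A' B q').asIdeal.map (inc A A' B)).map
        (algebraMap (A' ⊗[A] B) (Localization.AtPrime q'.asIdeal))) := by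
    apply IsScalarTower.of_algebraMap_eq
    intro x
    obtain ⟨a, rfl⟩ := Ideal.Quotient.mk_surjective x
    show Ideal.Quotient.mk _ (algebraMap A' (Localization.AtPrime q'.asIdeal) a) =
      Ideal.Quotient.mk _ (algebraMap (A' ⊗[A] B) (Localization.AtPrime q'.asIdeal)
        (algebraMap A' (A' ⊗[A] B) a))
    rw [← IsScalarTower.algebraMap_apply]
  exact Module.Flat.trans (FF A A') (CC A A' B (cm A A' B q')) _

end Lq

end Groth.Agent.H87.TameFlat
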