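import Groth.Agent.H87.TameFlatLq
import Groth.Agent.H75.NormQuotJq
import Groth.Agent.H26.NormQuot

/-!
# (T1) for S1850: the product of fibre norms
-/

set_option autoImplicit false
set_option linter.style.haveILetI false
set_option linter.unusedSectionVars false
universe u

namespace Groth.Agent.H87.TameFlat

open IsLocalRing TensorProduct

section T1

variable (A A' B : Type u) [CommRing A] [CommRing A'] [CommRing B] [Algebra A A'] [Algebra A B]
  [IsLocalRing A] [IsLocalRing A'] [IsLocalHom (algebraMap A A')] [Module.Finite A B]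

/-- (S3) Off the fibre the ideal `Jq q` becomes the unit ideal. -/
theorem Jq_map_eq_top (q : MaximalSpectrum B) (q' : MaximalSpectrum (A' ⊗[A] B))
    (h : cm A A' B q' ≠ q) :
    (Jq A A' B q).map (algebraMap (A' ⊗[A] B) (Localization.AtPrime q'.asIdeal)) = ⊤ := by
  haveI := q'.isMaximal
  obtain ⟨c, hcq, hc⟩ : ∃ c ∈ q.asIdeal, c ∉ (cm A A' B q').asIdeal := by
    by_contra hcon
    push_neg at hcon
    have hle : q.asIdeal ≤ (cm A A' B q').asIdeal := hcon
    have := q.isMaximal.eq_of_le (cm A A' B q').isMaximal.ne_top hle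
    exact h (MaximalSpectrum.ext this.symm)
  have hu : IsUnit (algebraMap (A' ⊗[A] B) (Localization.AtPrime q'.asIdeal) (inc A A' B c)) :=
    IsLocalization.map_units (Localization.AtPrime q'.asIdeal)
      (⟨inc A A' B c, hc⟩ : q'.asIdeal.primeCompl)
  apply Ideal.eq_top_of_isUnit_mem _ _ hu
  apply Ideal.mem_map_of_mem
  exact Ideal.mem_sup_left (Ideal.mem_map_of_mem _ hcq)

theorem length_Jq_eq_zero (q : MaximalSpectrum B) (q' : MaximalSpectrum (A' ⊗[A] B))
    (h : cm A A' B q' ≠ q) :
    Module.length (Localization.AtPrime q'.asIdeal)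
      (Localization.AtPrime q'.asIdeal ⧸
        (Jq A A' B q).map (algebraMap (A' ⊗[A] B) (Localization.AtPrime q'.asIdeal))) = 0 := by
  rw [Module.length_eq_zero_iff, Ideal.Quotient.subsingleton_iff]
  exact Jq_map_eq_top A A' B q q' h

/-- (T1) -/
theorem norm_fibre_prod [Module.Flat A A'] [IsNoetherianRing A] [IsNoetherianRing A']
    [hloc : ∀ q : MaximalSpectrum B, IsLocalHom (algebraMap A (Localization.AtPrime q.asIdeal))]
    [hloc' : ∀ q' : MaximalSpectrum (A' ⊗[A] B),
      IsLocalHom (algebraMap A' (Localization.AtPrime q'.asIdeal))]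
    (hk : ∃ k : ℕ, maximalIdeal A' ^ k ≤ (maximalIdeal A).map (algebraMap A A'))
    (q : MaximalSpectrum B) (b : B) (hb : b ∉ q.asIdeal) :
    ∏ᶠ q' : {q' : MaximalSpectrum (A' ⊗[A] B) // cm A A' B q' = q},
      (Algebra.norm (ResidueField A')
        (residue (Localization.AtPrime q'.1.asIdeal)
          (algebraMap (A' ⊗[A] B) (Localization.AtPrime q'.1.asIdeal) (inc A A' B b)))) ^
        (lq A A' B q'.1).toNat =
    ResidueField.map (algebraMap A A')
      (Algebra.norm (ResidueField A)
        (residue (Localization.AtPrime q.asIdeal)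
          (algebraMap B (Localization.AtPrime q.asIdeal) b))) ^
      (Module.length A' (A' ⧸ (maximalIdeal A).map (algebraMap A A'))).toNat := by
  classical
  haveI fin2 : Finite (MaximalSpectrum (A' ⊗[A] B)) :=
    Groth.Agent.H34.TameCL.finite_maximalSpectrum (A := A') (A' ⊗[A] B)
  letI := Fintype.ofFinite (MaximalSpectrum (A' ⊗[A] B))
  have hS2 := Groth.Agent.H75.NormQuotJq.norm_quot_Jq A A' B q b
  have hS1 := Groth.Agent.H26.NormQuot.norm_quot_eq_finprod (A' := A') (B' := A' ⊗[A] B)
    (Jq A A' B q) (le_Jq A A' B q) (inc A A' B b)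
  rw [← hS2, hS1, finprod_eq_prod_of_fintype, finprod_eq_prod_of_fintype, ← Finset.prod_pow]
  refine (Finset.prod_subtype (Finset.univ.filter fun q' => cm A A' B q' = q)
    (p := fun q' => cm A A' B q' = q) (by simp)
    (fun q' : MaximalSpectrum (A' ⊗[A] B) => (Algebra.norm (ResidueField A')
        (residue (Localization.AtPrime q'.asIdeal)
          (algebraMap (A' ⊗[A] B) (Localization.AtPrime q'.asIdeal) (inc A A' B b)))) ^
        (lq A A' B q').toNat)).symm.trans ?_
  rw [← Finset.prod_filter_of_ne (s := Finset.univ) (p := fun q' => cm A A' B q' = q)]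
  · refine Finset.prod_congr rfl fun q' hq' => ?_
    have hq'' : cm A A' B q' = q := (Finset.mem_filter.mp hq').2
    rw [lq_eq, hq'', ENat.toNat_mul, mul_comm, pow_mul]
  · intro q' _ hne
    by_contra hcon
    apply hne
    rw [length_Jq_eq_zero A A' B q q' hcon]
    simp

end T1

end Groth.Agent.H87.TameFlat
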