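import Groth.Agent.H87.TameFlatBC
import Groth.Agent.H87.TameFlatT1
import Groth.Agent.H34.TameLaws
import Groth.Agent.H34.TameRef

/-!
# Tame symbol under a flat local homomorphism (S1850): assembly
-/

set_option autoImplicit false
set_option linter.style.haveILetI false
set_option linter.unusedSectionVars false
universe u

namespace Groth.Agent.H87.TameFlat

open IsLocalRing TensorProduct CycAlg Groth.Agent.H34.TameLoc Groth.Agent.H34.TameCL
  Groth.Agent.H34.TameRep

section Main

variable {A : Type u} (A' : Type u) [CommRing A] [CommRing A'] [Algebra A A']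
  [IsLocalRing A] [IsLocalRing A'] [IsLocalHom (algebraMap A A')] [Module.Flat A A'] {a₁ a₂ : A}

/-- The local factor of the base-changed datum at `q'`. -/
theorem localFactor_bc (D : TameData A a₁ a₂)
    (hk : ∃ k : ℕ, maximalIdeal A' ^ k ≤ (maximalIdeal A).map (algebraMap A A'))
    [hloc' : ∀ q' : MaximalSpectrum (A' ⊗[A] D.B),
      IsLocalHom (algebraMap A' (Localization.AtPrime q'.asIdeal))]
    (q' : MaximalSpectrum (A' ⊗[A] D.B)) (b : D.B)
    (hb : residue (Localization.AtPrime (cm A A' D.B q').asIdeal)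
        (algebraMap D.B (Localization.AtPrime (cm A A' D.B q').asIdeal) b) =
      sym (Localization.AtPrime (cm A A' D.B q').asIdeal) (D.u₁ (cm A A' D.B q'))
        (D.u₂ (cm A A' D.B q')) (D.e₁ (cm A A' D.B q')) (D.e₂ (cm A A' D.B q'))) :
    (bc A' D hk).localFactor q' =
      ((Algebra.norm (ResidueField A')
        (residue (Localization.AtPrime q'.asIdeal)
          (algebraMap (A' ⊗[A] D.B) (Localization.AtPrime q'.asIdeal) (inc A A' D.B b)))) ^
        (lq A A' D.B q').toNat) ^
      (Ring.ord (Localization.AtPrime (cm A A' D.B q').asIdeal) (D.π (cm A A' D.B q'))).toNat := by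
  have h1 : (bc A' D hk).localFactor q' =
      lf (A := A') (Localization.AtPrime q'.asIdeal) (lh A A' D.B q' (D.π (cm A A' D.B q')))
        (Units.map (lh A A' D.B q' : _ →* _) (D.u₁ (cm A A' D.B q')))
        (Units.map (lh A A' D.B q' : _ →* _) (D.u₂ (cm A A' D.B q')))
        (D.e₁ (cm A A' D.B q')) (D.e₂ (cm A A' D.B q')) := rfl
  rw [h1]
  unfold lf
  have hsym : sym (Localization.AtPrime q'.asIdeal)
      (Units.map (lh A A' D.B q' : _ →* _) (D.u₁ (cm A A' D.B q')))
      (Units.map (lh A A' D.B q' : _ →* _) (D.u₂ (cm A A' D.B q')))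
      (D.e₁ (cm A A' D.B q')) (D.e₂ (cm A A' D.B q')) =
      residue (Localization.AtPrime q'.asIdeal)
        (algebraMap (A' ⊗[A] D.B) (Localization.AtPrime q'.asIdeal) (inc A A' D.B b)) := by
    rw [← lh_algebraMap, ← ResidueField.map_residue, hb]
    unfold sym
    rw [map_symK, ResidueField.map_residue, ResidueField.map_residue]
    rfl
  rw [hsym, ord_lh, ENat.toNat_mul, mul_comm, pow_mul]

variable [IsNoetherianRing A] [IsNoetherianRing A']

/-- The value of the base-changed datum. -/
theorem value_bc (D : TameData A a₁ a₂)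
    (hk : ∃ k : ℕ, maximalIdeal A' ^ k ≤ (maximalIdeal A).map (algebraMap A A')) :
    (bc A' D hk).value =
      ResidueField.map (algebraMap A A') D.value ^
        (Module.length A' (A' ⧸ (maximalIdeal A).map (algebraMap A A'))).toNat := by
  classical
  haveI hloc : ∀ q : MaximalSpectrum D.B,
      IsLocalHom (algebraMap A (Localization.AtPrime q.asIdeal)) := D.isLocalHom
  haveI hloc' : ∀ q' : MaximalSpectrum (A' ⊗[A] D.B),
      IsLocalHom (algebraMap A' (Localization.AtPrime q'.asIdeal)) :=
    fun q' => isLocalHom_of_finite q'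
  haveI fin1 : Finite (MaximalSpectrum D.B) := finite_maximalSpectrum (A := A) D.B
  haveI fin2 : Finite (MaximalSpectrum (A' ⊗[A] D.B)) :=
    finite_maximalSpectrum (A := A') (A' ⊗[A] D.B)
  letI := Fintype.ofFinite (MaximalSpectrum D.B)
  letI := Fintype.ofFinite (MaximalSpectrum (A' ⊗[A] D.B))
  have hv : (bc A' D hk).value =
      ∏ᶠ q' : MaximalSpectrum (A' ⊗[A] D.B), (bc A' D hk).localFactor q' := rfl
  rw [hv]
  unfold TameData.value
  rw [finprod_eq_prod_of_fintype, finprod_eq_prod_of_fintype, map_prod, ← Finset.prod_pow,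
    ← Fintype.prod_fiberwise (cm A A' D.B)]
  refine Finset.prod_congr rfl fun q _ => ?_
  -- choose a representative of the symbol at `q`
  obtain ⟨b, hb⟩ := Groth.Agent.H87.LenFinsum.residue_surjective q
    (sym (Localization.AtPrime q.asIdeal) (D.u₁ q) (D.u₂ q) (D.e₁ q) (D.e₂ q))
  have hb' : residue (Localization.AtPrime q.asIdeal)
      (algebraMap D.B (Localization.AtPrime q.asIdeal) b) =
      sym (Localization.AtPrime q.asIdeal) (D.u₁ q) (D.u₂ q) (D.e₁ q) (D.e₂ q) := hb
  have hbq : b ∉ q.asIdeal := by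
    intro hmem
    haveI := q.isMaximal
    have h0 : residue (Localization.AtPrime q.asIdeal)
        (algebraMap D.B (Localization.AtPrime q.asIdeal) b) = 0 := by
      rw [residue_eq_zero_iff]
      exact (IsLocalization.AtPrime.to_map_mem_maximal_iff _ q.asIdeal _).mpr hmem
    rw [hb'] at h0
    exact Groth.Agent.H34.TameLaws.symK_ne_zero _ _ (residue_unit_ne_zero _)
      (residue_unit_ne_zero _) _ _ h0
  have key : ∀ q' : {q' : MaximalSpectrum (A' ⊗[A] D.B) // cm A A' D.B q' = q},
      (bc A' D hk).localFactor q'.1 =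
        ((Algebra.norm (ResidueField A')
          (residue (Localization.AtPrime q'.1.asIdeal)
            (algebraMap (A' ⊗[A] D.B) (Localization.AtPrime q'.1.asIdeal) (inc A A' D.B b)))) ^
          (lq A A' D.B q'.1).toNat) ^
        (Ring.ord (Localization.AtPrime q.asIdeal) (D.π q)).toNat := by
    rintro ⟨q', rfl⟩
    exact localFactor_bc A' D hk q' b hb'
  rw [Finset.prod_congr rfl (fun q' _ => key q'), Finset.prod_pow,
    ← finprod_eq_prod_of_fintype,
    norm_fibre_prod A A' D.B hk q b hbq, hb', localFactor_eq]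
  unfold lf
  rw [map_pow, ← pow_mul, ← pow_mul, mul_comm]

end Main

end Groth.Agent.H87.TameFlat
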