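import Mathlib

/-!
(T3) for S1850: for a flat local homomorphism of one-dimensional Noetherian local rings, a power
of the maximal ideal of the target lies in the extension of the maximal ideal of the source.
-/

set_option autoImplicit false
universe u

namespace Groth.Agent.H87.TameFlatT3

open IsLocalRing

theorem exists_pow_le_map_of_dim_one (A A' : Type u) [CommRing A] [CommRing A']
    [IsNoetherianRing A] [IsNoetherianRing A'] [IsLocalRing A] [IsLocalRing A'] [Algebra A A']
    [IsLocalHom (algebraMap A A')] [Module.Flat A A'] (hA : ringKrullDim A = 1)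
    (hA' : ringKrullDim A' = 1) :
    ∃ k : ℕ, maximalIdeal A' ^ k ≤ (maximalIdeal A).map (algebraMap A A') := by
  apply Ideal.exists_pow_le_of_le_radical_of_fg _ (IsNoetherian.noetherian _)
  rw [Ideal.radical_eq_sInf]
  refine le_sInf ?_
  rintro P ⟨hP, hPprime⟩
  have := hPprime
  by_contra hne
  have hle : P ≤ maximalIdeal A' := le_maximalIdeal hPprime.ne_top
  have hlt : P < maximalIdeal A' := lt_of_le_of_ne hle (fun h => hne (h ▸ le_rfl))
  have hover : P.comap (algebraMap A A') = maximalIdeal A := by
    apply le_antisymm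
    · exact le_maximalIdeal (Ideal.comap_ne_top _ hPprime.ne_top)
    · exact Ideal.map_le_iff_le_comap.mp hP
  obtain ⟨p, hpmin, hpm⟩ := Ideal.exists_minimalPrimes_le (bot_le : ⊥ ≤ maximalIdeal A)
  have hpprime : p.IsPrime := hpmin.1.1
  have hpne : p ≠ maximalIdeal A := by
    intro h
    have h0 : (maximalIdeal A).height = 0 := Ideal.height_eq_zero_iff.mpr (h ▸ hpmin)
    have h2 := IsLocalRing.maximalIdeal_height_eq_ringKrullDim (R := A)
    rw [h0, hA] at h2
    exact absurd h2 (by decide)
  have hplt : p < maximalIdeal A := lt_of_le_of_ne hpm hpne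
  have hlo : P.LiesOver (maximalIdeal A) := ⟨hover.symm⟩
  obtain ⟨Q, hQP, hQprime, hQover⟩ :=
    Ideal.exists_ideal_lt_liesOver_of_lt (p := p) (q := maximalIdeal A) P hplt
  have h1 : Q.height < P.height := Ideal.height_strict_mono_of_isPrime_of_isPrime hQP
  have h2 : P.height < (maximalIdeal A').height :=
    Ideal.height_strict_mono_of_isPrime_of_isPrime hlt
  have h3 : ((maximalIdeal A').height : WithBot ℕ∞) ≤ 1 := by
    rw [← hA']
    exact Ideal.height_le_ringKrullDim_of_isPrime
  have h3' : (maximalIdeal A').height ≤ 1 := by exact_mod_cast h3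
  have h4 : P.height < 1 := lt_of_lt_of_le h2 h3'
  have h5 : P.height = 0 := Order.lt_one_iff.mp h4
  rw [h5] at h1
  exact absurd h1 (not_lt.mpr zero_le)

end Groth.Agent.H87.TameFlatT3
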