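import Mathlib.LinearAlgebra.FiniteDimensional.Defs
import Mathlib.Algebra.Group.Subgroup.Basic
import Mathlib.Algebra.Algebra.Operations
import Mathlib.Algebra.Group.Pointwise.Set.ListOfFn
import Mathlib.Tactic.Group
import Mathlib.Tactic.NoncommRing

set_option autoImplicit false
universe u v

namespace Groth.Agent.H87

open scoped Pointwise
open Submodule

variable {K : Type u} {V : Type v} [Field K] [AddCommGroup V] [Module K V]

/-- the coercion `GL(V) → End(V)` as a monoid hom -/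
def toEndHom : (V ≃ₗ[K] V) →* Module.End K V :=
  LinearEquiv.automorphismGroup.toLinearMapMonoidHom

@[simp] theorem toEndHom_apply (g : V ≃ₗ[K] V) :
    toEndHom g = ((g : V ≃ₗ[K] V) : Module.End K V) := rfl

/-- the set `{g - 1 | g ∈ H}` -/
def augSet (H : Subgroup (V ≃ₗ[K] V)) : Set (Module.End K V) :=
  (fun g => toEndHom g - 1) '' (H : Set (V ≃ₗ[K] V))

/-- the image of `H` in `End V` -/
def grpSet (H : Subgroup (V ≃ₗ[K] V)) : Set (Module.End K V) :=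
  toEndHom '' (H : Set (V ≃ₗ[K] V))

def augSpan (H : Subgroup (V ≃ₗ[K] V)) : Submodule K (Module.End K V) := span K (augSet H)

def grpSpan (H : Subgroup (V ≃ₗ[K] V)) : Submodule K (Module.End K V) := span K (grpSet H)

theorem grpSpan_mul_le (H : Subgroup (V ≃ₗ[K] V)) : grpSpan H * grpSpan H ≤ grpSpan H := by
  unfold grpSpan
  rw [span_mul_span]
  apply span_mono
  rintro _ ⟨_, ⟨g, hg, rfl⟩, _, ⟨g', hg', rfl⟩, rfl⟩
  exact ⟨g * g', H.mul_mem hg hg', by simp⟩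

theorem one_le_grpSpan (H : Subgroup (V ≃ₗ[K] V)) : 1 ≤ grpSpan H := by
  rw [Submodule.one_le]
  exact subset_span ⟨1, H.one_mem, map_one _⟩

theorem mem_grpSpan {H : Subgroup (V ≃ₗ[K] V)} {g : V ≃ₗ[K] V} (hg : g ∈ H) :
    toEndHom g ∈ grpSpan H := subset_span ⟨g, hg, rfl⟩

theorem sub_one_mem_grpSpan {H : Subgroup (V ≃ₗ[K] V)} {g : V ≃ₗ[K] V} (hg : g ∈ H) :
    toEndHom g - 1 ∈ grpSpan H :=
  Submodule.sub_mem _ (mem_grpSpan hg) (by
    have := mem_grpSpan (K := K) (V := V) H.one_mem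
    rwa [map_one] at this)

theorem augSpan_le_grpSpan (H : Subgroup (V ≃ₗ[K] V)) : augSpan H ≤ grpSpan H := by
  unfold augSpan
  rw [span_le]
  rintro _ ⟨g, hg, rfl⟩
  exact sub_one_mem_grpSpan hg

/-- the unipotency statement in terms of the augmentation span -/
theorem augSpan_pow_eq_bot_of {H : Subgroup (V ≃ₗ[K] V)} {n : ℕ}
    (h : ∀ f : Fin n → ↥H,
      (List.ofFn fun i => (((f i : ↥H) : V ≃ₗ[K] V) : Module.End K V) - 1).prod = 0) :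
    augSpan H ^ n = ⊥ := by
  unfold augSpan
  rw [span_pow, span_eq_bot]
  intro a ha
  obtain ⟨f, rfl⟩ := Set.mem_pow.1 ha
  choose g hg hfg using fun i => (f i).2
  have := h (fun i => ⟨g i, hg i⟩)
  rw [← this]
  congr 1
  apply congrArg
  funext i
  exact (hfg i).symm

theorem prod_eq_zero_of_augSpan_pow_eq_bot {H : Subgroup (V ≃ₗ[K] V)} {n : ℕ}
    (h : augSpan H ^ n = ⊥) (f : Fin n → ↥H) :
    (List.ofFn fun i => (((f i : ↥H) : V ≃ₗ[K] V) : Module.End K V) - 1).prod = 0 := by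
  have hmem : (List.ofFn fun i => (((f i : ↥H) : V ≃ₗ[K] V) : Module.End K V) - 1).prod ∈
      augSpan H ^ n := by
    unfold augSpan
    rw [span_pow]
    apply subset_span
    rw [Set.mem_pow]
    exact ⟨fun i => ⟨toEndHom (f i : V ≃ₗ[K] V) - 1, ⟨(f i : V ≃ₗ[K] V), (f i).2, rfl⟩⟩, rfl⟩
  rw [h] at hmem
  exact (Submodule.mem_bot K).1 hmem

section main

variable (H₁ H₂ : Subgroup (V ≃ₗ[K] V)) (hnorm : ∀ g ∈ H₂, ∀ h ∈ H₁, g * h * g⁻¹ ∈ H₁)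

include hnorm

theorem sup_normalizes : ∀ g ∈ H₁ ⊔ H₂, ∀ h ∈ H₁, g * h * g⁻¹ ∈ H₁ := by
  have h2 : H₂ ≤ Subgroup.normalizer (H₁ : Set (V ≃ₗ[K] V)) := Subgroup.le_normalizer_iff.2 hnorm
  have h1 : H₁ ≤ Subgroup.normalizer (H₁ : Set (V ≃ₗ[K] V)) := Subgroup.le_normalizer
  exact Subgroup.le_normalizer_iff.1 (sup_le h1 h2)

/-- `N₁ * P ≤ P * N₁` -/
theorem augSpan_mul_grpSpan_le :
    augSpan H₁ * grpSpan (H₁ ⊔ H₂) ≤ grpSpan (H₁ ⊔ H₂) * augSpan H₁ := by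
  unfold augSpan grpSpan
  rw [span_mul_span, span_mul_span]
  apply span_mono
  rintro _ ⟨_, ⟨h, hh, rfl⟩, _, ⟨g, hg, rfl⟩, rfl⟩
  refine ⟨toEndHom g, ⟨g, hg, rfl⟩, toEndHom (g⁻¹ * h * g) - 1, ⟨g⁻¹ * h * g, ?_, rfl⟩, ?_⟩
  · have := sup_normalizes H₁ H₂ hnorm g⁻¹ (inv_mem hg) h hh
    simpa using this
  · simp only
    have e : toEndHom g * toEndHom (g⁻¹ * h * g) = toEndHom h * toEndHom g := by
      rw [← map_mul, ← map_mul]; congr 1; group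
    rw [mul_sub, sub_mul, e, mul_one, one_mul]

theorem augSpan_pow_mul_grpSpan_le (k : ℕ) :
    augSpan H₁ ^ k * grpSpan (H₁ ⊔ H₂) ≤ grpSpan (H₁ ⊔ H₂) * augSpan H₁ ^ k := by
  induction k with
  | zero => simp
  | succ k ih =>
    calc augSpan H₁ ^ (k + 1) * grpSpan (H₁ ⊔ H₂)
        = augSpan H₁ ^ k * (augSpan H₁ * grpSpan (H₁ ⊔ H₂)) := by rw [pow_succ, mul_assoc]
      _ ≤ augSpan H₁ ^ k * (grpSpan (H₁ ⊔ H₂) * augSpan H₁) :=
          mul_le_mul_right (augSpan_mul_grpSpan_le H₁ H₂ hnorm) _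
      _ = (augSpan H₁ ^ k * grpSpan (H₁ ⊔ H₂)) * augSpan H₁ := by rw [mul_assoc]
      _ ≤ (grpSpan (H₁ ⊔ H₂) * augSpan H₁ ^ k) * augSpan H₁ := mul_le_mul_left ih _
      _ = grpSpan (H₁ ⊔ H₂) * augSpan H₁ ^ (k + 1) := by rw [mul_assoc, ← pow_succ]

/-- the ideal `J = P * N₁` -/
def idealJ : Submodule K (Module.End K V) := grpSpan (H₁ ⊔ H₂) * augSpan H₁

omit hnorm in
theorem grpSpan_mul_idealJ_le : grpSpan (H₁ ⊔ H₂) * idealJ H₁ H₂ ≤ idealJ H₁ H₂ := by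
  unfold idealJ
  rw [← mul_assoc]
  exact mul_le_mul_left (grpSpan_mul_le _) _

theorem idealJ_mul_grpSpan_le : idealJ H₁ H₂ * grpSpan (H₁ ⊔ H₂) ≤ idealJ H₁ H₂ := by
  unfold idealJ
  calc grpSpan (H₁ ⊔ H₂) * augSpan H₁ * grpSpan (H₁ ⊔ H₂)
      = grpSpan (H₁ ⊔ H₂) * (augSpan H₁ * grpSpan (H₁ ⊔ H₂)) := mul_assoc _ _ _
    _ ≤ grpSpan (H₁ ⊔ H₂) * (grpSpan (H₁ ⊔ H₂) * augSpan H₁) :=
        mul_le_mul_right (augSpan_mul_grpSpan_le H₁ H₂ hnorm) _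
    _ = (grpSpan (H₁ ⊔ H₂) * grpSpan (H₁ ⊔ H₂)) * augSpan H₁ := (mul_assoc _ _ _).symm
    _ ≤ grpSpan (H₁ ⊔ H₂) * augSpan H₁ := mul_le_mul_left (grpSpan_mul_le _) _

theorem idealJ_pow_le (k : ℕ) : idealJ H₁ H₂ ^ k ≤ grpSpan (H₁ ⊔ H₂) * augSpan H₁ ^ k := by
  induction k with
  | zero => simpa using one_le_grpSpan (H₁ ⊔ H₂)
  | succ k ih =>
    calc idealJ H₁ H₂ ^ (k + 1) = idealJ H₁ H₂ ^ k * idealJ H₁ H₂ := pow_succ _ _
      _ ≤ (grpSpan (H₁ ⊔ H₂) * augSpan H₁ ^ k) * (grpSpan (H₁ ⊔ H₂) * augSpan H₁) :=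
          mul_le_mul' ih le_rfl
      _ = grpSpan (H₁ ⊔ H₂) * ((augSpan H₁ ^ k * grpSpan (H₁ ⊔ H₂)) * augSpan H₁) := by
          simp only [mul_assoc]
      _ ≤ grpSpan (H₁ ⊔ H₂) * ((grpSpan (H₁ ⊔ H₂) * augSpan H₁ ^ k) * augSpan H₁) :=
          mul_le_mul_right (mul_le_mul_left (augSpan_pow_mul_grpSpan_le H₁ H₂ hnorm k) _) _
      _ = (grpSpan (H₁ ⊔ H₂) * grpSpan (H₁ ⊔ H₂)) * augSpan H₁ ^ (k + 1) := by
          simp only [mul_assoc, pow_succ]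
      _ ≤ grpSpan (H₁ ⊔ H₂) * augSpan H₁ ^ (k + 1) := mul_le_mul_left (grpSpan_mul_le _) _

/-- every `g ∈ H₁ ⊔ H₂` is congruent mod `J` to some element of `H₂` -/
theorem exists_sub_mem_idealJ {g : V ≃ₗ[K] V} (hg : g ∈ H₁ ⊔ H₂) :
    ∃ h₂ ∈ H₂, toEndHom g - toEndHom h₂ ∈ idealJ H₁ H₂ := by
  have hJP := idealJ_mul_grpSpan_le H₁ H₂ hnorm
  have hPJ := grpSpan_mul_idealJ_le (K := K) H₁ H₂
  rw [Subgroup.sup_eq_closure] at hg
  induction hg using Subgroup.closure_induction with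
  | mem g hg =>
    rcases hg with hg | hg
    · refine ⟨1, H₂.one_mem, ?_⟩
      rw [map_one]
      have : toEndHom g - 1 = 1 * (toEndHom g - 1) := (one_mul _).symm
      rw [this]
      exact Submodule.mul_mem_mul (one_le_grpSpan (H₁ ⊔ H₂) (Submodule.one_le.1 le_rfl))
        (subset_span ⟨g, hg, rfl⟩)
    · exact ⟨g, hg, by simp⟩
  | one => exact ⟨1, H₂.one_mem, by simp⟩
  | mul g g' hg hg' ih ih' =>
    obtain ⟨h, hh, hgh⟩ := ih
    obtain ⟨h', hh', hgh'⟩ := ih'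
    refine ⟨h * h', H₂.mul_mem hh hh', ?_⟩
    have hg'mem : g' ∈ H₁ ⊔ H₂ := by rw [Subgroup.sup_eq_closure]; exact hg'
    have : toEndHom (g * g') - toEndHom (h * h') =
        (toEndHom g - toEndHom h) * toEndHom g' + toEndHom h * (toEndHom g' - toEndHom h') := by
      rw [map_mul, map_mul]; noncomm_ring
    rw [this]
    refine Submodule.add_mem _ (hJP (Submodule.mul_mem_mul hgh (mem_grpSpan hg'mem)))
      (hPJ (Submodule.mul_mem_mul (mem_grpSpan (le_sup_right (a := H₁) hh)) hgh'))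
  | inv g hg ih =>
    obtain ⟨h, hh, hgh⟩ := ih
    refine ⟨h⁻¹, H₂.inv_mem hh, ?_⟩
    have hgmem : g ∈ H₁ ⊔ H₂ := by rw [Subgroup.sup_eq_closure]; exact hg
    have : toEndHom g⁻¹ - toEndHom h⁻¹ =
        -(toEndHom g⁻¹ * ((toEndHom g - toEndHom h) * toEndHom h⁻¹)) := by
      have e1 : toEndHom g⁻¹ * toEndHom g = 1 := by rw [← map_mul, inv_mul_cancel, map_one]
      have e2 : toEndHom h * toEndHom h⁻¹ = 1 := by rw [← map_mul, mul_inv_cancel, map_one]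
      have e3 : toEndHom g⁻¹ * ((toEndHom g - toEndHom h) * toEndHom h⁻¹) =
          toEndHom h⁻¹ - toEndHom g⁻¹ := by
        rw [sub_mul, mul_sub, ← mul_assoc, e1, one_mul, e2, mul_one]
      rw [e3]; abel
    rw [this]
    refine Submodule.neg_mem _ (hPJ (Submodule.mul_mem_mul (mem_grpSpan (inv_mem hgmem))
      (hJP (Submodule.mul_mem_mul hgh (mem_grpSpan (le_sup_right (a := H₁) (inv_mem hh)))))))

/-- products of `k` factors `(g - 1)` agree mod `J` with the corresponding products in `H₂` -/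
theorem prod_sub_prod_mem_idealJ (k : ℕ) (g h : Fin k → (V ≃ₗ[K] V))
    (hg : ∀ i, g i ∈ H₁ ⊔ H₂) (hh : ∀ i, h i ∈ H₂)
    (hgh : ∀ i, toEndHom (g i) - toEndHom (h i) ∈ idealJ H₁ H₂) :
    (List.ofFn fun i => toEndHom (g i) - 1).prod - (List.ofFn fun i => toEndHom (h i) - 1).prod ∈
      idealJ H₁ H₂ ∧ (List.ofFn fun i => toEndHom (h i) - 1).prod ∈ grpSpan (H₁ ⊔ H₂) := by
  have hJP := idealJ_mul_grpSpan_le H₁ H₂ hnorm
  have hPJ := grpSpan_mul_idealJ_le (K := K) H₁ H₂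
  induction k with
  | zero =>
    simp only [List.ofFn_zero, List.prod_nil, sub_self]
    exact ⟨Submodule.zero_mem _, one_le_grpSpan (H₁ ⊔ H₂) (Submodule.one_le.1 le_rfl)⟩
  | succ k ih =>
    obtain ⟨ih1, ih2⟩ := ih (fun i => g i.succ) (fun i => h i.succ) (fun i => hg _) (fun i => hh _)
      (fun i => hgh _)
    simp only [List.ofFn_succ, List.prod_cons]
    set a := toEndHom (g 0) - 1
    set b := toEndHom (h 0) - 1
    set x := (List.ofFn fun i : Fin k => toEndHom (g i.succ) - 1).prod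
    set y := (List.ofFn fun i : Fin k => toEndHom (h i.succ) - 1).prod
    have hb : b ∈ grpSpan (H₁ ⊔ H₂) := sub_one_mem_grpSpan (le_sup_right (a := H₁) (hh 0))
    have ha : a ∈ grpSpan (H₁ ⊔ H₂) := sub_one_mem_grpSpan (hg 0)
    refine ⟨?_, grpSpan_mul_le _ (Submodule.mul_mem_mul hb ih2)⟩
    have hab : a - b ∈ idealJ H₁ H₂ := by
      have : a - b = toEndHom (g 0) - toEndHom (h 0) := by simp only [a, b]; abel
      rw [this]; exact hgh 0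
    have : a * x - b * y = a * (x - y) + (a - b) * y := by noncomm_ring
    rw [this]
    exact Submodule.add_mem _ (hPJ (Submodule.mul_mem_mul ha ih1))
      (hJP (Submodule.mul_mem_mul hab ih2))

theorem augSpan_sup_pow_le {n₂ : ℕ}
    (h₂ : ∀ f : Fin n₂ → ↥H₂,
      (List.ofFn fun i => (((f i : ↥H₂) : V ≃ₗ[K] V) : Module.End K V) - 1).prod = 0) :
    augSpan (H₁ ⊔ H₂) ^ n₂ ≤ idealJ H₁ H₂ := by
  unfold augSpan
  rw [span_pow, span_le]
  intro a ha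
  obtain ⟨f, rfl⟩ := Set.mem_pow.1 ha
  choose g hg hfg using fun i => (f i).2
  choose h hh hgh using fun i => exists_sub_mem_idealJ H₁ H₂ hnorm (hg i)
  obtain ⟨h1, -⟩ := prod_sub_prod_mem_idealJ H₁ H₂ hnorm n₂ g h hg hh hgh
  have h0 : (List.ofFn fun i => toEndHom (h i) - 1).prod = 0 := h₂ (fun i => ⟨h i, hh i⟩)
  rw [h0, sub_zero] at h1
  have : (List.ofFn fun i => ((f i : Module.End K V))) = List.ofFn fun i => toEndHom (g i) - 1 := by
    apply congrArg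
    funext i
    exact (hfg i).symm
  rw [SetLike.mem_coe, this]
  exact h1

theorem augSpan_sup_pow_eq_bot {n₁ n₂ : ℕ} (h₁ : augSpan H₁ ^ n₁ = ⊥)
    (h₂ : ∀ f : Fin n₂ → ↥H₂,
      (List.ofFn fun i => (((f i : ↥H₂) : V ≃ₗ[K] V) : Module.End K V) - 1).prod = 0) :
    augSpan (H₁ ⊔ H₂) ^ (n₂ * n₁) = ⊥ := by
  rw [eq_bot_iff, pow_mul]
  calc (augSpan (H₁ ⊔ H₂) ^ n₂) ^ n₁ ≤ idealJ H₁ H₂ ^ n₁ :=
        pow_le_pow_left' (augSpan_sup_pow_le H₁ H₂ hnorm h₂) n₁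
    _ ≤ grpSpan (H₁ ⊔ H₂) * augSpan H₁ ^ n₁ := idealJ_pow_le H₁ H₂ hnorm n₁
    _ = ⊥ := by rw [h₁, Submodule.mul_bot]

end main

end Groth.Agent.H87
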