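import Mathlib
import Groth.Agent.H87.WAssBasic

/-!
# Weakly associated primes and base field extension: coordinates, finite and "domain-fibre" cases
(helper87, for S9592 = Stacks 10.66.19)
-/

set_option autoImplicit false
set_option linter.style.haveILetI false
universe u v w

open Submodule TensorProduct

namespace Groth.Agent.H87.WAss

/-- If `RK` is free over `R`, the weakly associated primes over `R` of a base change `MK` of `M`
are weakly associated to `M` (`MK` is a direct sum of copies of `M`). -/
theorem weakAss_restrictScalars_subset {R : Type u} [CommRing R] {RK : Type u} [CommRing RK]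
    [Algebra R RK] [Module.Free R RK] {M MK : Type u} [AddCommGroup M] [Module R M]
    [AddCommGroup MK] [Module RK MK] [Module R MK] [IsScalarTower R RK MK] (f : M →ₗ[R] MK)
    (hf : IsBaseChange RK f) : FlatCA.weakAss R MK ⊆ FlatCA.weakAss R M := by
  classical
  let eB := Module.Free.chooseBasis R RK
  let Ψ : MK ≃ₗ[R] (Module.Free.ChooseBasisIndex R RK →₀ M) :=
    (hf.equiv.symm.restrictScalars R) ≪≫ₗ TensorProduct.equivFinsuppOfBasisLeft eB
  rw [Groth.Agent.H9.WeakAss.weakAss_congr Ψ]
  exact weakAss_finsupp_subset M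

/-- Key non-zero-divisor statement: if `RK ⊗ κ(p)` is a domain and `g ∈ RK` has a coordinate outside
`p`, then `g • y = 0` in `RK ⊗ M` forces `s • y = 0` for some `s ∉ p`. -/
theorem exists_smul_eq_zero_of_smul_eq_zero {R : Type u} [CommRing R] {RK : Type u} [CommRing RK]
    [Algebra R RK] {ι : Type u} (eB : Module.Basis ι R RK) (M : Type u) [AddCommGroup M]
    [Module R M] (p : Ideal R) [p.IsPrime] [IsDomain (RK ⊗[R] p.ResidueField)] (g : RK) (j : ι)
    (hg : eB.repr g j ∉ p) (y : RK ⊗[R] M) (hy : g • y = 0) : ∃ s ∉ p, s • y = 0 := by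
  classical
  by_contra hcon
  push Not at hcon
  haveI : Module.Free R RK := Module.Free.of_basis eB
  set c := TensorProduct.equivFinsuppOfBasisLeft eB y with hc
  have hyc : y = ∑ i ∈ c.support, eB i ⊗ₜ[R] c i := by
    have := (TensorProduct.equivFinsuppOfBasisLeft eB).symm_apply_apply y
    rw [← hc, TensorProduct.equivFinsuppOfBasisLeft_symm_apply] at this
    exact this.symm
  let M' : Submodule R M := span R (Set.range c)
  have hcM' : ∀ i, c i ∈ M' := fun i => subset_span (Set.mem_range_self i)
  haveI : Module.Finite R M' := Module.Finite.span_of_finite R c.finite_range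
  have hsupp : (⟨p, inferInstance⟩ : PrimeSpectrum R) ∈ Module.support R M' := by
    rw [Module.mem_support_iff_of_finite]
    intro s hs
    by_contra hsp
    apply hcon s hsp
    rw [hyc, Finset.smul_sum]
    apply Finset.sum_eq_zero
    intro i _
    have h1 : s • (⟨c i, hcM' i⟩ : M') = 0 := Module.mem_annihilator.mp hs _
    have h2 : s • c i = 0 := congrArg Subtype.val h1
    rw [← TensorProduct.tmul_smul, h2, TensorProduct.tmul_zero]
  rw [Module.mem_support_iff_nontrivial_residueField_tensorProduct] at hsupp
  change Nontrivial (p.ResidueField ⊗[R] M') at hsupp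
  obtain ⟨v, hv⟩ := exists_ne (0 : p.ResidueField ⊗[R] M')
  obtain ⟨φ, hφ⟩ := Module.Projective.exists_dual_ne_zero p.ResidueField hv
  let ψ : M' →ₗ[R] p.ResidueField :=
    (φ.restrictScalars R).comp (TensorProduct.mk R p.ResidueField M' 1)
  have hψφ : ∀ m : M', φ ((1 : p.ResidueField) ⊗ₜ[R] m) = ψ m := fun m => rfl
  have hex : ∃ i, ψ ⟨c i, hcM' i⟩ ≠ 0 := by
    by_contra hall
    push Not at hall
    have hψ : ∀ (x : M) (hx : x ∈ M'), ψ ⟨x, hx⟩ = 0 := by
      intro x hx
      induction hx using Submodule.span_induction with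
      | mem x h => obtain ⟨i, rfl⟩ := h; exact hall i
      | zero => exact map_zero ψ
      | add x y hx hy hx' hy' =>
        exact (map_add ψ ⟨x, hx⟩ ⟨y, hy⟩).trans (by rw [hx', hy', add_zero])
      | smul a x hx hx' => exact (map_smul ψ a ⟨x, hx⟩).trans (by rw [hx', smul_zero])
    have hφ0 : ∀ v, φ v = 0 := by
      intro v
      induction v using TensorProduct.induction_on with
      | zero => exact map_zero φ
      | tmul a m =>
        have h1 : a ⊗ₜ[R] m = a • ((1 : p.ResidueField) ⊗ₜ[R] m) := by
          rw [TensorProduct.smul_tmul', smul_eq_mul, mul_one]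
        rw [h1, map_smul, hψφ, hψ m.1 m.2, smul_zero]
      | add x y hx hy => rw [map_add, hx, hy, add_zero]
    exact hφ (hφ0 v)
  obtain ⟨i₀, hi₀⟩ := hex
  let y'' : RK ⊗[R] M' := ∑ i ∈ c.support, eB i ⊗ₜ[R] (⟨c i, hcM' i⟩ : M')
  have hy'' : (M'.subtype.baseChange RK) y'' = y := by
    rw [hyc, map_sum]
    apply Finset.sum_congr rfl
    intro i _
    rw [LinearMap.baseChange_tmul]
    rfl
  have hinj : Function.Injective (M'.subtype.baseChange RK) := by
    rw [LinearMap.baseChange_eq_ltensor]
    exact Module.Flat.lTensor_preserves_injective_linearMap _ (Submodule.subtype_injective _)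
  have hgy'' : g • y'' = 0 := by
    apply hinj
    rw [map_smul, hy'', hy, map_zero]
  set d := (ψ.baseChange RK) y'' with hd
  have hgd : g • d = 0 := by rw [hd, ← map_smul, hgy'', map_zero]
  have hd_ne : d ≠ 0 := by
    intro h0
    apply hi₀
    have h1 : (TensorProduct.equivFinsuppOfBasisLeft eB d) i₀ = 0 := by
      rw [h0, map_zero, Finsupp.zero_apply]
    rw [hd, map_sum, map_sum, Finsupp.finsetSum_apply, Finset.sum_eq_single i₀] at h1
    · rw [LinearMap.baseChange_tmul, TensorProduct.equivFinsuppOfBasisLeft_apply_tmul_apply,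
        Module.Basis.repr_self, Finsupp.single_eq_same, one_smul] at h1
      exact h1
    · intro i _ hne
      rw [LinearMap.baseChange_tmul, TensorProduct.equivFinsuppOfBasisLeft_apply_tmul_apply,
        Module.Basis.repr_self, Finsupp.single_eq_of_ne hne.symm, zero_smul]
    · intro hi
      exfalso
      apply hi₀
      have h2 : c i₀ = 0 := Finsupp.notMem_support_iff.mp hi
      have h3 : (⟨c i₀, hcM' i₀⟩ : M') = 0 := Subtype.ext h2
      rw [h3, map_zero]
  have hg_ne : (g ⊗ₜ[R] (1 : p.ResidueField)) ≠ 0 := by
    intro h0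
    have h1 : (TensorProduct.equivFinsuppOfBasisLeft eB (g ⊗ₜ[R] (1 : p.ResidueField))) j = 0 := by
      rw [h0, map_zero, Finsupp.zero_apply]
    rw [TensorProduct.equivFinsuppOfBasisLeft_apply_tmul_apply, ← Algebra.algebraMap_eq_smul_one,
      Ideal.algebraMap_residueField_eq_zero] at h1
    exact hg h1
  rw [Algebra.smul_def, Algebra.TensorProduct.algebraMap_apply, Algebra.algebraMap_self,
    RingHom.id_apply] at hgd
  rcases mul_eq_zero.mp hgd with h | h
  · exact hg_ne h
  · exact hd_ne h

section Field

variable {k K R : Type u} [Field k] [Field K] [Algebra k K] [CommRing R] [Algebra k R]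
  (RK : Type u) [CommRing RK] [Algebra k RK] [Algebra K RK] [Algebra R RK] [IsScalarTower k K RK]
  [IsScalarTower k R RK] [Algebra.IsPushout k K R RK]
  (M : Type u) [AddCommGroup M] [Module R M] (MK : Type u) [AddCommGroup MK] [Module RK MK]
  [Module R MK] [IsScalarTower R RK MK] (f : M →ₗ[R] MK) (hf : IsBaseChange RK f)

include hf

/-- Case where all `K ⊗[k] κ` are domains (e.g. `K/k` purely transcendental). -/
theorem comap_mem_weakAss_of_isDomain
    (hdom : ∀ (κ : Type u) [Field κ] [Algebra k κ], IsDomain (K ⊗[k] κ))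
    (q : Ideal RK) [q.IsPrime] (hq : q ∈ FlatCA.weakAss RK MK) :
    q.comap (algebraMap R RK) ∈ FlatCA.weakAss R M := by
  classical
  obtain ⟨z, hz⟩ := hq
  set p := q.comap (algebraMap R RK) with hp
  haveI : p.IsPrime := Ideal.comap_isPrime _ _
  have hsymm : Algebra.IsPushout k R K RK := Algebra.IsPushout.symm inferInstance
  let b := Module.Free.chooseBasis k K
  let eB : Module.Basis _ R RK := hsymm.out.basis b
  haveI : Module.Free R RK := Module.Free.of_basis eB
  haveI : IsDomain (RK ⊗[R] p.ResidueField) := by
    haveI := hdom p.ResidueField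
    exact (Algebra.IsPushout.cancelBaseChangeAlg k K R RK
      p.ResidueField).toRingEquiv.toMulEquiv.isDomain _
  apply weakAss_restrictScalars_subset f hf
  refine ⟨z, mem_minimalPrimes_of_forall ?_ ?_⟩
  · rw [ann_eq_comap (A := RK)]
    exact Ideal.comap_mono hz.1.2
  · intro a ha
    have haq : algebraMap R RK a ∈ q := ha
    obtain ⟨w, hwq, n, hwn⟩ := Groth.Agent.H48.exists_mul_pow_mem_of_mem_minimalPrimes hz haq
    -- some coordinate of `w` is outside `p`
    obtain ⟨j, hj⟩ : ∃ j, eB.repr w j ∉ p := by
      by_contra hall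
      push Not at hall
      apply hwq
      rw [← eB.linearCombination_repr w, Finsupp.linearCombination_apply]
      apply Ideal.sum_mem
      intro i _
      change eB.repr w i • eB i ∈ q
      rw [Algebra.smul_def]
      exact Ideal.mul_mem_right _ _ (hall i)
    -- apply the key statement to `hf.equiv.symm (a ^ n • z)`
    have hkey : w • (hf.equiv.symm (a ^ n • z)) = 0 := by
      rw [← map_smul, ← algebraMap_smul RK (a ^ n) z, smul_smul, map_pow]
      rw [mem_annihilator_span_singleton] at hwn
      rw [hwn, map_zero]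
    obtain ⟨s, hsp, hs⟩ := exists_smul_eq_zero_of_smul_eq_zero eB M p w j hj _ hkey
    refine ⟨s, hsp, n, ?_⟩
    rw [mem_annihilator_span_singleton, ← smul_smul]
    have h1 : hf.equiv.symm (s • a ^ n • z) = 0 := by
      rw [← algebraMap_smul RK s (a ^ n • z), map_smul, algebraMap_smul, hs]
    exact hf.equiv.symm.map_eq_zero_iff.mp h1

/-- Finite field extensions. -/
theorem comap_mem_weakAss_of_finiteDimensional [FiniteDimensional k K]
    (q : Ideal RK) [q.IsPrime] (hq : q ∈ FlatCA.weakAss RK MK) :
    q.comap (algebraMap R RK) ∈ FlatCA.weakAss R M := by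
  classical
  have hsymm : Algebra.IsPushout k R K RK := Algebra.IsPushout.symm inferInstance
  let b := Module.Free.chooseBasis k K
  let eB : Module.Basis _ R RK := hsymm.out.basis b
  haveI : Module.Free R RK := Module.Free.of_basis eB
  haveI : Module.Finite R RK := Module.Finite.of_basis eB
  apply weakAss_restrictScalars_subset f hf
  exact comap_mem_weakAss_of_finite q hq

end Field

end Groth.Agent.H87.WAss
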