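import Mathlib
import Groth.Agent.H87.WAssCoord
import Groth.Agent.H25.TensorFieldsAss

/-!
# Weakly associated primes and base field extension: towers, algebraic extensions, general case
(helper87, for S9592 = Stacks 10.66.19)
-/

set_option autoImplicit false
set_option linter.style.haveILetI false
universe u

open Submodule TensorProduct

namespace Groth.Agent.H87.WAss

/-- The statement of Stacks 10.66.19 for the field extension `K/k`. -/
def PropWA (k K : Type u) [Field k] [Field K] [Algebra k K] : Prop :=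
  ∀ (R : Type u) [CommRing R] [Algebra k R] (RK : Type u) [CommRing RK] [Algebra k RK]
    [Algebra K RK] [Algebra R RK] [IsScalarTower k K RK] [IsScalarTower k R RK]
    [Algebra.IsPushout k K R RK] (M : Type u) [AddCommGroup M] [Module R M] (MK : Type u)
    [AddCommGroup MK] [Module RK MK] [Module R MK] [IsScalarTower R RK MK] (f : M →ₗ[R] MK)
    (_ : IsBaseChange RK f) (q : Ideal RK) [q.IsPrime] (_ : q ∈ FlatCA.weakAss RK MK),
    q.comap (algebraMap R RK) ∈ FlatCA.weakAss R M

theorem propWA_of_isDomain {k K : Type u} [Field k] [Field K] [Algebra k K]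
    (hdom : ∀ (κ : Type u) [Field κ] [Algebra k κ], IsDomain (K ⊗[k] κ)) : PropWA k K := by
  intro R _ _ RK _ _ _ _ _ _ _ M _ _ MK _ _ _ _ f hf q _ hq
  exact comap_mem_weakAss_of_isDomain (k := k) (K := K) RK M MK f hf hdom q hq

theorem propWA_of_finiteDimensional {k K : Type u} [Field k] [Field K] [Algebra k K]
    [FiniteDimensional k K] : PropWA k K := by
  intro R _ _ RK _ _ _ _ _ _ _ M _ _ MK _ _ _ _ f hf q _ hq
  exact comap_mem_weakAss_of_finiteDimensional (k := k) (K := K) RK M MK f hf q hq

section Tower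

attribute [local instance] Algebra.TensorProduct.rightAlgebra

variable {k L K R : Type u} [Field k] [Field L] [Field K] [Algebra k L] [Algebra L K] [Algebra k K]
  [IsScalarTower k L K] [CommRing R] [Algebra k R]
  (RK : Type u) [CommRing RK] [Algebra k RK] [Algebra K RK] [Algebra R RK] [IsScalarTower k K RK]
  [IsScalarTower k R RK] [Algebra.IsPushout k K R RK] [Algebra L RK] [IsScalarTower L K RK]
  [IsScalarTower k L RK]
  (M : Type u) [AddCommGroup M] [Module R M] (MK : Type u) [AddCommGroup MK] [Module RK MK]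
  [Module R MK] [IsScalarTower R RK MK] (f : M →ₗ[R] MK) (hf : IsBaseChange RK f)

include hf in
/-- The intermediate base change `R_L = L ⊗[k] R`, `M_L = R_L ⊗[R] M` (continuation-passing
form). -/
theorem tower_pkg {motive : Prop}
    (h : ∀ (RL : Type u) [CommRing RL] [Algebra k RL] [Algebra L RL] [Algebra R RL]
      [IsScalarTower k L RL] [IsScalarTower k R RL] [Algebra.IsPushout k L R RL] [Algebra RL RK]
      [IsScalarTower L RL RK] [IsScalarTower R RL RK] [Algebra.IsPushout L K RL RK]
      (ML : Type u) [AddCommGroup ML] [Module R ML] [Module RL ML] [IsScalarTower R RL ML]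
      [Module RL MK] [IsScalarTower RL RK MK] [IsScalarTower R RL MK]
      (f1 : M →ₗ[R] ML) (_ : IsBaseChange RL f1) (f2 : ML →ₗ[RL] MK) (_ : IsBaseChange RK f2)
      (_ : ∀ m, f2 (f1 m) = f m), motive) : motive := by
  let φ : L ⊗[k] R →ₐ[L] RK :=
    Algebra.TensorProduct.lift (Algebra.ofId L RK) (IsScalarTower.toAlgHom k R RK)
      (fun _ _ => Commute.all _ _)
  letI : Algebra (L ⊗[k] R) RK := φ.toRingHom.toAlgebra
  have hφ : ∀ t, algebraMap (L ⊗[k] R) RK t = φ t := fun t => rfl
  haveI : IsScalarTower L (L ⊗[k] R) RK :=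
    IsScalarTower.of_algebraMap_eq (fun l => by rw [hφ, AlgHom.commutes])
  haveI : IsScalarTower R (L ⊗[k] R) RK :=
    IsScalarTower.of_algebraMap_eq (fun r => by
      rw [hφ]
      change algebraMap R RK r = φ ((1 : L) ⊗ₜ[k] r)
      rw [Algebra.TensorProduct.lift_tmul, map_one, one_mul]
      rfl)
  haveI : IsScalarTower k (L ⊗[k] R) RK :=
    IsScalarTower.of_algebraMap_eq (fun x => by
      rw [IsScalarTower.algebraMap_apply k L (L ⊗[k] R), ← IsScalarTower.algebraMap_apply L,
        ← IsScalarTower.algebraMap_apply k L RK])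
  haveI : Algebra.IsPushout L K (L ⊗[k] R) RK :=
    (Algebra.IsPushout.comp_iff k L R (S' := L ⊗[k] R) (T := K) (T' := RK)).mp inferInstance
  letI : Module (L ⊗[k] R) MK := Module.compHom MK (algebraMap (L ⊗[k] R) RK)
  haveI : IsScalarTower (L ⊗[k] R) RK MK := IsScalarTower.of_algebraMap_smul (fun _ _ => rfl)
  haveI : IsScalarTower R (L ⊗[k] R) MK := IsScalarTower.of_algebraMap_smul (fun r x => by
    rw [← algebraMap_smul RK (algebraMap R (L ⊗[k] R) r) x,
      ← IsScalarTower.algebraMap_apply R (L ⊗[k] R) RK, algebraMap_smul])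
  have hf1 : IsBaseChange (L ⊗[k] R) (TensorProduct.mk R (L ⊗[k] R) M 1) :=
    TensorProduct.isBaseChange R M (L ⊗[k] R)
  have hcomp : ((hf1.lift f).restrictScalars R).comp (TensorProduct.mk R (L ⊗[k] R) M 1) = f :=
    hf1.lift_comp f
  have hf2 : IsBaseChange RK (hf1.lift f) := by
    apply IsBaseChange.of_comp hf1
    rw [hcomp]
    exact hf
  exact h (L ⊗[k] R) ((L ⊗[k] R) ⊗[R] M) (TensorProduct.mk R (L ⊗[k] R) M 1) hf1 (hf1.lift f) hf2
    (fun m => hf1.lift_eq f m)

end Tower

/-- Transitivity in towers. -/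
theorem propWA_tower (k L K : Type u) [Field k] [Field L] [Field K] [Algebra k L] [Algebra L K]
    [Algebra k K] [IsScalarTower k L K] (h1 : PropWA k L) (h2 : PropWA L K) : PropWA k K := by
  intro R _ _ RK _ _ _ _ _ _ _ M _ _ MK _ _ _ _ f hf q _ hq
  letI : Algebra L RK := ((algebraMap K RK).comp (algebraMap L K)).toAlgebra
  haveI : IsScalarTower L K RK := IsScalarTower.of_algebraMap_eq (fun _ => rfl)
  haveI : IsScalarTower k L RK := IsScalarTower.of_algebraMap_eq (fun x => by
    change algebraMap k RK x = algebraMap K RK (algebraMap L K (algebraMap k L x))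
    rw [← IsScalarTower.algebraMap_apply k L K, ← IsScalarTower.algebraMap_apply k K RK])
  refine tower_pkg (k := k) (L := L) (K := K) (R := R) RK M MK f hf ?_
  intro RL _ _ _ _ _ _ _ _ _ _ _ ML _ _ _ _ _ _ _ f1 hf1 f2 hf2 hcomp
  have hq' : q.comap (algebraMap RL RK) ∈ FlatCA.weakAss RL ML :=
    h2 RL RK ML MK f2 hf2 q hq
  haveI : (q.comap (algebraMap RL RK)).IsPrime := Ideal.comap_isPrime _ _
  have := h1 R RL M ML f1 hf1 _ hq'
  rwa [Ideal.comap_comap, ← IsScalarTower.algebraMap_eq] at this

/-- Algebraic extensions. -/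
theorem propWA_of_isAlgebraic (k K : Type u) [Field k] [Field K] [Algebra k K]
    [Algebra.IsAlgebraic k K] : PropWA k K := by
  classical
  intro R _ _ RK _ _ _ _ _ _ _ M _ _ MK _ _ _ _ f hf q _ hq
  obtain ⟨z, hz⟩ := hq
  have hsymm : Algebra.IsPushout k R K RK := Algebra.IsPushout.symm inferInstance
  let b := Module.Free.chooseBasis k K
  let eB : Module.Basis _ R RK := hsymm.out.basis b
  have heB : ∀ i, eB i = algebraMap K RK (b i) := fun i => hsymm.out.basis_apply b i
  set c := TensorProduct.equivFinsuppOfBasisLeft eB (hf.equiv.symm z) with hc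
  have hzc : z = ∑ i ∈ c.support, eB i • f (c i) := by
    have h1 := (TensorProduct.equivFinsuppOfBasisLeft eB).symm_apply_apply (hf.equiv.symm z)
    rw [← hc, TensorProduct.equivFinsuppOfBasisLeft_symm_apply] at h1
    have h2 : z = hf.equiv (c.sum fun i n => eB i ⊗ₜ[R] n) := by
      rw [h1, LinearEquiv.apply_symm_apply]
    rw [h2, Finsupp.sum, map_sum]
    apply Finset.sum_congr rfl
    intro i _
    rw [IsBaseChange.equiv_tmul]
  -- the finite subextension
  let S : Set K := ↑(c.support.image b)
  let L' : IntermediateField k K := IntermediateField.adjoin k S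
  haveI : FiniteDimensional k L' :=
    IntermediateField.finiteDimensional_adjoin (fun x _ => Algebra.IsIntegral.isIntegral x)
  have hbL' : ∀ i ∈ c.support, b i ∈ L' := fun i hi =>
    IntermediateField.subset_adjoin k S (Finset.mem_coe.mpr (Finset.mem_image_of_mem b hi))
  refine tower_pkg (k := k) (L := L') (K := K) (R := R) RK M MK f hf ?_
  intro RL _ _ _ _ _ _ _ _ _ _ _ ML _ _ _ _ _ _ _ f1 hf1 f2 hf2 hcomp
  -- `z` comes from `ML`
  let z' : ML := ∑ i ∈ c.support.attach,
    algebraMap L' RL ⟨b i.1, hbL' i.1 i.2⟩ • f1 (c i.1)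
  have hz' : f2 z' = z := by
    rw [hzc, ← Finset.sum_attach, map_sum]
    apply Finset.sum_congr rfl
    intro i _
    rw [map_smul, hcomp, ← algebraMap_smul RK (algebraMap L' RL _) (f (c i.1)),
      ← IsScalarTower.algebraMap_apply L' RL RK, IsScalarTower.algebraMap_apply L' K RK, heB]
    rfl
  haveI : Module.Free RL RK :=
    (Algebra.IsPushout.symm (inferInstance : Algebra.IsPushout L' K RL RK)).out.free
  have hmin : q.comap (algebraMap RL RK) ∈ (span RL {z'}).annihilator.minimalPrimes :=
    comap_mem_minimalPrimes_ann_of_flat (f2.restrictScalars RL) hf2 z' q (by rw [← hz'] at hz; exact hz)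
  have hq' : q.comap (algebraMap RL RK) ∈ FlatCA.weakAss RL ML := ⟨z', hmin⟩
  haveI : (q.comap (algebraMap RL RK)).IsPrime := Ideal.comap_isPrime _ _
  have := (propWA_of_finiteDimensional (k := k) (K := L')) R RL M ML f1 hf1 _ hq'
  rwa [Ideal.comap_comap, ← IsScalarTower.algebraMap_eq] at this

/-- Stacks 10.66.19 in general. -/
theorem propWA (k K : Type u) [Field k] [Field K] [Algebra k K] : PropWA k K := by
  obtain ⟨ι, x, hx⟩ := exists_isTranscendenceBasis' k K
  haveI halg : Algebra.IsAlgebraic (IntermediateField.adjoin k (Set.range x)) K :=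
    hx.isAlgebraic_field
  have hD : ∀ (κ : Type u) [Field κ] [Algebra k κ],
      IsDomain ((IntermediateField.adjoin k (Set.range x)) ⊗[k] κ) := by
    intro κ _ _
    haveI := Groth.Agent.H25.TensorFieldsAss.isDomain_fractionRing_mvPolynomial_tensor k κ ι
    let ψ : (IntermediateField.adjoin k (Set.range x)) ⊗[k] κ ≃ₐ[k]
        FractionRing (MvPolynomial ι k) ⊗[k] κ :=
      Algebra.TensorProduct.congr hx.1.aevalEquivField.symm AlgEquiv.refl
    exact ψ.toRingEquiv.toMulEquiv.isDomain _
  exact propWA_tower k (IntermediateField.adjoin k (Set.range x)) K (propWA_of_isDomain hD)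
    (propWA_of_isAlgebraic _ K)

end Groth.Agent.H87.WAss
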