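import Groth.Agent.H63.StalkBaseChange
import Groth.Agent.H8.WeakAss
import Groth.Agent.H8.PullbackStalk
import Groth.Agent.H87.WAssTower

/-!
# Weakly associated points and base field extension (scheme version of Stacks 10.66.19)
(helper87, for S8900; the affine-chart/pushout part follows H63/StalkBaseChange.lean)
-/

set_option autoImplicit false
set_option linter.style.haveILetI false
universe u
open CategoryTheory Limits AlgebraicGeometry TensorProduct

namespace Groth.Agent.H87.WAssSch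

theorem ker_toSpanSingleton_eq {R M : Type*} [CommRing R] [AddCommGroup M] [Module R M] (m : M) :
    LinearMap.ker (LinearMap.toSpanSingleton R M m) = (Submodule.span R {m}).annihilator := by
  ext a
  rw [LinearMap.mem_ker, LinearMap.toSpanSingleton_apply, Submodule.mem_annihilator_span_singleton]

variable {k K : Type u} [Field k] [Field K] [Algebra k K] {X Y : Scheme.{u}}

theorem isWeakAssPoint_of_isPullback (f : X ⟶ Spec (CommRingCat.of k)) (π : Y ⟶ X)
    (s : Y ⟶ Spec (CommRingCat.of K))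
    (H : IsPullback π s f (Spec.map (CommRingCat.ofHom (algebraMap k K)))) (F : X.Modules)
    [F.IsQuasicoherent] (y : Y)
    (hy : Curv2.IsWeakAssPoint ((Scheme.Modules.pullback π).obj F) y) :
    Curv2.IsWeakAssPoint F (π y) := by
  obtain ⟨U, hU, hxU, -⟩ := TopologicalSpace.Opens.isBasis_iff_nbhd.mp X.isBasis_affineOpens
    (U := ⊤) (x := π.base y) trivial
  have hU : IsAffineOpen U := hU
  let ι := Spec.map (CommRingCat.ofHom (algebraMap k K))
  let US : (Spec (CommRingCat.of k)).Opens := ⊤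
  let UT : (Spec (CommRingCat.of K)).Opens := ⊤
  have hUS : IsAffineOpen US := isAffineOpen_top _
  have hUT : IsAffineOpen UT := isAffineOpen_top _
  have hUST : UT ≤ ι ⁻¹ᵁ US := le_top
  have hUSX : U ≤ f ⁻¹ᵁ US := le_top
  let UY : Y.Opens := π ⁻¹ᵁ U ⊓ s ⁻¹ᵁ UT
  have hUY : UY = π ⁻¹ᵁ U ⊓ s ⁻¹ᵁ UT := rfl
  have hyUY : y ∈ UY := ⟨hxU, trivial⟩
  have hle : UY ≤ π ⁻¹ᵁ U := inf_le_left
  have hUY' : IsAffineOpen UY := by
    have : IsAffine _ := hUS
    have : IsAffine _ := hUT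
    have : IsAffine _ := hU
    exact .of_isIso (Scheme.Hom.isPullback_resLE H hUST hUSX hUY).isoPullback.hom
  have hiso := isIso_pushoutSection_of_isAffineOpen H hUST hUSX hUY hUS hUT hU
  have hPO := (isIso_pushoutSection_iff H hUST hUSX hUY).mp hiso
  let fk : CommRingCat.of k ⟶ Γ(X, U) :=
    (Scheme.ΓSpecIso (CommRingCat.of k)).inv ≫ f.appLE US U hUSX
  let fK : CommRingCat.of K ⟶ Γ(Y, UY) :=
    (Scheme.ΓSpecIso (CommRingCat.of K)).inv ≫ s.appLE UT UY (by simp [UY])
  have hPO' : IsPushout fk (CommRingCat.ofHom (algebraMap k K)) (π.appLE U UY hle) fK := by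
    refine IsPushout.of_iso hPO (Scheme.ΓSpecIso (CommRingCat.of k)) (Iso.refl _)
      (Scheme.ΓSpecIso (CommRingCat.of K)) (Iso.refl _) ?_ ?_ ?_ ?_
    · simp [fk]
    · have : ι.appLE US UT hUST = ι.appTop := by
        rw [Scheme.Hom.appTop, Scheme.Hom.app_eq_appLE]
        rfl
      rw [this]
      exact Scheme.ΓSpecIso_naturality _
    · simp
    · simp [fK]
  -- algebra structures
  letI algA : Algebra k Γ(X, U) := fk.hom.toAlgebra
  letI algKB : Algebra K Γ(Y, UY) := fK.hom.toAlgebra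
  letI algAB : Algebra Γ(X, U) Γ(Y, UY) := (π.appLE U UY hle).hom.toAlgebra
  letI algkB : Algebra k Γ(Y, UY) := ((π.appLE U UY hle).hom.comp fk.hom).toAlgebra
  haveI : IsScalarTower k Γ(X, U) Γ(Y, UY) := IsScalarTower.of_algebraMap_eq (fun _ => rfl)
  haveI : IsScalarTower k K Γ(Y, UY) := IsScalarTower.of_algebraMap_eq (fun c => by
    exact congr($(hPO'.w).hom c))
  haveI : Algebra.IsPushout k K Γ(X, U) Γ(Y, UY) := by
    rw [← CommRingCat.isPushout_iff_isPushout]
    exact hPO'.flip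
  -- modules
  haveI : ((Scheme.Modules.pullback π).obj F).IsQuasicoherent :=
    Groth.Agent.H8.isQuasicoherent_pullback π F
  obtain ⟨n, hn⟩ := Groth.Agent.H8.exists_mem_minimalPrimes_of_isWeakAssPoint hUY'
    ((Scheme.Modules.pullback π).obj F) y hyUY hy
  let E := Groth.Agent.H8.sectionsPullbackEquiv π F hU hUY' hle
  letI : Module Γ(X, U) Γ((Scheme.Modules.pullback π).obj F, UY) :=
    Module.compHom _ (algebraMap Γ(X, U) Γ(Y, UY))
  haveI : IsScalarTower Γ(X, U) Γ(Y, UY) Γ((Scheme.Modules.pullback π).obj F, UY) :=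
    IsScalarTower.of_algebraMap_smul (fun _ _ => rfl)
  let g : Γ(F, U) →ₗ[Γ(X, U)] Γ((Scheme.Modules.pullback π).obj F, UY) :=
    (E.symm.toLinearMap.restrictScalars Γ(X, U)) ∘ₗ (TensorProduct.mk Γ(X, U) Γ(Y, UY) Γ(F, U) 1)
  have hg : IsBaseChange Γ(Y, UY) g := IsBaseChange.of_equiv E.symm (fun x => by
    simp only [g, LinearMap.comp_apply, LinearMap.restrictScalars_apply, TensorProduct.mk_apply,
      LinearEquiv.coe_coe])
  haveI : (hUY'.primeIdealOf ⟨y, hyUY⟩).asIdeal.IsPrime := (hUY'.primeIdealOf ⟨y, hyUY⟩).isPrime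
  have hq : (hUY'.primeIdealOf ⟨y, hyUY⟩).asIdeal ∈
      FlatCA.weakAss Γ(Y, UY) Γ((Scheme.Modules.pullback π).obj F, UY) :=
    ⟨n, by rwa [← ker_toSpanSingleton_eq]⟩
  obtain ⟨n', hn'⟩ := Groth.Agent.H87.WAss.propWA k K Γ(X, U) Γ(Y, UY) Γ(F, U)
    Γ((Scheme.Modules.pullback π).obj F, UY) g hg _ hq
  have hp : (hUY'.primeIdealOf ⟨y, hyUY⟩).asIdeal.comap (algebraMap Γ(X, U) Γ(Y, UY)) =
      (hU.primeIdealOf ⟨π y, hxU⟩).asIdeal := by
    have h1 := IsAffineOpen.comap_primeIdealOf_appLE (f := π) U hU UY hUY' hle hyUY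
    exact congrArg PrimeSpectrum.asIdeal h1
  apply Groth.Agent.H8.isWeakAssPoint_of_mem_minimalPrimes hU F (π y) hxU n'
  rw [← hp, ker_toSpanSingleton_eq]
  exact hn'

end Groth.Agent.H87.WAssSch
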