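import Mathlib.RingTheory.Flat.EquationalCriterion
import Mathlib.Data.ZMod.Basic
import Mathlib.Data.Nat.Factorization.Basic

set_option autoImplicit false
universe u

namespace Groth.Agent.H87

open TensorProduct

variable (p n : ℕ) [hp : Fact p.Prime]

instance neZero_pow : NeZero (p ^ n) := ⟨pow_ne_zero n hp.out.ne_zero⟩

/-- annihilator of `p ^ i` in `ZMod (p ^ n)` -/
theorem zmod_pow_mul_eq_zero {i : ℕ} (hi : i ≤ n) {a : ZMod (p ^ n)}
    (h : (p ^ i : ZMod (p ^ n)) * a = 0) : ∃ b : ZMod (p ^ n), a = (p ^ (n - i) : ZMod (p ^ n)) * b := by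
  have ha : ((a.val : ℕ) : ZMod (p ^ n)) = a := ZMod.natCast_zmod_val a
  rw [← ha] at h
  have h' : ((p ^ i * a.val : ℕ) : ZMod (p ^ n)) = 0 := by push_cast; exact h
  rw [ZMod.natCast_eq_zero_iff] at h'
  have hpn : p ^ n = p ^ i * p ^ (n - i) := by rw [← pow_add, Nat.add_sub_cancel' hi]
  have h'' : p ^ i * p ^ (n - i) ∣ p ^ i * a.val := by rw [← hpn]; exact h'
  have hdvd : p ^ (n - i) ∣ a.val :=
    (Nat.mul_dvd_mul_iff_left (pow_pos hp.out.pos i)).1 h''
  obtain ⟨b, hb⟩ := hdvd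
  refine ⟨(b : ZMod (p ^ n)), ?_⟩
  rw [← ha, hb]
  push_cast
  rfl

theorem zmod_pow_mul_pow {i : ℕ} (hi : i ≤ n) :
    (p ^ i : ZMod (p ^ n)) * (p ^ (n - i) : ZMod (p ^ n)) = 0 := by
  rw [← pow_add, Nat.add_sub_cancel' hi]
  have := ZMod.natCast_self (p ^ n)
  push_cast at this
  exact this

/-- every ideal of `ZMod (p ^ n)` is generated by a power of `p` -/
theorem zmod_ideal_eq_span_pow (I : Ideal (ZMod (p ^ n))) :
    ∃ i : ℕ, i ≤ n ∧ I = Ideal.span {(p ^ i : ZMod (p ^ n))} := by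
  classical
  have hex : ∃ i : ℕ, (p ^ i : ZMod (p ^ n)) ∈ I := ⟨n, by
    have := ZMod.natCast_self (p ^ n)
    push_cast at this
    rw [this]; exact I.zero_mem⟩
  refine ⟨Nat.find hex, Nat.find_min' hex (by
    have := ZMod.natCast_self (p ^ n)
    push_cast at this
    rw [this]; exact I.zero_mem), le_antisymm ?_ ?_⟩
  · intro a haI
    by_cases ha0 : a = 0
    · rw [ha0]; exact Ideal.zero_mem _
    have ha : ((a.val : ℕ) : ZMod (p ^ n)) = a := ZMod.natCast_zmod_val a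
    have hval0 : a.val ≠ 0 := by
      intro h0; apply ha0; rw [← ha, h0]; simp
    obtain ⟨j, u, hu, hju⟩ := Nat.exists_eq_pow_mul_and_not_dvd hval0 p hp.out.ne_one
    have hcop : Nat.Coprime u (p ^ n) :=
      Nat.Coprime.pow_right n ((Nat.Prime.coprime_iff_not_dvd hp.out).2 hu).symm
    let uu := ZMod.unitOfCoprime u hcop
    have hau : a = (p ^ j : ZMod (p ^ n)) * (uu : ZMod (p ^ n)) := by
      rw [← ha, hju]; push_cast; rfl
    have hpj : (p ^ j : ZMod (p ^ n)) ∈ I := by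
      have : (p ^ j : ZMod (p ^ n)) = a * ((uu⁻¹ : (ZMod (p ^ n))ˣ) : ZMod (p ^ n)) := by
        rw [hau, mul_assoc, Units.mul_inv, mul_one]
      rw [this]; exact I.mul_mem_right _ haI
    have hle : Nat.find hex ≤ j := Nat.find_min' hex hpj
    rw [Ideal.mem_span_singleton']
    refine ⟨(p ^ (j - Nat.find hex) : ZMod (p ^ n)) * (uu : ZMod (p ^ n)), ?_⟩
    rw [hau, mul_comm _ (p ^ Nat.find hex : ZMod (p ^ n)), ← mul_assoc, ← pow_add,
      Nat.add_sub_cancel' hle]
  · rw [Ideal.span_le, Set.singleton_subset_iff]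
    exact Nat.find_spec hex

variable (H : Type u) [AddCommGroup H] [Module (ZMod (p ^ n)) H]

theorem zmod_flat_of_ker_eq_range
    (h : ∀ i : ℕ, i ≤ n →
        LinearMap.ker ((p ^ i : ZMod (p ^ n)) • (LinearMap.id : H →ₗ[ZMod (p ^ n)] H)) =
          LinearMap.range ((p ^ (n - i) : ZMod (p ^ n)) • (LinearMap.id : H →ₗ[ZMod (p ^ n)] H))) :
    Module.Flat (ZMod (p ^ n)) H := by
  rw [Module.Flat.iff_rTensor_injective']
  intro I
  obtain ⟨i, hi, rfl⟩ := zmod_ideal_eq_span_pow p n I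
  set a : ZMod (p ^ n) := (p ^ i : ZMod (p ^ n)) with ha
  have haI : a ∈ Ideal.span {a} := Ideal.mem_span_singleton_self a
  have hform : ∀ t : (Ideal.span {a} : Ideal (ZMod (p ^ n))) ⊗[ZMod (p ^ n)] H,
      ∃ x : H, t = (⟨a, haI⟩ : (Ideal.span {a} : Ideal (ZMod (p ^ n)))) ⊗ₜ x := by
    intro t
    induction t using TensorProduct.induction_on with
    | zero => exact ⟨0, by simp⟩
    | tmul b y =>
      obtain ⟨r, hr⟩ := Ideal.mem_span_singleton'.1 b.2
      refine ⟨r • y, ?_⟩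
      rw [← TensorProduct.smul_tmul]
      congr 1
      apply Subtype.ext
      simp [hr]
    | add t t' ht ht' =>
      obtain ⟨x, rfl⟩ := ht
      obtain ⟨x', rfl⟩ := ht'
      exact ⟨x + x', by rw [TensorProduct.tmul_add]⟩
  rw [injective_iff_map_eq_zero]
  intro t ht
  obtain ⟨x, rfl⟩ := hform t
  rw [LinearMap.rTensor_tmul] at ht
  have hx : a • x = 0 := by
    have := congrArg (TensorProduct.lid (ZMod (p ^ n)) H) ht
    simpa using this
  have hxker : x ∈ LinearMap.ker (a • (LinearMap.id : H →ₗ[ZMod (p ^ n)] H)) := by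
    rw [LinearMap.mem_ker, LinearMap.smul_apply, LinearMap.id_apply]; exact hx
  rw [ha, h i hi] at hxker
  obtain ⟨y, hy⟩ := hxker
  rw [LinearMap.smul_apply, LinearMap.id_apply] at hy
  rw [← hy, ← TensorProduct.smul_tmul]
  have : (p ^ (n - i) : ZMod (p ^ n)) • (⟨a, haI⟩ : (Ideal.span {a} : Ideal (ZMod (p ^ n)))) = 0 := by
    apply Subtype.ext
    simp only [Submodule.coe_smul, smul_eq_mul, Submodule.coe_zero]
    rw [mul_comm, ha]
    exact zmod_pow_mul_pow p n hi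
  rw [this, TensorProduct.zero_tmul]

theorem zmod_ker_eq_range_of_flat [Module.Flat (ZMod (p ^ n)) H] (i : ℕ) (hi : i ≤ n) :
    LinearMap.ker ((p ^ i : ZMod (p ^ n)) • (LinearMap.id : H →ₗ[ZMod (p ^ n)] H)) =
      LinearMap.range ((p ^ (n - i) : ZMod (p ^ n)) • (LinearMap.id : H →ₗ[ZMod (p ^ n)] H)) := by
  apply le_antisymm
  · intro x hx
    rw [LinearMap.mem_ker, LinearMap.smul_apply, LinearMap.id_apply] at hx
    have hrel : ∑ _j : Fin 1, (fun _ : Fin 1 => (p ^ i : ZMod (p ^ n))) _j • (fun _ : Fin 1 => x) _j = 0 := by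
      simpa using hx
    obtain ⟨k, a, y, hxy, hfa⟩ := Module.Flat.isTrivialRelation_of_sum_smul_eq_zero hrel
    have hfa' : ∀ j, (p ^ i : ZMod (p ^ n)) * a 0 j = 0 := by
      intro j; simpa using hfa j
    choose b hb using fun j => zmod_pow_mul_eq_zero p n hi (hfa' j)
    refine ⟨∑ j, b j • y j, ?_⟩
    have hx0 : x = ∑ j, a 0 j • y j := hxy 0
    rw [LinearMap.smul_apply, LinearMap.id_apply, hx0, Finset.smul_sum]
    refine Finset.sum_congr rfl (fun j _ => ?_)
    rw [hb j, mul_smul]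
  · rintro _ ⟨y, rfl⟩
    rw [LinearMap.mem_ker, LinearMap.smul_apply, LinearMap.id_apply, LinearMap.smul_apply,
      LinearMap.id_apply, ← mul_smul, zmod_pow_mul_pow p n hi, zero_smul]

end Groth.Agent.H87
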